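import Groth.Agent.Rat20Ext.Scheme
import Groth.Agent.Ega2Proj.ExtendCodimOne
import Groth.Agent.Ega4Algebra1.SmoothRegular
import Groth.Agent.Ega4Algebra1.RegularLocal
import Groth.Agent.PicAux.RegularUFD
import Mathlib.AlgebraicGeometry.Group.Smooth
import Mathlib.AlgebraicGeometry.Morphisms.Immersion
import Mathlib.AlgebraicGeometry.Morphisms.Smooth
import Mathlib.AlgebraicGeometry.Noetherian
import Mathlib.AlgebraicGeometry.Sites.Fpqc
import Mathlib.AlgebraicGeometry.Fiber
import Mathlib.RingTheory.Ideal.KrullsHeightTheorem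

/-!
# Weil's extension theorem for rational maps into group schemes

A morphism from an open subscheme of a regular scheme `X`, smooth over an arbitrary base `S`, to a
separated group scheme locally of finite type over `S` extends to a neighbourhood of every point
`x` all of whose generalisations of codimension at most one are in the domain, provided the domain
is dense in the fibre near `x`.
-/

set_option linter.style.haveILetI false

universe u

open CategoryTheory Limits AlgebraicGeometry TopologicalSpace IsLocalRing MonoidalCategory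
  CartesianMonoidalCategory
open scoped MonObj

namespace Groth.NeronArea.Weil

/-- Regularity ascends along smooth morphisms. -/
theorem isRegularLocalRing_of_smooth {X Y : Scheme.{u}} (f : X ⟶ Y) [Smooth f] [IsLocallyNoetherian Y]
    (x : X) (h : IsRegularLocalRing (Y.presheaf.stalk (f x))) :
    IsRegularLocalRing (X.presheaf.stalk x) := by
  obtain ⟨U, hU, V, hV, hxV, e, hstd⟩ := Smooth.exists_isStandardSmooth f x
  haveI : IsNoetherianRing Γ(Y, U) := IsLocallyNoetherian.component_noetherian ⟨U, hU⟩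
  letI : Algebra Γ(Y, U) Γ(X, V) := (f.appLE U V e).hom.toAlgebra
  haveI : Algebra.IsStandardSmooth Γ(Y, U) Γ(X, V) := hstd
  let q := hV.primeIdealOf ⟨x, hxV⟩
  have hq : PrimeSpectrum.comap (algebraMap Γ(Y, U) Γ(X, V)) q = hU.primeIdealOf ⟨f x, e hxV⟩ :=
    IsAffineOpen.comap_primeIdealOf_appLE U hU V hV e hxV
  letI := TopCat.Presheaf.algebra_section_stalk Y.presheaf (⟨f x, e hxV⟩ : U)
  haveI : IsLocalization.AtPrime (Y.presheaf.stalk (f x)) (hU.primeIdealOf ⟨f x, e hxV⟩).asIdeal :=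
    hU.isLocalization_stalk ⟨f x, e hxV⟩
  letI := TopCat.Presheaf.algebra_section_stalk X.presheaf (⟨x, hxV⟩ : V)
  haveI : IsLocalization.AtPrime (X.presheaf.stalk x) q.asIdeal := hV.isLocalization_stalk ⟨x, hxV⟩
  have h1 : hU.primeIdealOf ⟨f x, e hxV⟩ ∈ EGA4.regLocus Γ(Y, U) := by
    haveI := h
    exact IsRegularLocalRing.of_ringEquiv (IsLocalization.algEquiv (hU.primeIdealOf ⟨f x, e hxV⟩).asIdeal.primeCompl
      (Y.presheaf.stalk (f x)) (Localization.AtPrime (hU.primeIdealOf ⟨f x, e hxV⟩).asIdeal)).toRingEquiv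
  have h2 : IsRegularLocalRing (Localization.AtPrime q.asIdeal) :=
    Groth.Ega4Algebra1.mem_regLocus_of_isStandardSmooth (R := Γ(Y, U)) Γ(X, V) q (hq ▸ h1)
  exact IsRegularLocalRing.of_ringEquiv (IsLocalization.algEquiv q.asIdeal.primeCompl
    (Localization.AtPrime q.asIdeal) (X.presheaf.stalk x)).toRingEquiv

/-- A scheme with regular local rings is reduced. -/
theorem isReduced_of_regular {X : Scheme.{u}} (h : ∀ x : X, IsRegularLocalRing (X.presheaf.stalk x)) :
    IsReduced X := by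
  haveI : ∀ x : X, _root_.IsReduced (X.presheaf.stalk x) := fun x => by
    haveI := h x
    haveI := Groth.Ega4Algebra1.isDomain_of_isRegularLocalRing (X.presheaf.stalk x)
    infer_instance
  exact isReduced_of_isReduced_stalk X

theorem exists_integral_nhd {X : Scheme.{u}} [IsLocallyNoetherian X] (x : X) [IsDomain (X.presheaf.stalk x)] :
    ∃ W : X.Opens, x ∈ W ∧ IsIntegral (W : Scheme.{u}) := by
  obtain ⟨A, hxA, hA, hinj⟩ := X.exists_germ_injective x
  haveI : IsDomain Γ(X, A) := hinj.isDomain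
  haveI : IsAffine (A : Scheme.{u}) := hA
  haveI : Nonempty (A : Scheme.{u}) := ⟨⟨x, hxA⟩⟩
  exact ⟨A, hxA, isIntegral_of_isOpenImmersion hA.isoSpec.hom⟩

/-- The dimension of the local ring at a point of the spectrum of a stalk. -/
theorem ringKrullDim_stalk_fromSpecStalk {X : Scheme.{u}} (x : X) (q : PrimeSpectrum (X.presheaf.stalk x)) :
    ringKrullDim (X.presheaf.stalk (X.fromSpecStalk x q)) = q.asIdeal.height := by
  obtain ⟨_, ⟨U, hU, rfl⟩, hxU, -⟩ :=
    X.isBasis_affineOpens.exists_subset_of_mem_open (Set.mem_univ x) isOpen_univ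
  letI := TopCat.Presheaf.algebra_section_stalk X.presheaf (⟨x, hxU⟩ : U)
  haveI : IsLocalization.AtPrime (X.presheaf.stalk x) (hU.primeIdealOf ⟨x, hxU⟩).asIdeal :=
    hU.isLocalization_stalk ⟨x, hxU⟩
  let q' : PrimeSpectrum Γ(X, U) := PrimeSpectrum.comap (algebraMap Γ(X, U) (X.presheaf.stalk x)) q
  have hy : X.fromSpecStalk x q = hU.fromSpec q' := by
    rw [← hU.fromSpecStalk_eq_fromSpecStalk hxU, IsAffineOpen.fromSpecStalk]
    rfl
  have hyU : hU.fromSpec q' ∈ U := by
    rw [← SetLike.mem_coe, ← hU.range_fromSpec]; exact Set.mem_range_self _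
  letI := TopCat.Presheaf.algebra_section_stalk X.presheaf (⟨hU.fromSpec q', hyU⟩ : U)
  haveI : IsLocalization.AtPrime (X.presheaf.stalk (hU.fromSpec q')) q'.asIdeal :=
    hU.isLocalization_stalk' q' hyU
  rw [hy, IsLocalization.AtPrime.ringKrullDim_eq_height q'.asIdeal (X.presheaf.stalk (hU.fromSpec q'))]
  exact congrArg _ (IsLocalization.height_under (hU.primeIdealOf ⟨x, hxU⟩).asIdeal.primeCompl q.asIdeal)

/-- An element of the fraction field of a factorial domain which is regular at the preimages of all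
primes of height at most one of a Noetherian local quotient is regular. -/
theorem mem_range_of_forall_height_le_one {A B K : Type u} [CommRing A] [IsDomain A]
    [UniqueFactorizationMonoid A] [CommRing B] [IsNoetherianRing B] [IsLocalRing B] [Field K] [Algebra A K]
    [IsFractionRing A K] (d : A →+* B) [IsLocalHom d] (h : K)
    (H : ∀ q : PrimeSpectrum B, q.asIdeal.height ≤ 1 →
      ∃ s a : A, d s ∉ q.asIdeal ∧ algebraMap A K s * h = algebraMap A K a) :
    h ∈ (algebraMap A K).range := by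
  obtain ⟨num, den, hcop, hnd⟩ := IsFractionRing.exists_reduced_fraction A h
  by_cases hden : IsUnit (den : A)
  · obtain ⟨w, hw⟩ := hden.exists_left_inv
    refine ⟨num * w, ?_⟩
    rw [← hnd, eq_comm, IsLocalization.mk'_eq_iff_eq_mul, ← map_mul, mul_assoc, hw, mul_one]
  · have hne : (Ideal.span {d (den : A)}) ≠ ⊤ := by
      rw [Ne, Ideal.span_singleton_eq_top]
      exact fun hu => hden (isUnit_of_map_unit d _ hu)
    obtain ⟨q, hq⟩ := Ideal.nonempty_minimalPrimes hne
    haveI : q.IsPrime := hq.1.1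
    have hht : q.height ≤ 1 := Ideal.height_le_one_of_isPrincipal_of_mem_minimalPrimes _ q hq
    obtain ⟨s, a, hs, hsa⟩ := H ⟨q, inferInstance⟩ hht
    have h1 : s * num = a * den := by
      apply IsFractionRing.injective A K
      rw [map_mul, map_mul, ← hsa, mul_assoc, ← hnd, IsLocalization.mk'_spec]
    have h2 : (den : A) ∣ s := hcop.symm.dvd_of_dvd_mul_right ⟨a, by rw [h1, mul_comm]⟩
    exact absurd (hq.1.2 (Ideal.mem_span_singleton.2 (map_dvd d h2))) hs

/-- Morphisms from the spectrum of a ring with values in an affine open are equal if they agree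
after an injective extension. -/
theorem hom_eq_of_mono {S : Scheme.{u}} {S₀ : S.Opens} (hS₀ : IsAffineOpen S₀) {A K : CommRingCat.{u}}
    (i₀ : A ⟶ K) (hι : Function.Injective i₀.hom) (a b : Spec A ⟶ S) (ha : ∀ t, a t ∈ S₀) (hb : ∀ t, b t ∈ S₀)
    (h : Spec.map i₀ ≫ a = Spec.map i₀ ≫ b) : a = b := by
  obtain ⟨α, rfl⟩ := Groth.Rat20Ext.exists_affine_factor hS₀ a ha
  obtain ⟨β, rfl⟩ := Groth.Rat20Ext.exists_affine_factor hS₀ b hb
  rw [← Category.assoc, ← Category.assoc, ← Spec.map_comp, ← Spec.map_comp] at h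
  have := Groth.Rat20Ext.affine_hom_inj hS₀ h
  have h2 : α = β := by
    ext t
    exact hι (congrArg (fun m => m.hom t) this)
  rw [h2]

section

variable {S X G : Scheme.{u}} (pX : X ⟶ S) (pG : G ⟶ S) [Smooth pX] [IsLocallyNoetherian X]
  [GrpObj (Over.mk pG)] [IsSeparated pG] [LocallyOfFiniteType pG]

theorem isLocallyNoetherian_prod : IsLocallyNoetherian (pullback pX pX) :=
  LocallyOfFiniteType.isLocallyNoetherian (pullback.fst pX pX)

/-- The domain of the difference map. -/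
noncomputable abbrev dom (U : X.Opens) : (pullback pX pX).Opens :=
  (pullback.fst pX pX ⁻¹ᵁ U) ⊓ (pullback.snd pX pX ⁻¹ᵁ U)

/-- `f` composed with a projection, as a morphism over `S`. -/
noncomputable def pre (U : X.Opens) (f : (U : Scheme.{u}) ⟶ G) (hf : f ≫ pG = U.ι ≫ pX)
    {T : Scheme.{u}} (pT : T ⟶ S) (m : T ⟶ U) (hm : m ≫ U.ι ≫ pX = pT) : Over.mk pT ⟶ Over.mk pG :=
  Over.homMk (m ≫ f) (by simp [hf, hm])

/-- The difference map `(a, b) ↦ f a / f b`. -/
noncomputable def diff (U : X.Opens) (f : (U : Scheme.{u}) ⟶ G) (hf : f ≫ pG = U.ι ≫ pX) :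
    Over.mk ((dom pX U).ι ≫ pullback.fst pX pX ≫ pX) ⟶ Over.mk pG :=
  pre pX pG U f hf _ ((pullback.fst pX pX).resLE U (dom pX U) inf_le_left)
      (by rw [Scheme.Hom.resLE_comp_ι_assoc]) *
    (pre pX pG U f hf _ ((pullback.snd pX pX).resLE U (dom pX U) inf_le_right)
      (by rw [Scheme.Hom.resLE_comp_ι_assoc, pullback.condition]))⁻¹

omit [Smooth pX] [IsLocallyNoetherian X] [IsSeparated pG] [LocallyOfFiniteType pG] in
theorem diff_diagonal (U : X.Opens) (f : (U : Scheme.{u}) ⟶ G) (hf : f ≫ pG = U.ι ≫ pX)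
    {T : Scheme.{u}} (m : T ⟶ (dom pX U : Scheme.{u}))
    (hm : m ≫ (pullback.fst pX pX).resLE U (dom pX U) inf_le_left =
      m ≫ (pullback.snd pX pX).resLE U (dom pX U) inf_le_right) :
    m ≫ (diff pX pG U f hf).left =
      (m ≫ (dom pX U).ι ≫ pullback.fst pX pX ≫ pX) ≫ (η[Over.mk pG]).left := by
  let N : Over S := Over.mk (m ≫ (dom pX U).ι ≫ pullback.fst pX pX ≫ pX)
  let n : N ⟶ Over.mk ((dom pX U).ι ≫ pullback.fst pX pX ≫ pX) := Over.homMk m rfl
  have key : n ≫ diff pX pG U f hf = (1 : N ⟶ Over.mk pG) := by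
    rw [diff, MonObj.comp_mul, GrpObj.comp_inv, mul_inv_eq_one]
    ext : 1
    exact (Category.assoc _ _ _).symm.trans ((congrArg (· ≫ f) hm).trans (Category.assoc _ _ _))
  have := congrArg CommaMorphism.left key
  exact this.trans (by rw [Hom.one_def]; rfl)

variable (hX : ∀ x : X, IsRegularLocalRing (X.presheaf.stalk x))

include hX in
/-- The difference map extends over a neighbourhood of `(x, x)`. -/
theorem exists_diff_extension (U : X.Opens) (hU : Dense (U : Set X)) (f : (U : Scheme.{u}) ⟶ G)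
    (hf : f ≫ pG = U.ι ≫ pX) (x : X)
    (hgen : ∀ y : X, y ⤳ x → ringKrullDim (X.presheaf.stalk y) ≤ 1 → y ∈ U) :
    ∃ (V : (pullback pX pX).Opens) (_ : pullback.diagonal pX x ∈ V) (v : (V : Scheme.{u}) ⟶ G),
      v ≫ pG = V.ι ≫ pullback.fst pX pX ≫ pX ∧
      (pullback pX pX).homOfLE (inf_le_right : dom pX U ⊓ V ≤ V) ≫ v =
        (pullback pX pX).homOfLE (inf_le_left : dom pX U ⊓ V ≤ dom pX U) ≫ (diff pX pG U f hf).left := by
  haveI := isLocallyNoetherian_prod pX
  let P := pullback pX pX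
  let δ : X ⟶ P := pullback.diagonal pX
  have hδ1 : δ ≫ pullback.fst pX pX = 𝟙 X := pullback.diagonal_fst pX
  have hδ2 : δ ≫ pullback.snd pX pX = 𝟙 X := pullback.diagonal_snd pX
  let W := dom pX U
  let F : (W : Scheme.{u}) ⟶ G := (diff pX pG U f hf).left
  have hF : F ≫ pG = W.ι ≫ pullback.fst pX pX ≫ pX := Over.w (diff pX pG U f hf)
  have hP : ∀ p : P, IsRegularLocalRing (P.presheaf.stalk p) := fun p =>
    isRegularLocalRing_of_smooth (pullback.fst pX pX) p (hX _)
  haveI := hP (δ x)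
  haveI := hX x
  haveI : IsDomain (P.presheaf.stalk (δ x)) := Groth.Ega4Algebra1.isDomain_of_isRegularLocalRing _
  haveI : IsDomain (X.presheaf.stalk x) := Groth.Ega4Algebra1.isDomain_of_isRegularLocalRing _
  haveI : UniqueFactorizationMonoid (P.presheaf.stalk (δ x)) :=
    Groth.PicAux.ufd_of_isRegularLocalRing _
  obtain ⟨W₀, hpW₀, hW₀⟩ := exists_integral_nhd (X := P) (δ x)
  obtain ⟨X₀, hxX₀, hX₀⟩ := exists_integral_nhd (X := X) x
  have hWd : Dense (W : Set P) :=
    (hU.preimage (pullback.fst pX pX).isOpenMap).inter_of_isOpen_left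
      (hU.preimage (pullback.snd pX pX).isOpenMap) (pullback.fst pX pX ⁻¹ᵁ U).isOpen
  obtain ⟨j, hj⟩ := Groth.Rat20Ext.exists_genLift (X := P) (x := δ x) hpW₀ hWd
  -- the affine neighbourhood of the unit
  let e : G := (η[Over.mk pG]).left (pX x)
  obtain ⟨_, ⟨S₀, hS₀, rfl⟩, hxS₀, -⟩ :=
    S.isBasis_affineOpens.exists_subset_of_mem_open (Set.mem_univ (pX x)) isOpen_univ
  have hηG : ∀ s : S, pG ((η[Over.mk pG]).left s) = s := fun s =>
    congrArg (fun m : S ⟶ S => m s) (Over.w η[Over.mk pG] :)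
  have heS : e ∈ pG ⁻¹ᵁ S₀ := by
    show pG e ∈ S₀
    rw [hηG]; exact hxS₀
  obtain ⟨_, ⟨Ve, hVe, rfl⟩, heV, hVeS⟩ :=
    G.isBasis_affineOpens.exists_subset_of_mem_open heS (pG ⁻¹ᵁ S₀).isOpen
  -- the values of the difference map on the diagonal
  have hdiag : ∀ y : X, y ∈ U → δ y ∈ W := fun y hy =>
    ⟨show pullback.fst pX pX (δ y) ∈ U by rw [← Scheme.Hom.comp_apply, hδ1]; exact hy,
     show pullback.snd pX pX (δ y) ∈ U by rw [← Scheme.Hom.comp_apply, hδ2]; exact hy⟩
  let dU : (U : Scheme.{u}) ⟶ W := δ.resLE W U hdiag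
  have hdU : ∀ w : U, W.ι (dU w) = δ (U.ι w) := fun w => by
    rw [← Scheme.Hom.comp_apply, Scheme.Hom.resLE_comp_ι, Scheme.Hom.comp_apply]
  have hFU : dU ≫ F = (U.ι ≫ pX) ≫ (η[Over.mk pG]).left := by
    refine (diff_diagonal pX pG U f hf dU ?_).trans ?_
    · rw [← cancel_mono U.ι, Category.assoc, Category.assoc, Scheme.Hom.resLE_comp_ι, Scheme.Hom.resLE_comp_ι]
      have e := Scheme.Hom.resLE_comp_ι δ (U := W) (V := U) hdiag
      show dU ≫ W.ι ≫ _ = dU ≫ W.ι ≫ _
      rw [reassoc_of% e, reassoc_of% e, hδ1, hδ2]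
    · congr 1
      have e := Scheme.Hom.resLE_comp_ι δ (U := W) (V := U) hdiag
      show dU ≫ W.ι ≫ _ = U.ι ≫ pX
      rw [reassoc_of% e, reassoc_of% hδ1]
  have hFy : ∀ (y : X) (hy : y ∈ U), y ⤳ x → F (dU ⟨y, hy⟩) ∈ Ve := fun y hy hyx => by
    rw [← Scheme.Hom.comp_apply, hFU, Scheme.Hom.comp_apply, Scheme.Hom.comp_apply]
    exact ((hyx.map pX.continuous).map (η[Over.mk pG]).left.continuous).mem_open Ve.isOpen heV
  let K := CommRingCat.of (FractionRing (P.presheaf.stalk (δ x)))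
  let ιK : P.presheaf.stalk (δ x) ⟶ K :=
    CommRingCat.ofHom (algebraMap (P.presheaf.stalk (δ x)) (FractionRing (P.presheaf.stalk (δ x))))
  let M : Spec (P.presheaf.stalk (δ x)) ⟶ P := P.fromSpecStalk (δ x)
  let d : P.presheaf.stalk (δ x) ⟶ X.presheaf.stalk x := δ.stalkMap x
  have hd : Spec.map d ≫ M = X.fromSpecStalk x ≫ δ := Scheme.SpecMap_stalkMap_fromSpecStalk δ
  have hjV : ∀ t, (j ≫ F) t ∈ Ve := fun t => by
    let s : ↥(Spec (CommRingCat.of (FractionRing (X.presheaf.stalk x)))) :=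
      IsLocalRing.closedPoint (FractionRing (X.presheaf.stalk x))
    let y := Groth.Rat20Ext.genHom x s
    have hy : y ∈ U := Groth.Rat20Ext.genHom_mem hxX₀ hU s
    have hyx : y ⤳ x := Groth.Rat20Ext.genHom_specializes_self x s
    have h1 : Groth.Rat20Ext.genHom (δ x) t ⤳ δ y :=
      Groth.Rat20Ext.genHom_specializes (δ x) t (hyx.map δ.continuous)
    have h2 : j t ⤳ dU ⟨y, hy⟩ := by
      rw [← W.ι.isOpenEmbedding.isInducing.specializes_iff, hdU, ← Scheme.Hom.comp_apply, hj]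
      exact h1
    rw [Scheme.Hom.comp_apply]
    exact (h2.map F.continuous).mem_open Ve.isOpen (hFy y hy hyx)
  obtain ⟨φ, hφ⟩ := Groth.Rat20Ext.exists_affine_factor hVe (R := K) (j ≫ F) hjV
  have hreg : ∀ a : Γ(G, Ve), φ.hom a ∈ ιK.hom.range := fun a => by
    refine mem_range_of_forall_height_le_one (B := X.presheaf.stalk x) d.hom (φ.hom a) fun q hq => ?_
    let y := X.fromSpecStalk x q
    have hyx : y ⤳ x := by
      have : y ∈ Set.range (X.fromSpecStalk x) := ⟨q, rfl⟩
      rwa [Scheme.range_fromSpecStalk] at this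
    have hy : y ∈ U := hgen y hyx (by rw [ringKrullDim_stalk_fromSpecStalk]; exact_mod_cast hq)
    let t : PrimeSpectrum (P.presheaf.stalk (δ x)) := Spec.map d q
    have hMt : M t = δ y := congrArg (fun m : Spec (X.presheaf.stalk x) ⟶ P => m q) hd
    let O : Set (PrimeSpectrum (P.presheaf.stalk (δ x))) := M ⁻¹' (W.ι '' (F ⁻¹' Ve))
    have hO : IsOpen O :=
      (W.ι.isOpenEmbedding.isOpenMap _ (Ve.isOpen.preimage F.continuous)).preimage M.continuous
    have htO : t ∈ O := ⟨dU ⟨y, hy⟩, hFy y hy hyx, (hdU _).trans hMt.symm⟩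
    obtain ⟨_, ⟨s, rfl⟩, hts, hsO⟩ :=
      PrimeSpectrum.isTopologicalBasis_basic_opens.exists_subset_of_mem_open htO hO
    have hsne : s ≠ 0 := by
      rintro rfl
      exact hts (zero_mem _)
    let As := CommRingCat.of (Localization.Away s)
    let αs : P.presheaf.stalk (δ x) ⟶ As :=
      CommRingCat.ofHom (algebraMap (P.presheaf.stalk (δ x)) (Localization.Away s))
    have hm' : ∀ u, ∃ w, F w ∈ Ve ∧ W.ι w = (Spec.map αs ≫ M) u := fun u => by
      have : Spec.map αs u ∈ O := hsO (by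
        show s ∉ (Spec.map αs u).asIdeal
        exact fun h => u.isPrime.ne_top (Ideal.eq_top_of_isUnit_mem _ h (IsLocalization.Away.algebraMap_isUnit s)))
      obtain ⟨w, hw, hw'⟩ := this
      exact ⟨w, hw, hw'⟩
    have hr : Set.range (Spec.map αs ≫ M) ⊆ Set.range W.ι := by
      rintro _ ⟨u, rfl⟩
      obtain ⟨w, -, hw⟩ := hm' u
      exact ⟨w, hw⟩
    let m : Spec As ⟶ W := IsOpenImmersion.lift W.ι (Spec.map αs ≫ M) hr
    have hm : m ≫ W.ι = Spec.map αs ≫ M := IsOpenImmersion.lift_fac _ _ _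
    have hmV : ∀ u, (m ≫ F) u ∈ Ve := fun u => by
      obtain ⟨w, hw, hw'⟩ := hm' u
      have : m u = w := W.ι.isOpenEmbedding.injective (by rw [hw', ← Scheme.Hom.comp_apply, hm])
      rw [Scheme.Hom.comp_apply, this]; exact hw
    obtain ⟨ψ, hψ⟩ := Groth.Rat20Ext.exists_affine_factor hVe (m ≫ F) hmV
    have hsu : IsUnit (algebraMap (P.presheaf.stalk (δ x)) (FractionRing (P.presheaf.stalk (δ x))) s) :=
      isUnit_iff_ne_zero.2 ((map_ne_zero_iff _ (IsFractionRing.injective _ _)).2 hsne)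
    let β : As ⟶ K := CommRingCat.ofHom (IsLocalization.Away.lift (S := Localization.Away s) s hsu)
    have hαβ : αs ≫ β = ιK := by
      ext1
      exact IsLocalization.lift_comp _
    have hjm : Spec.map β ≫ m = j := by
      rw [← cancel_mono W.ι, Category.assoc, hm, ← Spec.map_comp_assoc, hαβ, hj]
      rfl
    have hψβ : ψ ≫ β = φ := Groth.Rat20Ext.affine_hom_inj hVe (by
      rw [hφ, Spec.map_comp, Category.assoc, hψ, ← Category.assoc, hjm])
    obtain ⟨⟨a', sn⟩, ha'⟩ := IsLocalization.surj (Submonoid.powers s) (ψ.hom a)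
    obtain ⟨n, hn⟩ := sn.2
    refine ⟨sn, a', fun h => hts ?_, ?_⟩
    · have h' : d.hom (s ^ n) ∈ q.asIdeal := by
        simpa [← hn] using h
      show d.hom s ∈ q.asIdeal
      rw [map_pow] at h'
      exact q.isPrime.mem_of_pow_mem n h'
    · rw [← hψβ]
      have := congrArg β.hom ha'
      simp only [map_mul] at this
      have hβ : ∀ z, β.hom (algebraMap _ (Localization.Away s) z) = ιK.hom z :=
        fun z => congrArg (fun k => k.hom z) hαβ
      rw [hβ, hβ] at this
      rw [mul_comm]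
      exact this
  let φ' : Γ(G, Ve) →+* P.presheaf.stalk (δ x) :=
    { toFun := fun a => (hreg a).choose
      map_one' := IsFractionRing.injective _ (FractionRing (P.presheaf.stalk (δ x)))
        ((hreg 1).choose_spec.trans (φ.hom.map_one.trans (map_one _).symm))
      map_zero' := IsFractionRing.injective _ (FractionRing (P.presheaf.stalk (δ x)))
        ((hreg 0).choose_spec.trans (φ.hom.map_zero.trans (map_zero _).symm))
      map_mul' := fun a b => IsFractionRing.injective _ (FractionRing (P.presheaf.stalk (δ x))) 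
        ((hreg _).choose_spec.trans ((φ.hom.map_mul a b).trans
          ((congrArg₂ (· * ·) (hreg a).choose_spec.symm (hreg b).choose_spec.symm).trans (RingHom.map_mul _ _ _).symm)))
      map_add' := fun a b => IsFractionRing.injective _ (FractionRing (P.presheaf.stalk (δ x))) 
        ((hreg _).choose_spec.trans ((φ.hom.map_add a b).trans
          ((congrArg₂ (· + ·) (hreg a).choose_spec.symm (hreg b).choose_spec.symm).trans (RingHom.map_add _ _ _).symm))) }
  have hφ' : CommRingCat.ofHom φ' ≫ ιK = φ := by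
    ext a
    exact (hreg a).choose_spec
  let w : Spec (P.presheaf.stalk (δ x)) ⟶ G := Spec.map (CommRingCat.ofHom φ') ≫ hVe.fromSpec
  have hgen' : Spec.map ιK ≫ w = j ≫ F := by
    rw [← Category.assoc, ← Spec.map_comp]
    exact (congrArg (Spec.map · ≫ hVe.fromSpec) hφ').trans hφ
  have hw : w ≫ pG = M ≫ pullback.fst pX pX ≫ pX := by
    refine hom_eq_of_mono hS₀ ιK (IsFractionRing.injective _ _) _ _ (fun t => ?_) (fun t => ?_) ?_
    · have : w t ∈ Ve := by
        rw [← SetLike.mem_coe, ← hVe.range_fromSpec]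
        exact ⟨_, rfl⟩
      exact hVeS this
    · have h1 : M t ⤳ δ x := by
        have : M t ∈ Set.range (P.fromSpecStalk (δ x)) := ⟨t, rfl⟩
        rwa [Scheme.range_fromSpecStalk] at this
      have h2 := h1.map (pullback.fst pX pX ≫ pX).continuous
      refine h2.mem_open S₀.isOpen ?_
      show (δ ≫ pullback.fst pX pX ≫ pX) x ∈ S₀
      rw [reassoc_of% hδ1]
      exact hxS₀
    · rw [← Category.assoc, hgen', Category.assoc, hF, reassoc_of% hj]
      simp only [Groth.Rat20Ext.genHom, Category.assoc]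
      rfl
  obtain ⟨V, hpV, v, -, hv1, -, hv2⟩ := Groth.Rat20Ext.exists_extend_of_specStalk
    (pullback.fst pX pX ≫ pX) pG hpW₀ W F hF j hj w hw hgen'
  exact ⟨V, hpV, v, hv1, hv2⟩

include hX in
/-- Weil's extension theorem at a point. -/
theorem exists_local_extension (U : X.Opens) (hU : Dense (U : Set X)) (f : (U : Scheme.{u}) ⟶ G)
    (hf : f ≫ pG = U.ι ≫ pX) (x : X)
    (hclos : x ∈ closure ((U : Set X) ∩ {y | pX y = pX x}))
    (hgen : ∀ y : X, y ⤳ x → ringKrullDim (X.presheaf.stalk y) ≤ 1 → y ∈ U) :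
    ∃ (Y : X.Opens) (_ : x ∈ Y) (g : (Y : Scheme.{u}) ⟶ G), g ≫ pG = Y.ι ≫ pX ∧
      X.homOfLE (inf_le_left : Y ⊓ U ≤ Y) ≫ g = X.homOfLE (inf_le_right : Y ⊓ U ≤ U) ≫ f := by
  obtain ⟨V, hxV, v, hv, hvW⟩ := exists_diff_extension pX pG hX U hU f hf x hgen
  haveI := isLocallyNoetherian_prod pX
  let P := pullback pX pX
  let p₁ := pullback.fst pX pX
  let p₂ := pullback.snd pX pX
  let T : P.Opens := V ⊓ p₂ ⁻¹ᵁ U
  let q : (T : Scheme.{u}) ⟶ X := T.ι ≫ p₁
  let Y : X.Opens := ⟨Set.range q, q.isOpenMap.isOpen_range⟩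
  -- a point of `T` over `x`
  have hxY : x ∈ Y := by
    let s := pX x
    let κ := Spec (X.residueField x)
    let c : κ ⟶ X := X.fromSpecResidueField x
    let k : κ ⟶ Spec (S.residueField s) := Spec.map (pX.residueFieldMap x)
    have hck : c ≫ pX = k ≫ S.fromSpecResidueField s := (pX.SpecMap_residueFieldMap_fromSpecResidueField x).symm
    let cs : κ ⟶ pX.fiber s := pullback.lift c k hck
    let Q := pullback k (pX.fiberToSpecResidueField s)
    let o : κ ⟶ Q := pullback.lift (𝟙 κ) cs (by rw [Category.id_comp]; exact (pullback.lift_snd _ _ _).symm)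
    let i : Q ⟶ P := pullback.lift (pullback.fst _ _ ≫ c) (pullback.snd _ _ ≫ pX.fiberι s) (by
      rw [Category.assoc, hck, Category.assoc, show pX.fiberι s ≫ pX =
        pX.fiberToSpecResidueField s ≫ S.fromSpecResidueField s from pullback.condition,
        pullback.condition_assoc])
    have hoi : o ≫ i = c ≫ pullback.diagonal pX := by
      apply pullback.hom_ext
      · rw [Category.assoc, pullback.lift_fst, ← Category.assoc, pullback.lift_fst, Category.id_comp, Category.assoc, pullback.diagonal_fst, Category.comp_id]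
      · simp only [o, i, Category.assoc, pullback.lift_snd, pullback.diagonal_snd, Category.comp_id,
          pullback.lift_snd_assoc]
        exact pullback.lift_fst _ _ _
    let pt : κ := IsLocalRing.closedPoint (X.residueField x)
    have hc : ∀ u : κ, c u = x := fun u => by
      have : c u ∈ Set.range (X.fromSpecResidueField x) := ⟨u, rfl⟩
      rwa [Scheme.range_fromSpecResidueField] at this
    have hpt : i (o pt) ∈ V := by
      rw [← Scheme.Hom.comp_apply, hoi, Scheme.Hom.comp_apply, hc]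
      exact hxV
    let O : Set ↥(pX.fiber s) := pullback.snd k (pX.fiberToSpecResidueField s) '' (i ⁻¹' V)
    have hO : IsOpen O :=
      (pullback.snd k (pX.fiberToSpecResidueField s)).isOpenMap _ (V.isOpen.preimage i.continuous)
    obtain ⟨O', hO', hOO'⟩ := (pX.fiberι s).isEmbedding.isInducing.isOpen_iff.1 hO
    have hxO' : x ∈ O' := by
      have h1 : pullback.snd k (pX.fiberToSpecResidueField s) (o pt) ∈ O := ⟨_, hpt, rfl⟩
      rw [← hOO', Set.mem_preimage] at h1
      have h2 : (o ≫ pullback.snd k (pX.fiberToSpecResidueField s) ≫ pX.fiberι s) pt = x := by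
        have : o ≫ pullback.snd k (pX.fiberToSpecResidueField s) ≫ pX.fiberι s = c := by
          simp only [o, pullback.lift_snd_assoc]
          exact pullback.lift_fst _ _ _
        rw [this, hc]
      rwa [← h2]
    obtain ⟨y, hyO', hyU, hys⟩ := mem_closure_iff.1 hclos O' hO' hxO'
    have hy' : y ∈ Set.range (pX.fiberι s) := by
      rw [Scheme.Hom.range_fiberι]; exact hys
    obtain ⟨e, rfl⟩ := hy'
    obtain ⟨z, hzV, hze⟩ : e ∈ O := hOO' ▸ hyO'
    have hzT : i z ∈ T := by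
      refine ⟨hzV, ?_⟩
      show p₂ (i z) ∈ U
      rw [← Scheme.Hom.comp_apply, pullback.lift_snd, Scheme.Hom.comp_apply, hze]
      exact hyU
    refine ⟨⟨i z, hzT⟩, ?_⟩
    show p₁ (i z) = x
    rw [← Scheme.Hom.comp_apply, pullback.lift_fst, Scheme.Hom.comp_apply, hc]
  let pT : (T : Scheme.{u}) ⟶ S := T.ι ≫ p₁ ≫ pX
  let vT : Over.mk pT ⟶ Over.mk pG := Over.homMk (P.homOfLE (inf_le_left : T ≤ V) ≫ v)
    (by simp [pT, hv, p₁])
  let h : Over.mk pT ⟶ Over.mk pG :=
    vT * pre pX pG U f hf pT (p₂.resLE U T inf_le_right) (by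
      rw [Scheme.Hom.resLE_comp_ι_assoc]; simp [pT, p₁, p₂, pullback.condition])
  -- over `U` the product is `f`
  have key : ∀ {N : Scheme.{u}} (n : N ⟶ (T : Scheme.{u})) (m : N ⟶ U), m ≫ U.ι = n ≫ q →
      n ≫ h.left = m ≫ f := by
    intro N n m hnm
    have hN : Set.range (n ≫ T.ι) ⊆ Set.range (dom pX U ⊓ V).ι := by
      rintro _ ⟨z, rfl⟩
      rw [Scheme.Opens.range_ι]
      refine ⟨⟨?_, (n z).2.2⟩, (n z).2.1⟩
      show p₁ ((n ≫ T.ι) z) ∈ U
      rw [← Scheme.Hom.comp_apply, Category.assoc]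
      change (n ≫ q) z ∈ U
      rw [← hnm]
      exact (m z).2
    let l := IsOpenImmersion.lift (dom pX U ⊓ V).ι (n ≫ T.ι) hN
    have hl : l ≫ (dom pX U ⊓ V).ι = n ≫ T.ι := IsOpenImmersion.lift_fac _ _ _
    let nN : Over.mk (n ≫ pT) ⟶ Over.mk pT := Over.homMk n rfl
    let lW : Over.mk (n ≫ pT) ⟶ Over.mk ((dom pX U).ι ≫ pullback.fst pX pX ≫ pX) :=
      Over.homMk (l ≫ P.homOfLE inf_le_left) (by
        simp only [Over.mk_left, Over.mk_hom, Category.assoc, Scheme.homOfLE_ι_assoc, reassoc_of% hl, pT, p₁])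
    have h1 : nN ≫ vT = lW ≫ diff pX pG U f hf := by
      ext : 1
      show n ≫ P.homOfLE _ ≫ v = (l ≫ P.homOfLE _) ≫ (diff pX pG U f hf).left
      rw [Category.assoc, ← hvW, ← Category.assoc n, ← Category.assoc l]
      congr 1
      rw [← cancel_mono V.ι, Category.assoc, Category.assoc]
      erw [Scheme.homOfLE_ι, Scheme.homOfLE_ι, hl]
    have h2 : nN ≫ h = lW ≫ pre pX pG U f hf _ ((pullback.fst pX pX).resLE U (dom pX U) inf_le_left)
        (by rw [Scheme.Hom.resLE_comp_ι_assoc]) := by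
      rw [show h = vT * _ from rfl, MonObj.comp_mul, h1, diff, MonObj.comp_mul, GrpObj.comp_inv]
      suffices hb : nN ≫ pre pX pG U f hf pT (p₂.resLE U T inf_le_right) (by
          rw [Scheme.Hom.resLE_comp_ι_assoc]; simp [pT, p₁, p₂, pullback.condition]) =
          lW ≫ pre pX pG U f hf _ ((pullback.snd pX pX).resLE U (dom pX U) inf_le_right)
            (by rw [Scheme.Hom.resLE_comp_ι_assoc, pullback.condition]) by
        rw [hb]
        exact inv_mul_cancel_right _ _
      ext : 1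
      show n ≫ p₂.resLE U T _ ≫ f = (l ≫ P.homOfLE _) ≫ p₂.resLE U (dom pX U) _ ≫ f
      rw [← Category.assoc n, ← Category.assoc (l ≫ _)]
      congr 1
      rw [← cancel_mono U.ι]
      simp only [Category.assoc, Scheme.Hom.resLE_comp_ι, Scheme.homOfLE_ι_assoc, reassoc_of% hl]
    have h3 : n ≫ h.left = (l ≫ P.homOfLE inf_le_left) ≫
        (pullback.fst pX pX).resLE U (dom pX U) inf_le_left ≫ f := congrArg CommaMorphism.left h2
    rw [h3, ← Category.assoc (l ≫ _)]
    congr 1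
    rw [← cancel_mono U.ι, hnm]
    simp only [Category.assoc, Scheme.Hom.resLE_comp_ι, Scheme.homOfLE_ι_assoc, reassoc_of% hl, q, p₁]
  -- descent along the first projection
  let q₀ : (T : Scheme.{u}) ⟶ (Y : Scheme.{u}) := p₁.resLE Y T fun z hz => ⟨⟨z, hz⟩, rfl⟩
  have hq₀ : q₀ ≫ Y.ι = q := Scheme.Hom.resLE_comp_ι _ _
  haveI : Smooth q₀ := inferInstance
  haveI : Surjective q₀ := ⟨fun y => by
    obtain ⟨t, ht⟩ := y.2
    refine ⟨t, Subtype.ext ?_⟩
    rw [← ht, ← hq₀]
    rfl⟩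
  haveI : EffectiveEpi q₀ := inferInstance
  let R := pullback q₀ q₀
  haveI : IsLocallyNoetherian R := LocallyOfFiniteType.isLocallyNoetherian (pullback.fst q₀ q₀ ≫ T.ι)
  haveI : IsReduced R := isReduced_of_regular fun r =>
    isRegularLocalRing_of_smooth (pullback.fst q₀ q₀ ≫ T.ι ≫ p₁) r (hX _)
  let r : R ⟶ X := pullback.fst q₀ q₀ ≫ T.ι ≫ p₁
  haveI : IsDominant (r ⁻¹ᵁ U).ι := by
    refine ⟨?_⟩
    rw [DenseRange, Scheme.Opens.range_ι]
    exact hU.preimage r.isOpenMap
  have hR : pullback.fst q₀ q₀ ≫ h.left = pullback.snd q₀ q₀ ≫ h.left := by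
    have e12 : pullback.snd q₀ q₀ ≫ T.ι ≫ p₁ = r := by
      show _ ≫ q = pullback.fst q₀ q₀ ≫ q
      rw [← hq₀, pullback.condition_assoc]
    refine ext_of_isDominant_of_isSeparated pG ?_ (r ⁻¹ᵁ U).ι ?_
    · rw [Category.assoc, Category.assoc, show h.left ≫ pG = T.ι ≫ p₁ ≫ pX from Over.w h]
      simp only [← Category.assoc] at e12 ⊢
      rw [e12]
      simp [r]
    · rw [← Category.assoc, ← Category.assoc,
        key _ (r.resLE U (r ⁻¹ᵁ U) le_rfl) (by rw [Scheme.Hom.resLE_comp_ι]; simp [r, q]),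
        key _ (r.resLE U (r ⁻¹ᵁ U) le_rfl) (by rw [Scheme.Hom.resLE_comp_ι, ← e12]; simp [q])]
  have hcond : ∀ {Z : Scheme.{u}} (g₁ g₂ : Z ⟶ (T : Scheme.{u})), g₁ ≫ q₀ = g₂ ≫ q₀ →
      g₁ ≫ h.left = g₂ ≫ h.left := fun g₁ g₂ hg => by
    have := congrArg (pullback.lift g₁ g₂ hg ≫ ·) hR
    rwa [pullback.lift_fst_assoc, pullback.lift_snd_assoc] at this
  let g : (Y : Scheme.{u}) ⟶ G := EffectiveEpi.desc q₀ h.left hcond
  have hg : q₀ ≫ g = h.left := EffectiveEpi.fac q₀ h.left hcond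
  refine ⟨Y, hxY, g, ?_, ?_⟩
  · rw [← cancel_epi q₀, reassoc_of% hg, show h.left ≫ pG = T.ι ≫ p₁ ≫ pX from Over.w h, reassoc_of% hq₀]
    simp [q]
  · haveI : IsReduced X := isReduced_of_regular hX
    let YU : (Y : Scheme.{u}).Opens := Y.ι ⁻¹ᵁ U
    let T' : (T : Scheme.{u}).Opens := q ⁻¹ᵁ U
    have hT' : ∀ z : T, z ∈ T' → Y.ι (q₀ z) ∈ U := fun z hz => by
      rw [← Scheme.Hom.comp_apply, hq₀]; exact hz
    have hr : Set.range (T'.ι ≫ q₀ ≫ Y.ι) ⊆ Set.range (Y ⊓ U).ι := by
      rintro _ ⟨z, rfl⟩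
      rw [Scheme.Opens.range_ι]
      exact ⟨(q₀ z.1).2, hT' _ z.2⟩
    let q' := IsOpenImmersion.lift (Y ⊓ U).ι (T'.ι ≫ q₀ ≫ Y.ι) hr
    have hq' : q' ≫ (Y ⊓ U).ι = T'.ι ≫ q₀ ≫ Y.ι := IsOpenImmersion.lift_fac _ _ _
    haveI : IsDominant q' := by
      refine ⟨Function.Surjective.denseRange fun z => ?_⟩
      obtain ⟨t, ht⟩ := z.2.1
      have ht' : t ∈ T' := by
        show q t ∈ U
        rw [ht]; exact z.2.2
      refine ⟨⟨t, ht'⟩, Subtype.ext ?_⟩
      show (q' ≫ (Y ⊓ U).ι) _ = z.1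
      rw [hq', hq₀, ← ht]
      rfl
    refine ext_of_isDominant_of_isSeparated pG ?_ q' ?_
    · rw [Category.assoc, Category.assoc, hf, show g ≫ pG = Y.ι ≫ pX by
        rw [← cancel_epi q₀, reassoc_of% hg, show h.left ≫ pG = T.ι ≫ p₁ ≫ pX from Over.w h, reassoc_of% hq₀]
        simp [q], Scheme.homOfLE_ι_assoc, Scheme.homOfLE_ι_assoc]
    · have e1 : q' ≫ X.homOfLE (inf_le_left : Y ⊓ U ≤ Y) = T'.ι ≫ q₀ := by
        rw [← cancel_mono Y.ι, Category.assoc, Scheme.homOfLE_ι, hq', Category.assoc]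
      rw [reassoc_of% e1, hg, ← Category.assoc q']
      refine key T'.ι (q' ≫ X.homOfLE inf_le_right) ?_
      rw [Category.assoc, Scheme.homOfLE_ι, hq', hq₀]

include hX in
/-- Weil's extension theorem. -/
theorem existsUnique_extension (U : X.Opens) (f : (U : Scheme.{u}) ⟶ G) (hf : f ≫ pG = U.ι ≫ pX)
    (hdense : ∀ x : X, x ∈ closure ((U : Set X) ∩ {y | pX y = pX x}))
    (hgen : ∀ y : X, ringKrullDim (X.presheaf.stalk y) ≤ 1 → y ∈ U) :
    ∃! g : X ⟶ G, g ≫ pG = pX ∧ U.ι ≫ g = f := by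
  have hU : Dense (U : Set X) := fun x => closure_mono Set.inter_subset_left (hdense x)
  haveI := isReduced_of_regular hX
  obtain ⟨U', hUU', g', hg'1, hg'2, hall⟩ := Groth.Ega2Proj.exists_extension_of_local pG pX U hU f hf
    (fun _ => True) fun x _ => exists_local_extension pX pG hX U hU f hf x (hdense x) fun y _ => hgen y
  have htop : U' = ⊤ := top_le_iff.1 fun y _ => hall y trivial
  subst htop
  haveI : IsDominant U.ι := ⟨by rw [DenseRange, Scheme.Opens.range_ι]; exact hU⟩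
  have e : (⊤ : X.Opens).ι = X.topIso.hom := (Scheme.topIso_hom X).symm
  refine ⟨X.topIso.inv ≫ g', ⟨?_, ?_⟩, fun g hg => ?_⟩
  · rw [Category.assoc, hg'1, e, Iso.inv_hom_id_assoc]
  · rw [show U.ι = X.homOfLE hUU' ≫ X.topIso.hom by rw [← e, Scheme.homOfLE_ι], Category.assoc,
      Iso.hom_inv_id_assoc, hg'2]
  · refine ext_of_isDominant_of_isSeparated pG ?_ U.ι ?_
    · rw [hg.1, Category.assoc, hg'1, e, Iso.inv_hom_id_assoc]
    · rw [hg.2, show U.ι = X.homOfLE hUU' ≫ X.topIso.hom by rw [← e, Scheme.homOfLE_ι], Category.assoc,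
        Iso.hom_inv_id_assoc, hg'2]

end

end Groth.NeronArea.Weil
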