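import Groth.Agent.NeronArea.SymSmooth
import Mathlib.RingTheory.Smooth.StandardSmooth
import Mathlib.RingTheory.Smooth.StandardSmoothCotangent
import Mathlib.RingTheory.Etale.Kaehler
import Mathlib.RingTheory.Kaehler.Polynomial
import Mathlib.RingTheory.Nakayama
import Mathlib.RingTheory.OrzechProperty
import Mathlib.RingTheory.Finiteness.Prod
import Mathlib.RingTheory.RingHom.LocallyStandardSmooth

/-! Smooth algebras are retracts of standard smooth algebras. -/

open scoped TensorProduct
open KaehlerDifferential

namespace Groth.NeronArea.StandardSmoothRetract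

universe u

variable {R A : Type u} [CommRing R] [CommRing A] [Algebra R A]

lemma isStandardSmooth_mvPolynomial (R : Type u) [CommRing R] (σ : Type) [Finite σ] :
    Algebra.IsStandardSmooth R (MvPolynomial σ R) := by
  classical
  let P : Algebra.SubmersivePresentation R (MvPolynomial σ R) σ PEmpty.{1} :=
    { toGenerators := Algebra.Generators.mvPolynomial R σ
      relation := PEmpty.elim
      span_range_relation_eq_ker := by rw [Algebra.Generators.ker_mvPolynomial]; simp
      map := PEmpty.elim
      map_inj := fun a => a.elim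
      jacobian_isUnit := by
        rw [Algebra.PreSubmersivePresentation.jacobian_eq_jacobiMatrix_det, Matrix.det_isEmpty, map_one]
        exact isUnit_one }
  exact P.isStandardSmooth

/-- A smooth algebra with elements whose differentials form a basis is standard smooth. -/
theorem isStandardSmooth_of_span {C : Type u} [CommRing C] [Algebra R C] [Algebra.Smooth R C]
    {σ : Type} [Finite σ] (y : σ → C) (hy : ⊤ ≤ Submodule.span C (Set.range fun i => D R C (y i)))
    (e : Ω[C⁄R] ≃ₗ[C] (σ → C)) : Algebra.IsStandardSmooth R C := by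
  classical
  let P := MvPolynomial σ R
  let := (MvPolynomial.aeval (R := R) y).toRingHom.toAlgebra
  have : IsScalarTower R P C := IsScalarTower.of_algebraMap_eq fun r =>
    ((MvPolynomial.aeval (R := R) y).commutes r).symm
  have hsurj : Function.Surjective (mapBaseChange R P C) := by
    rw [← LinearMap.range_eq_top, ← top_le_iff]
    refine hy.trans (Submodule.span_le.2 ?_)
    rintro _ ⟨i, rfl⟩
    refine ⟨1 ⊗ₜ D R P (MvPolynomial.X i), ?_⟩
    rw [mapBaseChange_tmul, one_smul, map_D]
    exact congrArg (D R C) (MvPolynomial.aeval_X y i)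
  cases nonempty_fintype σ
  let b := (mvPolynomialBasis R σ).baseChange C
  let L : (σ → C) →ₗ[C] (σ → C) :=
    e.toLinearMap ∘ₗ mapBaseChange R P C ∘ₗ b.equivFun.symm.toLinearMap
  have hL : Function.Bijective L := OrzechProperty.bijective_of_surjective_endomorphism L
    (e.surjective.comp (hsurj.comp b.equivFun.symm.surjective))
  have hbij : Function.Bijective (mapBaseChange R P C) := by
    have : (mapBaseChange R P C : C ⊗[P] Ω[P⁄R] → Ω[C⁄R]) = e.symm ∘ L ∘ b.equivFun := by
      funext x; simp [L]
    rw [this]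
    exact e.symm.bijective.comp (hL.comp b.equivFun.bijective)
  have := SymSmooth.formallyEtale_of_bijective R P C hbij
  have : Algebra.FinitePresentation P C := .of_restrict_scalars_finitePresentation R P C
  have : Algebra.Etale P C := ⟨inferInstance, inferInstance⟩
  have h0 : Algebra.IsStandardSmoothOfRelativeDimension 0 P C :=
    Algebra.Etale.iff_isStandardSmoothOfRelativeDimension_zero.1 this
  have : Algebra.IsStandardSmooth P C := h0.isStandardSmooth 0
  have := isStandardSmooth_mvPolynomial R σ
  exact Algebra.IsStandardSmooth.trans R P C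

set_option backward.isDefEq.respectTransparency false in
theorem exists_smooth_retract [Algebra.Smooth R A] :
    ∃ (B : Type u) (_ : CommRing B) (_ : Algebra R B) (_ : Algebra A B) (_ : IsScalarTower R A B),
      Algebra.Smooth A B ∧ Nonempty (B →ₐ[A] A) ∧ Algebra.IsStandardSmooth R B := by
  classical
  obtain ⟨n, φ, hφ, -⟩ := Algebra.FinitePresentation.out (R := R) (A := A)
  let x : Fin n → A := fun j => φ (MvPolynomial.X j)
  let π : (Fin n → A) →ₗ[A] Ω[A⁄R] := Fintype.linearCombination A fun j => D R A (x j)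
  have hπe : ∀ j, π (Pi.single j 1) = D R A (x j) := fun j => by
    simp [π, Fintype.linearCombination_apply_single]
  have hπ : Function.Surjective π := by
    rw [← LinearMap.range_eq_top, ← top_le_iff, ← span_range_derivation, Submodule.span_le]
    rintro _ ⟨a, rfl⟩
    obtain ⟨p, rfl⟩ := hφ a
    show D R A (φ p) ∈ LinearMap.range π
    induction p using MvPolynomial.induction_on with
    | C r =>
      rw [← MvPolynomial.algebraMap_eq, AlgHom.commutes, Derivation.map_algebraMap]; exact zero_mem _
    | add p q hp hq => rw [map_add, map_add]; exact add_mem hp hq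
    | mul_X p i hp =>
      rw [map_mul, Derivation.leibniz]
      exact add_mem (Submodule.smul_mem _ _ ⟨_, hπe i⟩) (Submodule.smul_mem _ _ hp)
  obtain ⟨s, hs⟩ := Module.projective_lifting_property π LinearMap.id hπ
  have hs' : ∀ w, π (s w) = w := LinearMap.congr_fun hs
  let K := LinearMap.ker π
  let pr : (Fin n → A) →ₗ[A] K := LinearMap.codRestrict K (LinearMap.id - s ∘ₗ π)
    (fun c => by simp [K, LinearMap.mem_ker, hs'])
  have hprK : ∀ c : K, pr c = c := fun c => Subtype.ext (by
    have : π c = 0 := c.2
    simp [pr, this])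
  have : Module.Finite A K := .of_surjective pr fun c => ⟨c, hprK c⟩
  have : Module.Projective A K := .of_split K.subtype pr (LinearMap.ext hprK)
  let F := Fin n → A
  let S := SymmetricAlgebra A (K × F)
  letI : Algebra R S := ((algebraMap A S).comp (algebraMap R A)).toAlgebra
  have : IsScalarTower R A S := IsScalarTower.of_algebraMap_eq' rfl
  let eK : F ≃ₗ[A] Ω[A⁄R] × K := LinearEquiv.ofBijective (π.prod pr)
    ⟨fun a b hab => by
      have h1 : π a = π b := congrArg Prod.fst hab
      have h2 : a - s (π a) = b - s (π b) := congrArg (fun p => (p.2 : F)) hab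
      rw [h1] at h2; simpa using h2,
     fun ⟨w, c⟩ => ⟨s w + c, Prod.ext (by simp [hs', show π c = 0 from c.2]) (Subtype.ext (by
      simp [pr, hs', show π c = 0 from c.2]))⟩⟩
  obtain ⟨eS⟩ := SymSmooth.nonempty_kaehler_equiv_prod R A S
  let eSM : (S ⊗[A] (K × F)) ≃ₗ[S] Ω[S⁄A] := LinearEquiv.ofBijective _ (Groth.Agent.S7237.result A (K × F))
  let e : Ω[S⁄R] ≃ₗ[S] (Fin n ⊕ Fin n → S) :=
    eS ≪≫ₗ (LinearEquiv.refl S _).prodCongr eSM.symm ≪≫ₗ
      (TensorProduct.prodRight A S S Ω[A⁄R] (K × F)).symm ≪≫ₗ
      LinearEquiv.baseChange A S _ _ ((LinearEquiv.prodAssoc A Ω[A⁄R] K F).symm ≪≫ₗ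
        eK.symm.prodCongr (LinearEquiv.refl A F) ≪≫ₗ
        (LinearEquiv.sumArrowLequivProdArrow (Fin n) (Fin n) A A).symm) ≪≫ₗ
      TensorProduct.piScalarRight A S S (Fin n ⊕ Fin n)
  -- the elements
  let ι' : (K × F) →ₗ[A] S := SymmetricAlgebra.ι A (K × F)
  let m : Fin n → S := fun i => ι' (pr (Pi.single i 1), 0)
  let τ : Fin n → S := fun j => ι' (0, Pi.single j 1)
  let a : Fin n → Fin n → A := fun i j => s (D R A (x i)) j
  let y : Fin n ⊕ Fin n → S := Sum.elim (fun j => algebraMap A S (x j) + τ j)
    (fun i => (∑ j, algebraMap A S (a i j) * τ j) - m i)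
  let ε : S →ₐ[A] A := SymmetricAlgebra.lift 0
  let J : Ideal S := RingHom.ker ε
  let T : Submodule S Ω[S⁄R] := Submodule.span S (Set.range fun i => D R S (y i)) ⊔ J • ⊤
  have hι : ∀ z, ι' z ∈ J := fun z => SymmetricAlgebra.lift_ι_apply (0 : (K × F) →ₗ[A] A) z
  have hprod : ∀ (j : S) (w : Ω[S⁄R]), j ∈ J → j • w ∈ T := fun j w hj =>
    Submodule.mem_sup_right (Submodule.smul_mem_smul hj Submodule.mem_top)
  have hdι : ∀ (c : A) z, D R S (ι' (c • z)) - algebraMap A S c • D R S (ι' z) ∈ T := by
    intro c z
    rw [map_smul, Algebra.smul_def, Derivation.leibniz, add_sub_cancel_left]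
    exact hprod _ _ (hι z)
  let G : (K × F) →ₗ[A] Ω[S⁄R] ⧸ T :=
    { toFun := fun z => Submodule.Quotient.mk (D R S (ι' z))
      map_add' := fun z w => by rw [map_add, map_add]; rfl
      map_smul' := fun c z => by
        rw [RingHom.id_apply, ← algebraMap_smul S c (Submodule.Quotient.mk (D R S (ι' z))),
          ← Submodule.Quotient.mk_smul, Submodule.Quotient.eq]
        exact hdι c z }
  let Fm : Ω[A⁄R] →ₗ[A] Ω[S⁄R] ⧸ T :=
    (T.mkQ.restrictScalars A) ∘ₗ map R R A S
  have hy0 : ∀ i, T.mkQ (D R S (y i)) = 0 := fun i => (Submodule.Quotient.mk_eq_zero _).2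
    (Submodule.mem_sup_left (Submodule.subset_span ⟨i, rfl⟩))
  have hτ : ∀ j, G (0, Pi.single j 1) = -Fm (D R A (x j)) := by
    intro j
    have := hy0 (Sum.inl j)
    simp only [y, Sum.elim_inl, map_add] at this
    rw [eq_neg_iff_add_eq_zero, add_comm]
    rw [← this]
    simp [Fm, G, τ]
  have hfull : ∀ c : F, G (0, c) = -Fm (π c) := by
    have : G ∘ₗ LinearMap.inr A K F = -(Fm ∘ₗ π) := by
      refine LinearMap.pi_ext' fun j => LinearMap.ext_ring ?_
      show G (0, Pi.single j 1) = _
      simpa [hπe] using hτ j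
    exact fun c => LinearMap.congr_fun this c
  have hm : ∀ i, G (pr (Pi.single i 1), 0) = -Fm (D R A (x i)) := by
    intro i
    have h1 := hy0 (Sum.inr i)
    have h2 : ι' (0, s (D R A (x i))) = ∑ j, algebraMap A S (a i j) * τ j := by
      have : ((0, s (D R A (x i))) : K × F) = ∑ j, a i j • ((0, Pi.single j 1) : K × F) := by
        refine Prod.ext (by simp [Prod.fst_sum]) ?_
        simp only [Prod.snd_sum, Prod.smul_snd, a]
        exact pi_eq_sum_univ' _
      rw [this, map_sum]
      exact Finset.sum_congr rfl fun j _ => by rw [map_smul, Algebra.smul_def]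
    simp only [y, Sum.elim_inr, ← h2, map_sub, sub_eq_zero] at h1
    have h3 := hfull (s (D R A (x i)))
    rw [hs'] at h3
    exact h1.symm.trans h3
  have hmfull : ∀ c : F, G (pr c, 0) = -Fm (π c) := by
    have : G ∘ₗ LinearMap.inl A K F ∘ₗ pr = -(Fm ∘ₗ π) := by
      refine LinearMap.pi_ext' fun j => LinearMap.ext_ring ?_
      simpa [hπe] using hm j
    exact fun c => LinearMap.congr_fun this c
  have hF0 : ∀ w, Fm w = 0 := fun w => by
    have h := hmfull (s w)
    rw [show pr (s w) = 0 from Subtype.ext (by simp [pr, hs']), hs'] at h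
    exact neg_eq_zero.1 (h.symm.trans (map_zero G))
  have hG0 : ∀ z, G z = 0 := fun ⟨c, d⟩ => by
    rw [show ((c, d) : K × F) = (pr c, 0) + (0, d) by rw [hprK]; simp, map_add, hmfull, hfull,
      hF0, hF0, neg_zero, add_zero]
  have hT : (⊤ : Submodule S Ω[S⁄R]) ≤ T := by
    rw [← span_range_derivation, Submodule.span_le]
    rintro _ ⟨c, rfl⟩
    show D R S c ∈ T
    induction c using SymmetricAlgebra.induction with
    | algebraMap r =>
      refine (Submodule.Quotient.mk_eq_zero _).1 ?_
      have := hF0 (D R A r)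
      simpa [Fm] using this
    | ι z => exact (Submodule.Quotient.mk_eq_zero _).1 (hG0 z)
    | mul p q hp hq =>
      rw [Derivation.leibniz]; exact add_mem (T.smul_mem _ hq) (T.smul_mem _ hp)
    | add p q hp hq => rw [map_add]; exact add_mem hp hq
  -- Nakayama
  let N := Submodule.span S (Set.range fun i => D R S (y i))
  have : Module.Finite S Ω[S⁄R] := Module.Finite.equiv e.symm
  obtain ⟨g, hgJ, hg⟩ := Submodule.exists_sub_one_mem_and_smul_eq_zero_of_fg_of_le_smul J
    (⊤ : Submodule S (Ω[S⁄R] ⧸ N)) Module.Finite.fg_top (by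
      rintro q -
      obtain ⟨w, rfl⟩ := Submodule.mkQ_surjective N q
      obtain ⟨p, hp, r, hr, rfl⟩ := Submodule.mem_sup.1 (hT (Submodule.mem_top : w ∈ ⊤))
      rw [map_add, show N.mkQ p = 0 from (Submodule.Quotient.mk_eq_zero _).2 hp, zero_add]
      have := Submodule.mem_map_of_mem (f := N.mkQ) hr
      rw [Submodule.map_smul'', Submodule.map_top, Submodule.range_mkQ] at this
      exact this)
  have hgN : ∀ w, g • w ∈ N := fun w => (Submodule.Quotient.mk_eq_zero _).1
    ((Submodule.Quotient.mk_smul _ _ _).trans (hg _ Submodule.mem_top))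
  have hεg : ε g = 1 := by
    have h : ε (g - 1) = 0 := hgJ
    rwa [map_sub, map_one, sub_eq_zero] at h
  -- localise
  let B := Localization.Away g
  have : Algebra.Smooth S B := Algebra.Smooth.of_isLocalization_Away g
  have : Algebra.Smooth A B := Algebra.Smooth.comp A S B
  have : Algebra.Smooth R B := Algebra.Smooth.comp R A B
  let f := map R R S B
  let yB : Fin n ⊕ Fin n → B := fun i => algebraMap S B (y i)
  have hunit : IsUnit (algebraMap S B g) := IsLocalization.Away.algebraMap_isUnit g
  have hspan : ⊤ ≤ Submodule.span B (Set.range fun i => D R B (yB i)) := by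
    rw [← span_range_map_derivation_of_isLocalization R S B (Submonoid.powers g), Submodule.span_le]
    rintro _ ⟨c, rfl⟩
    have h1 := Submodule.mem_map_of_mem (f := f) (hgN (D R S c))
    rw [Submodule.map_span, ← Set.range_comp, map_smul] at h1
    have h2 := Submodule.span_le_restrictScalars S B _ h1
    simp only [Submodule.restrictScalars_mem] at h2
    rw [← algebraMap_smul B g, show (f ∘ fun i => D R S (y i)) = fun i => D R B (yB i) from
      funext fun i => map_D _ _ _ _ _] at h2
    exact (Submodule.smul_mem_iff_of_isUnit _ hunit).1 h2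
  have : Algebra.FormallyEtale S B := Algebra.FormallyEtale.of_isLocalization (Submonoid.powers g)
  let eB : Ω[B⁄R] ≃ₗ[B] (Fin n ⊕ Fin n → B) :=
    (tensorKaehlerEquivOfFormallyEtale R S B).symm ≪≫ₗ LinearEquiv.baseChange S B _ _ e ≪≫ₗ
      TensorProduct.piScalarRight S B B (Fin n ⊕ Fin n)
  refine ⟨B, inferInstance, inferInstance, inferInstance, inferInstance, inferInstance,
    ⟨IsLocalization.liftAlgHom (M := Submonoid.powers g) (f := ε) (fun t => ?_)⟩,
    isStandardSmooth_of_span yB hspan eB⟩
  obtain ⟨k, hk⟩ := t.2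
  rw [← hk, map_pow, hεg, one_pow]; exact isUnit_one

end Groth.NeronArea.StandardSmoothRetract
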