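import Groth.Agent.NeronArea.TorsionSections
import Groth.Agent.NeronArea.WeilExtension
import Groth.Agent.SGA7.ComponentGroup

/-!
# Divisibility of the identity component of the closed fibre

For a smooth commutative group scheme over a strictly henselian Noetherian local ring, sections
meeting the identity component of the closed fibre are `n`-divisible for `n` invertible.
-/

set_option autoImplicit false
set_option linter.style.haveILetI false

universe u

open CategoryTheory CategoryTheory.Limits MonoidalCategory CartesianMonoidalCategory MonObj GrpObj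
  AlgebraicGeometry TopologicalSpace

namespace Groth.NeronArea.Divisible

/-- A connected component of a space in which every point has an irreducible open neighbourhood is
irreducible. -/
theorem isPreirreducible_connectedComponentIn {X : Type*} [TopologicalSpace X] (F : Set X) (z : X)
    (hloc : ∀ w : F, ∃ W : Set F, IsOpen W ∧ w ∈ W ∧ IsPreirreducible W) :
    IsPreirreducible (connectedComponentIn F z) := by
  by_cases hz : z ∈ F
  · rw [connectedComponentIn_eq_image hz]
    refine IsPreirreducible.image ?_ _ continuous_subtype_val.continuousOn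
    let Z := irreducibleComponent (⟨z, hz⟩ : F)
    have hZ : IsClosed Z := isClosed_irreducibleComponent
    have hZo : IsOpen Z := by
      refine isOpen_iff_forall_mem_open.mpr fun w hw => ?_
      obtain ⟨W, hWo, hwW, hW⟩ := hloc w
      refine ⟨W, ?_, hWo, hwW⟩
      have h1 : Z ⊆ closure W := by
        refine (subset_closure_inter_of_isPreirreducible_of_isOpen isIrreducible_irreducibleComponent.2
          hWo ⟨w, hw, hwW⟩).trans (closure_mono Set.inter_subset_right)
      have h2 : closure W = Z :=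
        (irreducibleComponent_mem_irreducibleComponents _).2
          ⟨⟨w, subset_closure hwW⟩, hW.closure⟩ h1 |>.antisymm h1
      exact h2 ▸ subset_closure
    have h3 : connectedComponent (⟨z, hz⟩ : F) = Z :=
      (IsClopen.connectedComponent_subset ⟨hZ, hZo⟩ mem_irreducibleComponent).antisymm
        (isIrreducible_irreducibleComponent.isConnected.subset_connectedComponent mem_irreducibleComponent)
    rw [h3]
    exact isIrreducible_irreducibleComponent.2
  · rw [connectedComponentIn_eq_empty hz]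
    exact isPreirreducible_empty

variable {R : Type u} [CommRing R] [HenselianLocalRing R] [IsSepClosed (IsLocalRing.ResidueField R)]

/-- Points of the closed fibre of a smooth scheme have irreducible open neighbourhoods in it. -/
theorem exists_irreducible_nhd {X : Scheme.{u}} (p : X ⟶ Spec (CommRingCat.of R)) [Smooth p]
    (w : (p ⁻¹' {IsLocalRing.closedPoint R} : Set X)) :
    ∃ W : Set (p ⁻¹' {IsLocalRing.closedPoint R} : Set X), IsOpen W ∧ w ∈ W ∧ IsPreirreducible W := by
  let s := IsLocalRing.closedPoint R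
  let X₀ := p.fiber s
  let i : X₀ ⟶ X := p.fiberι s
  have : Smooth (p.fiberToSpecResidueField s) := inferInstanceAs (Smooth (pullback.snd _ _))
  have hX₀ : ∀ a : X₀, IsRegularLocalRing (X₀.presheaf.stalk a) := fun a => by
    refine Weil.isRegularLocalRing_of_smooth (p.fiberToSpecResidueField s) a ?_
    exact IsRegularLocalRing.of_ringEquiv (Spec.stalkIso (CommRingCat.of ((Spec (CommRingCat.of R)).residueField s))
      (p.fiberToSpecResidueField s a)).commRingCatIsoToRingEquiv.symm
  have : IsLocallyNoetherian X₀ := LocallyOfFiniteType.isLocallyNoetherian (p.fiberToSpecResidueField s)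
  have hr : Set.range i = p ⁻¹' {s} := Scheme.Hom.range_fiberι _ _
  obtain ⟨a, ha⟩ : (w : X) ∈ Set.range i := (Set.ext_iff.1 hr _).2 w.2
  haveI := hX₀ a
  haveI : IsDomain (X₀.presheaf.stalk a) := Groth.Ega4Algebra1.isDomain_of_isRegularLocalRing _
  obtain ⟨V, haV, hV⟩ := Weil.exists_integral_nhd (X := X₀) a
  obtain ⟨O, hO, hOV⟩ := i.isEmbedding.isInducing.isOpen_iff.1 V.isOpen
  refine ⟨Subtype.val ⁻¹' O, hO.preimage continuous_subtype_val, ?_, ?_⟩
  · show (w : X) ∈ O
    rw [← ha]
    show a ∈ i ⁻¹' O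
    rw [hOV]; exact haV
  · have himg : Subtype.val '' (Subtype.val ⁻¹' O : Set (p ⁻¹' {s} : Set X)) = i '' (V : Set X₀) := by
      rw [Subtype.image_preimage_coe, ← hOV, Set.image_preimage_eq_range_inter, hr]
    have hVirr : IsPreirreducible (V : Set X₀) := by
      haveI : PreirreducibleSpace (V : Scheme.{u}) := inferInstance
      have := (PreirreducibleSpace.isPreirreducible_univ (X := (V : Scheme.{u}))).image V.ι V.ι.continuous.continuousOn
      rwa [Set.image_univ, Scheme.Opens.range_ι] at this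
    have h1 : IsPreirreducible (Subtype.val '' (Subtype.val ⁻¹' O : Set (p ⁻¹' {s} : Set X))) := by
      rw [himg]; exact hVirr.image i i.continuous.continuousOn
    intro U₁ U₂ hU₁ hU₂ h₁ h₂
    obtain ⟨O₁, hO₁, rfl⟩ := isOpen_induced_iff.mp hU₁
    obtain ⟨O₂, hO₂, rfl⟩ := isOpen_induced_iff.mp hU₂
    obtain ⟨a₁, ha₁, ha₁'⟩ := h₁
    obtain ⟨a₂, ha₂, ha₂'⟩ := h₂
    obtain ⟨_, ⟨c, hc, rfl⟩, hc'⟩ := h1 O₁ O₂ hO₁ hO₂ ⟨a₁, ⟨a₁, ha₁, rfl⟩, ha₁'⟩ ⟨a₂, ⟨a₂, ha₂, rfl⟩, ha₂'⟩
    exact ⟨c, hc, hc'⟩

variable [IsNoetherianRing R] (N : Over (Spec (CommRingCat.of R))) [GrpObj N] [IsCommMonObj N] [Smooth N.hom]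
  [QuasiCompact N.hom]

/-- Sections meeting the identity component are divisible by invertible integers. -/
theorem exists_root (n : ℕ) (hn : IsUnit (n : R)) (y : 𝟙_ (Over (Spec (CommRingCat.of R))) ⟶ N)
    (hy : y ∈ SGA7.secUnitComp R N) :
    ∃ z ∈ SGA7.secUnitComp R N, z ^ n = y := by
  have hc : ∀ s : Spec (CommRingCat.of R),
      letI : GrpObj ((Over.pullback ((Spec (CommRingCat.of R)).fromSpecResidueField s)).obj N) := Functor.grpObjObj
      IsCommMonObj ((Over.pullback ((Spec (CommRingCat.of R)).fromSpecResidueField s)).obj N) := fun s =>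
    inferInstance
  have hnΓ : IsUnit (((n : ℤ) : Γ(Spec (CommRingCat.of R), ⊤))) := by
    have := hn.map (Scheme.ΓSpecIso (CommRingCat.of R)).inv.hom
    simpa using this
  let f : N ⟶ N := 𝟙 N ^ (n : ℤ)
  have het : Etale f.left := Groth.GrpschAbsch.etale_zpow_of_smooth N hc n hnΓ
  have hpow : ∀ {T : Over (Spec (CommRingCat.of R))} (a : T ⟶ N), a ≫ f = a ^ n := fun a => by
    rw [show f = 𝟙 N ^ n from zpow_natCast _ _, MonObj.comp_pow, Category.comp_id]
  let c₀ : N.left := η[N].left.base (IsLocalRing.closedPoint R)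
  let F : Set N.left := SGA7.specialFibreSet R N
  let C : Set N.left := connectedComponentIn F c₀
  have hc₀ : c₀ ∈ F := Groth.SGA7.ComponentGroup.section_mem N η[N]
  have hfhom : ∀ a, N.hom (f.left a) = N.hom a := fun a => by
    rw [← Scheme.Hom.comp_apply, Over.w]
  have hfF : ∀ a, f.left a ∈ F ↔ a ∈ F := fun a => by
    show N.hom (f.left a) = _ ↔ N.hom a = _
    rw [hfhom]
  -- `C` is relatively open
  haveI := Groth.SGA7.ComponentGroup.noetherianSpace N
  have hFcl : IsClosed F := (IsLocalRing.isClosed_singleton_closedPoint R).preimage N.hom.continuous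
  obtain ⟨O, hO, hCO⟩ : ∃ O : Set N.left, IsOpen O ∧ O ∩ F = C := by
    choose O hO hzO hOF using fun z : C => Groth.SGA7.ComponentGroup.exists_isOpen_inter_subset hFcl
      (connectedComponentIn_subset _ _ z.2)
    refine ⟨⋃ z, O z, isOpen_iUnion hO, Set.Subset.antisymm ?_ ?_⟩
    · rintro a ⟨ha, haF⟩
      obtain ⟨z, hz⟩ := Set.mem_iUnion.1 ha
      have := hOF z ⟨hz, haF⟩
      rwa [← connectedComponentIn_eq z.2] at this
    · exact fun a ha => ⟨Set.mem_iUnion.2 ⟨⟨a, ha⟩, hzO _⟩, connectedComponentIn_subset _ _ ha⟩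
  have hCirr : IsPreirreducible C :=
    isPreirreducible_connectedComponentIn F c₀ (exists_irreducible_nhd N.hom)
  -- translation by `y`
  let t := GrpObj.mulRight (A := N) y
  let φ : N.left ≃ₜ N.left := Scheme.homeoOfIso ((Over.forget _).mapIso t)
  have happ : ∀ z : 𝟙_ (Over (Spec (CommRingCat.of R))) ⟶ N,
      φ (z.left.base (IsLocalRing.closedPoint R)) = (z * y).left.base (IsLocalRing.closedPoint R) := fun z => by
    rw [← Groth.SGA7.ComponentGroup.mul_right_apply]
    rfl
  have hφF : φ '' F = F := by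
    rw [Homeomorph.image_eq_preimage_symm]
    ext w
    show N.hom.base (t.inv.left.base w) ∈ ({_} : Set _) ↔ N.hom.base w ∈ ({_} : Set _)
    rw [show N.hom.base (t.inv.left.base w) = N.hom.base w from congr(($(Over.w t.inv)).base w)]
  have hone : (1 : 𝟙_ (Over (Spec (CommRingCat.of R))) ⟶ N).left.base (IsLocalRing.closedPoint R) = c₀ := by
    rw [Hom.one_def, toUnit_unique (toUnit _) (𝟙 _), Category.id_comp]
  have hφC : φ '' C = C := by
    have hy' : φ c₀ = y.left.base (IsLocalRing.closedPoint R) := by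
      rw [← hone, happ, _root_.one_mul]
    rw [φ.image_connectedComponentIn hc₀, hφF, hy']
    exact (connectedComponentIn_eq hy).symm
  -- the image of the power map on the component
  let A : Set N.left := f.left '' (O ∩ F)
  have hA : A = (f.left '' O) ∩ F := by
    ext a
    constructor
    · rintro ⟨b, ⟨hb, hbF⟩, rfl⟩; exact ⟨⟨b, hb, rfl⟩, (hfF b).2 hbF⟩
    · rintro ⟨⟨b, hb, rfl⟩, hF⟩; exact ⟨b, ⟨hb, (hfF b).1 hF⟩, rfl⟩
  have hAC : A ⊆ C := by
    have hOF' : _root_.IsPreconnected (O ∩ F) := by rw [hCO]; exact isPreconnected_connectedComponentIn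
    have hconn : _root_.IsPreconnected A := hOF'.image _ f.left.continuous.continuousOn
    have hc₀A : c₀ ∈ A := by
      refine ⟨c₀, hCO.symm ▸ mem_connectedComponentIn hc₀, ?_⟩
      have h1 : η[N] ≫ f = η[N] := by
        have h2 : (η[N] : 𝟙_ (Over (Spec (CommRingCat.of R))) ⟶ N) = 1 := by
          rw [Hom.one_def, toUnit_unique (toUnit _) (𝟙 _), Category.id_comp]
        rw [hpow, h2, one_pow]
      exact congr(($h1).left.base (IsLocalRing.closedPoint R))
    exact hconn.subset_connectedComponentIn hc₀A (by rw [hA]; exact Set.inter_subset_right)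
  have hfO : IsOpen (f.left '' O) := f.left.isOpenMap _ hO
  have hφA : IsOpen (φ '' (f.left '' O)) := φ.isOpenMap _ hfO
  have hAne : A.Nonempty := ⟨f.left c₀, c₀, hCO.symm ▸ mem_connectedComponentIn hc₀, rfl⟩
  obtain ⟨w₀, hw₀C, hw₀A, hw₀B⟩ : (C ∩ (f.left '' O ∩ φ '' (f.left '' O))).Nonempty := by
    refine hCirr _ _ hfO hφA ?_ ?_
    · obtain ⟨a, ha⟩ := hAne
      exact ⟨a, hAC ha, (hA ▸ ha).1⟩
    · obtain ⟨a, ha⟩ := hAne
      exact ⟨φ a, hφC ▸ Set.mem_image_of_mem φ (hAC ha), Set.mem_image_of_mem φ (hA ▸ ha).1⟩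
  have hw₀F : w₀ ∈ F := connectedComponentIn_subset _ _ hw₀C
  obtain ⟨_, hwmem, v, hv, rfl⟩ := mem_closure_iff.1
    (TorsionSections.mem_closure_sections N.hom w₀ hw₀F) _ (hfO.inter hφA) ⟨hw₀A, hw₀B⟩
  let w : 𝟙_ (Over (Spec (CommRingCat.of R))) ⟶ N := Over.homMk v hv
  -- roots of sections in `A`
  have hroot : ∀ a : 𝟙_ (Over (Spec (CommRingCat.of R))) ⟶ N,
      a.left.base (IsLocalRing.closedPoint R) ∈ A → ∃ z ∈ SGA7.secUnitComp R N, z ^ n = a := by
    intro a ha
    obtain ⟨c, hc, hca⟩ := ha
    let K := pullback f.left a.left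
    let pK : K ⟶ Spec (CommRingCat.of R) := pullback.snd _ _
    haveI : Smooth pK := inferInstance
    obtain ⟨k, hk1, hk2⟩ := Scheme.Pullback.exists_preimage_pullback (f := f.left) (g := a.left) c
      (IsLocalRing.closedPoint R) hca
    obtain ⟨_, hmem, u, hu, rfl⟩ := mem_closure_iff.1 (TorsionSections.mem_closure_sections pK k hk2) _
      (hO.preimage (pullback.fst f.left a.left).continuous) (show pullback.fst f.left a.left k ∈ O by
        rw [hk1]; exact hc.1)
    have hzhom : (u ≫ pullback.fst f.left a.left) ≫ N.hom = 𝟙 _ := by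
      have h1 : f.left ≫ N.hom = N.hom := Over.w f
      rw [Category.assoc, ← h1, pullback.condition_assoc]
      exact ((congrArg (fun m => u ≫ pullback.snd f.left a.left ≫ m) (Over.w a)).trans
        (congrArg (u ≫ ·) (Category.comp_id _))).trans hu
    let z : 𝟙_ (Over (Spec (CommRingCat.of R))) ⟶ N := Over.homMk (u ≫ pullback.fst f.left a.left) hzhom
    refine ⟨z, ?_, ?_⟩
    · show z.left.base (IsLocalRing.closedPoint R) ∈ C
      rw [← hCO]
      exact ⟨hmem, Groth.SGA7.ComponentGroup.section_mem N z⟩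
    · rw [← hpow]
      apply Over.OverMorphism.ext
      show (u ≫ pullback.fst _ _) ≫ f.left = a.left
      rw [Category.assoc, pullback.condition, ← Category.assoc, hu]
      exact Category.id_comp _
  have hwF : w.left.base (IsLocalRing.closedPoint R) ∈ F := Groth.SGA7.ComponentGroup.section_mem N w
  obtain ⟨z₁, hz₁, hz₁w⟩ := hroot w (hA ▸ ⟨hwmem.1, hwF⟩)
  obtain ⟨z₂, hz₂, hz₂w⟩ := hroot (w * y⁻¹) (hA ▸ ⟨by
    obtain ⟨a, ha, hae⟩ := hwmem.2
    have h := happ (w * y⁻¹)
    rw [inv_mul_cancel_right] at h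
    exact (φ.injective (hae.trans h.symm)) ▸ ha, Groth.SGA7.ComponentGroup.section_mem N _⟩)
  refine ⟨z₁ * z₂⁻¹, ?_, ?_⟩
  · rw [← Groth.SGA7.ComponentGroup.secComp_eq_iff]
    exact (connectedComponentIn_eq hz₁).symm.trans (connectedComponentIn_eq hz₂)
  · rw [mul_pow, inv_pow, hz₁w, hz₂w, _root_.mul_inv_rev, _root_.inv_inv, mul_comm y, ← _root_.mul_assoc, mul_inv_cancel,
      _root_.one_mul]

end Groth.NeronArea.Divisible
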