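import Mathlib.AlgebraicGeometry.AlgClosed.Basic
import Groth.Agent.NeronArea.DivisibleIdentity
import Groth.Agent.SpectralTopology.Constructible

/-! Points and components of commutative group schemes of finite type over an algebraically closed
field. -/

set_option autoImplicit false
set_option linter.style.haveILetI false
set_option linter.unusedSectionVars false

universe u

open CategoryTheory CategoryTheory.Limits MonoidalCategory CartesianMonoidalCategory MonObj GrpObj
  AlgebraicGeometry TopologicalSpace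

namespace Groth.NeronArea.FieldComponents

variable {k : Type u} [Field k] {G : Over (Spec (CommRingCat.of k))}

/-- The point underlying a rational point. -/
noncomputable abbrev pp (x : 𝟙_ (Over (Spec (CommRingCat.of k))) ⟶ G) : G.left :=
  x.left (IsLocalRing.closedPoint k)

theorem pp_comp {H : Over (Spec (CommRingCat.of k))} (x : 𝟙_ (Over (Spec (CommRingCat.of k))) ⟶ G)
    (f : G ⟶ H) : pp (x ≫ f) = f.left (pp x) := rfl

variable [GrpObj G]

theorem one_eq : (1 : 𝟙_ (Over (Spec (CommRingCat.of k))) ⟶ G) = η[G] := by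
  rw [Hom.one_def, toUnit_unique (toUnit _) (𝟙 _), Category.id_comp]

/-- Right translation by a rational point. -/
noncomputable def shift (y : 𝟙_ (Over (Spec (CommRingCat.of k))) ⟶ G) : G ⟶ G :=
  𝟙 G * (toUnit G ≫ y)

theorem comp_shift (x y : 𝟙_ (Over (Spec (CommRingCat.of k))) ⟶ G) : x ≫ shift y = x * y := by
  rw [shift, MonObj.comp_mul, Category.comp_id, ← Category.assoc,
    toUnit_unique (x ≫ toUnit G) (𝟙 _), Category.id_comp]

/-- The rational points are in the same connected component. -/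
def Rel (x y : 𝟙_ (Over (Spec (CommRingCat.of k))) ⟶ G) : Prop :=
  pp y ∈ connectedComponent (pp x)

theorem Rel.comp {x y : 𝟙_ (Over (Spec (CommRingCat.of k))) ⟶ G} (h : Rel x y) (f : G ⟶ G) :
    Rel (x ≫ f) (y ≫ f) :=
  f.left.continuous.image_connectedComponent_subset _ ⟨_, h, rfl⟩

theorem Rel.mul {x y : 𝟙_ (Over (Spec (CommRingCat.of k))) ⟶ G} (h : Rel x y)
    (z : 𝟙_ (Over (Spec (CommRingCat.of k))) ⟶ G) : Rel (x * z) (y * z) := by
  simpa only [comp_shift] using h.comp (shift z)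

theorem Rel.symm {x y : 𝟙_ (Over (Spec (CommRingCat.of k))) ⟶ G} (h : Rel x y) : Rel y x := by
  unfold Rel at *
  rw [← connectedComponent_eq h]
  exact mem_connectedComponent

theorem Rel.trans {x y z : 𝟙_ (Over (Spec (CommRingCat.of k))) ⟶ G} (h : Rel x y) (h' : Rel y z) :
    Rel x z := by
  unfold Rel at *
  rwa [connectedComponent_eq h]

variable (G) in
/-- Rational points of the identity component. -/
noncomputable def neutral : Subgroup (𝟙_ (Over (Spec (CommRingCat.of k))) ⟶ G) where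
  carrier := {x | Rel 1 x}
  one_mem' := mem_connectedComponent
  mul_mem' := fun {a b} ha hb => by
    have h1 := Rel.mul ha b
    rw [_root_.one_mul] at h1
    exact Rel.trans hb h1
  inv_mem' := fun {a} ha => by
    have h1 := (Rel.mul ha a⁻¹).symm
    rwa [_root_.one_mul, mul_inv_cancel] at h1

theorem mem_neutral_iff (x : 𝟙_ (Over (Spec (CommRingCat.of k))) ⟶ G) :
    x ∈ neutral G ↔ pp x ∈ connectedComponent (η[G].left (IsLocalRing.closedPoint k)) := by
  show Rel 1 x ↔ _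
  rw [Rel, one_eq]

theorem rel_iff (x y : 𝟙_ (Over (Spec (CommRingCat.of k))) ⟶ G) :
    Rel x y ↔ y * x⁻¹ ∈ neutral G := by
  constructor
  · intro h
    have h1 := h.mul x⁻¹
    rwa [mul_inv_cancel] at h1
  · intro h
    have h1 := Rel.mul (h : Rel 1 _) x
    rwa [_root_.one_mul, inv_mul_cancel_right] at h1

variable [LocallyOfFiniteType G.hom] [QuasiCompact G.hom]

/-- Some positive power of any rational point lies in the identity component. -/
theorem exists_pow_mem (x : 𝟙_ (Over (Spec (CommRingCat.of k))) ⟶ G) :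
    ∃ n, 0 < n ∧ x ^ n ∈ neutral G := by
  haveI := Groth.SGA7.ComponentGroup.noetherianSpace G
  have hfin := Groth.SGA7.ComponentGroup.finite_components (Set.univ : Set G.left)
  obtain ⟨a, -, b, -, hab, hC⟩ := Set.Infinite.exists_ne_map_eq_of_mapsTo (s := (Set.univ : Set ℕ))
    (f := fun n => connectedComponentIn Set.univ (pp (x ^ n))) Set.infinite_univ
    (fun n _ => Set.mem_image_of_mem (connectedComponentIn Set.univ) (Set.mem_univ _)) hfin
  rcases Nat.lt_or_gt_of_ne hab with h | h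
  · refine ⟨b - a, Nat.sub_pos_of_lt h, ?_⟩
    have hr : Rel (x ^ a) (x ^ b) := by
      simp only [connectedComponentIn_univ] at hC
      rw [Rel, hC]
      exact mem_connectedComponent
    rwa [rel_iff, ← pow_sub x h.le] at hr
  · refine ⟨a - b, Nat.sub_pos_of_lt h, ?_⟩
    have hr : Rel (x ^ b) (x ^ a) := by
      simp only [connectedComponentIn_univ] at hC
      rw [Rel, ← hC]
      exact mem_connectedComponent
    rwa [rel_iff, ← pow_sub x h.le] at hr

variable [IsAlgClosed k]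

theorem exists_point (z : G.left) (hz : IsClosed {z}) :
    ∃ x : 𝟙_ (Over (Spec (CommRingCat.of k))) ⟶ G, pp x = z :=
  ⟨Over.homMk (pointOfClosedPoint G.hom z hz) (pointOfClosedPoint_comp G.hom z hz),
    pointOfClosedPoint_apply G.hom z hz _⟩

theorem point_ext {x y : 𝟙_ (Over (Spec (CommRingCat.of k))) ⟶ G} (h : pp x = pp y) : x = y := by
  ext1
  exact ext_of_apply_closedPoint_eq G.hom (Over.w x) (Over.w y) h

theorem isClosed_pp (x : 𝟙_ (Over (Spec (CommRingCat.of k))) ⟶ G) : IsClosed {pp x} :=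
  (pointEquivClosedPoint G.hom ⟨x.left, Over.w x⟩).2

variable [IsCommMonObj G] [Smooth G.hom]

theorem isIrreducible_connectedComponent (z : G.left) : IsIrreducible (connectedComponent z) := by
  refine ⟨⟨z, mem_connectedComponent⟩, ?_⟩
  haveI : IsSepClosed (IsLocalRing.ResidueField k) :=
    have : IsAlgClosed (IsLocalRing.ResidueField k) := IsAlgClosed.of_ringEquiv k _
      (RingEquiv.ofBijective (IsLocalRing.residue k) ⟨RingHom.injective _, IsLocalRing.residue_surjective⟩)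
    inferInstance
  have h : (G.hom ⁻¹' {IsLocalRing.closedPoint k} : Set G.left) = Set.univ :=
    Set.eq_univ_of_forall fun w => Subsingleton.elim (α := PrimeSpectrum k) _ _
  have h1 := Groth.NeronArea.Divisible.isPreirreducible_connectedComponentIn
    (G.hom ⁻¹' {IsLocalRing.closedPoint k} : Set G.left) z
    (Groth.NeronArea.Divisible.exists_irreducible_nhd G.hom)
  rwa [h, connectedComponentIn_univ] at h1

/-- Prime-to-characteristic divisibility of the identity component. -/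
theorem exists_root (n : ℕ) (hn : (n : k) ≠ 0) {y : 𝟙_ (Over (Spec (CommRingCat.of k))) ⟶ G}
    (hy : y ∈ neutral G) : ∃ z ∈ neutral G, z ^ n = y := by
  haveI : IsSepClosed (IsLocalRing.ResidueField k) :=
    have : IsAlgClosed (IsLocalRing.ResidueField k) := IsAlgClosed.of_ringEquiv k _
      (RingEquiv.ofBijective (IsLocalRing.residue k) ⟨RingHom.injective _, IsLocalRing.residue_surjective⟩)
    inferInstance
  have h : SGA7.specialFibreSet k G = Set.univ :=
    Set.eq_univ_of_forall fun w => Subsingleton.elim (α := PrimeSpectrum k) _ _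
  have hiff : ∀ x : 𝟙_ (Over (Spec (CommRingCat.of k))) ⟶ G,
      x ∈ SGA7.secUnitComp k G ↔ x ∈ neutral G := fun x => by
    rw [mem_neutral_iff]
    show _ ∈ connectedComponentIn _ _ ↔ _
    rw [h, connectedComponentIn_univ]
  obtain ⟨z, hz, hzy⟩ := Groth.NeronArea.Divisible.exists_root G n (isUnit_iff_ne_zero.2 hn) y
    ((hiff y).2 hy)
  exact ⟨z, (hiff z).1 hz, hzy⟩

theorem comp_powHom (n : ℕ) (x : 𝟙_ (Over (Spec (CommRingCat.of k))) ⟶ G) :
    pp (x ^ n) = (𝟙 G ^ n).left (pp x) := by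
  rw [← pp_comp, MonObj.comp_pow, Category.comp_id]

/-- The images of the `p`-power maps on the identity component stabilise. -/
theorem exists_stable (p : ℕ) : ∃ s : ℕ, ∀ g ∈ neutral G, ∀ r : ℕ,
    ∃ h ∈ neutral G, h ^ p ^ (s + r) = g ^ p ^ s := by
  haveI := Groth.SGA7.ComponentGroup.noetherianSpace G
  haveI : IsLocallyNoetherian G.left := LocallyOfFiniteType.isLocallyNoetherian G.hom
  haveI : JacobsonSpace G.left := LocallyOfFiniteType.jacobsonSpace G.hom
  let C : Set G.left := connectedComponent (η[G].left (IsLocalRing.closedPoint k))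
  have hCcl : IsClosed C := isClosed_connectedComponent
  have hCirr : IsIrreducible C := isIrreducible_connectedComponent _
  let f (s : ℕ) : G ⟶ G := 𝟙 G ^ (p ^ s)
  let Z (s : ℕ) : Set G.left := closure ((f s).left '' C)
  have hf : ∀ s r, f (s + r) = f r ≫ f s := fun s r => by
    show _ = (𝟙 G ^ (p ^ r)) ≫ (𝟙 G ^ (p ^ s))
    rw [MonObj.comp_pow, Category.comp_id, ← pow_mul, ← pow_add, add_comm r s]
  have hη : ∀ g : G ⟶ G, (η[G] : 𝟙_ (Over (Spec (CommRingCat.of k))) ⟶ G) ≫ g = η[G] →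
      g.left '' C ⊆ C := fun g hg => by
    have h1 := g.left.continuous.image_connectedComponent_subset (η[G].left (IsLocalRing.closedPoint k))
    rwa [show g.left (η[G].left (IsLocalRing.closedPoint k)) = η[G].left (IsLocalRing.closedPoint k) from
      congr(($hg).left (IsLocalRing.closedPoint k))] at h1
  have hfη : ∀ s, (η[G] : 𝟙_ (Over (Spec (CommRingCat.of k))) ⟶ G) ≫ f s = η[G] := fun s => by
    rw [MonObj.comp_pow, Category.comp_id, ← one_eq, one_pow]
  have hanti : ∀ s r, Z (s + r) ⊆ Z s := fun s r => by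
    refine closure_mono ?_
    rw [hf s r]
    rintro _ ⟨c, hc, rfl⟩
    exact ⟨(f r).left c, hη _ (hfη r) ⟨c, hc, rfl⟩, rfl⟩
  obtain ⟨s, hs⟩ : ∃ s, ∀ r, Z (s + r) = Z s := by
    let c : ℕ →o (TopologicalSpace.Closeds G.left)ᵒᵈ :=
      ⟨fun s => OrderDual.toDual ⟨Z s, isClosed_closure⟩, fun a b hab => by
        obtain ⟨r, rfl⟩ := Nat.exists_eq_add_of_le hab
        exact hanti a r⟩
    haveI : WellFoundedGT (TopologicalSpace.Closeds G.left)ᵒᵈ := inferInstance
    obtain ⟨n, hn⟩ := WellFoundedGT.monotone_chain_condition c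
    exact ⟨n, fun r => congrArg (fun t => ((OrderDual.ofDual t : Closeds G.left) : Set G.left))
      (hn (n + r) (Nat.le_add_right n r)).symm⟩
  refine ⟨s, fun g hg r => ?_⟩
  let t := s + r
  let E : Set G.left := (f t).left '' C
  haveI : QuasiCompact (f t).left := inferInstance
  haveI : LocallyOfFiniteType ((f t).left ≫ G.hom) := by rw [Over.w]; infer_instance
  haveI : LocallyOfFiniteType (f t).left := locallyOfFiniteType_of_comp _ G.hom
  haveI : LocallyOfFinitePresentation (f t).left := inferInstance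
  have hE : Topology.IsConstructible E :=
    (f t).left.isConstructible_image (Groth.SpectralTopology.isConstructible_of_isClosed hCcl)
  have hEZ : E ⊆ Z t := subset_closure
  have hZirr : IsIrreducible (Z t) := (hCirr.image _ (f t).left.continuous.continuousOn).closure
  obtain ⟨U, hUo, hUne, hUE⟩ := Groth.SpectralTopology.exists_open_of_dense hE hZirr
    (by rw [Set.inter_eq_left.2 hEZ])
  -- translation by the inverse, composed with inversion
  let τ : G ⟶ G := (𝟙 G)⁻¹ * (toUnit G ≫ g ^ p ^ s)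
  have hτ : ∀ x : 𝟙_ (Over (Spec (CommRingCat.of k))) ⟶ G, x ≫ τ = x⁻¹ * g ^ p ^ s := fun x => by
    rw [MonObj.comp_mul, GrpObj.comp_inv, Category.comp_id, ← Category.assoc,
      toUnit_unique (x ≫ toUnit G) (𝟙 _), Category.id_comp]
  have hττ : τ ≫ τ = 𝟙 G := by
    show τ ≫ ((𝟙 G)⁻¹ * (toUnit G ≫ g ^ p ^ s)) = 𝟙 G
    rw [MonObj.comp_mul, GrpObj.comp_inv, Category.comp_id, ← Category.assoc,
      toUnit_unique (τ ≫ toUnit G) (toUnit G), _root_.mul_inv_rev, _root_.inv_inv, mul_comm,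
      ← _root_.mul_assoc, mul_inv_cancel, _root_.one_mul]
  -- `τ` preserves `Z s`
  have hτZ : τ.left '' Z s ⊆ Z s := by
    refine (image_closure_subset_closure_image τ.left.continuous).trans (closure_mono ?_)
    rw [Set.image_image]
    rintro _ ⟨c, hc, rfl⟩
    let σ : G ⟶ G := (𝟙 G)⁻¹ * (toUnit G ≫ g)
    refine ⟨σ.left c, ?_, ?_⟩
    · have h2 := σ.left.continuous.image_connectedComponent_subset (η[G].left (IsLocalRing.closedPoint k))
      have h3 : pp ((η[G] : 𝟙_ (Over (Spec (CommRingCat.of k))) ⟶ G) ≫ σ) ∈ C := by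
        have h4 : (η[G] : 𝟙_ (Over (Spec (CommRingCat.of k))) ⟶ G) ≫ σ = g := by
          rw [MonObj.comp_mul, GrpObj.comp_inv, Category.comp_id, ← Category.assoc,
            toUnit_unique (η[G] ≫ toUnit G) (𝟙 _), Category.id_comp, ← one_eq, inv_one, _root_.one_mul]
        rw [h4]
        exact (mem_neutral_iff g).1 hg
      have h5 : σ.left c ∈ connectedComponent
          (pp ((η[G] : 𝟙_ (Over (Spec (CommRingCat.of k))) ⟶ G) ≫ σ)) := h2 ⟨c, hc, rfl⟩
      rwa [← connectedComponent_eq h3] at h5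
    · show (σ ≫ f s).left c = (f s ≫ τ).left c
      refine congrArg (fun φ : G ⟶ G => φ.left c) ?_
      show σ ≫ 𝟙 G ^ p ^ s = (𝟙 G ^ p ^ s) ≫ ((𝟙 G)⁻¹ * (toUnit G ≫ g ^ p ^ s))
      rw [MonObj.comp_pow, Category.comp_id, MonObj.comp_mul, GrpObj.comp_inv, Category.comp_id,
        ← Category.assoc, toUnit_unique ((𝟙 G ^ p ^ s) ≫ toUnit G) (toUnit G), MonObj.comp_pow,
        mul_pow, inv_pow]
  have hτt : τ.left '' Z t ⊆ Z t := by rw [show Z t = Z s from hs r]; exact hτZ
  have hinv : ∀ z, τ.left (τ.left z) = z := fun z => by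
    rw [← Scheme.Hom.comp_apply, ← Over.comp_left, hττ]
    rfl
  -- a closed point in both opens
  obtain ⟨u, hu⟩ := hUne
  have hW : (Z t ∩ (U ∩ τ.left ⁻¹' U)).Nonempty :=
    hZirr.2 U (τ.left ⁻¹' U) hUo (hUo.preimage τ.left.continuous) ⟨u, hu.2, hu.1⟩
      ⟨τ.left u, hτt ⟨u, hu.2, rfl⟩, by show τ.left (τ.left u) ∈ U; rw [hinv]; exact hu.1⟩
  obtain ⟨z, hz, hzc⟩ := nonempty_inter_closedPoints hW
    ((isClosed_closure.isLocallyClosed).inter (hUo.inter (hUo.preimage τ.left.continuous)).isLocallyClosed)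
  obtain ⟨x, rfl⟩ := exists_point z hzc
  -- closed points of `U ∩ Z` are powers
  have hpow : ∀ y : 𝟙_ (Over (Spec (CommRingCat.of k))) ⟶ G, pp y ∈ U ∩ Z t →
      ∃ h ∈ neutral G, h ^ p ^ t = y := by
    intro y hy
    obtain ⟨c, hc, hcy⟩ := hUE hy
    obtain ⟨c', ⟨hc'1, hc'2⟩, hc'cl⟩ := nonempty_inter_closedPoints
      (Z := C ∩ (f t).left ⁻¹' {pp y}) ⟨c, hc, hcy⟩
      (hCcl.inter ((isClosed_pp y).preimage (f t).left.continuous)).isLocallyClosed
    obtain ⟨h, rfl⟩ := exists_point c' hc'cl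
    refine ⟨h, (mem_neutral_iff h).2 hc'1, point_ext ?_⟩
    rw [comp_powHom]
    exact hc'2
  obtain ⟨h₁, hh₁, hh₁x⟩ := hpow x ⟨hz.2.1, hz.1⟩
  obtain ⟨h₂, hh₂, hh₂x⟩ := hpow (x ≫ τ) ⟨hz.2.2, hτt ⟨pp x, hz.1, rfl⟩⟩
  refine ⟨h₁ * h₂, mul_mem hh₁ hh₂, ?_⟩
  rw [mul_pow, hh₁x, hh₂x, hτ, ← _root_.mul_assoc, mul_inv_cancel, _root_.one_mul]

/-- Lifting the `p`-primary part of the component group. -/
theorem exists_ppower_torsion (p : ℕ) (x : 𝟙_ (Over (Spec (CommRingCat.of k))) ⟶ G) (r : ℕ)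
    (hx : x ^ p ^ r ∈ neutral G) : ∃ y, Rel x y ∧ ∃ s : ℕ, y ^ p ^ s = 1 := by
  obtain ⟨s, hs⟩ := exists_stable (G := G) p
  obtain ⟨h, hh, hhe⟩ := hs _ hx r
  refine ⟨x * h⁻¹, (rel_iff _ _).2 ?_, r + s, ?_⟩
  · rw [mul_comm x, mul_inv_cancel_right]
    exact inv_mem hh
  · rw [pow_add, mul_pow, inv_pow, pow_mul, ← pow_add, add_comm r s, hhe, mul_inv_cancel]

/-- The property that a point has a representative in its component of the same order. -/
def Split (x : 𝟙_ (Over (Spec (CommRingCat.of k))) ⟶ G) : Prop :=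
  ∃ y, Rel x y ∧ ∀ n : ℕ, y ^ n = 1 ↔ x ^ n ∈ neutral G

theorem split_of_primary (p : ℕ) (hp : p.Prime) [CharP k p]
    (h : ∀ x : 𝟙_ (Over (Spec (CommRingCat.of k))) ⟶ G, (∃ r, x ^ p ^ r ∈ neutral G) → Split x)
    (x : 𝟙_ (Over (Spec (CommRingCat.of k))) ⟶ G) : Split x := by
  classical
  let P := neutral G
  let m := orderOf (x : (𝟙_ (Over (Spec (CommRingCat.of k))) ⟶ G) ⧸ P)
  have hm : ∀ n : ℕ, x ^ n ∈ P ↔ m ∣ n := fun n => by
    rw [orderOf_dvd_iff_pow_eq_one, ← QuotientGroup.mk_pow, QuotientGroup.eq_one_iff]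
  have hm0 : m ≠ 0 := by
    obtain ⟨n, hn, hxn⟩ := exists_pow_mem x
    exact ne_zero_of_dvd_ne_zero hn.ne' ((hm n).1 hxn)
  let A : ℕ := p ^ m.factorization p
  let b : ℕ := m / A
  have hAb : A * b = m := Nat.ordProj_mul_ordCompl_eq_self m p
  have hpb : ¬ p ∣ b := Nat.not_dvd_ordCompl hp hm0
  have hbk : (b : k) ≠ 0 := fun h0 => hpb ((CharP.cast_eq_zero_iff k p b).1 h0)
  have hcop : Nat.gcd A b = 1 := ((hp.coprime_iff_not_dvd.2 hpb).pow_left _)
  have hbez : (A : ℤ) * Nat.gcdA A b + (b : ℤ) * Nat.gcdB A b = 1 := by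
    rw [← Nat.gcd_eq_gcd_ab, hcop, Nat.cast_one]
  let x₁ := x ^ ((b : ℤ) * Nat.gcdB A b)
  let x₂ := x ^ ((A : ℤ) * Nat.gcdA A b)
  have hx12 : x₁ * x₂ = x := by
    rw [← zpow_add, add_comm, hbez, zpow_one]
  have hxm : x ^ m ∈ P := (hm m).2 dvd_rfl
  have hx₁ : x₁ ^ A ∈ P := by
    have h1 := zpow_mem hxm (Nat.gcdB A b)
    convert h1 using 1
    show (x ^ ((b : ℤ) * Nat.gcdB A b)) ^ A = _
    rw [← zpow_natCast _ A, ← zpow_mul, ← zpow_natCast x m, ← zpow_mul, ← hAb]
    congr 1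
    push_cast
    ring
  have hx₂ : x₂ ^ b ∈ P := by
    have h1 := zpow_mem hxm (Nat.gcdA A b)
    convert h1 using 1
    show (x ^ ((A : ℤ) * Nat.gcdA A b)) ^ b = _
    rw [← zpow_natCast _ b, ← zpow_mul, ← zpow_natCast x m, ← zpow_mul, ← hAb]
    congr 1
    push_cast
    ring
  obtain ⟨y₁, hy₁, hy₁n⟩ := h x₁ ⟨m.factorization p, hx₁⟩
  obtain ⟨z, hz, hzb⟩ := exists_root b hbk hx₂
  let y₂ := x₂ * z⁻¹
  have hy₂ : y₂ ^ b = 1 := by rw [mul_pow, inv_pow, hzb, mul_inv_cancel]
  have hrel : Rel x (y₁ * y₂) := by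
    rw [rel_iff, ← hx12]
    have he : y₁ * y₂ * (x₁ * x₂)⁻¹ = y₁ * x₁⁻¹ * z⁻¹ := by
      show y₁ * (x₂ * z⁻¹) * _ = _
      rw [_root_.mul_inv]
      calc y₁ * (x₂ * z⁻¹) * (x₁⁻¹ * x₂⁻¹) = y₁ * x₁⁻¹ * z⁻¹ * (x₂ * x₂⁻¹) := by ac_rfl
        _ = _ := by rw [mul_inv_cancel, _root_.mul_one]
    rw [he]
    exact mul_mem ((rel_iff _ _).1 hy₁) (inv_mem hz)
  refine ⟨y₁ * y₂, hrel, fun n => ⟨fun hn => ?_, fun hn => ?_⟩⟩
  · have h2 : Rel (x ^ n) ((y₁ * y₂) ^ n) := by
      have := hrel.comp (𝟙 G ^ n)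
      rwa [MonObj.comp_pow, MonObj.comp_pow, Category.comp_id, Category.comp_id] at this
    rw [hn] at h2
    exact h2.symm
  · obtain ⟨c, rfl⟩ := (hm n).1 hn
    rw [pow_mul, mul_pow, ← hAb, pow_mul, (hy₁n A).2 hx₁, one_pow, _root_.one_mul, mul_comm A b,
      pow_mul, hy₂, one_pow, one_pow]

end Groth.NeronArea.FieldComponents
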