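import Groth.Agent.Limits.GlueLocal
import Groth.Agent.GrpschAbsch.SchDense
import Groth.Agent.PropsBasic2.StalkFlat
import Mathlib.AlgebraicGeometry.Morphisms.SchemeTheoreticallyDominant
import Mathlib.AlgebraicGeometry.Sites.Fpqc

/-!
# Extending a morphism across an open immersion from the local schemes
-/

set_option autoImplicit false
set_option backward.isDefEq.respectTransparency false
set_option linter.style.haveILetI false

universe u

open CategoryTheory CategoryTheory.Limits AlgebraicGeometry TopologicalSpace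

namespace Groth.NeronArea

/-- Local extensions of a morphism on a schematically dense subset glue. -/
theorem exists_glue_of_local {X XU N S : Scheme.{u}} (p : X ⟶ S) (q : N ⟶ S) [IsSeparated q]
    (c : XU ⟶ X) [QuasiCompact c] [IsSchemeTheoreticallyDominant c] (a : XU ⟶ N)
    (hloc : ∀ x : X, ∃ (W : X.Opens) (v : (W : Scheme.{u}) ⟶ N), x ∈ W ∧ v ≫ q = W.ι ≫ p ∧
      ∀ {Z : Scheme.{u}} (t : Z ⟶ (W : Scheme.{u})) (w : Z ⟶ XU),
        t ≫ W.ι = w ≫ c → t ≫ v = w ≫ a) :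
    ∃ g : X ⟶ N, g ≫ q = p ∧ c ≫ g = a := by
  choose W v hxW hvq hv using hloc
  have hW : IsOpenCover W := eq_top_iff.2 fun x _ => Opens.mem_iSup.2 ⟨x, hxW x⟩
  let 𝒰 := X.openCoverOfIsOpenCover W hW
  have hcomp : ∀ i j, pullback.fst (𝒰.f i) (𝒰.f j) ≫ v i = pullback.snd (𝒰.f i) (𝒰.f j) ≫ v j := by
    intro i j
    let m : pullback (W i).ι (W j).ι ⟶ X := pullback.fst (W i).ι (W j).ι ≫ (W i).ι
    have hm : m = pullback.snd (W i).ι (W j).ι ≫ (W j).ι := pullback.condition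
    refine Groth.GrpschAbsch.ext_of_isSchemeTheoreticallyDominant q ?_ (pullback.fst m c) ?_
    · show (pullback.fst (W i).ι (W j).ι ≫ v i) ≫ q = (pullback.snd (W i).ι (W j).ι ≫ v j) ≫ q
      rw [Category.assoc, hvq, Category.assoc, hvq, pullback.condition_assoc]
    · show pullback.fst m c ≫ pullback.fst (W i).ι (W j).ι ≫ v i =
        pullback.fst m c ≫ pullback.snd (W i).ι (W j).ι ≫ v j
      rw [← Category.assoc, ← Category.assoc, hv i _ (pullback.snd m c),
        hv j _ (pullback.snd m c)]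
      · rw [Category.assoc, ← hm, pullback.condition]
      · rw [Category.assoc]; exact pullback.condition
  let g : X ⟶ N := 𝒰.glueMorphisms v hcomp
  have hg : ∀ i, (W i).ι ≫ g = v i := fun i => 𝒰.ι_glueMorphisms v hcomp i
  refine ⟨g, 𝒰.hom_ext _ _ fun i => ?_, ?_⟩
  · show (W i).ι ≫ g ≫ q = (W i).ι ≫ p
    rw [reassoc_of% (hg i), hvq]
  · refine Scheme.Cover.hom_ext (XU.openCoverOfIsOpenCover (fun i => c ⁻¹ᵁ W i) (hW.comap c.base.hom)) _ _
      fun i => ?_
    show (c ⁻¹ᵁ W i).ι ≫ c ≫ g = (c ⁻¹ᵁ W i).ι ≫ a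
    rw [← Scheme.Hom.resLE_comp_ι_assoc c (e := le_rfl), hg]
    exact hv i _ _ (Scheme.Hom.resLE_comp_ι _ _)

/-- A morphism on a schematically dense open which extends to every local scheme extends. -/
theorem exists_glue_of_stalk {X XU N S : Scheme.{u}} (p : X ⟶ S) (q : N ⟶ S) [IsSeparated q]
    [LocallyOfFinitePresentation q] (c : XU ⟶ X) [IsOpenImmersion c] [QuasiCompact c]
    [IsSchemeTheoreticallyDominant c] (a : XU ⟶ N) (ha : a ≫ q = c ≫ p)
    (h : ∀ x : X, ∃ b : Spec (X.presheaf.stalk x) ⟶ N, b ≫ q = X.fromSpecStalk x ≫ p ∧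
      pullback.fst (X.fromSpecStalk x) c ≫ b = pullback.snd (X.fromSpecStalk x) c ≫ a) :
    ∃ g : X ⟶ N, g ≫ q = p ∧ c ≫ g = a := by
  let U := c.opensRange
  let e := c.isoOpensRange
  have he : e.inv ≫ c = U.ι := c.isoOpensRange_inv_comp
  have he' : e.hom ≫ U.ι = c := c.isoOpensRange_hom_ι
  haveI : QuasiCompact U.ι := by rw [← he]; infer_instance
  let a' : (U : Scheme.{u}) ⟶ N := e.inv ≫ a
  have ha' : a' ≫ q = U.ι ≫ p := by simp only [a', Category.assoc, ha, ← he]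
  have hloc : ∀ x : X, ∃ (W : X.Opens) (v : (W : Scheme.{u}) ⟶ N), x ∈ W ∧ v ≫ q = W.ι ≫ p ∧
      ∀ {Z : Scheme.{u}} (t : Z ⟶ (W : Scheme.{u})) (w : Z ⟶ XU),
        t ≫ W.ι = w ≫ c → t ≫ v = w ≫ a := by
    intro x
    obtain ⟨b, hb, hba⟩ := h x
    obtain ⟨_, ⟨A, hA, rfl⟩, hxA, -⟩ :=
      X.isBasis_affineOpens.exists_subset_of_mem_open (Set.mem_univ x) isOpen_univ
    obtain ⟨V, bV, hbV, hbVq⟩ := Groth.Limits.exists_extend_nhd hA hxA p q b hb
    obtain ⟨V', hV', hag⟩ := Groth.Limits.exists_agree_nhd hA p q U V a' bV ha' hbVq (by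
      rw [hbV]
      let L : ↑(X.fromSpecStalk x ⁻¹ᵁ U) ⟶ pullback (X.fromSpecStalk x) c :=
        pullback.lift (X.fromSpecStalk x ⁻¹ᵁ U).ι ((X.fromSpecStalk x ∣_ U) ≫ e.inv)
          (by rw [Category.assoc, he, morphismRestrict_ι])
      have := L ≫= hba
      rwa [pullback.lift_fst_assoc, pullback.lift_snd_assoc, Category.assoc] at this)
    refine ⟨V'.1, X.homOfLE hV' ≫ bV, V'.2.1, by rw [Category.assoc, hbVq, Scheme.homOfLE_ι_assoc],
      fun {Z} t w htw => ?_⟩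
    let j : Z ⟶ (↑(U ⊓ V'.1) : Scheme.{u}) := IsOpenImmersion.lift (U ⊓ V'.1).ι (t ≫ V'.1.ι) (by
      rintro _ ⟨z, rfl⟩
      rw [Scheme.Opens.range_ι]
      refine ⟨?_, ?_⟩
      · rw [htw]; exact ⟨w z, rfl⟩
      · exact (t z).2)
    have hj : j ≫ (U ⊓ V'.1).ι = t ≫ V'.1.ι := IsOpenImmersion.lift_fac _ _ _
    have h1 : w ≫ e.hom = j ≫ X.homOfLE inf_le_left := by
      rw [← cancel_mono U.ι, Category.assoc, he', Category.assoc, Scheme.homOfLE_ι, hj, htw]
    have h2 : t ≫ X.homOfLE hV' = j ≫ X.homOfLE (inf_le_right.trans hV') := by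
      rw [← cancel_mono V.1.ι, Category.assoc, Scheme.homOfLE_ι, Category.assoc, Scheme.homOfLE_ι, hj]
    calc t ≫ X.homOfLE hV' ≫ bV = j ≫ X.homOfLE (inf_le_right.trans hV') ≫ bV := by
          rw [← Category.assoc, h2, Category.assoc]
      _ = j ≫ X.homOfLE inf_le_left ≫ a' := by rw [hag]
      _ = w ≫ a := by rw [← Category.assoc, ← h1, Category.assoc]; simp [a']
  exact exists_glue_of_local p q c a hloc

/-- The map of local schemes of a flat morphism is faithfully flat. -/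
theorem surjective_specMap_stalkMap {X Y : Scheme.{u}} (f : X ⟶ Y) [Flat f] (x : X) :
    Surjective (Spec.map (f.stalkMap x)) := by
  algebraize [(f.stalkMap x).hom]
  have : Module.FaithfullyFlat (Y.presheaf.stalk (f x)) (X.presheaf.stalk x) :=
    @Module.FaithfullyFlat.of_flat_of_isLocalHom _ _ _ _ _ _ _
      (Flat.stalkMap f x) (f.toLRSHom.prop x)
  exact ⟨PrimeSpectrum.comap_surjective_of_faithfullyFlat⟩

theorem flat_specMap_stalkMap {X Y : Scheme.{u}} (f : X ⟶ Y) [Flat f] (x : X) :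
    Flat (Spec.map (f.stalkMap x)) :=
  (Flat.SpecMap_iff (f := f.stalkMap x)).2 (Flat.stalkMap f x)

/-- Extension of a morphism descends along a flat surjection. -/
theorem exists_extension_of_flat_surjective {S U Y Z YU ZU N : Scheme.{u}} (j₀ : U ⟶ S)
    [IsOpenImmersion j₀] [QuasiCompact j₀] [IsSchemeTheoreticallyDominant j₀]
    (pY : Y ⟶ S) [Flat pY] (q : N ⟶ S) [IsSeparated q] [LocallyOfFinitePresentation q]
    {iY : YU ⟶ Y} {sY : YU ⟶ U} (hY : IsPullback iY sY pY j₀)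
    (π : Z ⟶ Y) [Flat π] [Surjective π] {iZ : ZU ⟶ Z} {sZ : ZU ⟶ U} (hZ : IsPullback iZ sZ (π ≫ pY) j₀)
    (a : YU ⟶ N) (ha : a ≫ q = iY ≫ pY) (f : Z ⟶ N) (hf : f ≫ q = π ≫ pY)
    (hfa : ∀ {T : Scheme.{u}} (t : T ⟶ ZU) (w : T ⟶ YU), t ≫ iZ ≫ π = w ≫ iY → t ≫ iZ ≫ f = w ≫ a) :
    ∃ g : Y ⟶ N, g ≫ q = pY ∧ iY ≫ g = a := by
  haveI : IsOpenImmersion iY := MorphismProperty.of_isPullback hY.flip ‹IsOpenImmersion j₀›
  haveI : QuasiCompact iY := MorphismProperty.of_isPullback hY.flip ‹QuasiCompact j₀›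
  haveI : IsSchemeTheoreticallyDominant iY := IsSchemeTheoreticallyDominant.of_isPullback hY.flip
  have hZU : ∀ {T : Scheme.{u}} (t : T ⟶ Z) (w : T ⟶ YU), t ≫ π = w ≫ iY →
      t ≫ f = w ≫ a := by
    intro T t w htw
    let L : T ⟶ ZU := hZ.lift t (w ≫ sY) (by rw [reassoc_of% htw, hY.w, Category.assoc])
    have hL : L ≫ iZ = t := hZ.lift_fst _ _ _
    have := hfa L w (by rw [reassoc_of% hL, htw])
    rwa [reassoc_of% hL] at this
  refine exists_glue_of_stalk pY q iY a ha fun y => ?_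
  obtain ⟨z, rfl⟩ := π.surjective y
  let φ : Spec (Z.presheaf.stalk z) ⟶ Spec (Y.presheaf.stalk (π z)) := Spec.map (π.stalkMap z)
  haveI : Flat φ := flat_specMap_stalkMap π z
  haveI : Surjective φ := surjective_specMap_stalkMap π z
  haveI := Groth.PropsBasic2.flat_fromSpecStalk (π z)
  have hφ : φ ≫ Y.fromSpecStalk (π z) = Z.fromSpecStalk z ≫ π :=
    Scheme.SpecMap_stalkMap_fromSpecStalk π
  let cc := Z.fromSpecStalk z ≫ f
  have hcc : cc ≫ q = φ ≫ Y.fromSpecStalk (π z) ≫ pY := by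
    rw [Category.assoc, hf, ← Category.assoc φ, hφ, Category.assoc]
  have hkey : pullback.fst φ φ ≫ cc = pullback.snd φ φ ≫ cc := by
    let m : pullback φ φ ⟶ Y := pullback.fst φ φ ≫ φ ≫ Y.fromSpecStalk (π z)
    refine Groth.GrpschAbsch.ext_of_isSchemeTheoreticallyDominant q ?_ (pullback.fst m iY) ?_
    · rw [Category.assoc, hcc, Category.assoc, hcc, pullback.condition_assoc]
    · simp only [cc, ← Category.assoc]
      rw [hZU _ (pullback.snd m iY), hZU _ (pullback.snd m iY)]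
      · rw [← pullback.condition]
        simp only [Category.assoc, ← hφ, m, pullback.condition_assoc]
      · rw [← pullback.condition]
        simp only [Category.assoc, ← hφ, m]
  have hcond : ∀ {T : Scheme.{u}} (g₁ g₂ : T ⟶ Spec (Z.presheaf.stalk z)), g₁ ≫ φ = g₂ ≫ φ →
      g₁ ≫ cc = g₂ ≫ cc := fun g₁ g₂ hg => by
    have := pullback.lift g₁ g₂ hg ≫= hkey
    simpa using this
  let b := EffectiveEpi.desc φ cc hcond
  have hb : φ ≫ b = cc := EffectiveEpi.fac φ cc hcond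
  refine ⟨b, by rw [← cancel_epi φ, reassoc_of% hb, hcc], ?_⟩
  let φ' := pullback.snd φ (pullback.fst (Y.fromSpecStalk (π z)) iY)
  rw [← cancel_epi φ', ← Category.assoc, ← pullback.condition, Category.assoc, hb]
  simp only [cc, ← Category.assoc]
  refine hZU _ _ ?_
  simp only [Category.assoc, ← hφ, φ', pullback.condition_assoc, pullback.condition]

end Groth.NeronArea
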