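import Groth.Agent.NeronArea.RegularExtension
import Groth.Agent.NeronArea.StalkGlue
import Groth.Agent.NeronArea.WeilExtension

/-!
# Rational maps from regular schemes to abelian schemes are morphisms
-/

set_option autoImplicit false
set_option backward.isDefEq.respectTransparency false
set_option linter.style.haveILetI false

universe u

open CategoryTheory CategoryTheory.Limits AlgebraicGeometry IsLocalRing

namespace Groth.NeronArea

/-- A rational map from a regular scheme to an abelian scheme extends uniquely. -/
theorem existsUnique_extension_of_regular {S : Scheme.{u}} (A : Over S) [GrpObj A] [IsProper A.hom]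
    [Smooth A.hom] [GeometricallyConnected A.hom]
    (T : Scheme.{u}) (t : T ⟶ S) [IsLocallyNoetherian T]
    (hT : ∀ x : T, IsRegularLocalRing (T.presheaf.stalk x))
    (U : T.Opens) (hU : Dense (U : Set T))
    (g : (U : Scheme.{u}) ⟶ A.left) (hg : g ≫ A.hom = U.ι ≫ t) :
    ∃! g' : T ⟶ A.left, g' ≫ A.hom = t ∧ U.ι ≫ g' = g := by
  haveI : IsReduced T := Weil.isReduced_of_regular hT
  haveI : IsDominant U.ι := ⟨by rw [DenseRange, Scheme.Opens.range_ι]; exact hU⟩
  haveI : IsSchemeTheoreticallyDominant U.ι := .of_isDominant _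
  obtain ⟨g', h1, h2⟩ := exists_glue_of_stalk t A.hom U.ι g hg fun x => by
    haveI := hT x
    haveI : IsDomain (T.presheaf.stalk x) := Groth.Ega4Algebra1.isDomain_of_isRegularLocalRing _
    obtain ⟨W, hxW, hW⟩ := Weil.exists_integral_nhd x
    obtain ⟨j, hj⟩ := Groth.Rat20Ext.exists_genLift hxW hU
    let K := FractionRing (T.presheaf.stalk x)
    let r : Spec (CommRingCat.of K) ⟶ Spec (T.presheaf.stalk x) :=
      Spec.map (CommRingCat.ofHom (algebraMap (T.presheaf.stalk x) K))
    have hjg : (j ≫ g) ≫ A.hom = r ≫ T.fromSpecStalk x ≫ t := by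
      rw [Category.assoc, hg, ← Category.assoc, hj]; exact Category.assoc _ _ _
    obtain ⟨b, hb, hbK⟩ := extends_of_isRegularLocalRing A _ (T.presheaf.stalk x) rfl
      (T.fromSpecStalk x ≫ t) K (j ≫ g) hjg
    refine ⟨b, hb, ?_⟩
    let J : Spec (CommRingCat.of K) ⟶ pullback (T.fromSpecStalk x) U.ι := pullback.lift r j hj.symm
    haveI : IsReduced (pullback (T.fromSpecStalk x) U.ι) :=
      isReduced_of_isOpenImmersion (pullback.fst (T.fromSpecStalk x) U.ι)
    haveI : IsDominant J := by
      refine ⟨fun z => ?_⟩
      let s : ↥(Spec (CommRingCat.of K)) := closedPoint K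
      have h1 : J s ⤳ z := by
        rw [← (pullback.fst (T.fromSpecStalk x) U.ι).isOpenEmbedding.isInducing.specializes_iff,
          ← Scheme.Hom.comp_apply, pullback.lift_fst]
        refine (PrimeSpectrum.le_iff_specializes _ _).1 fun a ha => ?_
        have h0 : algebraMap (T.presheaf.stalk x) K a = 0 := by
          by_contra h
          exact ha (isUnit_iff_ne_zero.2 h)
        rw [(map_eq_zero_iff _ (IsFractionRing.injective (T.presheaf.stalk x) K)).1 h0]
        exact zero_mem _
      exact closure_mono (Set.singleton_subset_iff.2 (Set.mem_range_self s)) h1.mem_closure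
    refine ext_of_isDominant_of_isSeparated A.hom ?_ J ?_
    · rw [Category.assoc, hb, Category.assoc, hg, pullback.condition_assoc]
    · rw [pullback.lift_fst_assoc, pullback.lift_snd_assoc, hbK]
  exact ⟨g', ⟨h1, h2⟩, fun b hb => ext_of_isDominant_of_isSeparated A.hom (hb.1.trans h1.symm) U.ι
    (hb.2.trans h2.symm)⟩

end Groth.NeronArea
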