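import Groth.Agent.NeronArea.GenericNormalExtend
import Groth.Agent.S6279
import Groth.Agent.EGA43Valuative.DominatingDVR
import Mathlib.RingTheory.Etale.Field
import Mathlib.RingTheory.DedekindDomain.IntegralClosure

/-!
# Finite normal models of finite étale algebras, mapping property over the generic point
-/

set_option autoImplicit false
set_option backward.isDefEq.respectTransparency false

universe u

open CategoryTheory CategoryTheory.Limits AlgebraicGeometry TopologicalSpace

namespace Groth.NeronArea

/-- An integrally closed domain is a normal ring. -/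
theorem isNormalRing_of_isIntegrallyClosed (A : Type u) [CommRing A] [IsDomain A] [IsIntegrallyClosed A] :
    EGA4.IsNormalRing A := fun p _ =>
  ⟨IsLocalization.isDomain_localization p.primeCompl_le_nonZeroDivisors,
    isIntegrallyClosed_of_isLocalization _ p.primeCompl p.primeCompl_le_nonZeroDivisors⟩

/-- The spectrum of a normal ring is a normal scheme. -/
theorem isNormalScheme_Spec {A : Type u} [CommRing A] (h : EGA4.IsNormalRing A) :
    Pi1.IsNormalScheme (Spec (CommRingCat.of A)) := fun x => by
  obtain ⟨h1, h2⟩ := h x.asIdeal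
  let e := (IsLocalization.algEquiv x.asIdeal.primeCompl
    ((Spec.structureSheaf A).presheaf.stalk x) (Localization.AtPrime x.asIdeal)).toRingEquiv
  exact ⟨e.toMulEquiv.isDomain_iff.mpr h1, @IsIntegrallyClosed.of_equiv _ _ _ _ e.symm h2⟩

/-- A finite étale algebra over the fraction field of a Dedekind domain has a finite normal model. -/
theorem exists_finite_normal_model (R : Type u) [CommRing R] [IsDedekindDomain R] (K : Type u) [Field K]
    [Algebra R K] [IsFractionRing R K] (L : Type u) [CommRing L] [Algebra K L] [Algebra.Etale K L]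
    [Algebra R L] [IsScalarTower R K L] :
    Module.Finite R (integralClosure R L) ∧ EGA4.IsNormalRing (integralClosure R L) ∧
      IsLocalization (Algebra.algebraMapSubmonoid (integralClosure R L) (nonZeroDivisors R)) L := by
  obtain ⟨I, _, Ai, _, _, e, hsep⟩ := (Algebra.FormallyEtale.iff_exists_algEquiv_prod (K := K) (A := L)).1
    inferInstance
  have : Module.Finite K L := Algebra.FormallyUnramified.finite_of_free K L
  let : ∀ i, Algebra R (Ai i) := fun i => ((algebraMap K (Ai i)).comp (algebraMap R K)).toAlgebra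
  have : ∀ i, IsScalarTower R K (Ai i) := fun i => IsScalarTower.of_algebraMap_eq fun _ => rfl
  have : ∀ i, FiniteDimensional K (Ai i) := fun i =>
    Module.Finite.of_surjective ((Pi.evalAlgHom K Ai i).comp e.toAlgHom).toLinearMap
      ((Function.surjective_eval i).comp e.surjective)
  have : ∀ i, IsDedekindDomain (integralClosure R (Ai i)) := fun i =>
    Groth.EGA43Val.isDedekindDomain_integralClosure R K (Ai i)
  have : ∀ i, Module.Finite R (integralClosure R (Ai i)) := fun i =>
    have := hsep i
    IsIntegralClosure.finite R K (Ai i) (integralClosure R (Ai i))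
  let eR : L ≃ₐ[R] (∀ i, Ai i) := AlgEquiv.ofRingEquiv (f := e.toRingEquiv) fun r => by
    rw [IsScalarTower.algebraMap_apply R K L]
    exact (e.commutes _).trans rfl
  have hint : ∀ x : L, IsIntegral R x ↔ ∀ i, IsIntegral R (eR x i) := fun x => by
    refine ⟨fun h i => h.map ((Pi.evalAlgHom R Ai i).comp eR.toAlgHom), fun h => ?_⟩
    rw [← isIntegral_algEquiv eR]
    cases nonempty_fintype I
    choose P hP hP0 using h
    refine ⟨∏ i, P i, Polynomial.monic_prod_of_monic _ _ fun i _ => hP i, funext fun i => ?_⟩
    rw [← Pi.evalRingHom_apply (fun i => Ai i) i (Polynomial.eval₂ _ _ _), Polynomial.hom_eval₂,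
      Polynomial.eval₂_finsetProd]
    exact Finset.prod_eq_zero (Finset.mem_univ i) (hP0 i)
  let Φ : integralClosure R L ≃ₐ[R] (∀ i, integralClosure R (Ai i)) := by
    refine AlgEquiv.ofBijective
      { toFun := fun x i => ⟨eR x i, (hint x).1 x.2 i⟩
        map_one' := funext fun i => Subtype.ext (by simp)
        map_mul' := fun x y => funext fun i => Subtype.ext (by simp)
        map_zero' := funext fun i => Subtype.ext (by simp)
        map_add' := fun x y => funext fun i => Subtype.ext (by simp)
        commutes' := fun r => funext fun i => Subtype.ext (by simp) } ⟨?_, ?_⟩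
    · intro x y h
      exact Subtype.ext (eR.injective (funext fun i => congrArg Subtype.val (congrFun h i)))
    · intro y
      refine ⟨⟨eR.symm (fun i => (y i).1), (hint _).2 fun i => ?_⟩, funext fun i => Subtype.ext ?_⟩
      · rw [AlgEquiv.apply_symm_apply]; exact (y i).2
      · exact congrFun (eR.apply_symm_apply _) i
  refine ⟨Module.Finite.equiv Φ.symm.toLinearEquiv, fun p hp => ?_, ?_⟩
  · have hn := Groth.Agent.S6279.result (fun i => integralClosure R (Ai i))
      fun i => isNormalRing_of_isIntegrallyClosed _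
    obtain ⟨h1, h2⟩ := hn (p.comap Φ.symm.toRingEquiv)
    have he : (p.comap Φ.symm.toRingEquiv).primeCompl.map Φ.symm.toRingEquiv.toMonoidHom = p.primeCompl := by
      ext x
      simp only [Submonoid.mem_map]
      refine ⟨?_, fun hx => ⟨Φ x, by simpa [Ideal.primeCompl] using hx, Φ.symm_apply_apply x⟩⟩
      rintro ⟨y, hy, rfl⟩
      exact hy
    let e' := IsLocalization.ringEquivOfRingEquiv (M := (p.comap Φ.symm.toRingEquiv).primeCompl)
      (Localization.AtPrime (p.comap Φ.symm.toRingEquiv)) (Localization.AtPrime p) Φ.symm.toRingEquiv he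
    exact ⟨e'.toMulEquiv.isDomain_iff.mp h1, @IsIntegrallyClosed.of_equiv _ _ _ _ e' h2⟩
  · refine (isLocalization_iff _ _).2 ⟨?_, fun z => ?_, fun {x y} h => ⟨1, by
      rw [Subtype.ext (h : (x : L) = y)]⟩⟩
    · rintro ⟨_, r, hr, rfl⟩
      show IsUnit (algebraMap (integralClosure R L) L (algebraMap R _ r))
      rw [← IsScalarTower.algebraMap_apply, IsScalarTower.algebraMap_apply R K L]
      exact (IsLocalization.map_units K ⟨r, hr⟩).map _
    · obtain ⟨m, hm⟩ := IsIntegral.exists_multiple_integral_of_isLocalization (nonZeroDivisors R) z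
        (Algebra.IsIntegral.isIntegral (R := K) z)
      refine ⟨(⟨m • z, hm⟩, ⟨algebraMap R (integralClosure R L) m, _, m.2, rfl⟩), ?_⟩
      show z * algebraMap R L m = m • z
      rw [Submonoid.smul_def, Algebra.smul_def, mul_comm]

/-- The smooth locus of a finite normal scheme has the mapping property over the generic point. -/
theorem bijective_map_smoothLocus_genPt (R : Type u) [CommRing R] [IsDomain R]
    (hS : Pi1.IsNormalScheme (Spec (CommRingCat.of R))) {T : Scheme.{u}} (π : T ⟶ Spec (CommRingCat.of R))
    [IsFinite π] [LocallyOfFinitePresentation π] (hT : Pi1.IsNormalScheme T)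
    (Z : Over (Spec (CommRingCat.of R))) [Smooth Z.hom] :
    Function.Bijective (fun g : Z ⟶ Over.mk (π.smoothLocus.ι ≫ π) =>
      (Over.pullback (Neron.genPt R)).map g) := by
  have hZn := isNormalScheme_of_smooth Z.hom hS
  set N : Over (Spec (CommRingCat.of R)) := Over.mk (π.smoothLocus.ι ≫ π)
  have : IsSeparated N.hom := inferInstanceAs (IsSeparated (π.smoothLocus.ι ≫ π))
  refine ⟨map_injective_of_flat (Neron.genPt R) Z _, fun φ => ?_⟩
  let r := (rstEquiv (Neron.genPt R) Z N φ).left ≫ π.smoothLocus.ι
  have hr : r ≫ π = pullback.fst Z.hom (Neron.genPt R) ≫ Z.hom := by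
    show (_ ≫ π.smoothLocus.ι) ≫ π = _
    rw [Category.assoc]
    exact Over.w (rstEquiv (Neron.genPt R) Z N φ)
  obtain ⟨f, hf₁, hf₂⟩ := exists_extension_generic R Z.hom hZn π r hr
  let f' : Z.left ⟶ π.smoothLocus := IsOpenImmersion.lift π.smoothLocus.ι f (by
    rw [Scheme.Opens.range_ι]; rintro _ ⟨z, rfl⟩; exact mem_smoothLocus_of_hom π hT Z.hom f hf₂ z)
  have hf' : f' ≫ π.smoothLocus.ι = f := IsOpenImmersion.lift_fac _ _ _
  refine ⟨Over.homMk f' (by show f' ≫ π.smoothLocus.ι ≫ π = Z.hom; rw [← Category.assoc, hf', hf₂]), ?_⟩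
  apply (rstEquiv (Neron.genPt R) Z _).injective
  rw [rstEquiv_map]
  ext : 1
  rw [← cancel_mono π.smoothLocus.ι]
  show (pullback.fst Z.hom (Neron.genPt R) ≫ f') ≫ π.smoothLocus.ι = r
  rw [Category.assoc, hf', hf₁]

end Groth.NeronArea
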