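import Groth.Agent.NeronArea.WeilExtension
import Mathlib.RingTheory.DedekindDomain.Dvr
import Mathlib.AlgebraicGeometry.Morphisms.Flat

/-!
# Weil extension over one-dimensional regular bases
-/

set_option linter.style.haveILetI false

universe u

open CategoryTheory Limits AlgebraicGeometry TopologicalSpace IsLocalRing MonoidalCategory
  CartesianMonoidalCategory
open scoped MonObj

namespace Groth.NeronArea.Weil

variable {R : Type u} [CommRing R] [IsDedekindDomain R]

/-- The local rings of a Dedekind scheme are regular of dimension at most one. -/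
theorem dedekind_stalk (t : Spec (CommRingCat.of R)) :
    IsRegularLocalRing ((Spec (CommRingCat.of R)).presheaf.stalk t) ∧
      ringKrullDim ((Spec (CommRingCat.of R)).presheaf.stalk t) ≤ 1 := by
  let e : Localization.AtPrime (t : PrimeSpectrum R).asIdeal ≃+* (Spec (CommRingCat.of R)).presheaf.stalk t :=
    (Spec.stalkIso (CommRingCat.of R) t).commRingCatIsoToRingEquiv.symm
  have hd : ringKrullDim (Localization.AtPrime (t : PrimeSpectrum R).asIdeal) ≤ 1 := by
    rw [IsLocalization.AtPrime.ringKrullDim_eq_height (t : PrimeSpectrum R).asIdeal]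
    exact (Ideal.height_le_ringKrullDim_of_ne_top (t : PrimeSpectrum R).isPrime.ne_top).trans
      (by exact_mod_cast Ring.krullDimLE_iff.1 (inferInstance : Ring.KrullDimLE 1 R))
  refine ⟨?_, (ringKrullDim_eq_of_ringEquiv e).symm.le.trans hd⟩
  suffices h : IsRegularLocalRing (Localization.AtPrime (t : PrimeSpectrum R).asIdeal) from
    IsRegularLocalRing.of_ringEquiv e
  by_cases hp : (t : PrimeSpectrum R).asIdeal = ⊥
  · have h : IsFractionRing R (Localization.AtPrime (t : PrimeSpectrum R).asIdeal) := by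
      have hM : (t : PrimeSpectrum R).asIdeal.primeCompl = nonZeroDivisors R := by
        ext x; simp [hp, mem_nonZeroDivisors_iff_ne_zero]
      show IsLocalization (nonZeroDivisors R) _
      exact hM ▸ (inferInstance : IsLocalization (t : PrimeSpectrum R).asIdeal.primeCompl _)
    exact IsRegularLocalRing.of_ringEquiv (IsLocalization.algEquiv (nonZeroDivisors R) (FractionRing R)
      (Localization.AtPrime (t : PrimeSpectrum R).asIdeal)).toRingEquiv
  · have := IsLocalization.AtPrime.isDiscreteValuationRing_of_dedekind_domain R hp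
      (Localization.AtPrime (t : PrimeSpectrum R).asIdeal)
    infer_instance

theorem isRegularLocalRing_of_smooth_dedekind {X : Scheme.{u}} (pX : X ⟶ Spec (CommRingCat.of R)) [Smooth pX]
    (x : X) : IsRegularLocalRing (X.presheaf.stalk x) :=
  isRegularLocalRing_of_smooth pX x (dedekind_stalk (pX x)).1

theorem isLocallyNoetherian_of_smooth {X S : Scheme.{u}} (pX : X ⟶ S) [Smooth pX] [IsLocallyNoetherian S] :
    IsLocallyNoetherian X :=
  LocallyOfFiniteType.isLocallyNoetherian pX

/-- An open containing all points of codimension at most one is dense in every fibre over a base with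
principal maximal ideals. -/
theorem mem_closure_fibre {S X : Scheme.{u}} [IsLocallyNoetherian X] (pX : X ⟶ S)
    (U : X.Opens) (x : X) (hmax : (maximalIdeal (S.presheaf.stalk (pX x))).IsPrincipal)
    (hgen : ∀ y : X, ringKrullDim (X.presheaf.stalk y) ≤ 1 → y ∈ U) :
    x ∈ closure ((U : Set X) ∩ {y | pX y = pX x}) := by
  let A := S.presheaf.stalk (pX x)
  let B := X.presheaf.stalk x
  let d : A ⟶ B := pX.stalkMap x
  haveI := hmax
  have hne : (maximalIdeal A).map d.hom ≠ ⊤ := fun h =>
    (maximalIdeal.isMaximal B).ne_top (top_le_iff.1 (h ▸ map_maximalIdeal_le d.hom))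
  obtain ⟨q, hq⟩ := Ideal.nonempty_minimalPrimes hne
  haveI : q.IsPrime := hq.1.1
  haveI : ((maximalIdeal A).map d.hom).IsPrincipal := by
    obtain ⟨a, ha⟩ := hmax.principal
    refine ⟨d.hom a, ?_⟩
    rw [ha, Ideal.submodule_span_eq, Ideal.map_span, Set.image_singleton, Ideal.submodule_span_eq]
  have hht : q.height ≤ 1 := Ideal.height_le_one_of_isPrincipal_of_mem_minimalPrimes _ q hq
  let qq : PrimeSpectrum B := ⟨q, inferInstance⟩
  let y := X.fromSpecStalk x qq
  have hyx : y ⤳ x := by
    have : y ∈ Set.range (X.fromSpecStalk x) := ⟨qq, rfl⟩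
    rwa [Scheme.range_fromSpecStalk] at this
  have hyU : y ∈ U := hgen y (by rw [ringKrullDim_stalk_fromSpecStalk]; exact_mod_cast hht)
  have hys : pX y = pX x := by
    have h1 : (Spec.map d qq : PrimeSpectrum A) = closedPoint A := by
      refine PrimeSpectrum.ext (le_antisymm (le_maximalIdeal (Spec.map d qq).isPrime.ne_top) ?_)
      exact Ideal.map_le_iff_le_comap.1 hq.1.2
    calc pX y = (X.fromSpecStalk x ≫ pX) qq := rfl
      _ = (Spec.map d ≫ S.fromSpecStalk (pX x)) qq := by rw [Scheme.SpecMap_stalkMap_fromSpecStalk]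
      _ = S.fromSpecStalk (pX x) (closedPoint A) := congrArg (S.fromSpecStalk (pX x)) h1
      _ = pX x := Scheme.fromSpecStalk_closedPoint
  exact hyx.mem_closed isClosed_closure (subset_closure ⟨hyU, hys⟩)

theorem mem_closure_fibre_dedekind {X : Scheme.{u}} (pX : X ⟶ Spec (CommRingCat.of R)) [Smooth pX]
    (U : X.Opens) (x : X) (hgen : ∀ y : X, ringKrullDim (X.presheaf.stalk y) ≤ 1 → y ∈ U) :
    x ∈ closure ((U : Set X) ∩ {y | pX y = pX x}) := by
  haveI := isLocallyNoetherian_of_smooth pX
  obtain ⟨hreg, hdim⟩ := dedekind_stalk (pX x)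
  haveI := hreg
  obtain ⟨_, hvr⟩ := Groth.Ega2Proj.isDomain_and_valuationRing_of_regular _ hdim
  exact mem_closure_fibre pX U x (IsBezout.isPrincipal_of_FG _ (IsNoetherian.noetherian _)) hgen

variable (K : Type u) [Field K] [Algebra R K] [IsFractionRing R K]

/-- The inclusion of the generic point. -/
noncomputable abbrev genMap : Spec (CommRingCat.of K) ⟶ Spec (CommRingCat.of R) :=
  Spec.map (CommRingCat.ofHom (algebraMap R K))

omit [IsDedekindDomain R] in
/-- A morphism from the spectrum of a ring to `Spec R` factors through the generic point as soon as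
nonzero elements of `R` become units. -/
theorem exists_lift_genMap [IsDomain R] {A : CommRingCat.{u}} (m : Spec A ⟶ Spec (CommRingCat.of R))
    (hm : ∀ r : R, r ≠ 0 → IsUnit ((Spec.preimage m).hom r)) :
    ∃ l : Spec A ⟶ Spec (CommRingCat.of K), l ≫ genMap K = m := by
  let φ : K →+* A := IsLocalization.lift (M := nonZeroDivisors R) (g := (Spec.preimage m).hom)
    fun s => hm s (nonZeroDivisors.ne_zero s.2)
  refine ⟨Spec.map (CommRingCat.ofHom φ), ?_⟩
  rw [genMap, ← Spec.map_comp]
  conv_rhs => rw [← Spec.map_preimage m]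
  congr 1
  ext r
  exact IsLocalization.lift_eq _ r

/-- Generic points of a smooth scheme lift to the generic fibre. -/
theorem exists_lift_genHom {X : Scheme.{u}} (pX : X ⟶ Spec (CommRingCat.of R)) [Smooth pX] (x : X)
    [IsDomain (X.presheaf.stalk x)] :
    ∃ l : Spec (CommRingCat.of (FractionRing (X.presheaf.stalk x))) ⟶ pullback pX (genMap K),
      l ≫ pullback.fst pX (genMap K) = Groth.Rat20Ext.genHom x := by
  let A := (Spec (CommRingCat.of R)).presheaf.stalk (pX x)
  let d : A ⟶ X.presheaf.stalk x := pX.stalkMap x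
  have hd : Function.Injective d.hom := by
    have hfl : d.hom.Flat := Flat.stalkMap pX x
    letI := d.hom.toAlgebra
    haveI : IsLocalHom (algebraMap A (X.presheaf.stalk x)) := inferInstanceAs (IsLocalHom d.hom)
    haveI : Module.Flat A (X.presheaf.stalk x) := hfl
    haveI : Module.FaithfullyFlat A (X.presheaf.stalk x) := Module.FaithfullyFlat.of_flat_of_isLocalHom
    exact FaithfulSMul.algebraMap_injective A (X.presheaf.stalk x)
  let i := StructureSheaf.toStalk R (pX x)
  have hm : Groth.Rat20Ext.genHom x ≫ pX = Spec.map (i ≫ d ≫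
      CommRingCat.ofHom (algebraMap (X.presheaf.stalk x) (FractionRing (X.presheaf.stalk x)))) := by
    rw [Spec.map_comp, Spec.map_comp, Category.assoc, Groth.Rat20Ext.genHom, Category.assoc,
      ← Scheme.SpecMap_stalkMap_fromSpecStalk, Scheme.Spec_fromSpecStalk]
    rfl
  obtain ⟨l, hl⟩ := exists_lift_genMap K (Groth.Rat20Ext.genHom x ≫ pX) fun r hr => by
    rw [hm, Spec.preimage_map]
    refine isUnit_iff_ne_zero.2 ((map_ne_zero_iff _ (IsFractionRing.injective _ _)).2
      ((map_ne_zero_iff _ hd).2 ?_))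
    letI : Algebra R A := i.hom.toAlgebra
    haveI : IsLocalization.AtPrime A (pX x : PrimeSpectrum R).asIdeal := StructureSheaf.IsLocalization.to_stalk R (pX x)
    exact (map_ne_zero_iff _ (IsLocalization.injective A (pX x : PrimeSpectrum R).asIdeal.primeCompl_le_nonZeroDivisors)).2 hr
  exact ⟨pullback.lift (Groth.Rat20Ext.genHom x) l hl.symm, pullback.lift_fst _ _ _⟩

/-- A morphism on the generic fibre of a smooth scheme to a proper scheme is defined at all points of
the generic fibre and all points of codimension at most one. -/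
theorem exists_extension_generic {X Y : Scheme.{u}} (pX : X ⟶ Spec (CommRingCat.of R))
    (pY : Y ⟶ Spec (CommRingCat.of R)) [Smooth pX] [IsProper pY]
    (u : pullback pX (genMap K) ⟶ Y) (hu : u ≫ pY = pullback.fst pX (genMap K) ≫ pX) :
    ∃ (U : X.Opens) (g : (U : Scheme.{u}) ⟶ Y), g ≫ pY = U.ι ≫ pX ∧
      (∀ y : X, ringKrullDim (X.presheaf.stalk y) ≤ 1 → y ∈ U) ∧
      ∃ m : pullback pX (genMap K) ⟶ U, m ≫ U.ι = pullback.fst pX (genMap K) ∧ m ≫ g = u := by
  classical
  haveI := isLocallyNoetherian_of_smooth pX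
  have hX := isRegularLocalRing_of_smooth_dedekind (R := R) pX
  haveI : IsReduced X := isReduced_of_regular hX
  haveI : IsReduced (pullback pX (genMap K)) := by
    haveI : IsLocallyNoetherian (Spec (CommRingCat.of K)) := inferInstance
    refine isReduced_of_regular fun z => isRegularLocalRing_of_smooth (pullback.snd pX (genMap K)) z ?_
    exact IsRegularLocalRing.of_ringEquiv (Spec.stalkIso (CommRingCat.of K)
      (pullback.snd pX (genMap K) z)).commRingCatIsoToRingEquiv.symm
  haveI : IsPreimmersion (genMap (R := R) K) := IsPreimmersion.of_isLocalization (nonZeroDivisors R)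
  let XK := pullback pX (genMap K)
  let c : XK ⟶ X := pullback.fst pX (genMap K)
  let Pr : X → Prop := fun y => y ∈ Set.range c ∨ ringKrullDim (X.presheaf.stalk y) ≤ 1
  have hloc : ∀ y, Pr y → ∃ (V : X.Opens) (_ : y ∈ V) (v : (V : Scheme.{u}) ⟶ Y),
      v ≫ pY = V.ι ≫ pX ∧ c.resLE V (c ⁻¹ᵁ V) le_rfl ≫ v = (c ⁻¹ᵁ V).ι ≫ u := by
    intro y hy
    haveI := hX y
    haveI : IsDomain (X.presheaf.stalk y) := Groth.Ega4Algebra1.isDomain_of_isRegularLocalRing _
    obtain ⟨l, hl⟩ := exists_lift_genHom K pX y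
    obtain ⟨X₀, hyX₀, hX₀⟩ := exists_integral_nhd (X := X) y
    let ιy : X.presheaf.stalk y ⟶ CommRingCat.of (FractionRing (X.presheaf.stalk y)) :=
      CommRingCat.ofHom (algebraMap (X.presheaf.stalk y) (FractionRing (X.presheaf.stalk y)))
    obtain ⟨w, hw1, hw2⟩ : ∃ w : Spec (X.presheaf.stalk y) ⟶ Y, w ≫ pY = X.fromSpecStalk y ≫ pX ∧
        Spec.map ιy ≫ w = l ≫ u := by
      by_cases hy1 : ringKrullDim (X.presheaf.stalk y) ≤ 1
      · obtain ⟨_, hvr⟩ := Groth.Ega2Proj.isDomain_and_valuationRing_of_regular _ hy1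
        haveI : UniversallyClosed (pullback.snd pY pX) := inferInstance
        obtain ⟨φ, h1, h2⟩ := Groth.Ega2Proj.exists_lift_of_isClosedMap_of_valuationRing (pullback.snd pY pX)
          (pullback.snd pY pX).isClosedMap y (pullback.lift (l ≫ u) (Groth.Rat20Ext.genHom y)
            (by rw [Category.assoc, hu, reassoc_of% hl])) (pullback.lift_snd _ _ _)
        refine ⟨φ ≫ pullback.fst pY pX, ?_, ?_⟩
        · rw [Category.assoc, pullback.condition, ← Category.assoc, h1]
        · exact (Category.assoc _ _ _).symm.trans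
            ((congrArg (· ≫ pullback.fst pY pX) h2).trans (pullback.lift_fst _ _ _))
      · obtain ⟨z, hz⟩ := hy.resolve_right hy1
        obtain ⟨lA, hlA⟩ := exists_lift_genMap K (X.fromSpecStalk y ≫ pX) fun r hr => by
          have hcz : pX y = genMap K (pullback.snd pX (genMap K) z) := by
            rw [← hz, ← Scheme.Hom.comp_apply, ← Scheme.Hom.comp_apply, pullback.condition]
          have hbot : (pX y : PrimeSpectrum R).asIdeal = ⊥ := by
            rw [hcz]
            show Ideal.comap (algebraMap R K) _ = ⊥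
            rw [Ideal.eq_bot_of_prime (pullback.snd pX (genMap K) z : PrimeSpectrum K).asIdeal]
            exact (RingHom.ker_eq_bot_iff_eq_zero _).2 fun a ha => (map_eq_zero_iff _ (IsFractionRing.injective R K)).1 ha
          have hm : X.fromSpecStalk y ≫ pX = Spec.map (StructureSheaf.toStalk R (pX y) ≫ pX.stalkMap y) := by
            rw [Spec.map_comp, ← Scheme.SpecMap_stalkMap_fromSpecStalk, Scheme.Spec_fromSpecStalk]
            rfl
          rw [hm, Spec.preimage_map]
          letI : Algebra R ((Spec (CommRingCat.of R)).presheaf.stalk (pX y)) :=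
            (StructureSheaf.toStalk R (pX y)).hom.toAlgebra
          haveI : IsLocalization.AtPrime ((Spec (CommRingCat.of R)).presheaf.stalk (pX y))
              (pX y : PrimeSpectrum R).asIdeal := StructureSheaf.IsLocalization.to_stalk R (pX y)
          exact (IsLocalization.map_units ((Spec (CommRingCat.of R)).presheaf.stalk (pX y))
            (⟨r, fun h => hr (Ideal.mem_bot.1 (hbot ▸ h))⟩ : (pX y : PrimeSpectrum R).asIdeal.primeCompl)).map
            (pX.stalkMap y).hom
        let L : Spec (X.presheaf.stalk y) ⟶ XK := pullback.lift (X.fromSpecStalk y) lA hlA.symm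
        refine ⟨L ≫ u, ?_, ?_⟩
        · rw [Category.assoc, hu, pullback.lift_fst_assoc]
        · rw [← Category.assoc]
          congr 1
          rw [← cancel_mono c, Category.assoc, pullback.lift_fst, hl]
          rfl
    obtain ⟨V₁, hyV₁, v₁, hv₁w, hv₁⟩ := spread_out_of_isGermInjective' (sX := pX) (sY := pY) w hw1
    let V : X.Opens := V₁ ⊓ X₀
    refine ⟨V, ⟨hyV₁, hyX₀⟩, X.homOfLE inf_le_left ≫ v₁, by rw [Category.assoc, hv₁, Scheme.homOfLE_ι_assoc], ?_⟩
    let O : XK.Opens := c ⁻¹ᵁ V
    have hlV : Set.range l ⊆ Set.range O.ι := by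
      rintro _ ⟨s, rfl⟩
      rw [Scheme.Opens.range_ι]
      show c (l s) ∈ V
      rw [← Scheme.Hom.comp_apply, hl]
      exact (Groth.Rat20Ext.genHom_specializes_self y s).mem_open V.isOpen ⟨hyV₁, hyX₀⟩
    let lO := IsOpenImmersion.lift O.ι l hlV
    have hlO : lO ≫ O.ι = l := IsOpenImmersion.lift_fac _ _ _
    haveI : IsDominant lO := by
      refine ⟨fun z => ?_⟩
      let s : ↥(Spec (CommRingCat.of (FractionRing (X.presheaf.stalk y)))) :=
        IsLocalRing.closedPoint (FractionRing (X.presheaf.stalk y))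
      have h1 : c (l s) ⤳ c (O.ι z) := by
        rw [← Scheme.Hom.comp_apply l c, hl]
        exact Groth.Rat20Ext.genHom_specializes_of_mem hyX₀ s z.2.2
      have h2 : lO s ⤳ z := by
        rw [← O.ι.isOpenEmbedding.isInducing.specializes_iff, ← c.isEmbedding.isInducing.specializes_iff,
          ← Scheme.Hom.comp_apply lO, hlO]
        exact h1
      exact closure_mono (Set.singleton_subset_iff.2 (Set.mem_range_self s)) h2.mem_closure
    refine ext_of_isDominant_of_isSeparated pY ?_ lO ?_
    · rw [Category.assoc, Category.assoc, Category.assoc, hv₁, hu, Scheme.homOfLE_ι_assoc,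
        Scheme.Hom.resLE_comp_ι_assoc]
    · have h : lO ≫ c.resLE V O le_rfl ≫ X.homOfLE (inf_le_left : V ≤ V₁) =
          Spec.map ιy ≫ V₁.fromSpecStalkOfMem y hyV₁ := by
        rw [← cancel_mono V₁.ι]
        simp only [Category.assoc, Scheme.homOfLE_ι, Scheme.Hom.resLE_comp_ι, reassoc_of% hlO,
          Scheme.Opens.fromSpecStalkOfMem_ι]
        exact hl
      rw [reassoc_of% h, ← hv₁w, hw2, reassoc_of% hlO]
  choose V hyV v hv1 hv2 using hloc
  let ι' := {y : X // Pr y}
  let W : ι' → X.Opens := fun i => V i.1 i.2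
  let U : X.Opens := ⨆ i, W i
  let 𝒰 := Scheme.Opens.iSupOpenCover W
  have hcomp : ∀ i j : ι', pullback.fst (𝒰.f i) (𝒰.f j) ≫ v i.1 i.2 = pullback.snd (𝒰.f i) (𝒰.f j) ≫ v j.1 j.2 := by
    intro i j
    refine (cancel_epi (isPullback_opens_inf_le (le_iSup W i) (le_iSup W j)).isoPullback.hom).mp ?_
    simp only [𝒰, Scheme.Opens.iSupOpenCover, IsPullback.isoPullback_hom_fst_assoc,
      IsPullback.isoPullback_hom_snd_assoc]
    let O : XK.Opens := c ⁻¹ᵁ (W i ⊓ W j)
    let cO := c.resLE (W i ⊓ W j) O le_rfl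
    haveI : IsDominant cO := by
      refine ⟨fun z => ?_⟩
      haveI := hX z.1
      haveI : IsDomain (X.presheaf.stalk z.1) := Groth.Ega4Algebra1.isDomain_of_isRegularLocalRing _
      obtain ⟨l, hl⟩ := exists_lift_genHom K pX z.1
      let s : ↥(Spec (CommRingCat.of (FractionRing (X.presheaf.stalk z.1)))) :=
        IsLocalRing.closedPoint (FractionRing (X.presheaf.stalk z.1))
      have hsp : c (l s) ⤳ z.1 := by
        rw [← Scheme.Hom.comp_apply, hl]
        exact Groth.Rat20Ext.genHom_specializes_self z.1 s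
      have hmem : c (l s) ∈ W i ⊓ W j := hsp.mem_open (W i ⊓ W j).isOpen z.2
      let o : O := ⟨l s, hmem⟩
      have h2 : cO o ⤳ z := by
        rw [← (W i ⊓ W j).ι.isOpenEmbedding.isInducing.specializes_iff, ← Scheme.Hom.comp_apply,
          Scheme.Hom.resLE_comp_ι]
        exact hsp
      exact closure_mono (Set.singleton_subset_iff.2 (Set.mem_range_self o)) h2.mem_closure
    refine ext_of_isDominant_of_isSeparated pY ?_ cO ?_
    · simp only [Category.assoc, hv1, Scheme.homOfLE_ι_assoc, W]
    · have key : ∀ (k : ι') (h : W i ⊓ W j ≤ W k), cO ≫ X.homOfLE h ≫ v k.1 k.2 = O.ι ≫ u := by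
        intro k h
        have h' : O ≤ c ⁻¹ᵁ W k := fun z hz => h hz
        have h3 : cO ≫ X.homOfLE h = XK.homOfLE h' ≫ c.resLE (W k) (c ⁻¹ᵁ W k) le_rfl := by
          rw [← cancel_mono (W k).ι]
          simp [cO]
        rw [reassoc_of% h3, hv2, Scheme.homOfLE_ι_assoc]
      exact (key i _).trans (key j _).symm
  let g : (U : Scheme.{u}) ⟶ Y := 𝒰.glueMorphisms (fun i => v i.1 i.2) hcomp
  have hg : ∀ i, X.homOfLE (le_iSup W i) ≫ g = v i.1 i.2 := fun i => 𝒰.ι_glueMorphisms _ hcomp i
  have hr : Set.range c ⊆ Set.range U.ι := by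
    rintro _ ⟨z, rfl⟩
    rw [Scheme.Opens.range_ι]
    exact le_iSup W ⟨c z, Or.inl ⟨z, rfl⟩⟩ (hyV _ _)
  let m := IsOpenImmersion.lift U.ι c hr
  have hm : m ≫ U.ι = c := IsOpenImmersion.lift_fac _ _ _
  refine ⟨U, g, ?_, fun y hy => le_iSup W ⟨y, Or.inr hy⟩ (hyV _ _), m, hm, ?_⟩
  · refine 𝒰.hom_ext _ _ fun i => ?_
    show X.homOfLE (le_iSup W i) ≫ g ≫ pY = X.homOfLE (le_iSup W i) ≫ U.ι ≫ pX
    rw [reassoc_of% (hg i), Scheme.homOfLE_ι_assoc]
    exact hv1 _ _
  · refine Scheme.Cover.hom_ext (XK.openCoverOfIsOpenCover (fun i => c ⁻¹ᵁ W i) (by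
      rw [IsOpenCover, eq_top_iff]
      intro z _
      exact Opens.mem_iSup.mpr ⟨⟨c z, Or.inl ⟨z, rfl⟩⟩, hyV _ _⟩)) _ _ fun (i : ι') => ?_
    show (c ⁻¹ᵁ W i).ι ≫ m ≫ g = (c ⁻¹ᵁ W i).ι ≫ u
    have h3 : (c ⁻¹ᵁ W i).ι ≫ m = c.resLE (W i) (c ⁻¹ᵁ W i) le_rfl ≫ X.homOfLE (le_iSup W i) := by
      rw [← cancel_mono U.ι, Category.assoc, hm, Category.assoc, Scheme.homOfLE_ι, Scheme.Hom.resLE_comp_ι]
    rw [reassoc_of% h3, hg, hv2]

/-- Morphisms from a smooth scheme to a separated scheme which agree on the generic fibre are equal. -/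
theorem eq_of_generic {X Y : Scheme.{u}} (pX : X ⟶ Spec (CommRingCat.of R))
    (pY : Y ⟶ Spec (CommRingCat.of R)) [Smooth pX] [IsSeparated pY] (a b : X ⟶ Y)
    (ha : a ≫ pY = b ≫ pY) (h : pullback.fst pX (genMap K) ≫ a = pullback.fst pX (genMap K) ≫ b) : a = b := by
  haveI := isLocallyNoetherian_of_smooth pX
  have hX := isRegularLocalRing_of_smooth_dedekind (R := R) pX
  haveI : IsReduced X := isReduced_of_regular hX
  haveI : IsDominant (pullback.fst pX (genMap K)) := by
    refine ⟨fun z => ?_⟩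
    haveI := hX z
    haveI : IsDomain (X.presheaf.stalk z) := Groth.Ega4Algebra1.isDomain_of_isRegularLocalRing _
    obtain ⟨l, hl⟩ := exists_lift_genHom K pX z
    let s : ↥(Spec (CommRingCat.of (FractionRing (X.presheaf.stalk z)))) :=
      IsLocalRing.closedPoint (FractionRing (X.presheaf.stalk z))
    have hsp : pullback.fst pX (genMap K) (l s) ⤳ z := by
      rw [← Scheme.Hom.comp_apply, hl]
      exact Groth.Rat20Ext.genHom_specializes_self z s
    exact closure_mono (Set.singleton_subset_iff.2 (Set.mem_range_self (l s))) hsp.mem_closure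
  exact ext_of_isDominant_of_isSeparated pY ha _ h

/-- A morphism on the generic fibre of a smooth scheme to a proper group scheme extends uniquely. -/
theorem existsUnique_extension_generic {X G : Scheme.{u}} (pX : X ⟶ Spec (CommRingCat.of R))
    (pG : G ⟶ Spec (CommRingCat.of R)) [Smooth pX] [IsProper pG] [GrpObj (Over.mk pG)]
    (u : pullback pX (genMap K) ⟶ G) (hu : u ≫ pG = pullback.fst pX (genMap K) ≫ pX) :
    ∃! g : X ⟶ G, g ≫ pG = pX ∧ pullback.fst pX (genMap K) ≫ g = u := by
  haveI := isLocallyNoetherian_of_smooth pX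
  obtain ⟨U, f, hf, hgen, m, hm1, hm2⟩ := exists_extension_generic K pX pG u hu
  obtain ⟨g, ⟨hg1, hg2⟩, -⟩ := existsUnique_extension pX pG
    (isRegularLocalRing_of_smooth_dedekind (R := R) pX) U f hf
    (fun x => mem_closure_fibre_dedekind pX U x hgen) hgen
  have hgu : pullback.fst pX (genMap K) ≫ g = u := by rw [← hm1, Category.assoc, hg2, hm2]
  exact ⟨g, ⟨hg1, hgu⟩, fun b hb => eq_of_generic K pX pG b g (hb.1.trans hg1.symm) (hb.2.trans hgu.symm)⟩

end Groth.NeronArea.Weil
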