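import Mathlib.AlgebraicGeometry.Morphisms.Smooth
import Mathlib.AlgebraicGeometry.Morphisms.Etale
import Mathlib.CategoryTheory.Comma.Over.Pullback
import Mathlib.CategoryTheory.Monoidal.Cartesian.Over
import Mathlib.AlgebraicGeometry.Pullbacks
import Mathlib.AlgebraicGeometry.Restrict

/-! Formal properties of the Néron mapping property: restriction of morphisms along `ι : U ⟶ S`. -/

set_option backward.isDefEq.respectTransparency false

universe u

open CategoryTheory CategoryTheory.Limits AlgebraicGeometry MonoidalCategory CartesianMonoidalCategory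

namespace Groth.NeronArea

variable {S U : Scheme.{u}} (ι : U ⟶ S)

/-- The restriction of `Y` along `ι`, viewed as an object over `S`. -/
noncomputable abbrev rst (Y : Over S) : Over S := Over.mk (pullback.fst Y.hom ι ≫ Y.hom)

/-- The projection `Y|U ⟶ Y`. -/
noncomputable abbrev rstπ (Y : Over S) : rst ι Y ⟶ Y := Over.homMk (pullback.fst Y.hom ι)

/-- Adjunction, in explicit form. -/
noncomputable def rstEquiv (Y N : Over S) :
    ((Over.pullback ι).obj Y ⟶ (Over.pullback ι).obj N) ≃ (rst ι Y ⟶ N) where
  toFun φ := Over.homMk (φ.left ≫ pullback.fst N.hom ι) (by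
    have := Over.w φ
    dsimp at this ⊢
    rw [Category.assoc, pullback.condition, ← Category.assoc, this, pullback.condition])
  invFun h := Over.homMk (pullback.lift h.left (pullback.snd Y.hom ι) (by
    have := Over.w h
    dsimp at this ⊢
    rw [this, pullback.condition])) (by simp)
  left_inv φ := by
    ext
    dsimp
    apply pullback.hom_ext
    · simp
    · exact (pullback.lift_snd _ _ _).trans (Over.w φ).symm
  right_inv h := by ext; simp

lemma rstEquiv_map (Y N : Over S) (f : Y ⟶ N) :
    rstEquiv ι Y N ((Over.pullback ι).map f) = rstπ ι Y ≫ f := by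
  ext; simp [rstEquiv]

lemma map_eq_iff {Y N : Over S} (f g : Y ⟶ N) :
    (Over.pullback ι).map f = (Over.pullback ι).map g ↔ rstπ ι Y ≫ f = rstπ ι Y ≫ g := by
  rw [← (rstEquiv ι Y N).apply_eq_iff_eq, rstEquiv_map, rstEquiv_map]

/-- The Néron mapping property of `N` along `ι`. -/
def HasNMP (N : Over S) : Prop :=
  ∀ Y : Over S, Smooth Y.hom → Function.Bijective (fun f : Y ⟶ N => (Over.pullback ι).map f)

lemma bijective_map_iff (Y N : Over S) :
    Function.Bijective (fun f : Y ⟶ N => (Over.pullback ι).map f) ↔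
      Function.Bijective (fun f : Y ⟶ N => rstπ ι Y ≫ f) := by
  rw [← (rstEquiv ι Y N).comp_bijective]
  simp only [Function.comp_def, rstEquiv_map]

lemma injective_map_iff (Y N : Over S) :
    Function.Injective (fun f : Y ⟶ N => (Over.pullback ι).map f) ↔
      Function.Injective (fun f : Y ⟶ N => rstπ ι Y ≫ f) := by
  rw [← (rstEquiv ι Y N).comp_injective]
  simp only [Function.comp_def, rstEquiv_map]

section BaseChange

variable {S' U' : Scheme.{u}} (g : S' ⟶ S) (ι' : U' ⟶ S') {j : U' ⟶ U} (hsq : IsPullback j ι' ι g)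

/-- `(Y'|U') → Y'` viewed over `S` is the restriction of `Y'` viewed over `S`. -/
noncomputable def rstBC (Y' : Over S') :
    rst ι ((Over.map g).obj Y') ≅ (Over.map g).obj (rst ι' Y') :=
  Over.isoMk
    { hom := pullback.lift (pullback.fst _ _)
        (hsq.lift (pullback.snd _ _) (pullback.fst _ _ ≫ Y'.hom) (by
          rw [Category.assoc]; exact pullback.condition.symm)) (by simp)
      inv := pullback.lift (pullback.fst _ _) (pullback.snd _ _ ≫ j) (by
        simp only [Over.map_obj_hom, Category.assoc, hsq.w]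
        rw [pullback.condition_assoc])
      hom_inv_id := by
        apply pullback.hom_ext <;> simp
      inv_hom_id := by
        apply pullback.hom_ext
        · simp
        · apply hsq.hom_ext <;> simp [pullback.condition] }
    (by simp)

lemma rstBC_hom_π (Y' : Over S') :
    (rstBC ι g ι' hsq Y').hom ≫ (Over.map g).map (rstπ ι' Y') = rstπ ι ((Over.map g).obj Y') := by
  ext; simp [rstBC]

include hsq in
lemma bijective_baseChange_iff (Y' : Over S') (N : Over S) :
    Function.Bijective (fun f : Y' ⟶ (Over.pullback g).obj N => (Over.pullback ι').map f) ↔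
      Function.Bijective (fun f : (Over.map g).obj Y' ⟶ N => (Over.pullback ι).map f) := by
  rw [bijective_map_iff, bijective_map_iff,
    ← ((Over.mapPullbackAdj g).homEquiv Y' N).bijective_comp,
    ← ((Over.mapPullbackAdj g).homEquiv (rst ι' Y') N).symm.comp_bijective,
    ← ((rstBC ι g ι' hsq Y').homFromEquiv (Z := N)).symm.comp_bijective]
  refine iff_of_eq (congrArg _ (funext fun f => ?_))
  simp only [Function.comp_apply]
  rw [(Over.mapPullbackAdj g).homEquiv_naturality_left_symm]
  simp [Iso.homFromEquiv, ← rstBC_hom_π ι g ι' hsq Y']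

include hsq in
lemma injective_baseChange_iff (Y' : Over S') (N : Over S) :
    Function.Injective (fun f : Y' ⟶ (Over.pullback g).obj N => (Over.pullback ι').map f) ↔
      Function.Injective (fun f : (Over.map g).obj Y' ⟶ N => (Over.pullback ι).map f) := by
  rw [injective_map_iff, injective_map_iff,
    ← ((Over.mapPullbackAdj g).homEquiv Y' N).injective_comp,
    ← ((Over.mapPullbackAdj g).homEquiv (rst ι' Y') N).symm.comp_injective,
    ← ((rstBC ι g ι' hsq Y').homFromEquiv (Z := N)).symm.comp_injective]
  refine iff_of_eq (congrArg _ (funext fun f => ?_))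
  simp only [Function.comp_apply]
  rw [(Over.mapPullbackAdj g).homEquiv_naturality_left_symm]
  simp [Iso.homFromEquiv, ← rstBC_hom_π ι g ι' hsq Y']

end BaseChange

/-- The product of two objects with the mapping property has it. -/
lemma bijective_tensor {Y N M : Over S}
    (hN : Function.Bijective (fun f : Y ⟶ N => (Over.pullback ι).map f))
    (hM : Function.Bijective (fun f : Y ⟶ M => (Over.pullback ι).map f)) :
    Function.Bijective (fun f : Y ⟶ N ⊗ M => (Over.pullback ι).map f) := by
  rw [bijective_map_iff] at *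
  constructor
  · intro a b hab
    refine CartesianMonoidalCategory.hom_ext _ _ (hN.1 ?_) (hM.1 ?_)
    · simpa using congrArg (· ≫ fst N M) hab
    · simpa using congrArg (· ≫ snd N M) hab
  · intro h
    obtain ⟨a, ha⟩ := hN.2 (h ≫ fst _ _)
    obtain ⟨b, hb⟩ := hM.2 (h ≫ snd _ _)
    refine ⟨lift a b, CartesianMonoidalCategory.hom_ext _ _ ?_ ?_⟩ <;> simpa

lemma HasNMP.tensor {N M : Over S} (hN : HasNMP ι N) (hM : HasNMP ι M) : HasNMP ι (N ⊗ M) :=
  fun Y hY => bijective_tensor ι (hN Y hY) (hM Y hY)

/-- Inverting a morphism from its restriction. -/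
lemma isIso_of_isIso_map {P Q : Over S} [Smooth P.hom] [Smooth Q.hom] (hP : HasNMP ι P)
    (hQ : HasNMP ι Q) (f : P ⟶ Q) (h : IsIso ((Over.pullback ι).map f)) : IsIso f := by
  obtain ⟨g, hg⟩ := (hP Q ‹_›).2 (inv ((Over.pullback ι).map f))
  simp only at hg
  refine ⟨g, (hP P ‹_›).1 ?_, (hQ Q ‹_›).1 ?_⟩ <;>
    simp only [Functor.map_comp, hg, IsIso.hom_inv_id, IsIso.inv_hom_id] <;>
    exact ((Over.pullback ι).map_id _).symm

lemma smooth_tensor (N M : Over S) [Smooth N.hom] [Smooth M.hom] : Smooth (N ⊗ M).hom :=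
  inferInstanceAs (Smooth (pullback.fst N.hom M.hom ≫ N.hom))

instance : MorphismProperty.HasOfPostcompProperty @Smooth @Etale := by
  have : MorphismProperty.IsMultiplicative @Smooth := { id_mem := fun _ => inferInstance }
  rw [MorphismProperty.hasOfPostcompProperty_iff_le_diagonal]
  intro X Y f hf
  exact inferInstanceAs (Smooth (pullback.diagonal f))

lemma smooth_of_comp_etale {X Y Z : Scheme.{u}} (f : X ⟶ Y) (g : Y ⟶ Z) [Etale g]
    [Smooth (f ≫ g)] : Smooth f :=
  MorphismProperty.of_postcomp (W := @Smooth) (W' := @Etale) f g ‹_› ‹_›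

/-- Restricting further: `U` maps to `V`. -/
lemma isIso_map_rstπ {V : Scheme.{u}} (ι₁ : V ⟶ S) [Mono ι₁] (k : U ⟶ V) (hk : k ≫ ι₁ = ι)
    (Z : Over S) : IsIso ((Over.pullback ι).map (rstπ ι₁ Z)) := by
  refine ⟨Over.homMk (pullback.lift (pullback.lift (pullback.fst Z.hom ι) (pullback.snd Z.hom ι ≫ k)
      (by rw [Category.assoc, pullback.condition]; exact congrArg (pullback.snd Z.hom ι ≫ ·) hk.symm)) (pullback.snd Z.hom ι)
      (by simp [pullback.condition, hk])) (by simp), ?_, ?_⟩
  · ext
    dsimp
    apply pullback.hom_ext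
    · apply pullback.hom_ext
      · simp
      · rw [← cancel_mono ι₁]
        simp only [Category.assoc]
        simp [← pullback.condition]
    · simp
  · ext
    dsimp
    apply pullback.hom_ext <;> simp

lemma bijective_map_comp {W Z N : Over S} (r : W ⟶ Z) [IsIso ((Over.pullback ι).map r)]
    (hr : Function.Bijective (fun f : Z ⟶ N => r ≫ f)) :
    Function.Bijective (fun f : Z ⟶ N => (Over.pullback ι).map f) ↔
      Function.Bijective (fun f : W ⟶ N => (Over.pullback ι).map f) := by
  rw [← Function.Bijective.of_comp_iff' ((asIso ((Over.pullback ι).map r)).homFromEquiv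
    (Z := (Over.pullback ι).obj N)).symm.bijective, ← Function.Bijective.of_comp_iff _ hr]
  refine iff_of_eq (congrArg _ (funext fun f => ?_))
  simp [Iso.homFromEquiv]

end Groth.NeronArea

namespace Groth.NeronArea

variable {S : Scheme.{u}} {U V : Scheme.{u}} (ι : U ⟶ S) (ι₁ : V ⟶ S) [Mono ι₁] (k : U ⟶ V)


/-- Restriction in two steps, `S₀ ⊆ S₁ ⊆ S`, for a scheme with mapping property for `S₁ ⊆ S`. -/
lemma bijective_two_step {U' : Scheme.{u}} (ι₀ : U' ⟶ V) {j : U' ⟶ U}
    (hsq : IsPullback j ι₀ ι ι₁) (hk : k ≫ ι₁ = ι) {N Z : Over S}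
    (h₁ : Function.Bijective (fun f : Z ⟶ N => (Over.pullback ι₁).map f)) :
    Function.Bijective (fun f : Z ⟶ N => (Over.pullback ι).map f) ↔
      Function.Bijective (fun f : (Over.pullback ι₁).obj Z ⟶ (Over.pullback ι₁).obj N =>
        (Over.pullback ι₀).map f) := by
  have := isIso_map_rstπ ι ι₁ k hk Z
  rw [bijective_map_comp ι (rstπ ι₁ Z) ((bijective_map_iff ι₁ Z N).1 h₁),
    bijective_baseChange_iff ι ι₁ ι₀ hsq]
  let e : (Over.map ι₁).obj ((Over.pullback ι₁).obj Z) ≅ rst ι₁ Z :=
    Over.isoMk (Iso.refl _) (by simp [pullback.condition])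
  rw [← e.homFromEquiv (Z := N) |>.bijective_comp,
    ← (((Over.pullback ι).mapIso e).homFromEquiv (Z := (Over.pullback ι).obj N)).symm.comp_bijective]
  refine iff_of_eq (congrArg _ (funext fun f => ?_))
  simp [Iso.homFromEquiv, ← Functor.map_comp]

end Groth.NeronArea
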