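import Groth.Prelude.Def_Neron
import Groth.Agent.GrpschAbsch.SchDense
import Groth.Agent.NeronArea.Mapping
import Mathlib.AlgebraicGeometry.Morphisms.SchemeTheoreticallyDominant

/-! Scheme-theoretic density of generic fibres and consequences. -/

set_option backward.isDefEq.respectTransparency false

universe u

open CategoryTheory CategoryTheory.Limits AlgebraicGeometry

namespace Groth.NeronArea

lemma isSchemeTheoreticallyDominant_specMap {R K : Type u} [CommRing R] [IsReduced R] [CommRing K]
    (φ : R →+* K) (h : Function.Injective φ) :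
    IsSchemeTheoreticallyDominant (Spec.map (CommRingCat.ofHom φ)) := by
  have : IsDominant (Spec.map (CommRingCat.ofHom φ)) :=
    ⟨(PrimeSpectrum.denseRange_comap_iff_ker_le_nilRadical φ).2
      (by rw [(RingHom.injective_iff_ker_eq_bot φ).1 h]; exact bot_le)⟩
  exact .of_isDominant _

instance isSchemeTheoreticallyDominant_genPt (R : Type u) [CommRing R] [IsDomain R] :
    IsSchemeTheoreticallyDominant (Neron.genPt R) :=
  isSchemeTheoreticallyDominant_specMap _ (IsFractionRing.injective R _)

/-- Morphisms out of a flat scheme into a separated one are determined by their restriction. -/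
lemma map_injective_of_flat {S U : Scheme.{u}} (ι : U ⟶ S) [IsSchemeTheoreticallyDominant ι]
    [QuasiCompact ι] (Y N : Over S) [Flat Y.hom] [IsSeparated N.hom] :
    Function.Injective (fun f : Y ⟶ N => (Over.pullback ι).map f) := by
  intro f g h
  have h' := congrArg CommaMorphism.left ((map_eq_iff ι f g).1 h)
  ext
  exact Groth.GrpschAbsch.ext_of_isSchemeTheoreticallyDominant N.hom
    ((Over.w f).trans (Over.w g).symm) (pullback.fst Y.hom ι) h'

/-- A morphism factors through a closed immersion if it does so after a scheme-theoretically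
dominant morphism. -/
lemma exists_lift_of_dominant {W Y X G : Scheme.{u}} (i : G ⟶ X) [IsClosedImmersion i] (a : Y ⟶ X)
    (ι : W ⟶ Y) [IsSchemeTheoreticallyDominant ι] (t : W ⟶ G) (h : t ≫ i = ι ≫ a) :
    ∃ b : Y ⟶ G, b ≫ i = a := by
  let e := pullback.snd i a
  let t' : W ⟶ pullback i a := pullback.lift t ι h
  have ht : t' ≫ e = ι := pullback.lift_snd _ _ _
  have hk : e.ker = ⊥ := by
    rw [← le_bot_iff, ← ι.ker_eq_bot, ← ht]
    exact t'.le_ker_comp e
  have : IsIso e := IsClosedImmersion.isIso_iff_ker_eq_bot.mpr hk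
  exact ⟨inv e ≫ pullback.fst i a, by rw [Category.assoc, pullback.condition, IsIso.inv_hom_id_assoc]⟩

/-- The mapping property passes to closed subschemes. -/
lemma bijective_of_isClosedImmersion {S U : Scheme.{u}} (ι : U ⟶ S) [IsSchemeTheoreticallyDominant ι]
    [QuasiCompact ι] {X G : Over S} [IsSeparated X.hom] (i : G ⟶ X) [IsClosedImmersion i.left]
    (Y : Over S) [Flat Y.hom]
    (hX : Function.Bijective (fun f : Y ⟶ X => (Over.pullback ι).map f)) :
    Function.Bijective (fun f : Y ⟶ G => (Over.pullback ι).map f) := by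
  have : IsSeparated G.hom := by rw [← Over.w i]; infer_instance
  refine ⟨map_injective_of_flat ι Y G, ?_⟩
  have hX' := (bijective_map_iff ι Y X).1 hX
  intro φ
  obtain ⟨a, ha⟩ := hX'.2 (rstEquiv ι Y G φ ≫ i)
  obtain ⟨b, hb⟩ := exists_lift_of_dominant i.left a.left (pullback.fst Y.hom ι)
    (rstEquiv ι Y G φ).left (congrArg CommaMorphism.left ha).symm
  refine ⟨Over.homMk b (by rw [← Over.w i, ← Category.assoc, hb]; exact Over.w a), ?_⟩
  apply (rstEquiv ι Y G).injective
  rw [rstEquiv_map]
  ext
  rw [← cancel_mono i.left]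
  simpa [hb] using congrArg CommaMorphism.left ha

end Groth.NeronArea
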