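import Mathlib.RingTheory.Smooth.Basic
import Mathlib.RingTheory.Extension.Cotangent.Basic
import Mathlib.RingTheory.Extension.Presentation.Basic
import Mathlib.RingTheory.Localization.Away.Basic
import Mathlib.Algebra.MvPolynomial.PDeriv
import Mathlib.LinearAlgebra.Matrix.Charpoly.LinearMap
import Mathlib.RingTheory.Finiteness.Basic
import Mathlib.LinearAlgebra.Matrix.Adjugate

/-! Jacobian criterion: split conormal sequences, presentations of localizations. -/

open MvPolynomial Algebra

namespace Groth.NeronArea.Jacobian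

/-- The determinant trick used for standard elements. -/
lemma det_trick {P : Type*} [CommRing P] (I J : Ideal P) (hI : I.FG) (a : P)
    (h : ∀ i ∈ I, a * i ∈ J ⊔ I ^ 2) :
    ∃ (g : P) (k : ℕ), g - a ^ k ∈ I ∧ ∀ i ∈ I, g * i ∈ J := by
  classical
  let N : Submodule P (P ⧸ J) := Submodule.map J.mkQ I
  have : Module.Finite P N := Module.Finite.iff_fg.mpr (Submodule.FG.map _ hI)
  let f : Module.End P N := algebraMap P _ a
  have hf : LinearMap.range f ≤ I • ⊤ := by
    rintro y ⟨⟨x, hx⟩, rfl⟩
    rw [← Submodule.comap_map_eq_of_injective N.injective_subtype (I • ⊤), Submodule.mem_comap,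
      Submodule.map_smul'', Submodule.map_top, Submodule.range_subtype]
    obtain ⟨i, hi, rfl⟩ := hx
    obtain ⟨j, hj, q, hq, hjq⟩ := Submodule.mem_sup.1 (h i hi)
    show a • J.mkQ i ∈ I • N
    rw [← map_smul, smul_eq_mul, ← hjq, map_add, show J.mkQ j = 0 from (Submodule.Quotient.mk_eq_zero J).2 hj, zero_add, ← Submodule.map_smul'']
    exact Submodule.mem_map_of_mem (by simpa [sq] using hq)
  obtain ⟨p, hp, -, hc, he⟩ :=
    LinearMap.exists_monic_and_natDegree_eq_and_coeff_mem_pow_and_aeval_eq_zero P f I hf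
  refine ⟨p.eval a, p.natDegree, ?_, fun i hi => ?_⟩
  · rw [Polynomial.eval_eq_sum_range, Finset.sum_range_succ, hp.coeff_natDegree, one_mul, add_sub_cancel_right]
    refine Ideal.sum_mem _ fun k hk => I.mul_mem_right _ ?_
    have hk' : p.natDegree - k ≠ 0 := by have := Finset.mem_range.1 hk; omega
    exact Ideal.pow_le_self hk' (hc k)
  · have h1 := LinearMap.congr_fun he ⟨J.mkQ i, Submodule.mem_map_of_mem hi⟩
    rw [Polynomial.aeval_algebraMap_apply_eq_algebraMap_eval] at h1
    have h2 := congrArg Subtype.val h1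
    simp only [Module.algebraMap_end_apply, LinearMap.zero_apply, Submodule.coe_smul,
      Submodule.coe_zero] at h2
    rw [← map_smul] at h2
    exact (Submodule.Quotient.mk_eq_zero J).1 h2

/-- The localization at `a` of `R[x]/I`, when some `G` congruent to a power of `a` multiplies `I` into
`(J)`, is `R[x,y]/(J, G y - 1)`. -/
lemma nonempty_presentation_away {R A L : Type*} [CommRing R] [CommRing A] [Algebra R A]
    [CommRing L] [Algebra R L] [Algebra A L] [IsScalarTower R A L]
    {n c : ℕ} (hom : MvPolynomial (Fin n) R →ₐ[R] A) (hsurj : Function.Surjective hom)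
    (J : Fin c → MvPolynomial (Fin n) R)
    (hJ : ∀ j, hom (J j) = 0) (G : MvPolynomial (Fin n) R) (a : A) [IsLocalization.Away a L]
    (hker : ∀ i, hom i = 0 → G * i ∈ Ideal.span (Set.range J))
    (k : ℕ) (hGa : hom G = a ^ k) (a' : MvPolynomial (Fin n) R) (ha' : hom a' = a) (hdvd : a' ∣ G) :
    Nonempty ((MvPolynomial (Fin n ⊕ Unit) R ⧸ Ideal.span (Set.range
      (Sum.elim (fun j => rename Sum.inl (J j))
        (fun (_ : Unit) => rename Sum.inl G * X (Sum.inr ()) - 1) : Fin c ⊕ Unit → MvPolynomial (Fin n ⊕ Unit) R)))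
      ≃ₐ[R] L) := by
  classical
  let ι := Fin n ⊕ Unit
  let r : MvPolynomial (Fin n) R →ₐ[R] MvPolynomial ι R := rename Sum.inl
  let v : Fin c ⊕ Unit → MvPolynomial ι R :=
    Sum.elim (fun j => r (J j)) (fun _ => r G * X (Sum.inr ()) - 1)
  let Q := MvPolynomial ι R ⧸ Ideal.span (Set.range v)
  let π : MvPolynomial ι R →ₐ[R] Q := Ideal.Quotient.mkₐ R _
  have hv : ∀ x, π (v x) = 0 := fun x => Ideal.Quotient.eq_zero_iff_mem.2 (Ideal.subset_span ⟨x, rfl⟩)
  have hG : π (r G) * π (X (Sum.inr ())) = 1 := by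
    have := hv (Sum.inr ())
    simpa [v, sub_eq_zero] using this
  have hGu : IsUnit (π (r G)) := .of_mul_eq_one _ hG
  obtain ⟨e⟩ : IsUnit (algebraMap A L (a ^ k)) := by
    rw [map_pow]; exact (IsLocalization.Away.algebraMap_isUnit a).pow k
  let Φ : MvPolynomial ι R →ₐ[R] L :=
    aeval (Sum.elim (fun i => algebraMap A L (hom (X i))) (fun _ => ((e⁻¹ : Lˣ) : L)))
  have hΦr : Φ.comp r = (IsScalarTower.toAlgHom R A L).comp hom := by
    ext i; simp [Φ, r]
  have hΦr' : ∀ q, Φ (r q) = algebraMap A L (hom q) := AlgHom.congr_fun hΦr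
  have hΦv : ∀ x ∈ Ideal.span (Set.range v), Φ x = 0 := by
    intro x hx
    refine (Ideal.span_le (I := RingHom.ker Φ)).2 ?_ hx
    rintro _ ⟨j | j, rfl⟩ <;> show Φ _ = 0
    · simp [v, hΦr', hJ]
    · have hy : Φ (X (Sum.inr ())) = ((e⁻¹ : Lˣ) : L) := by simp [Φ]
      simp [v, hΦr', hGa, ← ‹(e : L) = _›, hy]
  let F : Q →ₐ[R] L := Ideal.Quotient.liftₐ _ Φ hΦv
  let ψ : MvPolynomial (Fin n) R →ₐ[R] Q := π.comp r
  have hψ : ∀ i ∈ RingHom.ker hom.toRingHom, ψ i = 0 := fun i hi => by
    have : ψ (G * i) = 0 := by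
      refine (Ideal.span_le (I := RingHom.ker ψ)).2 ?_ (hker i hi)
      rintro _ ⟨j, rfl⟩; exact hv (Sum.inl j)
    rw [map_mul] at this
    exact hGu.mul_right_eq_zero.1 this
  let B : A →ₐ[R] Q := (Ideal.Quotient.liftₐ _ ψ hψ).comp
    (Ideal.quotientKerAlgEquivOfSurjective hsurj).symm.toAlgHom
  have hB : ∀ q, B (hom q) = ψ q := fun q => by
    have : (Ideal.quotientKerAlgEquivOfSurjective hsurj).symm (hom q) = Ideal.Quotient.mk _ q := by
      apply (Ideal.quotientKerAlgEquivOfSurjective hsurj).injective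
      rw [AlgEquiv.apply_symm_apply]; rfl
    show Ideal.Quotient.liftₐ _ ψ hψ ((Ideal.quotientKerAlgEquivOfSurjective hsurj).symm (hom q)) = ψ q
    exact (congrArg (Ideal.Quotient.liftₐ _ ψ hψ) this).trans rfl
  have hBu : IsUnit (B a) := by
    obtain ⟨d, hd⟩ := hdvd
    have hGu' : IsUnit (ψ G) := hGu
    rw [hd, map_mul] at hGu'
    rw [← ha', hB]; exact isUnit_of_mul_isUnit_left hGu'
  let Bk : L →ₐ[R] Q :=
    { IsLocalization.Away.lift a (g := B.toRingHom) hBu with
      commutes' := fun x => by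
        rw [IsScalarTower.algebraMap_apply R A L]
        exact (IsLocalization.Away.lift_eq a hBu _).trans (B.commutes x) }
  have hBk : ∀ x, Bk (algebraMap A L x) = B x := fun x => IsLocalization.Away.lift_eq a hBu x
  have hFψ : ∀ q, F (ψ q) = algebraMap A L (hom q) := fun q => hΦr' q
  refine ⟨AlgEquiv.ofAlgHom F Bk ?_ ?_⟩
  · apply AlgHom.coe_ringHom_injective
    refine IsLocalization.ringHom_ext (Submonoid.powers a) ?_
    ext x
    obtain ⟨q, rfl⟩ := hsurj x
    simpa [hBk, hB] using hFψ q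
  · apply Ideal.Quotient.algHom_ext
    ext i
    rcases i with i | i
    · show Bk (Φ (X (Sum.inl i))) = π (X (Sum.inl i))
      simp [Φ, hBk, hB, ψ, r]
    · show Bk (Φ (X (Sum.inr i))) = π (X (Sum.inr i))
      have h1 : Bk (Φ (X (Sum.inr i))) * π (r G) = 1 := by
        have hGk : π (r G) = Bk (e : L) := by
          rw [‹(e : L) = _›, hBk, ← hGa, hB]; rfl
        rw [hGk, ← map_mul]
        simp [Φ]
      exact hGu.mul_right_cancel (h1.trans (by rw [mul_comm]; exact hG.symm))


set_option backward.isDefEq.respectTransparency false in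
open KaehlerDifferential TensorProduct in
/-- If the Jacobian matrix of a presentation has a left inverse, the algebra is formally smooth and
the module of differentials is stably free. -/
lemma formallySmooth_and_stablyFree {R S : Type*} [CommRing R] [CommRing S] [Algebra R S]
    {ι σ : Type*} [Fintype ι] [Fintype σ] [DecidableEq σ] (P : Algebra.Presentation R S ι σ)
    (L : Matrix σ ι S)
    (hL : L * (Matrix.of fun i j => aeval P.val (pderiv i (P.relation j))) = 1) :
    Algebra.FormallySmooth R S ∧ Nonempty ((Ω[S⁄R] × (σ → S)) ≃ₗ[S] (ι → S)) := by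
  let E := P.toExtension
  let b := P.cotangentSpaceBasis
  let r : σ → E.ker := fun j => ⟨P.relation j, P.relation_mem_ker j⟩
  let ψ : (σ → S) →ₗ[S] E.Cotangent :=
    (Pi.basisFun S σ).constr S fun j => Extension.Cotangent.mk (r j)
  have hψ : Function.Surjective ψ := by
    intro x
    obtain ⟨⟨z, hz⟩, rfl⟩ := Extension.Cotangent.mk_surjective x
    let z₀ : P.Ring := z
    have hz' : z₀ ∈ Ideal.span (Set.range P.relation) := by
      rw [P.span_range_relation_eq_ker]; exact hz
    obtain ⟨d₀, hd⟩ := Submodule.mem_span_range_iff_exists_fun _ |>.1 hz'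
    let d : σ → E.Ring := d₀
    refine ⟨fun j => aeval P.val (d j), ?_⟩
    have : (⟨z, hz⟩ : E.ker) = ∑ j, d j • r j := Subtype.ext (hd.symm.trans (by simp [smul_eq_mul]; rfl))
    rw [this, map_sum]
    simp only [ψ, Module.Basis.constr_apply_fintype, Pi.basisFun_equivFun, LinearEquiv.refl_apply, map_smul]
    refine Finset.sum_congr rfl fun j _ => ?_
    rw [← algebraMap_smul S (d j)]
    exact congrArg (fun t => t • Extension.Cotangent.mk (r j)) (RingHom.congr_fun P.algebraMap_eq (d₀ j)).symm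
  let lam : E.CotangentSpace →ₗ[S] (σ → S) := L.mulVecLin ∘ₗ b.equivFun.toLinearMap
  have hlam : ∀ w, lam (E.cotangentComplex (ψ w)) = w := by
    suffices lam ∘ₗ E.cotangentComplex ∘ₗ ψ = LinearMap.id from fun w => LinearMap.congr_fun this w
    refine (Pi.basisFun S σ).ext fun j => ?_
    ext i
    simp only [LinearMap.comp_apply, ψ, Module.Basis.constr_basis, LinearMap.id_apply, lam]
    rw [Extension.cotangentComplex_mk]
    have e := congrFun (congrFun hL i) j
    simp only [Matrix.mul_apply, Matrix.of_apply] at e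
    simp only [Matrix.mulVecLin_apply, Matrix.mulVec, dotProduct, LinearEquiv.coe_coe,
      Module.Basis.equivFun_apply, Pi.basisFun_apply]
    rw [Pi.single_apply, ← Matrix.one_apply, ← e]
    refine Finset.sum_congr rfl fun k _ => ?_
    congr 1
    exact P.cotangentSpaceBasis_repr_one_tmul _ _
  have hsplit : (ψ ∘ₗ lam) ∘ₗ E.cotangentComplex = LinearMap.id := by
    ext1 x
    obtain ⟨w, rfl⟩ := hψ x
    simp [hlam]
  have : Algebra.FormallySmooth R E.Ring := inferInstanceAs (Algebra.FormallySmooth R (MvPolynomial ι R))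
  refine ⟨(E.formallySmooth_iff_split_injection).2 ⟨_, hsplit⟩, ?_⟩
  let T : E.CotangentSpace →ₗ[S] Ω[S⁄R] × (σ → S) := E.toKaehler.prod lam
  have hT : Function.Bijective T := by
    constructor
    · rw [injective_iff_map_eq_zero]
      intro v hv
      obtain ⟨h1, h2⟩ := Prod.ext_iff.1 hv
      obtain ⟨x, rfl⟩ := (E.exact_cotangentComplex_toKaehler v).1 h1
      obtain ⟨w, rfl⟩ := hψ x
      replace h2 : lam (E.cotangentComplex (ψ w)) = 0 := h2
      rw [hlam] at h2
      simp [h2]
    · rintro ⟨ω, w⟩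
      obtain ⟨v, rfl⟩ := E.toKaehler_surjective ω
      refine ⟨v + E.cotangentComplex (ψ (w - lam v)), ?_⟩
      have h0 : E.toKaehler (E.cotangentComplex (ψ (w - lam v))) = 0 :=
        E.exact_cotangentComplex_toKaehler.apply_apply_eq_zero _
      ext1
      · show E.toKaehler (v + _) = E.toKaehler v
        rw [map_add, h0, add_zero]
      · show lam (v + _) = w
        rw [map_add, hlam]; abel
  exact ⟨(LinearEquiv.ofBijective T hT).symm ≪≫ₗ b.equivFun⟩

end Groth.NeronArea.Jacobian
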