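import Groth.Agent.Abvar.AlgClosedAux
import Groth.Prelude.Def_AlgGrp
import Groth.Prelude.Def_AbDual

/-! Counting torsion points in extensions, and lifting points along surjective morphisms. -/

set_option autoImplicit false
set_option linter.style.haveILetI false

universe u v w

open CategoryTheory CategoryTheory.Limits MonoidalCategory CartesianMonoidalCategory MonObj
  AlgebraicGeometry

namespace Groth.NeronArea.TorsCount

section Abstract

variable {G H N : Type*} [CommGroup G] [Group H] [Group N]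

/-- Torsion of an extension whose quotient is torsion-free. -/
theorem natCard_ker_left (i : N →* G) (q : G →* H) (hi : Function.Injective i)
    (hex : ∀ g, q g = 1 → ∃ x, i x = g) (n : ℕ) (hH : ∀ h : H, h ^ n = 1 → h = 1) :
    Nat.card {x : N // x ^ n = 1} = Nat.card {g : G // g ^ n = 1} := by
  refine Nat.card_eq_of_bijective
    (fun x => ⟨i x.1, by rw [← map_pow, x.2, map_one]⟩) ⟨fun x y h => Subtype.ext (hi (congrArg Subtype.val h)), ?_⟩
  rintro ⟨g, hg⟩
  obtain ⟨x, rfl⟩ := hex g (hH _ (by rw [← map_pow, hg, map_one]))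
  exact ⟨⟨x, hi (by rw [map_pow, hg, map_one])⟩, rfl⟩

/-- Torsion of an extension whose kernel is uniquely divisible. -/
theorem natCard_ker_right (i : N →* G) (q : G →* H) (hi : Function.Injective i)
    (hqi : ∀ x, q (i x) = 1) (hex : ∀ g, q g = 1 → ∃ x, i x = g) (hq : Function.Surjective q)
    (n : ℕ) (hN : Function.Bijective fun x : N => x ^ n) :
    Nat.card {g : G // g ^ n = 1} = Nat.card {h : H // h ^ n = 1} := by
  refine Nat.card_eq_of_bijective
    (fun g => ⟨q g.1, by rw [← map_pow, g.2, map_one]⟩) ⟨fun a b h => ?_, ?_⟩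
  · have h1 : q (a.1 / b.1) = 1 := by
      rw [map_div, show q a.1 = q b.1 from congrArg Subtype.val h, div_self']
    obtain ⟨x, hx⟩ := hex _ h1
    have h2 : i (x ^ n) = 1 := by rw [map_pow, hx, div_pow, a.2, b.2, div_self']
    have h3 : x = 1 := hN.1 (by
      show x ^ n = 1 ^ n
      rw [one_pow]
      exact hi (by rw [h2, map_one]))
    refine Subtype.ext (div_eq_one.1 ?_)
    rw [← hx, h3, map_one]
  · rintro ⟨h, hh⟩
    obtain ⟨g, rfl⟩ := hq h
    obtain ⟨x, hx⟩ := hex (g ^ n) (by rw [map_pow, hh])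
    obtain ⟨y, rfl⟩ := hN.2 x
    refine ⟨⟨g / i y, by rw [div_pow, ← hx]; simp⟩, Subtype.ext ?_⟩
    show q (g / i y) = q g
    rw [map_div, hqi, div_one]

end Abstract

section Points

variable {S : Scheme.{u}} {N G Q : Over S} [GrpObj N] [GrpObj G] [GrpObj Q]

/-- Composition with a homomorphism, on points. -/
def ptsHom (T : Over S) (f : G ⟶ Q) [IsMonHom f] : (T ⟶ G) →* (T ⟶ Q) where
  toFun x := x ≫ f
  map_one' := MonObj.one_comp f
  map_mul' a b := MonObj.mul_comp a b f

theorem mono_of_isKernel {i : N ⟶ G} {q : G ⟶ Q} (h : AlgGrp.IsKernel i q) : Mono i := by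
  haveI : Mono η[Q] := isTerminalTensorUnit.mono_from _
  exact h.mono_fst_of_mono

theorem isKernel_pts {i : N ⟶ G} [IsMonHom i] {q : G ⟶ Q} [IsMonHom q] (h : AlgGrp.IsKernel i q)
    (T : Over S) :
    Function.Injective (ptsHom T i) ∧ (∀ x, ptsHom T q (ptsHom T i x) = 1) ∧
      ∀ g, ptsHom T q g = 1 → ∃ x, ptsHom T i x = g := by
  haveI := mono_of_isKernel h
  refine ⟨fun x y hxy => (cancel_mono i).1 hxy, fun x => ?_, fun g hg => ?_⟩
  · show (x ≫ i) ≫ q = 1
    rw [Category.assoc, h.w, ← Category.assoc, MonObj.one_eq_one, Hom.one_def]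
    congr 1
    exact toUnit_unique _ _
  · have hg' : g ≫ q = toUnit T ≫ η[Q] := hg
    exact ⟨h.lift g (toUnit T) hg', h.lift_fst _ _ hg'⟩

omit [GrpObj N] [GrpObj Q] in
theorem natCard_torsPts [IsCommMonObj G] (n : ℕ) (T : Over S) :
    Nat.card (AbDual.torsPts G n T) = Nat.card {g : T ⟶ G // g ^ n = 1} := rfl

end Points

section Surjective

variable {k : Type u} [Field k]

/-- Points with values in an algebraically closed field lift along surjective morphisms. -/
theorem surjective_comp_pts {X Y : Over (Spec (CommRingCat.of k))} (q : X ⟶ Y) [Surjective q.left]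
    [LocallyOfFiniteType X.hom] (K : Type u) [Field K] [IsAlgClosed K]
    (s : Spec (CommRingCat.of K) ⟶ Spec (CommRingCat.of k)) :
    Function.Surjective fun x : Over.mk s ⟶ X => x ≫ q := by
  intro y
  haveI : LocallyOfFiniteType q.left := by
    haveI : LocallyOfFiniteType (q.left ≫ Y.hom) := by rw [Over.w q]; infer_instance
    exact locallyOfFiniteType_of_comp q.left Y.hom
  let Z : Over (Spec (CommRingCat.of K)) := Over.mk (pullback.snd q.left y.left)
  haveI : LocallyOfFiniteType Z.hom := inferInstanceAs (LocallyOfFiniteType (pullback.snd q.left y.left))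
  haveI : Surjective (pullback.snd q.left y.left) :=
    MorphismProperty.pullback_snd (P := @Surjective) _ _ inferInstance
  haveI := LocallyOfFiniteType.jacobsonSpace Z.hom
  obtain ⟨z, -⟩ := (pullback.snd q.left y.left).surjective (IsLocalRing.closedPoint K)
  obtain ⟨c, -, hc⟩ := nonempty_inter_closedPoints (Z := (Set.univ : Set Z.left)) ⟨z, trivial⟩
    isClosed_univ.isLocallyClosed
  obtain ⟨p, -⟩ := Groth.Abvar.exists_rationalPoint Z hc
  have hp : p.left ≫ pullback.snd q.left y.left = 𝟙 _ := Over.w p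
  have hx : (p.left ≫ pullback.fst q.left y.left) ≫ q.left = y.left := by
    rw [Category.assoc, pullback.condition, ← Category.assoc, hp]
    exact Category.id_comp _
  refine ⟨Over.homMk (p.left ≫ pullback.fst q.left y.left) ?_, Over.OverMorphism.ext hx⟩
  rw [← Over.w q, ← Category.assoc]
  erw [hx]
  exact Over.w y

variable [IsAlgClosed k]

/-- A smooth separated group scheme over an algebraically closed field with commutative group of points
is commutative. -/
theorem isCommMonObj_of_pts (V : Over (Spec (CommRingCat.of k))) [GrpObj V] [Smooth V.hom]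
    [IsSeparated V.hom]
    (h : ∀ a b : 𝟙_ (Over (Spec (CommRingCat.of k))) ⟶ V, a * b = b * a) : IsCommMonObj V := by
  constructor
  haveI : Smooth (V ⊗ V).hom := inferInstanceAs (Smooth (pullback.fst V.hom V.hom ≫ V.hom))
  haveI : IsReduced (V ⊗ V).left := Groth.AlgGrp1.isReduced_of_smooth (V ⊗ V).hom
  refine Over.OverMorphism.ext ?_
  haveI : LocallyOfFiniteType (((β_ V V).hom ≫ μ[V]).left ≫ V.hom) := by
    rw [Over.w]; infer_instance
  refine ext_of_apply_eq V.hom Set.univ isClosed_univ.isLocallyClosed dense_univ (fun x _ hx => ?_)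
    (by rw [Over.w, Over.w])
  obtain ⟨p, hp⟩ := Groth.Abvar.exists_rationalPoint (V ⊗ V) hx
  have h1 : p ≫ (β_ V V).hom ≫ μ[V] = p ≫ μ[V] := by
    have e1 : p ≫ μ[V] = (p ≫ fst V V) * (p ≫ snd V V) := by
      rw [Hom.mul_def, lift_comp_fst_snd]
    have e2 : p ≫ (β_ V V).hom ≫ μ[V] = (p ≫ snd V V) * (p ≫ fst V V) := by
      rw [Hom.mul_def, ← Category.assoc]
      congr 1
      ext <;> simp
    rw [e1, e2, h]
  rw [← hp]
  exact congrArg (fun m => (m : 𝟙_ (Over (Spec (CommRingCat.of k))) ⟶ V).left.base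
    (IsLocalRing.closedPoint k)) h1

end Surjective

end Groth.NeronArea.TorsCount
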