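import Mathlib.AlgebraicGeometry.Morphisms.Affine
import Mathlib.AlgebraicGeometry.Morphisms.Flat
import Mathlib.RingTheory.Localization.BaseChange
import Groth.Agent.NeronArea.GenericDense
import Groth.Agent.Reductive.MultGa
import Groth.Agent.Reductive.Points

/-! Global functions as morphisms into the additive group. -/

set_option autoImplicit false
set_option linter.style.haveILetI false

universe u

open CategoryTheory CategoryTheory.Limits MonoidalCategory CartesianMonoidalCategory MonObj GrpObj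
  AlgebraicGeometry Groth.Reductive

open scoped CategoryTheory.Obj

namespace Groth.NeronArea.GaCoord

variable {R : Type u} [CommRing R]

/-- Constants as global functions. -/
noncomputable def cst (X : Over (Spec (CommRingCat.of R))) : R →+* Γ(X.left, ⊤) :=
  X.hom.appTop.hom.comp (Scheme.ΓSpecIso (CommRingCat.of R)).inv.hom

theorem cst_comp {X Y : Over (Spec (CommRingCat.of R))} (g : X ⟶ Y) (r : R) :
    g.left.appTop (cst Y r) = cst X r := by
  show g.left.appTop (Y.hom.appTop _) = X.hom.appTop _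
  rw [← CommRingCat.comp_apply, ← Scheme.Hom.comp_appTop, Over.w g]

/-- Evaluation of a polynomial at a global function. -/
noncomputable def ev (X : Over (Spec (CommRingCat.of R))) (u : Γ(X.left, ⊤)) :
    Polynomial R →+* Γ(X.left, ⊤) :=
  Polynomial.eval₂RingHom (cst X) u

theorem comp_ev {X Y : Over (Spec (CommRingCat.of R))} (g : X ⟶ Y) (u : Γ(Y.left, ⊤))
    (P : Polynomial R) : g.left.appTop (ev Y u P) = ev X (g.left.appTop u) P := by
  show g.left.appTop.hom (Polynomial.eval₂ (cst Y) u P) = Polynomial.eval₂ (cst X) _ P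
  rw [Polynomial.hom_eval₂]
  congr 1
  exact RingHom.ext (cst_comp g)

theorem ev_X (X : Over (Spec (CommRingCat.of R))) (u : Γ(X.left, ⊤)) : ev X u Polynomial.X = u :=
  Polynomial.eval₂_X _ _

theorem ev_C (X : Over (Spec (CommRingCat.of R))) (u : Γ(X.left, ⊤)) (r : R) :
    ev X u (Polynomial.C r) = cst X r :=
  Polynomial.eval₂_C _ _

theorem toSpecΓ_specMap_appTop (Z : Scheme.{u}) {B : Type u} [CommRing B] (ψ : B →+* Γ(Z, ⊤)) (b : B) :
    (Z.toSpecΓ ≫ Spec.map (CommRingCat.ofHom ψ)).appTop ((Scheme.ΓSpecIso (CommRingCat.of B)).inv b) =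
      ψ b := by
  rw [Scheme.Hom.comp_appTop, CommRingCat.comp_apply, Scheme.toSpecΓ_appTop,
    ← CommRingCat.comp_apply (Scheme.ΓSpecIso (CommRingCat.of B)).inv, ← Scheme.ΓSpecIso_inv_naturality,
    CommRingCat.comp_apply, ← CommRingCat.comp_apply, Iso.inv_hom_id]
  rfl

theorem hom_ext_Spec {Z : Scheme.{u}} {B : Type u} [CommRing B] (g g' : Z ⟶ Spec (CommRingCat.of B))
    (h : ∀ b : B, g.appTop ((Scheme.ΓSpecIso (CommRingCat.of B)).inv b) =
      g'.appTop ((Scheme.ΓSpecIso (CommRingCat.of B)).inv b)) : g = g' := by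
  refine ext_of_isAffine ?_
  rw [← cancel_epi (Scheme.ΓSpecIso (CommRingCat.of B)).inv]
  ext b
  exact h b

variable (R) in
/-- The affine line as the spectrum of the polynomial ring. -/
noncomputable abbrev line : Over (Spec (CommRingCat.of R)) :=
  Over.mk (Spec.map (CommRingCat.ofHom (Polynomial.C : R →+* Polynomial R)))

variable (R) in
/-- The coordinate of the affine line. -/
noncomputable def lineX : Γ((line R).left, ⊤) :=
  (Scheme.ΓSpecIso (CommRingCat.of (Polynomial R))).inv Polynomial.X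

theorem ev_line (P : Polynomial R) :
    ev (line R) (lineX R) P = (Scheme.ΓSpecIso (CommRingCat.of (Polynomial R))).inv P := by
  have h : ev (line R) (lineX R) = (Scheme.ΓSpecIso (CommRingCat.of (Polynomial R))).inv.hom := by
    refine Polynomial.ringHom_ext (fun r => ?_) (ev_X _ _)
    rw [ev_C]
    show (Spec.map _).appTop ((Scheme.ΓSpecIso (CommRingCat.of R)).inv r) = _
    rw [← CommRingCat.comp_apply, ← Scheme.ΓSpecIso_inv_naturality, CommRingCat.comp_apply]
    rfl
  exact RingHom.congr_fun h P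

/-- The morphism to the affine line given by a function. -/
noncomputable def toLine (X : Over (Spec (CommRingCat.of R))) (u : Γ(X.left, ⊤)) : X ⟶ line R :=
  Over.homMk (X.left.toSpecΓ ≫ Spec.map (CommRingCat.ofHom (ev X u))) (by
    refine hom_ext_Spec _ _ fun r => ?_
    rw [Scheme.Hom.comp_appTop, CommRingCat.comp_apply]
    show (X.left.toSpecΓ ≫ Spec.map (CommRingCat.ofHom (ev X u))).appTop
      ((Spec.map (CommRingCat.ofHom (Polynomial.C : R →+* Polynomial R))).appTop
        ((Scheme.ΓSpecIso (CommRingCat.of R)).inv r)) = cst X r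
    rw [← CommRingCat.comp_apply (Scheme.ΓSpecIso (CommRingCat.of R)).inv,
      ← Scheme.ΓSpecIso_inv_naturality, CommRingCat.comp_apply]
    exact (toSpecΓ_specMap_appTop _ _ _).trans (ev_C X u r))

theorem toLine_appTop (X : Over (Spec (CommRingCat.of R))) (u : Γ(X.left, ⊤)) :
    (toLine X u).left.appTop (lineX R) = u :=
  (toSpecΓ_specMap_appTop _ _ _).trans (ev_X X u)

theorem toLine_comp_gaMk (X : Over (Spec (CommRingCat.of R))) (u : Γ(X.left, ⊤)) :
    toLine X u ≫ gaMk (line R) (lineX R) = gaMk X u := by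
  apply gaFn_injective
  rw [Groth.Reductive.gaFn_comp, gaFn_gaMk, gaFn_gaMk, toLine_appTop]

theorem gaMk_gaFn {X : Over (Spec (CommRingCat.of R))} (x : X ⟶ Red.Ga (Spec (CommRingCat.of R))) :
    gaMk X (Red.gaFn x) = x :=
  gaFn_injective (gaFn_gaMk _)

/-- A scheme-theoretically dominant restriction detects functions on flat schemes. -/
theorem appTop_fst_injective {S : Scheme.{u}} (j : S ⟶ Spec (CommRingCat.of R))
    [IsSchemeTheoreticallyDominant j] [QuasiCompact j] (Y : Over (Spec (CommRingCat.of R))) [Flat Y.hom] :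
    Function.Injective (pullback.fst Y.hom j).appTop := by
  intro a b h
  haveI : IsAffine Red.GaZ.{u}.left :=
    inferInstanceAs (IsAffine (Spec (CommRingCat.of (SymmetricAlgebra (ULift.{u} ℤ) (ULift.{u} ℤ)))))
  haveI : IsAffineHom Red.GaZ.{u}.hom := isAffineHom_of_isAffine _
  haveI : IsSeparated (Red.Ga (Spec (CommRingCat.of R))).hom :=
    inferInstanceAs (IsSeparated (pullback.snd Red.GaZ.hom _))
  let W : Over (Spec (CommRingCat.of R)) := Over.mk (pullback.fst Y.hom j ≫ Y.hom)
  let p : W ⟶ Y := Over.homMk (pullback.fst Y.hom j)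
  have hp : p ≫ gaMk Y a = p ≫ gaMk Y b := by
    apply gaFn_injective
    rw [Groth.Reductive.gaFn_comp, Groth.Reductive.gaFn_comp, gaFn_gaMk, gaFn_gaMk]
    exact h
  have he := Groth.GrpschAbsch.ext_of_isSchemeTheoreticallyDominant
    (Red.Ga (Spec (CommRingCat.of R))).hom
    ((Over.w (gaMk Y a)).trans (Over.w (gaMk Y b)).symm) (pullback.fst Y.hom j)
    (congrArg CommaMorphism.left hp)
  have : gaMk Y a = gaMk Y b := Over.OverMorphism.ext he
  rw [← gaFn_gaMk (X := Y) a, this, gaFn_gaMk]

section Additive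

variable (G : Over (Spec (CommRingCat.of R))) [GrpObj G] (T : Γ(G.left, ⊤))

/-- A function which is additive on a product is a homomorphism to the additive group. -/
theorem isMonHom_gaMk
    (h : (μ[G]).left.appTop T = (fst G G).left.appTop T + (snd G G).left.appTop T) :
    IsMonHom (gaMk G T) := by
  have hadd : ∀ {Y : Over (Spec (CommRingCat.of R))} (a b : Y ⟶ G),
      (a * b).left.appTop T = a.left.appTop T + b.left.appTop T := fun {Y} a b => by
    rw [Hom.mul_def, Over.comp_left, Scheme.Hom.comp_appTop, CommRingCat.comp_apply, h, map_add,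
      ← CommRingCat.comp_apply, ← CommRingCat.comp_apply, ← Scheme.Hom.comp_appTop,
      ← Scheme.Hom.comp_appTop, ← Over.comp_left, ← Over.comp_left, lift_fst, lift_snd]
  have hφ : ∀ {Y : Over (Spec (CommRingCat.of R))} (a b : Y ⟶ G),
      (a * b) ≫ gaMk G T = (a ≫ gaMk G T) * (b ≫ gaMk G T) := fun {Y} a b => by
    apply gaFn_injective
    rw [gaFn_mul, Groth.Reductive.gaFn_comp, Groth.Reductive.gaFn_comp, Groth.Reductive.gaFn_comp,
      gaFn_gaMk, hadd]
  have hone : (1 : 𝟙_ (Over (Spec (CommRingCat.of R))) ⟶ G) ≫ gaMk G T = 1 := by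
    have h1 := hφ (1 : 𝟙_ (Over (Spec (CommRingCat.of R))) ⟶ G) 1
    rw [_root_.mul_one] at h1
    apply gaFn_injective
    have h2 := congrArg Red.gaFn h1
    rw [gaFn_mul] at h2
    rw [gaFn_one]
    linear_combination -h2
  refine ⟨?_, ?_⟩
  · rw [Hom.one_def, Hom.one_def, toUnit_unique (toUnit _) (𝟙 _), Category.id_comp,
      Category.id_comp] at hone
    exact hone
  · have h1 := hφ (fst G G) (snd G G)
    rw [← MonObj.mul_eq_mul, Hom.mul_def (fst G G ≫ gaMk G T)] at h1
    rw [h1]
    congr 1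
    all_goals (ext <;> simp)

theorem add_of_isMonHom {Y : Over (Spec (CommRingCat.of R))} (φ : G ⟶ Red.Ga (Spec (CommRingCat.of R)))
    [IsMonHom φ] (a b : Y ⟶ G) :
    (a * b).left.appTop (Red.gaFn φ) = a.left.appTop (Red.gaFn φ) + b.left.appTop (Red.gaFn φ) := by
  rw [← Groth.Reductive.gaFn_comp, ← Groth.Reductive.gaFn_comp, ← Groth.Reductive.gaFn_comp,
    MonObj.mul_comp a b φ, gaFn_mul]

end Additive

section BaseChange

variable {R' : Type u} [CommRing R'] (g : R →+* R') (G : Over (Spec (CommRingCat.of R))) [GrpObj G]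

theorem cst_pullback (r : R) :
    (pullback.fst G.hom (Spec.map (CommRingCat.ofHom g))).appTop (cst G r) =
      cst (Red.bc (Spec.map (CommRingCat.ofHom g)) G) (g r) := by
  show (pullback.fst G.hom (Spec.map (CommRingCat.ofHom g))).appTop (G.hom.appTop _) =
    (pullback.snd G.hom (Spec.map (CommRingCat.ofHom g))).appTop _
  rw [← CommRingCat.comp_apply, ← Scheme.Hom.comp_appTop, pullback.condition, Scheme.Hom.comp_appTop,
    CommRingCat.comp_apply, ← CommRingCat.comp_apply (Scheme.ΓSpecIso (CommRingCat.of R)).inv,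
    ← Scheme.ΓSpecIso_inv_naturality, CommRingCat.comp_apply]
  rfl

theorem ev_pullback (T : Γ(G.left, ⊤)) (P : Polynomial R) :
    (pullback.fst G.hom (Spec.map (CommRingCat.ofHom g))).appTop (ev G T P) =
      ev (Red.bc (Spec.map (CommRingCat.ofHom g)) G)
        ((pullback.fst G.hom (Spec.map (CommRingCat.ofHom g))).appTop T) (P.map g) := by
  show (pullback.fst G.hom (Spec.map (CommRingCat.ofHom g))).appTop.hom (Polynomial.eval₂ _ _ P) = _
  rw [Polynomial.hom_eval₂]
  show _ = Polynomial.eval₂ _ _ (P.map g)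
  rw [Polynomial.eval₂_map]
  congr 1
  exact RingHom.ext (cst_pullback g G)

theorem add_pullback (T : Γ(G.left, ⊤))
    (hT : ∀ {Y : Over (Spec (CommRingCat.of R))} (a b : Y ⟶ G),
      (a * b).left.appTop T = a.left.appTop T + b.left.appTop T)
    {Z : Over (Spec (CommRingCat.of R'))} (a b : Z ⟶ Red.bc (Spec.map (CommRingCat.ofHom g)) G) :
    (a * b).left.appTop ((pullback.fst G.hom (Spec.map (CommRingCat.ofHom g))).appTop T) =
      a.left.appTop ((pullback.fst G.hom (Spec.map (CommRingCat.ofHom g))).appTop T) +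
        b.left.appTop ((pullback.fst G.hom (Spec.map (CommRingCat.ofHom g))).appTop T) := by
  let E := Groth.Reductive.bcPointEquiv (Spec.map (CommRingCat.ofHom g)) G Z
  have h : ∀ z : Z ⟶ Red.bc (Spec.map (CommRingCat.ofHom g)) G,
      z.left.appTop ((pullback.fst G.hom (Spec.map (CommRingCat.ofHom g))).appTop T) =
        (E z).left.appTop T := fun z => by
    rw [← CommRingCat.comp_apply, ← Scheme.Hom.comp_appTop]
    rfl
  rw [h, h, h, map_mul E a b]
  exact hT (E a) (E b)

theorem add_of_generic [Flat G.hom]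
    [IsSchemeTheoreticallyDominant (Spec.map (CommRingCat.ofHom g))] (T : Γ(G.left, ⊤))
    (hT : ∀ {Z : Over (Spec (CommRingCat.of R'))} (a b : Z ⟶ Red.bc (Spec.map (CommRingCat.ofHom g)) G),
      (a * b).left.appTop ((pullback.fst G.hom (Spec.map (CommRingCat.ofHom g))).appTop T) =
        a.left.appTop ((pullback.fst G.hom (Spec.map (CommRingCat.ofHom g))).appTop T) +
          b.left.appTop ((pullback.fst G.hom (Spec.map (CommRingCat.ofHom g))).appTop T)) :
    (μ[G]).left.appTop T = (fst G G).left.appTop T + (snd G G).left.appTop T := by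
  haveI : Flat (G ⊗ G).hom := inferInstanceAs (Flat (pullback.fst G.hom G.hom ≫ G.hom))
  haveI : QuasiCompact (Spec.map (CommRingCat.ofHom g)) := inferInstance
  apply appTop_fst_injective (Spec.map (CommRingCat.ofHom g)) (G ⊗ G)
  rw [map_add]
  let jj := Spec.map (CommRingCat.ofHom g)
  let Z := Red.bc jj (G ⊗ G)
  have key : ∀ x : G ⊗ G ⟶ G, (pullback.fst (G ⊗ G).hom jj).appTop (x.left.appTop T) =
      ((Over.pullback jj).map x).left.appTop ((pullback.fst G.hom jj).appTop T) := fun x => by
    rw [← CommRingCat.comp_apply, ← CommRingCat.comp_apply, ← Scheme.Hom.comp_appTop,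
      ← Scheme.Hom.comp_appTop]
    congr 2
    exact congrArg Scheme.Hom.appTop (pullback.lift_fst _ _ _).symm
  rw [key, key, key, MonObj.mul_eq_mul]
  show ((Over.pullback jj).homMonoidHom (fst G G * snd G G)).left.appTop _ = _
  rw [map_mul]
  exact hT _ _

end BaseChange

/-- An affine scheme with a coordinate is the additive group. -/
theorem isIso_gaMk (G : Over (Spec (CommRingCat.of R))) [IsAffine G.left] (T : Γ(G.left, ⊤))
    (h : Function.Bijective (ev G T)) : IsIso (gaMk G T) := by
  let Ga := Red.Ga (Spec (CommRingCat.of R))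
  let x : Γ(Ga.left, ⊤) := Red.gaFn (𝟙 Ga)
  let e := RingEquiv.ofBijective (ev G T) h
  let ψh : Γ(G.left, ⊤) →+* Γ(Ga.left, ⊤) := (ev Ga x).comp e.symm.toRingHom
  have hψ : ∀ a, (Ga.left.toSpecΓ ≫ Spec.map (CommRingCat.ofHom ψh) ≫ G.left.isoSpec.inv).appTop a = ψh a := by
    intro a
    have h1 : G.left.isoSpec.inv.appTop a = (Scheme.ΓSpecIso Γ(G.left, ⊤)).inv a := by
      have h2 : a = G.left.toSpecΓ.appTop ((Scheme.ΓSpecIso Γ(G.left, ⊤)).inv a) := by
        rw [Scheme.toSpecΓ_appTop, ← CommRingCat.comp_apply, Iso.inv_hom_id]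
        rfl
      conv_lhs => rw [h2]
      rw [← CommRingCat.comp_apply, ← Scheme.Hom.comp_appTop, Scheme.isoSpec_inv_toSpecΓ]
      rfl
    rw [← Category.assoc, Scheme.Hom.comp_appTop, CommRingCat.comp_apply, h1]
    exact toSpecΓ_specMap_appTop _ _ _
  let ψ : Ga ⟶ G := Over.homMk (Ga.left.toSpecΓ ≫ Spec.map (CommRingCat.ofHom ψh) ≫ G.left.isoSpec.inv) (by
    refine hom_ext_Spec _ _ fun r => ?_
    rw [Scheme.Hom.comp_appTop, CommRingCat.comp_apply]
    refine (hψ _).trans ?_
    show ev Ga x (e.symm (cst G r)) = cst Ga r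
    rw [show cst G r = e (Polynomial.C r) from (ev_C G T r).symm, e.symm_apply_apply, ev_C])
  refine ⟨⟨ψ, Over.OverMorphism.ext (ext_of_isAffine ?_), ?_⟩⟩
  · ext a
    show ((gaMk G T ≫ ψ).left).appTop a = _
    rw [Over.comp_left, Scheme.Hom.comp_appTop, CommRingCat.comp_apply]
    erw [hψ a]
    show (gaMk G T).left.appTop (ev Ga x (e.symm a)) = _
    rw [comp_ev, ← Groth.Reductive.gaFn_comp, Category.comp_id, gaFn_gaMk]
    show e (e.symm a) = _
    rw [e.apply_symm_apply]
    rfl
  · apply gaFn_injective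
    rw [Groth.Reductive.gaFn_comp, gaFn_gaMk]
    refine (hψ T).trans ?_
    show ev Ga x (e.symm T) = x
    rw [show T = e Polynomial.X from (ev_X G T).symm, e.symm_apply_apply, ev_X]

/-- The functions on an object isomorphic to the additive group are polynomials in the coordinate. -/
theorem bijective_ev_of_iso {X : Over (Spec (CommRingCat.of R))}
    (e : X ≅ Red.Ga (Spec (CommRingCat.of R))) : Function.Bijective (ev X (Red.gaFn e.hom)) := by
  let Ga := Red.Ga (Spec (CommRingCat.of R))
  let z : line R ⟶ X := gaMk (line R) (lineX R) ≫ e.inv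
  have h1 : ∀ P, z.left.appTop (ev X (Red.gaFn e.hom) P) =
      (Scheme.ΓSpecIso (CommRingCat.of (Polynomial R))).inv P := fun P => by
    rw [comp_ev, ← Groth.Reductive.gaFn_comp, Category.assoc, e.inv_hom_id, Category.comp_id,
      gaFn_gaMk, ev_line]
  have hinv : (toLine Ga (Red.gaFn (𝟙 Ga)) ≫ gaMk (line R) (lineX R)) = 𝟙 Ga := by
    rw [toLine_comp_gaMk, gaMk_gaFn]
  have h2 : (e.hom ≫ toLine Ga (Red.gaFn (𝟙 Ga))) ≫ z = 𝟙 X := by
    rw [Category.assoc, ← Category.assoc (toLine Ga _), hinv, Category.id_comp, e.hom_inv_id]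
  have hinj : Function.Injective z.left.appTop := fun a b hab => by
    have := congrArg ((e.hom ≫ toLine Ga (Red.gaFn (𝟙 Ga))).left.appTop) hab
    rw [← CommRingCat.comp_apply, ← CommRingCat.comp_apply, ← Scheme.Hom.comp_appTop,
      ← Over.comp_left, h2] at this
    exact this
  refine ⟨fun P Q hPQ => ?_, fun a => ⟨(Scheme.ΓSpecIso (CommRingCat.of (Polynomial R))).hom
    (z.left.appTop a), hinj ?_⟩⟩
  · have h3 := congrArg (fun t => (Scheme.ΓSpecIso (CommRingCat.of (Polynomial R))).hom
      (z.left.appTop t)) hPQ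
    simp only [h1] at h3
    rwa [← CommRingCat.comp_apply, ← CommRingCat.comp_apply, Iso.inv_hom_id] at h3
  · rw [h1, ← CommRingCat.comp_apply, Iso.hom_inv_id]
    rfl

section Affine

variable {R' : Type u} [CommRing R'] [Algebra R R'] (G : Over (Spec (CommRingCat.of R))) [IsAffine G.left]

/-- The kernel of restriction to a closed base is generated by the kernel on the base. -/
theorem ker_appTop_fst (hs : Function.Surjective (algebraMap R R')) (a : Γ(G.left, ⊤))
    (ha : (pullback.fst G.hom (Spec.map (CommRingCat.ofHom (algebraMap R R')))).appTop a = 0) :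
    a ∈ (RingHom.ker (algebraMap R R')).map (cst G) := by
  let J := (RingHom.ker (algebraMap R R')).map (cst G)
  have hsq : IsPushout G.hom.appTop (Spec.map (CommRingCat.ofHom (algebraMap R R'))).appTop
      (pullback.fst G.hom (Spec.map (CommRingCat.ofHom (algebraMap R R')))).appTop
      (pullback.snd G.hom (Spec.map (CommRingCat.ofHom (algebraMap R R')))).appTop :=
    isPushout_appTop_of_isPullback (IsPullback.of_hasPullback _ _)
  have hJ : ∀ r ∈ RingHom.ker (algebraMap R R'), (Ideal.Quotient.mk J).comp (cst G) r = 0 :=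
    fun r hr => Ideal.Quotient.eq_zero_iff_mem.2 (Ideal.mem_map_of_mem (cst G) hr)
  let χ : R' →+* Γ(G.left, ⊤) ⧸ J :=
    (Ideal.Quotient.lift (RingHom.ker (algebraMap R R')) ((Ideal.Quotient.mk J).comp (cst G)) hJ).comp
      (RingHom.quotientKerEquivOfSurjective (f := algebraMap R R') hs).symm.toRingHom
  have hχ : ∀ r, χ (algebraMap R R' r) = Ideal.Quotient.mk J (cst G r) := fun r => by
    show Ideal.Quotient.lift (RingHom.ker (algebraMap R R')) ((Ideal.Quotient.mk J).comp (cst G)) hJ
      ((RingHom.quotientKerEquivOfSurjective (f := algebraMap R R') hs).symm (algebraMap R R' r)) = _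
    rw [show (RingHom.quotientKerEquivOfSurjective (f := algebraMap R R') hs).symm (algebraMap R R' r) =
      Ideal.Quotient.mk _ r from (RingEquiv.symm_apply_eq _).2 rfl, Ideal.Quotient.lift_mk]
    rfl
  have hw : G.hom.appTop ≫ CommRingCat.ofHom (Ideal.Quotient.mk J) =
      (Spec.map (CommRingCat.ofHom (algebraMap R R'))).appTop ≫
        (Scheme.ΓSpecIso (CommRingCat.of R')).hom ≫ CommRingCat.ofHom χ := by
    rw [Scheme.ΓSpecIso_naturality_assoc, ← cancel_epi (Scheme.ΓSpecIso (CommRingCat.of R)).inv,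
      Iso.inv_hom_id_assoc]
    ext r
    exact (hχ r).symm
  have h0 := congrArg (fun m => m a) (hsq.inl_desc _ _ hw)
  rw [CommRingCat.comp_apply, ha, map_zero] at h0
  exact Ideal.Quotient.eq_zero_iff_mem.1 h0.symm

/-- Functions on the generic fibre are fractions of functions. -/
theorem exists_fst_eq (M : Submonoid R) [IsLocalization M R']
    (b : Γ(pullback G.hom (Spec.map (CommRingCat.ofHom (algebraMap R R'))), ⊤)) :
    ∃ (m : M) (a : Γ(G.left, ⊤)),
      (pullback.fst G.hom (Spec.map (CommRingCat.ofHom (algebraMap R R')))).appTop a =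
        (pullback.fst G.hom (Spec.map (CommRingCat.ofHom (algebraMap R R')))).appTop (cst G m) * b := by
  let jj := Spec.map (CommRingCat.ofHom (algebraMap R R'))
  let i : Γ(G.left, ⊤) →+* Γ(pullback G.hom jj, ⊤) := (pullback.fst G.hom jj).appTop.hom
  let k : R' →+* Γ(pullback G.hom jj, ⊤) :=
    (pullback.snd G.hom jj).appTop.hom.comp (Scheme.ΓSpecIso (CommRingCat.of R')).inv.hom
  have hk : ∀ r : R, k (algebraMap R R' r) = i (cst G r) := fun r => by
    show (pullback.snd G.hom jj).appTop _ = (pullback.fst G.hom jj).appTop (G.hom.appTop _)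
    rw [← CommRingCat.comp_apply G.hom.appTop, ← Scheme.Hom.comp_appTop, pullback.condition,
      Scheme.Hom.comp_appTop, CommRingCat.comp_apply,
      ← CommRingCat.comp_apply (Scheme.ΓSpecIso (CommRingCat.of R)).inv,
      ← Scheme.ΓSpecIso_inv_naturality, CommRingCat.comp_apply]
    rfl
  let S : Subring Γ(pullback G.hom jj, ⊤) :=
    { carrier := {c | ∃ m : M, ∃ a, i a = i (cst G m) * c}
      one_mem' := ⟨1, 1, by simp⟩
      zero_mem' := ⟨1, 0, by simp⟩
      mul_mem' := by
        rintro x y ⟨m, a, ha⟩ ⟨n, c, hc⟩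
        refine ⟨m * n, a * c, ?_⟩
        rw [map_mul, Submonoid.coe_mul, map_mul (cst G), map_mul i, ha, hc]
        ring
      add_mem' := by
        rintro x y ⟨m, a, ha⟩ ⟨n, c, hc⟩
        refine ⟨m * n, a * cst G n + c * cst G m, ?_⟩
        rw [map_add, map_mul, map_mul, Submonoid.coe_mul, map_mul (cst G), map_mul i, ha, hc]
        ring
      neg_mem' := by
        rintro x ⟨m, a, ha⟩
        exact ⟨m, -a, by rw [map_neg, ha, mul_neg]⟩ }
  let i' : Γ(G.left, ⊤) →+* S := i.codRestrict S fun a => ⟨1, a, by simp⟩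
  let k' : R' →+* S := k.codRestrict S fun r => by
    obtain ⟨⟨r₀, m⟩, hrm⟩ := IsLocalization.surj M r
    exact ⟨m, cst G r₀, by rw [← hk, ← hrm, map_mul, hk, mul_comm]⟩
  have hsq : IsPushout G.hom.appTop jj.appTop (pullback.fst G.hom jj).appTop (pullback.snd G.hom jj).appTop :=
    isPushout_appTop_of_isPullback (IsPullback.of_hasPullback _ _)
  have hw : G.hom.appTop ≫ CommRingCat.ofHom i' =
      jj.appTop ≫ (Scheme.ΓSpecIso (CommRingCat.of R')).hom ≫ CommRingCat.ofHom k' := by
    rw [Scheme.ΓSpecIso_naturality_assoc, ← cancel_epi (Scheme.ΓSpecIso (CommRingCat.of R)).inv,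
      Iso.inv_hom_id_assoc]
    ext r
    exact (hk r).symm
  have hid : hsq.desc _ _ hw ≫ CommRingCat.ofHom S.subtype = 𝟙 _ := by
    apply hsq.hom_ext
    · rw [hsq.inl_desc_assoc, Category.comp_id]
      rfl
    · rw [hsq.inr_desc_assoc, Category.comp_id,
        ← cancel_epi (Scheme.ΓSpecIso (CommRingCat.of R')).inv]
      simp only [Category.assoc, Iso.inv_hom_id_assoc]
      rfl
  have hb := (hsq.desc _ _ hw b).2
  rw [show ((hsq.desc _ _ hw b : S) : Γ(pullback G.hom jj, ⊤)) = b from congrArg (fun φ => φ b) hid] at hb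
  exact hb

end Affine

end Groth.NeronArea.GaCoord
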