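import Groth.Agent.NeronArea.NilLift
import Mathlib.RingTheory.Flat.Stability
import Mathlib.RingTheory.Ideal.Quotient.Operations
import Mathlib.RingTheory.TensorProduct.Quotient

/-! Ind-smoothness lifts along nilpotent ideals: the induction. -/

open scoped TensorProduct
open Smoothing

set_option linter.style.haveILetI false

namespace Groth.NeronArea.NilLift

universe u

/-- Ind-smoothness only depends on the map up to isomorphism. -/
theorem indSmooth_transport {R₁ R₂ Λ₁ Λ₂ : Type u} [CommRing R₁] [CommRing R₂] [CommRing Λ₁] [CommRing Λ₂]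
    [Algebra R₁ Λ₁] [Algebra R₂ Λ₂] (e : R₁ ≃+* R₂) (f : Λ₁ ≃+* Λ₂)
    (hef : ∀ r, f (algebraMap R₁ Λ₁ r) = algebraMap R₂ Λ₂ (e r)) (h : IndSmooth R₁ Λ₁) :
    IndSmooth R₂ Λ₂ := by
  intro A _ _ hA φ
  letI : Algebra R₁ R₂ := e.toRingHom.toAlgebra
  letI : Algebra R₁ A := ((algebraMap R₂ A).comp e.toRingHom).toAlgebra
  have : IsScalarTower R₁ R₂ A := IsScalarTower.of_algebraMap_eq' rfl
  let eA : R₁ ≃ₐ[R₁] R₂ := AlgEquiv.ofRingEquiv (f := e) fun _ => rfl
  have : Algebra.FinitePresentation R₁ R₂ := Algebra.FinitePresentation.equiv eA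
  have : Algebra.FinitePresentation R₁ A := Algebra.FinitePresentation.trans R₁ R₂ A
  let φ₁ : A →ₐ[R₁] Λ₁ :=
    { f.symm.toRingHom.comp φ.toRingHom with
      commutes' := fun r => by
        show f.symm (φ (algebraMap R₂ A (e r))) = _
        rw [φ.commutes, ← hef, f.symm_apply_apply] }
  obtain ⟨B, _, _, hB, g, k, hk⟩ := h A inferInstance φ₁
  letI : Algebra R₂ B := ((algebraMap R₁ B).comp e.symm.toRingHom).toAlgebra
  have : IsScalarTower R₁ R₂ B := IsScalarTower.of_algebraMap_eq fun r => by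
    show _ = algebraMap R₁ B (e.symm (e r))
    rw [e.symm_apply_apply]
  have : Algebra.FormallyUnramified R₁ R₂ := Algebra.FormallyUnramified.of_surjective (Algebra.ofId R₁ R₂) e.surjective
  have : Algebra.FormallySmooth R₂ B := Algebra.FormallySmooth.of_restrictScalars R₁ R₂ B
  have : Algebra.FinitePresentation R₂ B := .of_restrict_scalars_finitePresentation R₁ R₂ B
  let g₂ : A →ₐ[R₂] B :=
    { g.toRingHom with
      commutes' := fun r => by
        show g (algebraMap R₂ A r) = algebraMap R₁ B (e.symm r)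
        conv_lhs => rw [← e.apply_symm_apply r]
        exact g.commutes (e.symm r) }
  let k₂ : B →ₐ[R₂] Λ₂ :=
    { f.toRingHom.comp k.toRingHom with
      commutes' := fun r => by
        show f (k (algebraMap R₁ B (e.symm r))) = _
        rw [k.commutes, hef, e.apply_symm_apply] }
  refine ⟨B, inferInstance, inferInstance, {}, g₂, k₂, AlgHom.ext fun a => ?_⟩
  show f (k (g a)) = φ a
  rw [show k (g a) = φ₁ a from AlgHom.congr_fun hk a]
  exact f.apply_symm_apply _

theorem indSmooth_of_pow_eq_bot (k : ℕ) :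
    ∀ (R Λ : Type u) [CommRing R] [CommRing Λ] [Algebra R Λ] [Module.Flat R Λ] (I : Ideal R),
      I ^ (k + 1) = ⊥ → IndSmooth (R ⧸ I) (Λ ⧸ I.map (algebraMap R Λ)) → IndSmooth R Λ := by
  induction k with
  | zero =>
    intro R Λ _ _ _ _ I hI h
    exact indSmooth_of_sq_zero I (by rw [pow_two]; rw [pow_one] at hI; rw [hI, Ideal.bot_mul]) h
  | succ k ih =>
    intro R Λ _ _ _ _ I hI h
    let J := I ^ (k + 1)
    have hJ : J ^ 2 = ⊥ := by
      show (I ^ (k + 1)) ^ 2 = ⊥
      rw [← pow_mul, eq_bot_iff, ← hI]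
      exact Ideal.pow_le_pow_right (by omega)
    have hJI : J ≤ I := Ideal.pow_le_self (Nat.succ_ne_zero k)
    let R' := R ⧸ J
    let JΛ := J.map (algebraMap R Λ)
    let Λ' := Λ ⧸ JΛ
    let I' : Ideal R' := I.map (Ideal.Quotient.mk J)
    have hI' : I' ^ (k + 1) = ⊥ := by
      rw [← Ideal.map_pow]; exact Ideal.map_quotient_self J
    have : Module.Flat R' Λ' := by
      let e : R' ⊗[R] Λ ≃ₗ[R'] Λ' :=
        { ((Algebra.TensorProduct.comm R R' Λ).trans
            ((Algebra.TensorProduct.quotIdealMapEquivTensorQuot Λ J).symm.restrictScalars R)).toLinearEquiv with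
          map_smul' := fun c x => by
            obtain ⟨c, rfl⟩ := Ideal.Quotient.mk_surjective c
            let E := ((Algebra.TensorProduct.comm R R' Λ).trans
            ((Algebra.TensorProduct.quotIdealMapEquivTensorQuot Λ J).symm.restrictScalars R))
            show E (Ideal.Quotient.mk J c • x) = Ideal.Quotient.mk J c • E x
            rw [show (Ideal.Quotient.mk J c • x) = c • x from algebraMap_smul R' c x, map_smul]
            exact (algebraMap_smul R' c _).symm }
      exact Module.Flat.of_linearEquiv e.symm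
    refine indSmooth_of_sq_zero J hJ (ih R' Λ' I' hI' ?_)
    have hI'Λ : I'.map (algebraMap R' Λ') = (I.map (algebraMap R Λ)).map (Ideal.Quotient.mk JΛ) := by
      rw [Ideal.map_map, Ideal.map_map]; rfl
    have hle : JΛ ≤ I.map (algebraMap R Λ) := Ideal.map_mono hJI
    refine indSmooth_transport (DoubleQuot.quotQuotEquivQuotOfLE hJI).symm
      ((DoubleQuot.quotQuotEquivQuotOfLE hle).symm.trans (Ideal.quotEquivOfEq hI'Λ.symm)) (fun r => ?_) h
    obtain ⟨r, rfl⟩ := Ideal.Quotient.mk_surjective r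
    rfl

theorem indSmooth_of_isNilpotent {R Λ : Type u} [CommRing R] [CommRing Λ] [Algebra R Λ] (I : Ideal R)
    (hI : IsNilpotent I) [Module.Flat R Λ]
    (h : IndSmooth (R ⧸ I) (Λ ⧸ I.map (algebraMap R Λ))) : IndSmooth R Λ := by
  obtain ⟨k, hk⟩ := hI
  exact indSmooth_of_pow_eq_bot k R Λ I
    (by rw [eq_bot_iff, ← Ideal.zero_eq_bot, ← hk]; exact Ideal.pow_le_pow_right (Nat.le_succ k)) h

end Groth.NeronArea.NilLift
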