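import Groth.Prelude.Def_Smoothing
import Mathlib.RingTheory.Smooth.Basic
import Mathlib.RingTheory.Smooth.Locus
import Mathlib.RingTheory.Nakayama
import Mathlib.RingTheory.Localization.AtPrime.Basic
import Mathlib.LinearAlgebra.Matrix.Rank
import Mathlib.LinearAlgebra.Matrix.NonsingularInverse
import Mathlib.LinearAlgebra.FiniteDimensional.Basic

/-! Standard elements exist near points of the smooth locus. -/

open MvPolynomial

namespace Groth.NeronArea.Standard

/-- Taylor expansion to first order along a square-zero perturbation. -/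
lemma aeval_add_of_sq_zero {R B : Type*} [CommRing R] [CommRing B] [Algebra R B] {σ : Type*}
    [Fintype σ] (u r : σ → B) (hr : ∀ i j, r i * r j = 0) (p : MvPolynomial σ R) :
    aeval (u + r) p = aeval u p + ∑ i, aeval u (pderiv i p) * r i := by
  classical
  induction p using MvPolynomial.induction_on with
  | C a => simp
  | add p q hp hq =>
    simp only [map_add, hp, hq, add_mul, Finset.sum_add_distrib]; ring
  | mul_X p k hp =>
    rw [map_mul, hp, aeval_X, Pi.add_apply, map_mul, aeval_X]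
    have h0 : (∑ i, aeval u (pderiv i p) * r i) * r k = 0 := by
      rw [Finset.sum_mul]; exact Finset.sum_eq_zero fun i _ => by rw [mul_assoc, hr, mul_zero]
    have h1 : ∑ i, aeval u (pderiv i (p * X k)) * r i =
        (∑ i, aeval u (pderiv i p) * r i) * u k + aeval u p * r k := by
      simp only [pderiv_mul, map_add, map_mul, aeval_X, add_mul, Finset.sum_add_distrib, Finset.sum_mul]
      congr 1
      · exact Finset.sum_congr rfl fun i _ => by ring
      · rw [Finset.sum_eq_single k]
        · simp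
        · intro i _ hi; simp [pderiv_X_of_ne hi.symm]
        · simp
    rw [h1, add_mul, mul_add, mul_add, h0]; ring

/-- A matrix with linearly independent rows has an invertible maximal minor. -/
lemma exists_det_ne_zero {K : Type*} [Field K] {c n : ℕ} (M : Matrix (Fin c) (Fin n) K)
    (h : LinearIndependent K M.row) :
    ∃ cols : Fin c ↪ Fin n, (M.submatrix id cols).det ≠ 0 := by
  classical
  have hr : M.rank = c := by simpa using h.rank_matrix
  have hspan : Submodule.span K (Set.range M.col) = ⊤ := by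
    apply Submodule.eq_top_of_finrank_eq
    rw [← Matrix.rank_eq_finrank_span_cols, hr, Module.finrank_fin_fun]
  obtain ⟨b, hb, hbspan, hli⟩ := exists_linearIndependent K (Set.range M.col)
  rw [hspan] at hbspan
  let B := Module.Basis.mk hli (by rw [Subtype.range_coe, hbspan])
  have : Fintype b := FiniteDimensional.fintypeBasisIndex B
  have hcard : Fintype.card b = c := by
    rw [← Module.finrank_eq_card_basis B, Module.finrank_fin_fun]
  let e : Fin c ≃ b := (Fintype.equivFinOfCardEq hcard).symm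
  choose g hg using fun x : b => hb x.2
  have hinj : Function.Injective (g ∘ e) := fun i j hij => e.injective (Subtype.ext (by
    rw [← hg (e i), ← hg (e j)]; exact congrArg M.col hij))
  refine ⟨⟨g ∘ e, hinj⟩, ?_⟩
  have hli' : LinearIndependent K (M.submatrix id (g ∘ e)).col := by
    have : (M.submatrix id (g ∘ e)).col = (fun x : b => (x : Fin c → K)) ∘ e := by
      funext i; exact hg (e i)
    rw [this]
    exact hli.comp e e.injective
  exact ((Matrix.isUnit_iff_isUnit_det _).1 (Matrix.linearIndependent_cols_iff_isUnit.1 hli')).ne_zero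

/-- A formally smooth quotient has, modulo the square of the kernel, a defect vector describing the
relations through their first derivatives. -/
lemma exists_defect {R B C : Type*} [CommRing R] [CommRing B] [CommRing C] [Algebra R B] [Algebra R C]
    [Algebra.FormallySmooth R C] {σ : Type*} [Fintype σ] (π : B →ₐ[R] C) (hπ : Function.Surjective π)
    (x : σ → B) :
    ∃ ρ : σ → B, (∀ i, π (ρ i) = 0) ∧ ∀ p : MvPolynomial σ R, π (aeval x p) = 0 →
      aeval x p - ∑ i, aeval x (pderiv i p) * ρ i ∈ RingHom.ker π ^ 2 := by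
  classical
  let J : Ideal B := RingHom.ker π ^ 2
  let mk2 : B →ₐ[R] B ⧸ J := Ideal.Quotient.mkₐ R J
  let π' : B ⧸ J →ₐ[R] C := Ideal.Quotient.liftₐ J π fun a ha =>
    RingHom.mem_ker.1 (Ideal.pow_le_self two_ne_zero ha)
  have hπ' : ∀ b, π' (mk2 b) = π b := fun b => rfl
  have hπ'surj : Function.Surjective π' := fun y => by
    obtain ⟨b, rfl⟩ := hπ y; exact ⟨mk2 b, rfl⟩
  have hlift : ∀ z, π' z = 0 → ∃ b, π b = 0 ∧ mk2 b = z := fun z hz => by
    obtain ⟨b, rfl⟩ := Ideal.Quotient.mk_surjective z; exact ⟨b, hz, rfl⟩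
  have hsq : ∀ z w, π' z = 0 → π' w = 0 → z * w = 0 := by
    intro z w hz hw
    obtain ⟨a, ha, rfl⟩ := hlift z hz
    obtain ⟨b, hb, rfl⟩ := hlift w hw
    rw [← map_mul]
    refine Ideal.Quotient.eq_zero_iff_mem.2 ?_
    show a * b ∈ RingHom.ker π ^ 2
    rw [pow_two]; exact Ideal.mul_mem_mul ha hb
  have hnil : IsNilpotent (RingHom.ker (π' : B ⧸ J →+* C)) := ⟨2, by
    rw [pow_two, Ideal.zero_eq_bot, eq_bot_iff, Ideal.mul_le]
    intro z hz w hw
    simp [hsq z w hz hw]⟩
  let sec : C →ₐ[R] B ⧸ J := Algebra.FormallySmooth.liftOfSurjective (AlgHom.id R C) π' hπ'surj hnil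
  have hsec : ∀ y, π' (sec y) = y := fun y =>
    Algebra.FormallySmooth.liftOfSurjective_apply _ _ _ _ y
  let xb : σ → B ⧸ J := fun i => mk2 (x i)
  let u : σ → B ⧸ J := fun i => sec (π (x i))
  have hr : ∀ i, π' (xb i - u i) = 0 := fun i => by rw [map_sub, hsec, hπ', sub_self]
  choose ρ hρ0 hρ using fun i => hlift _ (hr i)
  refine ⟨ρ, hρ0, fun p hp => ?_⟩
  rw [← Ideal.Quotient.eq_zero_iff_mem]
  show mk2 _ = 0
  have hxe : ∀ q : MvPolynomial σ R, aeval xb q = mk2 (aeval x q) := fun q =>
    (comp_aeval_apply x mk2 q).symm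
  have hu : ∀ q : MvPolynomial σ R, aeval u q = sec (π (aeval x q)) := fun q =>
    (comp_aeval_apply x (sec.comp π) q).symm
  have hT := aeval_add_of_sq_zero u (fun i => xb i - u i) (fun i j => hsq _ _ (hr i) (hr j)) p
  rw [show u + (fun i => xb i - u i) = xb by funext i; simp, hu p, hp, map_zero, zero_add, hxe] at hT
  rw [map_sub, hT, map_sum, sub_eq_zero]
  refine Finset.sum_congr rfl fun i _ => ?_
  rw [map_mul, hρ i, ← sub_eq_zero, ← sub_mul]
  refine hsq _ _ ?_ (hr i)
  rw [map_sub, hu, hsec, hπ', sub_self]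

/-- In a local ring, among generators whose first order behaviour is described by a matrix of
derivatives, some subfamily generates and has linearly independent residual rows. -/
lemma exists_rows {B : Type*} [CommRing B] [IsLocalRing B] {m n : ℕ} (J : Ideal B)
    (hJ : J ≤ IsLocalRing.maximalIdeal B) (F : Fin m → B) (hF : J = Ideal.span (Set.range F))
    (D : Fin m → Fin n → B) (ρ : Fin n → B) (hρ : ∀ i, ρ i ∈ J)
    (hT : ∀ ℓ, F ℓ - ∑ i, D ℓ i * ρ i ∈ J ^ 2) :
    ∃ (c : ℕ) (rows : Fin c ↪ Fin m), J ≤ Ideal.span (Set.range (F ∘ rows)) ∧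
      LinearIndependent (IsLocalRing.ResidueField B)
        (fun j i => IsLocalRing.residue B (D (rows j) i) : Fin c → Fin n → _) := by
  classical
  let good := (Finset.univ : Finset (Finset (Fin m))).filter fun S : Finset (Fin m) =>
    J ≤ Ideal.span (F '' (S : Set (Fin m)))
  obtain ⟨S, hS, hmin⟩ := good.exists_min_image Finset.card
    ⟨Finset.univ, by simp [good, hF]⟩
  have hSI : J ≤ Ideal.span (F '' (S : Set (Fin m))) := (Finset.mem_filter.1 hS).2
  let e := S.equivFin.symm
  let rows : Fin S.card ↪ Fin m := ⟨fun i => (e i : Fin m), Subtype.val_injective.comp e.injective⟩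
  have hrange : Set.range (F ∘ rows) = F '' (S : Set (Fin m)) := by
    ext z; constructor
    · rintro ⟨i, rfl⟩; exact ⟨rows i, (e i).2, rfl⟩
    · rintro ⟨ℓ, hℓ, rfl⟩; exact ⟨e.symm ⟨ℓ, hℓ⟩, by simp [rows]⟩
  refine ⟨S.card, rows, hrange ▸ hSI, ?_⟩
  rw [Fintype.linearIndependent_iff]
  intro g hg b
  by_contra hb
  choose l hl using fun j => IsLocalRing.residue_surjective (g j)
  have hbu : IsUnit (l b) := (IsLocalRing.residue_ne_zero_iff_isUnit _).1 (by rw [hl]; exact hb)
  let S' := S.erase (rows b)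
  have hb0 : rows b ∈ S := (e b).2
  have hmem : ∑ j, l j * F (rows j) ∈ IsLocalRing.maximalIdeal B * J := by
    have h2 : J ^ 2 ≤ IsLocalRing.maximalIdeal B * J := by
      rw [sq]; exact Ideal.mul_mono_left hJ
    have h3 : ∑ j, l j * ∑ i, D (rows j) i * ρ i ∈ IsLocalRing.maximalIdeal B * J := by
      simp only [Finset.mul_sum, ← mul_assoc]
      rw [Finset.sum_comm]
      refine Ideal.sum_mem _ fun i _ => ?_
      rw [← Finset.sum_mul]
      refine Ideal.mul_mem_mul ?_ (hρ i)
      rw [← IsLocalRing.residue_eq_zero_iff, map_sum]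
      simpa [Finset.sum_apply, hl] using congrFun hg i
    have h4 := Ideal.sum_mem _ (t := Finset.univ) fun j _ =>
      Ideal.mul_mem_left _ (l j) (h2 (hT (rows j)))
    simpa [mul_sub, Finset.sum_sub_distrib] using add_mem h4 h3
  have hle : J ≤ Ideal.span (F '' (S' : Set (Fin m))) ⊔ IsLocalRing.maximalIdeal B • J := by
    refine hSI.trans (Ideal.span_le.2 ?_)
    rintro _ ⟨ℓ, hℓ, rfl⟩
    by_cases h : ℓ = rows b
    · subst h
      refine (Ideal.unit_mul_mem_iff_mem _ hbu).1 ?_
      rw [← Finset.add_sum_erase _ _ (Finset.mem_univ b)] at hmem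
      have hrest : ∑ j ∈ Finset.univ.erase b, l j * F (rows j) ∈ Ideal.span (F '' (S' : Set (Fin m))) :=
        Ideal.sum_mem _ fun j hj => Ideal.mul_mem_left _ _ (Ideal.subset_span ⟨rows j,
          Finset.mem_coe.2 (Finset.mem_erase.2
            ⟨fun he => Finset.ne_of_mem_erase hj (rows.injective he), (e j).2⟩), rfl⟩)
      have := sub_mem (Ideal.mem_sup_right (S := Ideal.span (F '' (S' : Set (Fin m)))) hmem)
        (Ideal.mem_sup_left hrest)
      rwa [add_sub_cancel_right] at this
    · exact Ideal.mem_sup_left (Ideal.subset_span ⟨ℓ, Finset.mem_coe.2 (Finset.mem_erase.2 ⟨h, hℓ⟩), rfl⟩)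
  have hfg : J.FG := ⟨Finset.univ.image F, by simp [hF]⟩
  have := Submodule.le_of_le_smul_of_le_jacobson_bot hfg (IsLocalRing.maximalIdeal_le_jacobson ⊥) hle
  have hS' : S' ∈ good := Finset.mem_filter.2 ⟨Finset.mem_univ _, this⟩
  have := hmin S' hS'
  rw [Finset.card_erase_of_mem hb0] at this
  have := Finset.card_pos.2 ⟨_, hb0⟩
  omega

universe u in
/-- Near a point of the smooth locus there is a standard element. -/
theorem exists_standard {R A : Type u} [CommRing R] [CommRing A] [Algebra R A] {n m : ℕ}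
    (f : Fin m → MvPolynomial (Fin n) R) (φ : MvPolynomial (Fin n) R →ₐ[R] A) (hφ : Function.Surjective φ)
    (hker : RingHom.ker φ.toRingHom = Ideal.span (Set.range f)) (q : Ideal A) [q.IsPrime] [Algebra.IsSmoothAt R q] :
    ∃ a : A, a ∉ q ∧ ∃ (c : ℕ) (rows : Fin c ↪ Fin m) (cols : Fin c ↪ Fin n) (a' : A),
      a = a' * φ (Smoothing.jacobianMinor f rows cols) ∧
      ∀ a₁ : MvPolynomial (Fin n) R, φ a₁ = a → ∀ ℓ : Fin m,
        a₁ * f ℓ ∈ Ideal.span (Set.range (f ∘ rows)) ⊔ Ideal.span (Set.range f) ^ 2 := by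
  classical
  let P := MvPolynomial (Fin n) R
  let I : Ideal P := Ideal.span (Set.range f)
  let Q : Ideal P := q.comap φ.toRingHom
  have hQ : Q.IsPrime := Ideal.IsPrime.comap _
  let B := Localization.AtPrime Q
  let IB : Ideal B := I.map (algebraMap P B)
  let Aq := Localization.AtPrime q
  have hI : ∀ x, φ x = 0 ↔ x ∈ I := fun x => by
    show _ ↔ x ∈ Ideal.span _
    rw [← hker]; exact RingHom.mem_ker.symm
  have hIQ : I ≤ Q := fun x hx => by
    show φ x ∈ q
    rw [(hI x).2 hx]; exact zero_mem _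
  let π : B →ₐ[R] Aq :=
    { IsLocalization.lift (M := Q.primeCompl) (S := B)
        (g := (algebraMap A Aq).comp φ.toRingHom)
        (fun s => IsLocalization.map_units Aq (⟨φ s, s.2⟩ : q.primeCompl)) with
      commutes' := fun x => by
        rw [IsScalarTower.algebraMap_apply R P B]
        refine (IsLocalization.lift_eq _ _).trans ?_
        show algebraMap A Aq (φ (algebraMap R P x)) = _
        rw [AlgHom.commutes]; exact (IsScalarTower.algebraMap_apply R A Aq x).symm }
  have hπ : ∀ x : P, π (algebraMap P B x) = algebraMap A Aq (φ x) := fun x => IsLocalization.lift_eq _ _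
  have hπsurj : Function.Surjective π := by
    intro y
    obtain ⟨⟨a, s⟩, hs⟩ := IsLocalization.surj q.primeCompl y
    obtain ⟨a', rfl⟩ := hφ a
    obtain ⟨s', hs'⟩ := hφ s
    have hs'Q : s' ∈ Q.primeCompl := fun h => s.2 (by rw [← hs']; exact h)
    refine ⟨IsLocalization.mk' B a' (⟨s', hs'Q⟩ : Q.primeCompl), ?_⟩
    have h1 := congrArg π (IsLocalization.mk'_spec B a' (⟨s', hs'Q⟩ : Q.primeCompl))
    rw [map_mul, hπ, hπ, hs'] at h1
    exact (IsLocalization.map_units Aq s).mul_right_cancel (h1.trans hs.symm)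
  have hπker : RingHom.ker π = IB := by
    refine le_antisymm (fun x hx => ?_) (Ideal.map_le_iff_le_comap.2 fun x hx => ?_)
    · obtain ⟨⟨p, s⟩, hs⟩ := IsLocalization.surj Q.primeCompl x
      have h1 : algebraMap A Aq (φ p) = 0 := by
        rw [← hπ, ← hs, map_mul, RingHom.mem_ker.1 hx, zero_mul]
      obtain ⟨t, ht⟩ := (IsLocalization.map_eq_zero_iff q.primeCompl Aq _).1 h1
      obtain ⟨t', ht'⟩ := hφ t
      have hu : IsUnit (algebraMap P B (t' * s)) := IsLocalization.map_units B
        (⟨t' * s, hQ.mul_notMem (fun h => t.2 (by rw [← ht']; exact h)) s.2⟩ : Q.primeCompl)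
      refine (Ideal.mul_unit_mem_iff_mem _ hu).1 ?_
      have : x * algebraMap P B (t' * s) = algebraMap P B (t' * p) := by
        rw [map_mul, map_mul, ← hs]; ring
      rw [this]
      exact Ideal.mem_map_of_mem _ ((hI _).1 (by rw [map_mul, ht', ht]))
    · show π (algebraMap P B x) = 0
      rw [hπ, (hI x).2 hx, map_zero]
  have : Algebra.FormallySmooth R Aq := ‹Algebra.IsSmoothAt R q›
  obtain ⟨ρ, hρ0, hTaylor⟩ := exists_defect π hπsurj (fun i => algebraMap P B (X i))
  have hxe : ∀ p : P, aeval (fun i => algebraMap P B (X i)) p = algebraMap P B p := fun p =>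
    AlgHom.congr_fun (show aeval (fun i => algebraMap P B (X i)) = IsScalarTower.toAlgHom R P B from
      algHom_ext fun i => by simp; rfl) p
  have hfI : ∀ ℓ, algebraMap P B (f ℓ) ∈ IB := fun ℓ => Ideal.mem_map_of_mem _ (Ideal.subset_span ⟨ℓ, rfl⟩)
  have hIBle : IB ≤ IsLocalRing.maximalIdeal B := Ideal.map_le_iff_le_comap.2 fun z hz =>
    (IsLocalization.AtPrime.to_map_mem_maximal_iff B Q z).2 (hIQ hz)
  have hgen : IB = Ideal.span (Set.range fun ℓ => algebraMap P B (f ℓ)) := by
    show Ideal.map _ (Ideal.span _) = _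
    rw [Ideal.map_span, ← Set.range_comp]; rfl
  obtain ⟨c, rows, hrows, hM⟩ := exists_rows IB hIBle _ hgen
    (fun ℓ i => algebraMap P B (pderiv i (f ℓ))) ρ (fun i => hπker ▸ hρ0 i) fun ℓ => by
      have := hTaylor (f ℓ) (by rw [hxe, hπ, (hI _).2 (Ideal.subset_span ⟨ℓ, rfl⟩), map_zero])
      simpa only [hxe, hπker] using this
  let M : Matrix (Fin c) (Fin n) (IsLocalRing.ResidueField B) :=
    Matrix.of fun j i => IsLocalRing.residue B (algebraMap P B (pderiv i (f (rows j))))
  obtain ⟨cols, hdet⟩ := exists_det_ne_zero M hM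
  have hminor : Smoothing.jacobianMinor f rows cols ∉ Q := by
    intro h
    apply hdet
    have h1 : IsLocalRing.residue B (algebraMap P B (Smoothing.jacobianMinor f rows cols)) = 0 :=
      (IsLocalRing.residue_eq_zero_iff _).2 ((IsLocalization.AtPrime.to_map_mem_maximal_iff B Q _).2 h)
    rw [← h1, Smoothing.jacobianMinor, RingHom.map_det, RingHom.map_det]
    congr 1
  have hs : ∀ ℓ, ∃ s : Q.primeCompl, (s : P) * f ℓ ∈ Ideal.span (Set.range (f ∘ rows)) := by
    intro ℓ
    have := hrows (hfI ℓ)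
    rw [show ((fun ℓ => algebraMap P B (f ℓ)) ∘ rows) = algebraMap P B ∘ (f ∘ rows) from rfl,
      Set.range_comp, ← Ideal.map_span] at this
    obtain ⟨⟨⟨j, hj⟩, s⟩, hjs⟩ := (IsLocalization.mem_map_algebraMap_iff Q.primeCompl B).1 this
    rw [← map_mul] at hjs
    obtain ⟨t, ht⟩ := (IsLocalization.eq_iff_exists Q.primeCompl B).1 hjs
    exact ⟨t * s, by
      rw [Submonoid.coe_mul, mul_assoc, mul_comm (s : P), ht]
      exact Ideal.mul_mem_left _ _ hj⟩
  choose s hs using hs
  let s₀ : P := ∏ ℓ, (s ℓ : P)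
  have hs₀ : s₀ ∉ Q := fun h => by
    obtain ⟨ℓ, -, hℓ⟩ := hQ.prod_mem_iff.1 h
    exact (s ℓ).2 hℓ
  refine ⟨φ s₀ * φ (Smoothing.jacobianMinor f rows cols), ?_, c, rows, cols, φ s₀, rfl, ?_⟩
  · exact Ideal.IsPrime.mul_notMem inferInstance hs₀ hminor
  · intro a₁ ha₁ ℓ
    rw [← map_mul, ← sub_eq_zero, ← map_sub] at ha₁
    have h1 : (a₁ - s₀ * Smoothing.jacobianMinor f rows cols) * f ℓ ∈ I ^ 2 := by
      rw [sq]; exact Ideal.mul_mem_mul ((hI _).1 ha₁) (Ideal.subset_span ⟨ℓ, rfl⟩)
    have h2 : s₀ * Smoothing.jacobianMinor f rows cols * f ℓ ∈ Ideal.span (Set.range (f ∘ rows)) := by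
      have : s₀ * f ℓ ∈ Ideal.span (Set.range (f ∘ rows)) := by
        rw [show s₀ = (∏ k ∈ Finset.univ.erase ℓ, (s k : P)) * (s ℓ : P) from
          (Finset.prod_erase_mul _ _ (Finset.mem_univ ℓ)).symm, mul_assoc]
        exact Ideal.mul_mem_left _ _ (hs ℓ)
      rw [mul_right_comm]; exact Ideal.mul_mem_right _ _ this
    have := add_mem (Ideal.mem_sup_right (S := Ideal.span (Set.range (f ∘ rows))) h1) (Ideal.mem_sup_left h2)
    rwa [← add_mul, sub_add_cancel] at this

end Groth.NeronArea.Standard
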