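import Groth.Prelude.Def_Smoothing
import Groth.Agent.NeronArea.StandardElement
import Groth.Agent.S2030
import Mathlib.RingTheory.Smooth.Locus
import Mathlib.Algebra.MvPolynomial.Rename
import Mathlib.Logic.Equiv.Fintype

/-! Marked presentations from standard data; the singular ideal via standard elements. -/

open MvPolynomial

namespace Groth.NeronArea.Singular

lemma exists_perm_castLE {c n : ℕ} (g : Fin c ↪ Fin n) (h : c ≤ n) :
    ∃ σ : Equiv.Perm (Fin n), ∀ j, σ (Fin.castLE h j) = g j := by
  classical
  let e := (Equiv.ofInjective _ (Fin.castLE_injective h)).symm.trans (Equiv.ofInjective _ g.injective)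
  refine ⟨e.extendSubtype, fun j => ?_⟩
  rw [Equiv.extendSubtype_apply_of_mem (e := e) _ ⟨j, rfl⟩]
  simp [e, Equiv.ofInjective_symm_apply]

universe u

variable {R A : Type u} [CommRing R] [CommRing A] [Algebra R A]

/-- Standard data with respect to arbitrary rows and columns gives an elementary standard element. -/
theorem isElementaryStandard_of_minor {n m c : ℕ} (f : Fin m → MvPolynomial (Fin n) R)
    (φ : MvPolynomial (Fin n) R →ₐ[R] A) (hφ : Function.Surjective φ)
    (hker : RingHom.ker φ.toRingHom = Ideal.span (Set.range f)) (a : A)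
    (rows : Fin c ↪ Fin m) (cols : Fin c ↪ Fin n) (a' : A)
    (ha : a = a' * φ (Smoothing.jacobianMinor f rows cols))
    (hkill : ∀ a₁ : MvPolynomial (Fin n) R, φ a₁ = a → ∀ ℓ : Fin m,
      a₁ * f ℓ ∈ Ideal.span (Set.range (f ∘ rows)) ⊔ Ideal.span (Set.range f) ^ 2) :
    Smoothing.IsElementaryStandard R A a := by
  classical
  have hcn : c ≤ n := by simpa using Fintype.card_le_of_embedding cols
  have hcm : c ≤ m := by simpa using Fintype.card_le_of_embedding rows
  obtain ⟨σn, hσn⟩ := exists_perm_castLE cols hcn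
  obtain ⟨σm, hσm⟩ := exists_perm_castLE rows hcm
  let r : MvPolynomial (Fin n) R ≃ₐ[R] MvPolynomial (Fin n) R := renameEquiv R σn
  let hom : MvPolynomial (Fin n) R →ₐ[R] A := φ.comp r.toAlgHom
  let rel : Fin m → MvPolynomial (Fin n) R := fun j => r.symm (f (σm j))
  have hrange : Ideal.span (Set.range rel) = (Ideal.span (Set.range f)).map r.symm.toRingEquiv.toRingHom := by
    rw [Ideal.map_span, ← Set.range_comp]
    exact congrArg Ideal.span (σm.surjective.range_comp (r.symm ∘ f))
  have hker' : RingHom.ker hom.toRingHom = Ideal.span (Set.range rel) := by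
    rw [hrange, ← hker]
    ext x
    constructor
    · intro hx
      have : r.symm (r x) = x := r.symm_apply_apply x
      rw [← this]; exact Ideal.mem_map_of_mem _ hx
    · intro hx
      obtain ⟨y, hy, rfl⟩ := (Ideal.mem_map_iff_of_surjective _ r.symm.surjective).1 hx
      show φ (r (r.symm y)) = 0
      rw [r.apply_symm_apply]; exact hy
  let P : Smoothing.MarkedPresentation R A :=
    { n, m, c, hcn, hcm, rel, hom, surj := hφ.comp r.surjective, ker_eq := hker' }
  refine ⟨P, ⟨a', ?_⟩, fun a₁ ha₁ j _ => ?_⟩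
  · rw [ha]
    congr 1
    show φ _ = φ (r (Smoothing.jacobianMinor rel (Fin.castLE hcm) (Fin.castLE hcn)))
    congr 1
    rw [Smoothing.jacobianMinor, Smoothing.jacobianMinor, AlgEquiv.map_det]
    congr 1
    ext j k
    have hf : f (rows j) = rename σn (r.symm (f (σm (Fin.castLE hcm j)))) := by
      rw [hσm]; exact (r.apply_symm_apply _).symm
    simp only [Matrix.of_apply, AlgEquiv.mapMatrix_apply, Matrix.map_apply]
    rw [hf, ← hσn k, pderiv_rename σn.injective]
    rfl
  · have h := hkill (r a₁) ha₁ (σm j)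
    have h' := Ideal.mem_map_of_mem (r.symm.toRingEquiv.toRingHom) h
    rw [Ideal.map_sup, Ideal.map_pow, ← hrange, map_mul] at h'
    have he : Ideal.span (rel '' {j' : Fin m | (j' : ℕ) < c}) =
        (Ideal.span (Set.range (f ∘ rows))).map r.symm.toRingEquiv.toRingHom := by
      rw [Ideal.map_span, ← Set.range_comp]
      congr 1
      ext z
      constructor
      · rintro ⟨j', hj', rfl⟩
        refine ⟨⟨j', hj'⟩, ?_⟩
        simp only [Function.comp_apply, ← hσm]
        rfl
      · rintro ⟨i, rfl⟩
        refine ⟨Fin.castLE hcm i, i.2, ?_⟩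
        simp only [Function.comp_apply, ← hσm]
        rfl
    show a₁ * rel j ∈ Ideal.span (rel '' _) ⊔ Ideal.span (Set.range rel) ^ 2
    rw [he]
    convert h' using 1
    show a₁ * rel j = r.symm (r a₁) * r.symm (f (σm j))
    rw [r.symm_apply_apply]

lemma isStrictlyStandard_of_elementary {a : A} (h : Smoothing.IsElementaryStandard R A a) :
    Smoothing.IsStrictlyStandard R A a := by
  obtain ⟨P, ⟨a', ha⟩, hk⟩ := h
  exact ⟨P, ha ▸ Ideal.mul_mem_left _ _ (Ideal.subset_span ⟨Fin.castLE P.hcn, rfl⟩), hk⟩

lemma mem_smoothLocus_of_strictlyStandard [Algebra.FinitePresentation R A] {a : A}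
    (h : Smoothing.IsStrictlyStandard R A a) (q : PrimeSpectrum A) (hq : a ∉ q.asIdeal) :
    q ∈ Algebra.smoothLocus R A :=
  (Algebra.basicOpen_subset_smoothLocus_iff_smooth.2 (Groth.Agent.S2030.result a h).1) hq

lemma exists_elementary [Algebra.FinitePresentation R A] (q : PrimeSpectrum A)
    (hq : q ∈ Algebra.smoothLocus R A) :
    ∃ a, Smoothing.IsElementaryStandard R A a ∧ a ∉ q.asIdeal := by
  classical
  obtain ⟨n, φ, hφ, hfg⟩ := Algebra.FinitePresentation.out (R := R) (A := A)
  obtain ⟨m, f, hf⟩ := Submodule.fg_iff_exists_fin_generating_family.1 hfg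
  have : Algebra.IsSmoothAt R q.asIdeal := hq
  obtain ⟨a, ha, c, rows, cols, a', h1, h2⟩ :=
    Standard.exists_standard f φ hφ hf.symm q.asIdeal
  exact ⟨a, isElementaryStandard_of_minor f φ hφ hf.symm a rows cols a' h1 h2, ha⟩

theorem singularIdeal_eq_radical_span [Algebra.FinitePresentation R A] (E : Set A)
    (h1 : ∀ a, Smoothing.IsElementaryStandard R A a → a ∈ E)
    (h2 : ∀ a ∈ E, Smoothing.IsStrictlyStandard R A a) :
    Smoothing.singularIdeal R A = (Ideal.span E).radical := by
  rw [← PrimeSpectrum.vanishingIdeal_zeroLocus_eq_radical, Smoothing.singularIdeal]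
  congr 1
  ext q
  simp only [PrimeSpectrum.zeroLocus_span, Set.mem_compl_iff, PrimeSpectrum.mem_zeroLocus]
  constructor
  · intro hq a ha
    by_contra hn
    exact hq (mem_smoothLocus_of_strictlyStandard (h2 a ha) q hn)
  · intro hE hq
    obtain ⟨a, ha, hn⟩ := exists_elementary q hq
    exact hn (hE (h1 a ha))

end Groth.NeronArea.Singular
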