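import Groth.Agent.NeronArea.LiftingApply
import Groth.Agent.NeronArea.NilInduction
import Groth.Agent.NeronArea.SingularIdeal
import Groth.Agent.Ega41Sep.Separable
import Groth.Agent.S2030
import Mathlib.RingTheory.DiscreteValuationRing.Basic
import Mathlib.RingTheory.Flat.TorsionFree
import Mathlib.RingTheory.Localization.FractionRing
import Mathlib.RingTheory.LocalRing.ResidueField.Basic
import Mathlib.RingTheory.FinitePresentation
import Mathlib.LinearAlgebra.Matrix.Determinant.Basic

/-! Unramified extensions of discrete valuation rings with separable field extensions are ind-smooth. -/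

open MvPolynomial Smoothing
open scoped TensorProduct

set_option linter.style.haveILetI false

namespace Groth.NeronArea.UnramifiedDVR

universe u

/-- A finitely generated domain inside a separable extension of the fraction field is generically smooth. -/
theorem exists_elementary_ne_zero {R K L A : Type u} [CommRing R] [IsDomain R] [IsNoetherianRing R]
    [Field K] [Algebra R K] [IsFractionRing R K] [Field L] [Algebra K L] [Algebra R L] [IsScalarTower R K L]
    [Algebra.IsGeometricallyReduced K L] [CommRing A] [IsDomain A] [Algebra R A] [Algebra.FiniteType R A]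
    (ι : A →ₐ[R] L) (hι : Function.Injective ι) :
    ∃ a : A, a ≠ 0 ∧ IsElementaryStandard R A a := by
  have : Algebra.FinitePresentation R A := Algebra.FinitePresentation.of_finiteType.1 inferInstance
  have hRA : Function.Injective (algebraMap R A) := by
    have h : Function.Injective (algebraMap R L) := by
      rw [IsScalarTower.algebraMap_eq R K L]
      exact (algebraMap K L).injective.comp (IsFractionRing.injective R K)
    intro x y hxy
    exact h (by rw [← ι.commutes, ← ι.commutes, hxy])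
  let P : Ideal A := ⊥
  have : P.IsPrime := Ideal.isPrime_bot
  let F := FractionRing A
  have hRF : Function.Injective (algebraMap R F) := by
    rw [IsScalarTower.algebraMap_eq R A F]
    exact (IsFractionRing.injective A F).comp hRA
  let iK : K →+* F := IsFractionRing.lift hRF
  letI : Algebra K F := iK.toAlgebra
  have : IsScalarTower R K F :=
    IsScalarTower.of_algebraMap_eq fun r => (IsFractionRing.lift_algebraMap hRF r).symm
  let jR : F →ₐ[R] L := IsFractionRing.liftAlgHom hι
  have hjR : jR.toRingHom.comp iK = algebraMap K L := by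
    refine IsLocalization.ringHom_ext (nonZeroDivisors R) (RingHom.ext fun r => ?_)
    show jR (iK (algebraMap R K r)) = algebraMap K L (algebraMap R K r)
    rw [show iK (algebraMap R K r) = algebraMap R F r from IsFractionRing.lift_algebraMap hRF r,
      AlgHom.commutes, ← IsScalarTower.algebraMap_apply]
  let j : F →ₐ[K] L := { jR.toRingHom with commutes' := fun x => RingHom.congr_fun hjR x }
  have : Algebra.IsGeometricallyReduced K F :=
    Algebra.IsGeometricallyReduced.of_injective j jR.toRingHom.injective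
  have : Algebra.FormallySmooth K F :=
    (Ega41Sep.formallySmooth_iff_isGeometricallyReduced K F).2 inferInstance
  have : Algebra.FormallySmooth R K := Algebra.FormallySmooth.of_isLocalization (nonZeroDivisors R)
  have hF : Algebra.FormallySmooth R F := Algebra.FormallySmooth.comp R K F
  have hM : P.primeCompl = nonZeroDivisors A := by
    ext x
    simp [P, mem_nonZeroDivisors_iff_ne_zero]
  have : IsLocalization (nonZeroDivisors A) (Localization.AtPrime P) :=
    hM ▸ (inferInstance : IsLocalization P.primeCompl (Localization.AtPrime P))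
  let e : F ≃ₐ[A] Localization.AtPrime P := IsLocalization.algEquiv (nonZeroDivisors A) F (Localization.AtPrime P)
  have hsm : Algebra.IsSmoothAt R P := Algebra.FormallySmooth.of_equiv (e.restrictScalars R)
  obtain ⟨a, ha, ha0⟩ := Singular.exists_elementary (R := R) ⟨P, inferInstance⟩ hsm
  exact ⟨a, fun h => ha0 (by simp [h]), ha⟩

/-- Factor a map through the smooth localisation at a standard element with unit image. -/
theorem factor_of_strictlyStandard {R A A' Λ : Type u} [CommRing R] [CommRing A] [Algebra R A] [CommRing A']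
    [Algebra R A'] [Algebra.FinitePresentation R A'] [CommRing Λ] [Algebra R Λ] (g : A →ₐ[R] A')
    (ψ : A' →ₐ[R] Λ) {a : A'} (ha : IsStrictlyStandard R A' a) (hu : IsUnit (ψ a)) :
    ∃ (B : Type u) (_ : CommRing B) (_ : Algebra R B), Algebra.Smooth R B ∧
      ∃ (α : A →ₐ[R] B) (β : B →ₐ[R] Λ), β.comp α = ψ.comp g := by
  have hsm : Algebra.Smooth R (Localization.Away a) := (Groth.Agent.S2030.result a ha).1
  refine ⟨Localization.Away a, inferInstance, inferInstance, hsm,
    (IsScalarTower.toAlgHom R A' _).comp g,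
    IsLocalization.liftAlgHom (S := Localization.Away a) (M := Submonoid.powers a) (f := ψ) ?_, ?_⟩
  · intro y
    obtain ⟨k, hk⟩ := y.2
    rw [← hk, map_pow]; exact hu.pow k
  · exact AlgHom.ext fun x => IsLocalization.lift_eq _ (g x)

/-- Separable field extensions are ind-smooth. -/
theorem indSmooth_field {k l : Type u} [Field k] [Field l] [Algebra k l] [Algebra.IsGeometricallyReduced k l] :
    IndSmooth k l := by
  intro A _ _ hA φ
  have : Algebra.FiniteType k φ.range :=
    Algebra.FiniteType.of_surjective φ.rangeRestrict φ.rangeRestrict_surjective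
  have : Algebra.FinitePresentation k φ.range := Algebra.FinitePresentation.of_finiteType.1 inferInstance
  obtain ⟨a, ha0, ha⟩ := exists_elementary_ne_zero (K := k) φ.range.val Subtype.val_injective
  obtain ⟨B, hB1, hB2, hB, α, β, hαβ⟩ := factor_of_strictlyStandard φ.rangeRestrict φ.range.val
    (Singular.isStrictlyStandard_of_elementary ha) (Ne.isUnit fun h => ha0 (Subtype.ext h))
  exact ⟨B, hB1, hB2, hB, α, β, hαβ.trans (AlgHom.ext fun _ => rfl)⟩

/-- Adjoining `π / a` to an algebra in which `a` is elementary standard makes `π ^ 2` strictly standard. -/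
theorem exists_adjoin {R A Λ : Type u} [CommRing R] [CommRing A] [Algebra R A] [CommRing Λ] [Algebra R Λ]
    (ψ : A →ₐ[R] Λ) (a : A) (ha : IsElementaryStandard R A a) (q : R) (w : Λ)
    (hw : ψ a * w = algebraMap R Λ q) :
    ∃ (A2 : Type u) (_ : CommRing A2) (_ : Algebra R A2), Algebra.FinitePresentation R A2 ∧
      ∃ (i : A →ₐ[R] A2) (ψ2 : A2 →ₐ[R] Λ), ψ2.comp i = ψ ∧
        IsStrictlyStandard R A2 (algebraMap R A2 (q ^ 2)) := by
  classical
  obtain ⟨P, ⟨a', ha'⟩, hkill⟩ := ha
  obtain ⟨a1, ha1⟩ := P.surj a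
  let ι : MvPolynomial (Fin P.n) R →ₐ[R] MvPolynomial (Fin (P.n + 1)) R := rename Fin.succ
  let g : MvPolynomial (Fin (P.n + 1)) R := ι a1 * X 0 - C q
  let f : Fin (P.m + 1) → MvPolynomial (Fin (P.n + 1)) R := Fin.cases g fun j => ι (P.rel j)
  let I := Ideal.span (Set.range f)
  let A2 := MvPolynomial (Fin (P.n + 1)) R ⧸ I
  let φ2 : MvPolynomial (Fin (P.n + 1)) R →ₐ[R] A2 := Ideal.Quotient.mkₐ R I
  have hker : RingHom.ker φ2.toRingHom = Ideal.span (Set.range f) := Ideal.mk_ker
  have hφ2 : Function.Surjective φ2 := Ideal.Quotient.mk_surjective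
  have hfp : Algebra.FinitePresentation R A2 :=
    Algebra.FinitePresentation.quotient (Submodule.fg_span (Set.finite_range _))
  have hιle : (RingHom.ker P.hom.toRingHom).map ι ≤ I := by
    rw [P.ker_eq, Ideal.map_span]
    refine Ideal.span_le.2 ?_
    rintro _ ⟨_, ⟨j, rfl⟩, rfl⟩
    exact Ideal.subset_span ⟨j.succ, rfl⟩
  let i0 : (MvPolynomial (Fin P.n) R ⧸ RingHom.ker P.hom.toRingHom) →ₐ[R] A2 :=
    Ideal.Quotient.liftₐ (RingHom.ker P.hom.toRingHom) (φ2.comp ι)
      fun x hx => Ideal.Quotient.eq_zero_iff_mem.2 (hιle (Ideal.mem_map_of_mem _ hx))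
  let i : A →ₐ[R] A2 := i0.comp (Ideal.quotientKerAlgEquivOfSurjective P.surj).symm.toAlgHom
  have hi : ∀ x, i (P.hom x) = φ2 (ι x) := fun x => by
    show i0 ((Ideal.quotientKerAlgEquivOfSurjective P.surj).symm (P.hom x)) = _
    rw [Ideal.quotientKerAlgEquivOfSurjective_symm_apply]; rfl
  let v : Fin (P.n + 1) → Λ := Fin.cases w fun k => ψ (P.hom (X k))
  have hv : ∀ x, aeval v (ι x) = ψ (P.hom x) := fun x =>
    AlgHom.congr_fun (φ₁ := (aeval (R := R) v).comp ι) (φ₂ := ψ.comp P.hom)
      (MvPolynomial.algHom_ext fun k => by simp [ι, v]) x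
  have hIv : I ≤ RingHom.ker (aeval (R := R) v) := by
    refine Ideal.span_le.2 ?_
    rintro _ ⟨j, rfl⟩
    show aeval v (f j) = 0
    induction j using Fin.cases with
    | zero => simp [f, g, hv, ha1, v, hw]
    | succ j =>
      simp only [f, Fin.cases_succ, hv]
      rw [show P.hom (P.rel j) = 0 from RingHom.mem_ker.1 (P.ker_eq ▸ Ideal.subset_span ⟨j, rfl⟩), map_zero]
  let ψ2 : A2 →ₐ[R] Λ := Ideal.Quotient.liftₐ I (aeval v) fun x hx => hIv hx
  have hψ2 : ψ2.comp i = ψ := AlgHom.ext fun x => by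
    obtain ⟨x, rfl⟩ := P.surj x
    rw [AlgHom.comp_apply, hi]; exact hv x
  let rows : Fin (P.c + 1) ↪ Fin (P.m + 1) := ⟨Fin.cases 0 fun j => (Fin.castLE P.hcm j).succ, by
    intro x y
    induction x using Fin.cases <;> induction y using Fin.cases <;> simp [Fin.ext_iff]⟩
  let cols : Fin (P.c + 1) ↪ Fin (P.n + 1) := ⟨Fin.cases 0 fun j => (Fin.castLE P.hcn j).succ, by
    intro x y
    induction x using Fin.cases <;> induction y using Fin.cases <;> simp [Fin.ext_iff]⟩
  let Δ := jacobianMinor P.rel (Fin.castLE P.hcm) (Fin.castLE P.hcn)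
  have hpd0 : ∀ p : MvPolynomial (Fin P.n) R, pderiv 0 (ι p) = 0 := fun p => by
    refine pderiv_eq_zero_of_notMem_vars fun hh => ?_
    obtain ⟨k, -, hk⟩ := Finset.mem_image.1 (vars_rename Fin.succ p hh)
    exact Fin.succ_ne_zero k hk
  have hminor : jacobianMinor f rows cols = ι a1 * ι Δ := by
    rw [jacobianMinor, Matrix.det_succ_column_zero, Fin.sum_univ_succ, Finset.sum_eq_zero, add_zero]
    · have h00 : pderiv (0 : Fin (P.n + 1)) g = ι a1 := by
        simp [g, pderiv_mul, hpd0]
      have hΔ : ι Δ = (Matrix.of fun j k : Fin P.c => pderiv (Fin.castLE P.hcn k).succ (ι (P.rel (Fin.castLE P.hcm j)))).det := by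
        rw [show Δ = jacobianMinor P.rel (Fin.castLE P.hcm) (Fin.castLE P.hcn) from rfl, jacobianMinor, AlgHom.map_det]
        congr 1
        ext j k
        simp [ι, pderiv_rename (Fin.succ_injective _)]
      simp only [Fin.val_zero, pow_zero, one_mul, Matrix.of_apply]
      rw [show pderiv (cols 0) (f (rows 0)) = ι a1 from h00, hΔ]
      congr 1
    · intro j _
      have h0 : pderiv (cols 0) (f (rows j.succ)) = 0 := hpd0 (P.rel (Fin.castLE P.hcm j))
      simp [h0]
  have hq : φ2 (ι a1) * φ2 (X 0) = algebraMap R A2 q := by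
    rw [← map_mul, ← sub_eq_zero, ← φ2.commutes, ← map_sub]
    exact Ideal.Quotient.eq_zero_iff_mem.2 (Ideal.subset_span ⟨0, rfl⟩)
  refine ⟨A2, inferInstance, inferInstance, hfp, i, ψ2, hψ2,
    Singular.isStrictlyStandard_of_elementary
      (Singular.isElementaryStandard_of_minor f φ2 hφ2 hker _ rows cols (i a' * φ2 (X 0) ^ 2) ?_ ?_)⟩
  · have h1 : φ2 (ι a1) = i a' * φ2 (ι Δ) := by rw [← hi, ← hi, ha1, ha', map_mul]
    rw [map_pow, ← hq, hminor, map_mul, mul_pow]
    linear_combination φ2 (ι a1) * φ2 (X 0) ^ 2 * h1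
  · intro b hb ℓ
    induction ℓ using Fin.cases with
    | zero =>
      exact Ideal.mem_sup_left (Ideal.mul_mem_left _ _ (Ideal.subset_span ⟨0, rfl⟩))
    | succ j =>
      have hjmem : ι a1 * f j.succ ∈ Ideal.span (Set.range (f ∘ rows)) ⊔ I ^ 2 := by
        by_cases hj : (j : ℕ) < P.c
        · refine Ideal.mem_sup_left (Ideal.mul_mem_left _ _ (Ideal.subset_span ⟨(⟨j, hj⟩ : Fin P.c).succ, ?_⟩))
          rfl
        · have h := Ideal.mem_map_of_mem ι (hkill a1 ha1 j (not_lt.1 hj))
          rw [Ideal.map_sup, Ideal.map_pow, map_mul, ← P.ker_eq, Ideal.map_span] at h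
          refine sup_le_sup ?_ (Ideal.pow_right_mono hιle 2) h
          refine Ideal.span_mono ?_
          rintro _ ⟨_, ⟨j', hj', rfl⟩, rfl⟩
          exact ⟨(⟨j', hj'⟩ : Fin P.c).succ, rfl⟩
      have hb' : b - ι a1 * X 0 ^ 2 * ι a1 ∈ I := by
        rw [← Ideal.Quotient.eq_zero_iff_mem]
        show φ2 _ = 0
        rw [map_sub, hb, map_mul, map_mul, map_pow, map_pow, ← hq]; ring
      rw [show b * f j.succ = ι a1 * X 0 ^ 2 * (ι a1 * f j.succ) + (b - ι a1 * X 0 ^ 2 * ι a1) * f j.succ by ring]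
      refine add_mem (Ideal.mul_mem_left _ _ hjmem) (Ideal.mem_sup_right ?_)
      rw [sq]
      exact Ideal.mul_mem_mul hb' (Ideal.subset_span ⟨j.succ, rfl⟩)

/-- The reductions modulo powers of a uniformiser are ind-smooth. -/
theorem indSmooth_mod_pow {R Λ : Type u} [CommRing R] [IsDomain R]
    [IsDiscreteValuationRing R] [CommRing Λ] [IsDomain Λ] [IsDiscreteValuationRing Λ] [Algebra R Λ]
    [NoZeroSMulDivisors R Λ] [IsLocalHom (algebraMap R Λ)]
    (he : (IsLocalRing.maximalIdeal R).map (algebraMap R Λ) = IsLocalRing.maximalIdeal Λ)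
    [Algebra.IsGeometricallyReduced (IsLocalRing.ResidueField R) (IsLocalRing.ResidueField Λ)]
    (I : Ideal R) (k : ℕ) (hk : IsLocalRing.maximalIdeal R ^ k ≤ I) (hI : I ≤ IsLocalRing.maximalIdeal R) :
    IndSmooth (R ⧸ I) (Λ ⧸ I.map (algebraMap R Λ)) := by
  let R' := R ⧸ I
  let IΛ := I.map (algebraMap R Λ)
  let Λ' := Λ ⧸ IΛ
  have : Module.IsTorsionFree R Λ := inferInstance
  have : Module.Flat R Λ := inferInstance
  have : Module.Flat R' Λ' := by
    let e : R' ⊗[R] Λ ≃ₗ[R'] Λ' :=
      { ((Algebra.TensorProduct.comm R R' Λ).trans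
          ((Algebra.TensorProduct.quotIdealMapEquivTensorQuot Λ I).symm.restrictScalars R)).toLinearEquiv with
        map_smul' := fun c x => by
          obtain ⟨c, rfl⟩ := Ideal.Quotient.mk_surjective c
          let E := ((Algebra.TensorProduct.comm R R' Λ).trans
            ((Algebra.TensorProduct.quotIdealMapEquivTensorQuot Λ I).symm.restrictScalars R))
          show E (Ideal.Quotient.mk I c • x) = Ideal.Quotient.mk I c • E x
          rw [show (Ideal.Quotient.mk I c • x) = c • x from algebraMap_smul R' c x, map_smul]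
          exact (algebraMap_smul R' c _).symm }
    exact Module.Flat.of_linearEquiv e.symm
  let m : Ideal R' := (IsLocalRing.maximalIdeal R).map (Ideal.Quotient.mk I)
  have hm : IsNilpotent m := ⟨k, by
    rw [← Ideal.map_pow, Ideal.zero_eq_bot, eq_bot_iff, ← Ideal.map_quotient_self I]
    exact Ideal.map_mono hk⟩
  refine NilLift.indSmooth_of_isNilpotent m hm ?_
  have hmΛ : m.map (algebraMap R' Λ') = (IsLocalRing.maximalIdeal Λ).map (Ideal.Quotient.mk IΛ) := by
    rw [← he, Ideal.map_map, Ideal.map_map]; rfl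
  have hle : IΛ ≤ IsLocalRing.maximalIdeal Λ := he ▸ Ideal.map_mono hI
  refine NilLift.indSmooth_transport (R₁ := IsLocalRing.ResidueField R) (Λ₁ := IsLocalRing.ResidueField Λ)
    (DoubleQuot.quotQuotEquivQuotOfLE hI).symm
    ((DoubleQuot.quotQuotEquivQuotOfLE hle).symm.trans (Ideal.quotEquivOfEq hmΛ.symm)) (fun r => ?_) indSmooth_field
  obtain ⟨r, rfl⟩ := Ideal.Quotient.mk_surjective r
  rfl

theorem main {R Λ K L : Type u} [CommRing R] [IsDomain R]
    [IsDiscreteValuationRing R] [CommRing Λ] [IsDomain Λ] [IsDiscreteValuationRing Λ] [Algebra R Λ]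
    [NoZeroSMulDivisors R Λ] [IsLocalHom (algebraMap R Λ)]
    (he : (IsLocalRing.maximalIdeal R).map (algebraMap R Λ) = IsLocalRing.maximalIdeal Λ)
    [Algebra.IsGeometricallyReduced (IsLocalRing.ResidueField R) (IsLocalRing.ResidueField Λ)]
    [Field K] [Algebra R K] [IsFractionRing R K] [Field L] [Algebra Λ L] [IsFractionRing Λ L]
    [Algebra K L] [Algebra R L] [IsScalarTower R K L] [IsScalarTower R Λ L]
    [Algebra.IsGeometricallyReduced K L] :
    IndSmooth R Λ := by
  intro A _ _ hA φ
  have : Algebra.FiniteType R φ.range :=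
    Algebra.FiniteType.of_surjective φ.rangeRestrict φ.rangeRestrict_surjective
  have : Algebra.FinitePresentation R φ.range := Algebra.FinitePresentation.of_finiteType.1 inferInstance
  obtain ⟨a, ha0, ha⟩ := exists_elementary_ne_zero (K := K)
    ((IsScalarTower.toAlgHom R Λ L).comp φ.range.val)
    ((IsFractionRing.injective Λ L).comp Subtype.val_injective)
  have hφ : φ.range.val.comp φ.rangeRestrict = φ := AlgHom.ext fun _ => rfl
  obtain ⟨p, hp⟩ := IsDiscreteValuationRing.exists_irreducible R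
  have hmR := hp.maximalIdeal_eq
  have hmΛ : IsLocalRing.maximalIdeal Λ = Ideal.span {algebraMap R Λ p} := by
    rw [← he, hmR, Ideal.map_span, Set.image_singleton]
  have hp' : Irreducible (algebraMap R Λ p) :=
    (IsDiscreteValuationRing.irreducible_iff_uniformizer _).2 hmΛ
  obtain ⟨e, u, hu⟩ := IsDiscreteValuationRing.eq_unit_mul_pow_irreducible
    (x := φ.range.val a) (fun h => ha0 (Subtype.ext h)) hp'
  obtain rfl | e0 := Nat.eq_zero_or_pos e
  · obtain ⟨B, hB1, hB2, hB, α, β, hαβ⟩ := factor_of_strictlyStandard φ.rangeRestrict φ.range.val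
      (Singular.isStrictlyStandard_of_elementary ha) (by rw [hu, pow_zero, mul_one]; exact u.isUnit)
    exact ⟨B, hB1, hB2, hB, α, β, hαβ.trans hφ⟩
  obtain ⟨A2, _, _, hA2, i, ψ2, hψ2, hstd⟩ := exists_adjoin φ.range.val a ha (p ^ e) (↑u⁻¹)
    (by rw [hu, map_pow, mul_right_comm, Units.mul_inv, one_mul])
  let π := (p ^ e) ^ 2
  have hπm : π ∈ IsLocalRing.maximalIdeal R :=
    Ideal.pow_mem_of_mem _ (Ideal.pow_mem_of_mem _ (hmR ▸ Ideal.mem_span_singleton_self p) e e0) 2 two_pos
  have hπ0 : π ≠ 0 := pow_ne_zero _ (pow_ne_zero _ hp.ne_zero)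
  have hR : ∀ r : R, π ^ 2 * r = 0 → π * r = 0 := fun r h => by
    rw [(mul_eq_zero.1 h).resolve_left (pow_ne_zero _ hπ0), mul_zero]
  have hΛ : ∀ x : Λ, π ^ 2 • x = 0 → π • x = 0 := fun x h => by
    rw [(smul_eq_zero.1 h).resolve_left (pow_ne_zero _ hπ0), smul_zero]
  let I : Ideal R := Ideal.span {π ^ 8}
  let Rb := R ⧸ I
  let IΛ := I.map (algebraMap R Λ)
  let Λb := Λ ⧸ IΛ
  have hIΛ : IΛ = Ideal.span {algebraMap R Λ (π ^ 8)} := by
    show I.map _ = _
    rw [Ideal.map_span, Set.image_singleton]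
  have hInd : IndSmooth Rb Λb := by
    refine indSmooth_mod_pow he I (e * 2 * 8) ?_ ?_
    · rw [hmR, Ideal.span_singleton_pow]
      exact le_of_eq (by simp only [I, π, ← pow_mul])
    · rw [Ideal.span_singleton_le_iff_mem]
      exact Ideal.pow_mem_of_mem _ hπm 8 (by norm_num)
  let mkΛ : Λ →ₐ[R] Λb := Ideal.Quotient.mkₐ R IΛ
  let φb : Rb ⊗[R] A2 →ₐ[Rb] Λb :=
    Algebra.TensorProduct.lift (Algebra.ofId Rb Λb) (mkΛ.comp ψ2) fun _ _ => Commute.all _ _
  obtain ⟨C, _, _, hC, gC, hC', hgh⟩ := hInd (Rb ⊗[R] A2) inferInstance φb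
  letI : Algebra R C := ((algebraMap Rb C).comp (Ideal.Quotient.mk I)).toAlgebra
  have : IsScalarTower R Rb C := IsScalarTower.of_algebraMap_eq' rfl
  let γ : A2 →ₐ[R] C := (gC.restrictScalars R).comp Algebra.TensorProduct.includeRight
  let eΛ : Λb ≃ₐ[R] Λ ⧸ Ideal.span {algebraMap R Λ (π ^ 8)} := Ideal.quotientEquivAlgOfEq R hIΛ
  let g : C →ₐ[R] Λ ⧸ Ideal.span {algebraMap R Λ (π ^ 8)} := eΛ.toAlgHom.comp (hC'.restrictScalars R)
  have : Algebra.FinitePresentation Rb C := hC.finitePresentation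
  obtain ⟨B, _, _, hB, α, β, hαβ, -, hle⟩ :=
    Lifting.desingularize_lifting π hR hΛ ψ2 hstd γ g fun x => by
      show eΛ (hC' (gC ((1 : Rb) ⊗ₜ x))) = _
      rw [show hC' (gC ((1 : Rb) ⊗ₜ x)) = φb ((1 : Rb) ⊗ₜ x) from AlgHom.congr_fun hgh _]
      show eΛ (Algebra.TensorProduct.lift _ _ _ ((1 : Rb) ⊗ₜ x)) = _
      rw [Algebra.TensorProduct.lift_tmul, map_one, one_mul]
      rfl
  have h1 : (1 : C) ∈ singularIdeal Rb C := by
    rw [SmoothAtBasics.mem_singularIdeal_iff]
    intro Q hQ _
    exact (Algebra.smoothLocus_eq_univ_iff.2 hC.formallySmooth ▸ Set.mem_univ (⟨Q, hQ⟩ : PrimeSpectrum C) :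
      (⟨Q, hQ⟩ : PrimeSpectrum C) ∈ Algebra.smoothLocus Rb C)
  have h2 := hle (Ideal.mem_map_of_mem g h1)
  rw [map_one] at h2
  obtain ⟨l, hl, hl1⟩ := (Ideal.mem_map_iff_of_surjective _ Ideal.Quotient.mk_surjective).1 h2
  rw [← map_one (Ideal.Quotient.mk (Ideal.span {algebraMap R Λ (π ^ 8)})), Ideal.Quotient.eq] at hl1
  have hlu : IsUnit l := by
    by_contra hn
    have h3 : Ideal.span {algebraMap R Λ (π ^ 8)} ≤ IsLocalRing.maximalIdeal Λ := by
      rw [← hIΛ, ← he]
      refine Ideal.map_mono ?_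
      rw [Ideal.span_singleton_le_iff_mem]
      exact Ideal.pow_mem_of_mem _ hπm 8 (by norm_num)
    have h4 : (1 : Λ) ∈ IsLocalRing.maximalIdeal Λ := by
      have := sub_mem ((IsLocalRing.mem_maximalIdeal l).2 hn) (h3 hl1)
      rwa [sub_sub_cancel] at this
    exact (IsLocalRing.maximalIdeal.isMaximal Λ).ne_top ((Ideal.eq_top_iff_one _).2 h4)
  obtain ⟨b, hb, hbu⟩ : ∃ b ∈ singularIdeal R B, IsUnit (β b) := by
    by_contra hne
    push Not at hne
    have h5 : (singularIdeal R B).map β ≤ IsLocalRing.maximalIdeal Λ :=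
      Ideal.map_le_iff_le_comap.2 fun b hb => (IsLocalRing.mem_maximalIdeal _).2 (hne b hb)
    have h6 : ((singularIdeal R B).map β).radical ≤ IsLocalRing.maximalIdeal Λ :=
      (IsLocalRing.maximalIdeal.isMaximal Λ).isPrime.radical_le_iff.2 h5
    exact (IsLocalRing.mem_maximalIdeal l).1 (h6 hl) hlu
  refine ⟨Localization.Away b, inferInstance, inferInstance, SmoothAtBasics.mem_singularIdeal_iff_smooth.1 hb,
    ((IsScalarTower.toAlgHom R B _).comp α).comp (i.comp φ.rangeRestrict),
    IsLocalization.liftAlgHom (S := Localization.Away b) (M := Submonoid.powers b) (f := β)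
      (fun y => by
        obtain ⟨k, hk⟩ := y.2
        rw [← hk, map_pow]; exact hbu.pow k), ?_⟩
  refine AlgHom.ext fun x => ?_
  refine (IsLocalization.lift_eq _ _).trans ?_
  show (β.comp α) (i (φ.rangeRestrict x)) = φ x
  rw [hαβ]
  exact (AlgHom.congr_fun hψ2 _).trans (AlgHom.congr_fun hφ x)

end Groth.NeronArea.UnramifiedDVR
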