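import Groth.Agent.NeronArea.Mapping
import Mathlib.AlgebraicGeometry.Morphisms.Etale
import Mathlib.AlgebraicGeometry.Morphisms.FlatMono
import Mathlib.AlgebraicGeometry.Morphisms.UniversallyOpen
import Mathlib.AlgebraicGeometry.Morphisms.Separated
set_option linter.style.haveILetI false

/-! Smooth morphisms that are étale on a dense open; separated étale morphisms that are iso over a dense open. -/

universe u

open CategoryTheory CategoryTheory.Limits AlgebraicGeometry

namespace Groth.NeronArea.EtaleDense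

lemma ringHom_etale_appLE {X S : Scheme.{u}} (f : X ⟶ S) {U : S.Opens} (hU : IsAffineOpen U)
    {W : X.Opens} (hW : IsAffineOpen W) (e : W ≤ f ⁻¹ᵁ U) [Etale (W.ι ≫ f)] :
    (f.appLE U W e).hom.Etale := by
  have h : Etale (Spec.map (f.appLE U W e) ≫ hU.fromSpec) := by
    rw [IsAffineOpen.SpecMap_appLE_fromSpec f hU hW, IsAffineOpen.fromSpec, Category.assoc]
    infer_instance
  have := Etale.of_comp (Spec.map (f.appLE U W e)) hU.fromSpec
  exact (HasRingHomProperty.Spec_iff (P := @Etale)).1 this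

/-- A smooth morphism that is étale on a dense open of the source is étale. -/
theorem etale_of_smooth_of_dense {X S : Scheme.{u}} (f : X ⟶ S) [Smooth f] (O : X.Opens)
    (hO : Dense (O : Set X)) [Etale (O.ι ≫ f)] : Etale f := by
  rw [Etale.iff_smoothOfRelativeDimension_zero]
  refine ⟨fun x => ?_⟩
  obtain ⟨U, hU, V, hV, hx, e, hsm⟩ := Smooth.exists_isStandardSmooth f x
  refine ⟨U, hU, V, hV, hx, e, ?_⟩
  obtain ⟨y, hyV, hyO⟩ : ((V : Set X) ∩ O).Nonempty :=
    hO.inter_open_nonempty _ V.2 ⟨x, hx⟩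
  obtain ⟨g, hgle, hyg⟩ := hV.exists_basicOpen_le (V := O) ⟨y, hyO⟩ hyV
  let W := X.basicOpen g
  have hWV : W ≤ V := X.basicOpen_le g
  have hW : IsAffineOpen W := hV.basicOpen g
  have : Etale (W.ι ≫ f) := by
    rw [← X.homOfLE_ι hgle, Category.assoc]; infer_instance
  have het := ringHom_etale_appLE f hU hW (hWV.trans e)
  rw [← f.appLE_map e (homOfLE hWV).op] at het
  let R := Γ(S, U)
  let A := Γ(X, V)
  let Af := Γ(X, W)
  algebraize [(f.appLE U V e).hom]
  obtain ⟨ι, σ, _, _, ⟨P⟩⟩ := ‹Algebra.IsStandardSmooth R A›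
  have hn : Algebra.IsStandardSmoothOfRelativeDimension P.dimension R A := ⟨⟨ι, σ, ‹_›, ‹_›, P, rfl⟩⟩
  let : Algebra A Af := (X.presheaf.map (homOfLE hWV).op).hom.toAlgebra
  have : IsLocalization.Away g Af := hV.isLocalization_basicOpen g
  let : Algebra R Af := ((algebraMap A Af).comp (algebraMap R A)).toAlgebra
  have : IsScalarTower R A Af := IsScalarTower.of_algebraMap_eq' rfl
  have : Algebra.IsStandardSmoothOfRelativeDimension 0 A Af :=
    Algebra.IsStandardSmoothOfRelativeDimension.localization_away g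
  have := Algebra.IsStandardSmoothOfRelativeDimension.trans P.dimension 0 R A Af
  have : Nontrivial Af := by
    have : Nonempty (X.basicOpen g : X.Opens) := ⟨⟨y, hyg⟩⟩
    exact inferInstanceAs (Nontrivial Γ(X, X.basicOpen g))
  have h0 : Algebra.IsStandardSmoothOfRelativeDimension 0 R Af :=
    RingHom.etale_iff_isStandardSmoothOfRelativeDimension_zero.1 het
  have h1 := Algebra.IsStandardSmoothOfRelativeDimension.rank_kaehlerDifferential
    (R := R) (S := Af) (0 + P.dimension)
  rw [Algebra.IsStandardSmoothOfRelativeDimension.rank_kaehlerDifferential (R := R) (S := Af) 0] at h1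
  have hd : P.dimension = 0 := by
    have := Nat.cast_injective (R := Cardinal) h1
    omega
  rw [hd] at hn
  exact hn

lemma dense_preimage {X S : Scheme.{u}} (f : X ⟶ S) [Flat f] [LocallyOfFinitePresentation f]
    {O : S.Opens} (hO : Dense (O : Set S)) : Dense ((f ⁻¹ᵁ O : X.Opens) : Set X) :=
  hO.preimage f.isOpenMap

/-- A separated étale morphism that is a monomorphism over a dense open of the base of étale
schemes is an open immersion. -/
theorem isOpenImmersion_of_mono_dense {M N S : Scheme.{u}} (φ : M ⟶ N) (g : N ⟶ S) [Etale g]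
    [Etale (φ ≫ g)] [IsSeparated (φ ≫ g)] (O : S.Opens) (hO : Dense (O : Set S))
    [Mono ((φ ≫ g) ⁻¹ᵁ O).ι] [hmono : Mono (((φ ≫ g) ⁻¹ᵁ O).ι ≫ φ)] : IsOpenImmersion φ := by
  have : Etale φ := Etale.of_comp φ g
  have : IsSeparated φ := IsSeparated.of_comp φ g
  let h : pullback φ φ ⟶ S := pullback.fst φ φ ≫ φ ≫ g
  let Q := h ⁻¹ᵁ O
  have hQ : Dense (Q : Set ↥(pullback φ φ)) := dense_preimage h hO
  let W := (φ ≫ g) ⁻¹ᵁ O
  have hrange : ∀ p : pullback φ φ ⟶ M, p ≫ φ = pullback.fst φ φ ≫ φ →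
      Set.range (Q.ι ≫ p) ⊆ Set.range W.ι := by
    intro p hp
    rw [Scheme.Opens.range_ι]
    rintro _ ⟨z, rfl⟩
    show (Q.ι ≫ p ≫ φ ≫ g) z ∈ O
    rw [← Category.assoc p, hp, Category.assoc]
    exact z.2
  let a := IsOpenImmersion.lift W.ι (Q.ι ≫ pullback.fst φ φ) (hrange _ rfl)
  let b := IsOpenImmersion.lift W.ι (Q.ι ≫ pullback.snd φ φ) (hrange _ pullback.condition.symm)
  have ha : a ≫ W.ι = Q.ι ≫ pullback.fst φ φ := IsOpenImmersion.lift_fac _ _ _
  have hb : b ≫ W.ι = Q.ι ≫ pullback.snd φ φ := IsOpenImmersion.lift_fac _ _ _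
  have hab : a = b := by
    rw [← cancel_mono (W.ι ≫ φ)]
    rw [← Category.assoc, ← Category.assoc, ha, hb, Category.assoc, Category.assoc, pullback.condition]
  let Δ := pullback.diagonal φ
  have hfac : a ≫ W.ι ≫ Δ = Q.ι := by
    apply pullback.hom_ext
    · simp only [Δ, Category.assoc, pullback.diagonal_fst, Category.comp_id, ha]
    · simp only [Δ, Category.assoc, pullback.diagonal_snd, Category.comp_id, hab, hb]
  have : IsClosedImmersion Δ := IsSeparated.isClosedImmersion_diagonal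
  have hsurj : Surjective Δ := ⟨Set.range_eq_univ.1 (by
    apply Set.eq_univ_of_univ_subset
    rw [← Δ.isClosedEmbedding.isClosed_range.closure_eq]
    refine hQ.closure_eq.symm.subset.trans (closure_mono fun z hz => ?_)
    exact ⟨(a ≫ W.ι) ⟨z, hz⟩, congrArg (fun k : Q.toScheme ⟶ pullback φ φ => k ⟨z, hz⟩) hfac⟩)⟩
  have : IsIso Δ := (isIso_iff_isOpenImmersion_and_surjective Δ).2 ⟨inferInstance, hsurj⟩
  have : Mono φ := (pullback.isIso_diagonal_iff φ).1 this
  exact IsOpenImmersion.of_flat_of_mono φ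

end Groth.NeronArea.EtaleDense
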