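import Groth.Prelude.Def_Pi1
import Groth.Agent.PropsBasic.LociBaseChange.Scheme
import Groth.Agent.Ega4Algebra2.NormalRingSmooth
import Groth.Agent.Ega2Proj.NormalExtend
import Groth.Agent.PicAux.UFDExtend
import Groth.Agent.SpectralTopology.FpCancel
import Groth.Agent.NeronArea.GenericDense
import Groth.Agent.NeronArea.EtaleDense
import Mathlib.AlgebraicGeometry.Morphisms.FlatMono
import Mathlib.AlgebraicGeometry.Morphisms.QuasiFinite
import Mathlib.AlgebraicGeometry.Morphisms.Smooth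

/-!
# Maps from smooth schemes into normal quasi-finite schemes land in the smooth locus
-/

set_option autoImplicit false
set_option backward.isDefEq.respectTransparency false

universe u

open CategoryTheory CategoryTheory.Limits AlgebraicGeometry TopologicalSpace

namespace Groth.NeronArea

/-- A scheme smooth over a normal scheme is normal. -/
theorem isNormalScheme_of_smooth {X S : Scheme.{u}} (f : X ⟶ S) [Smooth f] (hS : Pi1.IsNormalScheme S) :
    Pi1.IsNormalScheme X := by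
  intro x
  obtain ⟨_, ⟨V, hV, rfl⟩, hxV, -⟩ :=
    S.isBasis_affineOpens.exists_subset_of_mem_open (Set.mem_univ (f x)) isOpen_univ
  obtain ⟨_, ⟨W, hW, rfl⟩, hxW, hWV⟩ :=
    X.isBasis_affineOpens.exists_subset_of_mem_open (show x ∈ f ⁻¹ᵁ V from hxV) (f ⁻¹ᵁ V).isOpen
  let := (f.appLE V W hWV).hom.toAlgebra
  have : Algebra.Smooth Γ(S, V) Γ(X, W) :=
    HasRingHomProperty.appLE (P := @Smooth) f inferInstance ⟨V, hV⟩ ⟨W, hW⟩ hWV
  have hR : EGA4.IsNormalRing Γ(S, V) := fun p _ => by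
    let y : V := ⟨hV.fromSpec ⟨p, inferInstance⟩, hV.range_fromSpec.le ⟨_, rfl⟩⟩
    let := TopCat.Presheaf.algebra_section_stalk S.presheaf y
    have := hV.isLocalization_stalk' ⟨p, inferInstance⟩ y.2
    let e := (IsLocalization.algEquiv p.primeCompl (S.presheaf.stalk y.1)
      (Localization.AtPrime p)).toRingEquiv
    exact ⟨e.toMulEquiv.isDomain_iff.mp (hS y.1).1,
      @IsIntegrallyClosed.of_equiv _ _ _ _ e (hS y.1).2⟩
  have hB := Groth.Ega4b.isNormalRing_of_smooth Γ(S, V) Γ(X, W) hR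
  let q := hW.primeIdealOf ⟨x, hxW⟩
  let : Algebra Γ(X, W) (X.presheaf.stalk x) := (X.presheaf.germ W x hxW).hom.toAlgebra
  have : IsLocalization.AtPrime (X.presheaf.stalk x) q.asIdeal := hW.isLocalization_stalk ⟨x, hxW⟩
  let e := (IsLocalization.algEquiv q.asIdeal.primeCompl (Localization.AtPrime q.asIdeal)
    (X.presheaf.stalk x)).toRingEquiv
  obtain ⟨h1, h2⟩ := hB q.asIdeal
  exact ⟨e.toMulEquiv.isDomain_iff.mp h1, IsIntegrallyClosed.of_equiv e⟩

/-- A normal scheme is reduced. -/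
theorem isReduced_of_normal {X : Scheme.{u}} (hX : Pi1.IsNormalScheme X) : IsReduced X :=
  have : ∀ x : X, _root_.IsReduced (X.presheaf.stalk x) := fun x => have := (hX x).1; inferInstance
  isReduced_of_isReduced_stalk X

/-- A section of a locally quasi-finite morphism with integral local rings at its image is an open
immersion. -/
theorem isOpenImmersion_of_section {P Z : Scheme.{u}} (p : P ⟶ Z) [LocallyQuasiFinite p] [IsSeparated p]
    [LocallyOfFinitePresentation p] [QuasiCompact p] (σ : Z ⟶ P) (hσ : σ ≫ p = 𝟙 Z)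
    (hdom : ∀ z : Z, IsDomain (P.presheaf.stalk (σ z))) : IsOpenImmersion σ := by
  have : IsClosedImmersion σ := by
    have : IsClosedImmersion (σ ≫ p) := hσ ▸ inferInstance
    exact IsClosedImmersion.of_comp σ p
  have : LocallyOfFinitePresentation σ := by
    have : LocallyOfFinitePresentation (σ ≫ p) := hσ ▸ inferInstance
    exact Groth.SpectralTopology.lfp_of_comp σ p
  have : Flat σ := by
    refine Flat.iff_flat_stalkMap σ |>.mpr fun z => ?_
    have := hdom z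
    -- a maximal generalisation of `z`
    obtain ⟨w, hw₀, hw, hwt⟩ : ∃ w : P, P.fromSpecStalk (σ z) ⟨⊥, Ideal.isPrime_bot⟩ = w ∧ w ⤳ σ z ∧ ∀ y, y ⤳ σ z → w ⤳ y := by
      refine ⟨P.fromSpecStalk (σ z) ⟨⊥, Ideal.isPrime_bot⟩, rfl, ?_, fun y hy => ?_⟩
      · have : P.fromSpecStalk (σ z) ⟨⊥, Ideal.isPrime_bot⟩ ∈ Set.range (P.fromSpecStalk (σ z)) := ⟨_, rfl⟩
        rwa [Scheme.range_fromSpecStalk] at this
      · obtain ⟨q, rfl⟩ : y ∈ Set.range (P.fromSpecStalk (σ z)) := by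
          rw [Scheme.range_fromSpecStalk]; exact hy
        refine Specializes.map ?_ (P.fromSpecStalk (σ z)).continuous
        rw [← PrimeSpectrum.le_iff_specializes]
        exact (bot_le : (⊥ : Ideal (P.presheaf.stalk (σ z))) ≤ q.asIdeal)
    have hz : p w ⤳ z := by
      have h := hw.map p.continuous
      rwa [← Scheme.Hom.comp_apply, hσ] at h
    have hwσ : w ⤳ σ (p w) := hwt _ (hz.map σ.continuous)
    have hT1 : T1Space (p ⁻¹' {p w}) := by
      have := (p.isDiscrete_preimage_singleton (p w)).1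
      infer_instance
    have hw' : p (σ (p w)) = p w := by rw [← Scheme.Hom.comp_apply, hσ]; rfl
    have heq : w = σ (p w) := congrArg Subtype.val
      ((subtype_specializes_iff (x := (⟨w, rfl⟩ : p ⁻¹' {p w})) (y := ⟨σ (p w), hw'⟩)).2 hwσ).eq
    -- the stalk map is injective
    have hinj : Function.Injective (σ.stalkMap z) := by
      obtain ⟨q₀, hq₀⟩ : p w ∈ Set.range (Z.fromSpecStalk z) := by
        rw [Scheme.range_fromSpecStalk]; exact hz
      have h₁ : P.fromSpecStalk (σ z) (Spec.map (σ.stalkMap z) q₀) = w := by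
        rw [← Scheme.Hom.comp_apply, Scheme.SpecMap_stalkMap_fromSpecStalk, Scheme.Hom.comp_apply, hq₀]
        exact heq.symm
      have h₂ : Spec.map (σ.stalkMap z) q₀ = ⟨⊥, Ideal.isPrime_bot⟩ :=
        (P.fromSpecStalk (σ z)).isEmbedding.injective (h₁.trans hw₀.symm)
      rw [RingHom.injective_iff_ker_eq_bot, eq_bot_iff]
      intro a ha
      have h₃ : a ∈ (Spec.map (σ.stalkMap z) q₀).asIdeal := by
        show (σ.stalkMap z) a ∈ q₀.asIdeal
        rw [show (σ.stalkMap z) a = 0 from RingHom.mem_ker.mp ha]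
        exact zero_mem _
      rwa [h₂] at h₃
    exact RingHom.Flat.of_bijective ⟨hinj, σ.stalkMap_surjective z⟩
  exact IsOpenImmersion.of_flat_of_mono σ

/-- A morphism from a smooth scheme to a separated locally quasi-finite normal scheme lands in the
smooth locus. -/
theorem mem_smoothLocus_of_hom {T S Z : Scheme.{u}} (π : T ⟶ S) [LocallyQuasiFinite π] [IsSeparated π]
    [LocallyOfFinitePresentation π] [QuasiCompact π] (hT : Pi1.IsNormalScheme T) (g : Z ⟶ S) [Smooth g]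
    (h : Z ⟶ T) (hh : h ≫ π = g) (z : Z) : h z ∈ π.smoothLocus := by
  let p := pullback.snd π g
  let σ : Z ⟶ pullback π g := pullback.lift h (𝟙 Z) (by rw [hh, Category.id_comp])
  have hσ : σ ≫ p = 𝟙 Z := pullback.lift_snd _ _ _
  have hP : Pi1.IsNormalScheme (pullback π g) := isNormalScheme_of_smooth (pullback.fst π g) hT
  have : IsOpenImmersion σ := isOpenImmersion_of_section p σ hσ fun z => (hP (σ z)).1
  have hz : σ z ∈ p.smoothLocus := by
    have : Smooth (σ ≫ p) := hσ ▸ inferInstance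
    have h1 : z ∈ σ ⁻¹ᵁ p.smoothLocus := by
      rw [Scheme.Hom.preimage_smoothLocus_eq, Scheme.Hom.smoothLocus_eq_top]; trivial
    exact h1
  have := Groth.PropsBasic.Loci.mem_smoothLocus_of_flat (IsPullback.of_hasPullback π g) hz
  rwa [← Scheme.Hom.comp_apply, pullback.lift_fst] at this

/-- Extension of morphisms from a dense open of a normal scheme into an integral scheme over the base. -/
theorem exists_extension_of_normal {Y X X' : Scheme.{u}} [IsLocallyNoetherian Y] (hY : Pi1.IsNormalScheme Y)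
    (g : X' ⟶ X) [IsIntegralHom g] (U : Y.Opens) (hU : Dense (U : Set Y))
    (f : (U : Scheme.{u}) ⟶ X') (h : Y ⟶ X) (hfh : f ≫ g = U.ι ≫ h) :
    ∃ f' : Y ⟶ X', U.ι ≫ f' = f ∧ f' ≫ g = h := by
  have hW : ∀ y : Y, ∃ W : Y.Opens, y ∈ W ∧ IsIntegral (W : Scheme.{u}) := fun y =>
    have := (hY y).1; let ⟨W, h₁, h₂, _⟩ := Groth.PicAux.exists_integral_nhd y; ⟨W, h₁, h₂⟩
  choose W hyW hint using hW
  have hWn : ∀ y, Pi1.IsNormalScheme (W y : Scheme.{u}) := fun y =>
    isNormalScheme_of_smooth (W y).ι hY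
  have hd : ∀ y, Dense (((W y).ι ⁻¹ᵁ U : (W y : Scheme.{u}).Opens) : Set (W y : Scheme.{u})) := fun y =>
    hU.preimage (W y).ι.isOpenEmbedding.isOpenMap
  have hk : ∀ y, ∃ k : (W y : Scheme.{u}) ⟶ X',
      ((W y).ι ⁻¹ᵁ U).ι ≫ k = ((W y).ι ∣_ U) ≫ f ∧ k ≫ g = (W y).ι ≫ h := fun y => by
    have := hint y
    exact Groth.Ega2Proj.exists_extension_of_integral (hWn y) g ((W y).ι ⁻¹ᵁ U) (hd y) (((W y).ι ∣_ U) ≫ f)
      ((W y).ι ≫ h) (by rw [Category.assoc, hfh, ← Category.assoc, morphismRestrict_ι, Category.assoc])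
  choose k hk₁ hk₂ using hk
  have hred := isReduced_of_normal hY
  have hext : ∀ {V : Scheme.{u}} (j : V ⟶ Y) [IsOpenImmersion j] (a b : V ⟶ X'),
      a ≫ g = j ≫ h → b ≫ g = j ≫ h → (j ⁻¹ᵁ U).ι ≫ a = (j ⁻¹ᵁ U).ι ≫ b → a = b := by
    intro V j _ a b ha hb hab
    have : IsReduced V := isReduced_of_isOpenImmersion j
    have : IsDominant (j ⁻¹ᵁ U).ι := ⟨by
      rw [DenseRange, Scheme.Opens.range_ι]
      exact hU.preimage j.isOpenEmbedding.isOpenMap⟩
    exact ext_of_isDominant_of_isSeparated g (ha.trans hb.symm) (j ⁻¹ᵁ U).ι hab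
  have hcov : (⨆ y, W y) = ⊤ := top_le_iff.mp fun y _ => Opens.mem_iSup.mpr ⟨y, hyW y⟩
  let 𝒲 : Y.OpenCover := Y.openCoverOfIsOpenCover W hcov
  have hcomp : ∀ x y, pullback.fst (W x).ι (W y).ι ≫ k x = pullback.snd (W x).ι (W y).ι ≫ k y := by
    intro x y
    let j := pullback.fst (W x).ι (W y).ι ≫ (W x).ι
    refine hext j _ _ (by simp [j, hk₂]) (by simp [j, hk₂, pullback.condition_assoc]) ?_
    have key : ∀ (a : Y) (c : pullback (W x).ι (W y).ι ⟶ (W a : Scheme.{u})), c ≫ (W a).ι = j →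
        (j ⁻¹ᵁ U).ι ≫ c ≫ k a = (j ∣_ U) ≫ f := by
      intro a c hc
      let c' : ((j ⁻¹ᵁ U : Scheme.Opens _) : Scheme.{u}) ⟶ (((W a).ι ⁻¹ᵁ U : Scheme.Opens _) : Scheme.{u}) :=
        c.resLE ((W a).ι ⁻¹ᵁ U) (j ⁻¹ᵁ U) (by rw [← hc]; rfl)
      have h1 : c' ≫ ((W a).ι ⁻¹ᵁ U).ι = (j ⁻¹ᵁ U).ι ≫ c := Scheme.Hom.resLE_comp_ι _ _
      have h2 : c' ≫ ((W a).ι ∣_ U) = j ∣_ U := by
        rw [← cancel_mono U.ι, Category.assoc, morphismRestrict_ι, morphismRestrict_ι, ← Category.assoc, h1,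
          Category.assoc, hc]
      rw [← Category.assoc, ← h1, Category.assoc, hk₁, ← Category.assoc, h2]
    rw [key x _ rfl, key y _ pullback.condition.symm]
  refine ⟨𝒲.glueMorphisms k hcomp, ?_, 𝒲.hom_ext _ _ fun y => ?_⟩
  · let 𝒰 := (U : Scheme.{u}).openCoverOfIsOpenCover (fun y => U.ι ⁻¹ᵁ W y)
      (top_le_iff.mp fun z _ => Opens.mem_iSup.mpr ⟨U.ι z, hyW _⟩)
    refine 𝒰.hom_ext _ _ fun y => ?_
    let c : ((U.ι ⁻¹ᵁ W y : Scheme.Opens _) : Scheme.{u}) ⟶ (((W y).ι ⁻¹ᵁ U : Scheme.Opens _) : Scheme.{u}) :=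
      IsOpenImmersion.lift ((W y).ι ⁻¹ᵁ U).ι (U.ι ∣_ W y) (by
        rintro _ ⟨z, rfl⟩
        rw [Scheme.Opens.range_ι]
        show (W y).ι ((U.ι ∣_ W y) z) ∈ U
        rw [← Scheme.Hom.comp_apply, morphismRestrict_ι]
        exact ((U.ι ⁻¹ᵁ W y).ι z).2)
    have hc : c ≫ ((W y).ι ⁻¹ᵁ U).ι = U.ι ∣_ W y := IsOpenImmersion.lift_fac _ _ _
    have hc' : c ≫ ((W y).ι ∣_ U) = (U.ι ⁻¹ᵁ W y).ι := by
      rw [← cancel_mono U.ι, Category.assoc, morphismRestrict_ι, ← Category.assoc, hc, morphismRestrict_ι]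
    show (U.ι ⁻¹ᵁ W y).ι ≫ U.ι ≫ _ = (U.ι ⁻¹ᵁ W y).ι ≫ f
    rw [← morphismRestrict_ι_assoc]
    refine (congrArg ((U.ι ∣_ W y) ≫ ·) (Scheme.Cover.ι_glueMorphisms 𝒲 k hcomp y)).trans ?_
    rw [← hc, Category.assoc, hk₁, ← Category.assoc, hc']
  · exact (Scheme.Cover.ι_glueMorphisms_assoc 𝒲 k hcomp y g).trans (hk₂ y)

/-- The smooth locus of a finite normal scheme has the mapping property. -/
theorem bijective_map_smoothLocus {S T : Scheme.{u}} [IsLocallyNoetherian S] (hS : Pi1.IsNormalScheme S)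
    {W : Scheme.{u}} (ι : W ⟶ S) [IsOpenImmersion ι] [QuasiCompact ι] (hι : Dense (ι.opensRange : Set S))
    (π : T ⟶ S) [IsFinite π] [LocallyOfFinitePresentation π] (hT : Pi1.IsNormalScheme T)
    (Z : Over S) [Smooth Z.hom] :
    Function.Bijective (fun g : Z ⟶ Over.mk (π.smoothLocus.ι ≫ π) => (Over.pullback ι).map g) := by
  have hZn := isNormalScheme_of_smooth Z.hom hS
  have := LocallyOfFiniteType.isLocallyNoetherian Z.hom
  have := isReduced_of_normal hS
  have : IsDominant ι := ⟨hι⟩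
  have : IsSchemeTheoreticallyDominant ι := .of_isDominant _
  have : IsSeparated (Over.mk (π.smoothLocus.ι ≫ π)).hom :=
    inferInstanceAs (IsSeparated (π.smoothLocus.ι ≫ π))
  refine ⟨map_injective_of_flat ι Z _, fun φ => ?_⟩
  let V := (pullback.fst Z.hom ι).opensRange
  let e := (pullback.fst Z.hom ι).isoOpensRange
  have he : e.hom ≫ V.ι = pullback.fst Z.hom ι := Scheme.Hom.isoOpensRange_hom_ι _
  let r : pullback Z.hom ι ⟶ T :=
    (rstEquiv ι Z (Over.mk (π.smoothLocus.ι ≫ π)) φ).left ≫ π.smoothLocus.ι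
  have hr : r ≫ π = pullback.fst Z.hom ι ≫ Z.hom := by
    show (_ ≫ π.smoothLocus.ι) ≫ π = _
    rw [Category.assoc]
    exact Over.w (rstEquiv ι Z (Over.mk (π.smoothLocus.ι ≫ π)) φ)
  have hV : Dense (V : Set Z.left) := by
    have : V = Z.hom ⁻¹ᵁ ι.opensRange := by
      ext z; simp [V, Scheme.Pullback.range_fst]
    rw [this]
    exact EtaleDense.dense_preimage Z.hom hι
  obtain ⟨f, hf₁, hf₂⟩ := exists_extension_of_normal hZn π V hV (e.inv ≫ r) Z.hom (by
    rw [Category.assoc, hr, ← Category.assoc]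
    exact congrArg (· ≫ Z.hom) ((Iso.inv_comp_eq e).2 he.symm))
  let f' : Z.left ⟶ π.smoothLocus := IsOpenImmersion.lift π.smoothLocus.ι f (by
    rw [Scheme.Opens.range_ι]; rintro _ ⟨z, rfl⟩; exact mem_smoothLocus_of_hom π hT Z.hom f hf₂ z)
  have hf' : f' ≫ π.smoothLocus.ι = f := IsOpenImmersion.lift_fac _ _ _
  refine ⟨Over.homMk f' (by show f' ≫ π.smoothLocus.ι ≫ π = Z.hom; rw [← Category.assoc, hf', hf₂]), ?_⟩
  apply (rstEquiv ι Z _).injective
  rw [rstEquiv_map]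
  ext : 1
  rw [← cancel_mono π.smoothLocus.ι]
  show (pullback.fst Z.hom ι ≫ f') ≫ π.smoothLocus.ι = r
  rw [Category.assoc, hf']
  exact (congrArg (· ≫ f) he.symm).trans (by rw [Category.assoc, hf₁, Iso.hom_inv_id_assoc])

end Groth.NeronArea
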