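import Groth.Prelude.Def_Neron
import Groth.Prelude.Def_SGA7IX
import Groth.Agent.GrpschAbsch.FibreFlat
import Groth.Agent.Abvar.Rigidity
import Groth.Agent.FibreDim.DimensionFormulaScheme
import Groth.Agent.FibreDim.StalkFormula
import Groth.Agent.FibreDim.DimFormulaCor
import Groth.Agent.NeronArea.SmoothLocusNMP
import Groth.Agent.NeronArea.FiniteEtaleClosure
import Groth.Agent.NeronArea.WeilExtensionBase
import Groth.Agent.NeronArea.GenericDense
import Groth.Agent.Calg1.MiracleFlatness
import Groth.Agent.Calg4.RegularAscent
import Groth.Agent.Calg4.RegularFlat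
import Groth.Agent.Calg4.RegularStalk
import Groth.Agent.Ega4Algebra1.RegularCatenary

/-! Homomorphisms of Néron models with isogeny generic fibre: locally quasi-finite iff flat. -/

universe u

open CategoryTheory CategoryTheory.Limits MonoidalCategory CartesianMonoidalCategory AlgebraicGeometry
  TopologicalSpace IsLocalRing MonObj

namespace Groth.NeronArea.Isogeny

variable {R : Type u} [CommRing R] [IsDedekindDomain R]

/-- A smooth scheme over a Dedekind domain with geometrically integral generic fibre is integral. -/
theorem isIntegral_of_smooth (X : Over (Spec (CommRingCat.of R))) [Smooth X.hom]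
    [GeometricallyIntegral ((Neron.genericFibre R).obj X).hom] : IsIntegral X.left := by
  let XK := (Neron.genericFibre R).obj X
  have : IsIntegral XK.left := Groth.Abvar.isIntegral_left XK
  let j : XK.left ⟶ X.left := pullback.fst X.hom (Neron.genPt R)
  have hj : IsSchemeTheoreticallyDominant j := inferInstance
  have : Nonempty X.left := ⟨j (Classical.arbitrary _)⟩
  have : IrreducibleSpace X.left := by
    refine (irreducibleSpace_def _).2 ?_
    have h := ((IrreducibleSpace.isIrreducible_univ _).image j j.continuous.continuousOn).closure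
    rwa [Set.image_univ, j.denseRange.closure_range] at h
  have : IsReduced X.left := isReduced_of_normal (isNormalScheme_of_smooth X.hom
    (isNormalScheme_Spec (isNormalRing_of_isIntegrallyClosed R)))
  exact isIntegral_of_irreducibleSpace_of_isReduced X.left

/-- An isogeny between proper geometrically integral groups over a field is finite and flat. -/
theorem isFinite_of_isogeny {k : Type u} [Field k] {P Q : Over (Spec (CommRingCat.of k))} [GrpObj P] [GrpObj Q]
    [IsProper P.hom] [IsProper Q.hom] [GeometricallyIntegral Q.hom] (f : P ⟶ Q) [IsMonHom f]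
    (hf : SGA7.IsIsogenyOver f) : IsFinite f.left ∧ Flat f.left := by
  obtain ⟨hs, hker⟩ := hf
  have : GeometricallyReduced Q.hom := inferInstance
  have := Groth.GrpschAbsch.FibreFlat.flat_of_surjective_field f
  refine ⟨?_, this⟩
  obtain ⟨N, n, _, hN⟩ := Groth.Agf.exists_preimage f η[Q]
  have : Mono n := Over.mono_of_mono_left n
  have hk : AlgGrp.IsKernel n f := Groth.AlgGrp1.IsKernel.mk' ‹Mono n› fun T g => by
    rw [hN]
    constructor
    · rintro ⟨x, hx⟩
      rw [hx, toUnit_unique x (toUnit T)]; rfl
    · intro h
      exact ⟨toUnit T, h⟩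
  have := Groth.AlgGrp1.isSeparated_grpObj Q
  have : QuasiCompact (f.left ≫ Q.hom) := by rw [Over.w]; infer_instance
  have : QuasiCompact f.left := QuasiCompact.of_comp _ Q.hom
  exact Groth.AlgGrp1.IsKernel.descends hk @IsFinite (hker N n hk)

variable {A B : Over (Spec (CommRingCat.of R))} [GrpObj A] [GrpObj B]
    [Smooth A.hom] [QuasiCompact A.hom] [Smooth B.hom] [IsSeparated B.hom] [QuasiCompact B.hom]
    [IsProper ((Neron.genericFibre R).obj A).hom] [GeometricallyIntegral ((Neron.genericFibre R).obj A).hom]
    [IsProper ((Neron.genericFibre R).obj B).hom] [GeometricallyIntegral ((Neron.genericFibre R).obj B).hom]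
    (φ : A ⟶ B) [IsMonHom φ]

/-- The fibre of `φ` over the generic point of `B` is finite. -/
theorem finite_preimage_generic [IrreducibleSpace B.left] (hφ : SGA7.IsIsogenyOver ((Neron.genericFibre R).map φ)) :
    IsDominant φ.left ∧ (φ.left ⁻¹' {genericPoint B.left}).Finite := by
  letI : GrpObj ((Neron.genericFibre R).obj A) := Functor.grpObjObj
  letI : GrpObj ((Neron.genericFibre R).obj B) := Functor.grpObjObj
  let ψ := (Neron.genericFibre R).map φ
  obtain ⟨hfin, -⟩ := isFinite_of_isogeny ψ hφ
  have hs : Surjective ψ.left := hφ.1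
  let jA := pullback.fst A.hom (Neron.genPt R)
  let jB := pullback.fst B.hom (Neron.genPt R)
  have sq : IsPullback jA ψ.left φ.left jB := Groth.GrpschAbsch.FibreFlat.isPullback_map _ φ
  have : IsSchemeTheoreticallyDominant jB := inferInstance
  have : IsIntegral ((Neron.genericFibre R).obj B).left := Groth.Abvar.isIntegral_left _
  have hξ : genericPoint B.left ∈ Set.range jB := by
    refine ⟨genericPoint ((Neron.genericFibre R).obj B).left, ?_⟩
    have h1 := (genericPoint_spec ((Neron.genericFibre R).obj B).left).image jB.continuous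
    rw [Set.image_univ, jB.denseRange.closure_range] at h1
    exact h1.eq (genericPoint_spec B.left)
  refine ⟨⟨?_⟩, ?_⟩
  · have : DenseRange (ψ.left ≫ jB) := by
      rw [Scheme.Hom.comp_base]
      exact jB.denseRange.comp ψ.left.surjective.denseRange jB.continuous
    rw [← sq.w] at this
    exact DenseRange.of_comp this
  · obtain ⟨ξ', hξ'⟩ := hξ
    refine ((ψ.left.finite_preimage_singleton ξ').image jA).subset fun x hx => ?_
    obtain ⟨z, hz1, hz2⟩ := Scheme.exists_preimage_of_isPullback sq x ξ' (hx.trans hξ'.symm)
    exact ⟨z, hz2, hz1⟩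

omit [IsDedekindDomain R] in
theorem height_asFiber_eq_zero {X Y : Scheme.{u}} (f : X ⟶ Y) [LocallyOfFiniteType f] (x : X)
    (hfin : (f ⁻¹' {f x}).Finite) :
    Order.height (f.asFiber x) = 0 ∧ ringKrullDim ((f.fiber (f x)).presheaf.stalk (f.asFiber x)) = 0 := by
  let y := f x
  have : Finite (f.fiber y) := by
    have : Finite (f ⁻¹' {y}) := hfin
    exact Finite.of_equiv _ (f.fiberHomeo y).symm.toEquiv
  have : JacobsonSpace (f.fiber y) :=
    LocallyOfFiniteType.jacobsonSpace (f.fiberToSpecResidueField y)
  have hmin : ∀ z w : f.fiber y, z ≤ w → z = w := fun z w h =>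
    ((Specializes.eq (Scheme.le_iff_specializes.1 h))).symm
  refine ⟨Order.height_eq_zero.2 fun z h => (hmin _ _ h).ge, ?_⟩
  rw [ringKrullDim_stalk_eq_coheight]
  have : Order.coheight (f.asFiber x) = 0 := Order.coheight_eq_zero.2 fun z h => (hmin _ _ h).ge
  exact_mod_cast this

theorem flat_iff_lqf (hφ : SGA7.IsIsogenyOver ((Neron.genericFibre R).map φ)) :
    LocallyQuasiFinite φ.left ↔ Flat φ.left := by
  have := isIntegral_of_smooth A
  have := isIntegral_of_smooth B
  have : LocallyOfFiniteType (φ.left ≫ B.hom) := by rw [Over.w]; infer_instance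
  have : LocallyOfFiniteType φ.left := locallyOfFiniteType_of_comp φ.left B.hom
  have : QuasiCompact (φ.left ≫ B.hom) := by rw [Over.w]; infer_instance
  have : QuasiCompact φ.left := QuasiCompact.of_comp φ.left B.hom
  have := Weil.isLocallyNoetherian_of_smooth A.hom
  have := Weil.isLocallyNoetherian_of_smooth B.hom
  obtain ⟨hd, hgen⟩ := finite_preimage_generic φ hφ
  have hξ : φ.left (genericPoint A.left) = genericPoint B.left := by
    have h1 := (genericPoint_spec A.left).image φ.left.continuous
    rw [Set.image_univ, φ.left.denseRange.closure_range] at h1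
    exact h1.eq (genericPoint_spec B.left)
  -- the generic relative dimension vanishes
  have key : ∀ x : A.left, ∃ t : ℕ, Order.height (φ.left.asFiber x) = t ∧
      ringKrullDim (A.left.presheaf.stalk x) + t ≤ ringKrullDim (B.left.presheaf.stalk (φ.left.base x)) ∧
      ringKrullDim (A.left.presheaf.stalk x) + t = ringKrullDim (B.left.presheaf.stalk (φ.left.base x)) := by
    obtain ⟨t1, t2, h1, h1', h2, -⟩ := Groth.FibreDim.exists_dim_formula φ.left (genericPoint A.left)
    have hz := (height_asFiber_eq_zero φ.left (genericPoint A.left) (hξ ▸ hgen)).1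
    rw [h1'] at hz
    have ht1 : t1 = 0 := by exact_mod_cast hz
    subst ht1
    intro x
    obtain ⟨t, t₀, -, ht, ht₀, -, hle, heq⟩ := Groth.FibreDim.exists_dim_formula φ.left x
    have : t₀ = 0 := by
      rw [h1] at ht₀
      exact (Nat.cast_inj.1 ht₀).symm
    subst this
    have hreg := Weil.isRegularLocalRing_of_smooth_dedekind B.hom (φ.left.base x)
    have := Groth.Calg4.isRegularRing_of_local (B.left.presheaf.stalk (φ.left.base x))
    refine ⟨t, ht, ?_, ?_⟩
    · simpa using hle
    · simpa using heq (Groth.Ega4Algebra1.isUniversallyCatenary_of_regular_surjective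
        (RingHom.id _) Function.surjective_id)
  constructor
  · intro _
    refine (Flat.iff_flat_stalkMap _).2 fun x => ?_
    obtain ⟨h0, hf0⟩ := height_asFiber_eq_zero φ.left x (φ.left.finite_preimage_singleton _)
    obtain ⟨t, ht, -, heq⟩ := key x
    rw [h0] at ht
    have : t = 0 := by exact_mod_cast ht.symm
    subst this
    rw [Nat.cast_zero, add_zero] at heq
    have := Weil.isRegularLocalRing_of_smooth_dedekind A.hom x
    have := Weil.isRegularLocalRing_of_smooth_dedekind B.hom (φ.left.base x)
    have := Groth.Calg4.isCohenMacaulayLocalRing_of_isRegularLocalRing (A.left.presheaf.stalk x)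
    algebraize [(φ.left.stalkMap x).hom]
    have : IsLocalHom (algebraMap (B.left.presheaf.stalk (φ.left.base x)) (A.left.presheaf.stalk x)) :=
      inferInstanceAs (IsLocalHom (φ.left.stalkMap x).hom)
    refine Groth.Calg1.flat_of_isRegularLocalRing_of_isCohenMacaulay _ _ ?_
    rw [Groth.FibreDim.ringKrullDim_fiber_stalk φ.left, φ.left.fiberι_asFiber] at hf0
    change ringKrullDim (A.left.presheaf.stalk x) = _ + ringKrullDim (_ ⧸ Ideal.map (φ.left.stalkMap x).hom _)
    rw [hf0, add_zero, heq]
  · intro _
    have hh : ∀ x : A.left, Order.height (φ.left.asFiber x) = 0 := fun x => by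
      obtain ⟨t, ht, hle, -⟩ := key x
      have hflat : (φ.left.stalkMap x).hom.Flat := Flat.stalkMap φ.left x
      algebraize [(φ.left.stalkMap x).hom]
      have : IsLocalHom (algebraMap (B.left.presheaf.stalk (φ.left.base x)) (A.left.presheaf.stalk x)) :=
        inferInstanceAs (IsLocalHom (φ.left.stalkMap x).hom)
      have hne : (maximalIdeal (B.left.presheaf.stalk (φ.left.base x))).map
          (algebraMap (B.left.presheaf.stalk (φ.left.base x)) (A.left.presheaf.stalk x)) ≠ ⊤ := fun h =>
        (maximalIdeal.isMaximal _).ne_top (top_le_iff.1 (h ▸ map_maximalIdeal_le _))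
      have := Ideal.Quotient.nontrivial_iff.2 hne
      have : IsLocalRing (A.left.presheaf.stalk x ⧸ _) :=
        IsLocalRing.of_surjective' (Ideal.Quotient.mk ((maximalIdeal (B.left.presheaf.stalk (φ.left.base x))).map
          (algebraMap (B.left.presheaf.stalk (φ.left.base x)) (A.left.presheaf.stalk x)))) Ideal.Quotient.mk_surjective
      have h := Groth.Calg4.ringKrullDim_eq_add_of_flat (B.left.presheaf.stalk (φ.left.base x)) (A.left.presheaf.stalk x)
      obtain ⟨b, hb⟩ := Groth.FibreDim.exists_ringKrullDim_eq_natCast (B.left.presheaf.stalk (φ.left.base x))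
      obtain ⟨a, ha⟩ := Groth.FibreDim.exists_ringKrullDim_eq_natCast (A.left.presheaf.stalk x)
      have h' : ringKrullDim (B.left.presheaf.stalk (φ.left.base x)) ≤ ringKrullDim (A.left.presheaf.stalk x) := by
        rw [h]; exact le_add_of_nonneg_right ringKrullDim_nonneg_of_nontrivial
      rw [ha, hb] at h' hle
      have h1 : b ≤ a := by exact_mod_cast h'
      have h2 : a + t ≤ b := by exact_mod_cast hle
      have : t = 0 := by omega
      rw [ht, this]; rfl
    refine LocallyQuasiFinite.of_finite_preimage_singleton _ fun y => ?_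
    have : JacobsonSpace (φ.left.fiber y) :=
      LocallyOfFiniteType.jacobsonSpace (φ.left.fiberToSpecResidueField y)
    have hclosed : ∀ z : φ.left.fiber y, IsClosed ({z} : Set (φ.left.fiber y)) := by
      intro z
      have key2 : ∀ (y : B.left) (z : φ.left.fiber y) (x : A.left), φ.left x = y → φ.left.fiberι y z = x →
          IsClosed ({z} : Set (φ.left.fiber y)) := by
        rintro _ z x rfl hx
        have : φ.left.asFiber x = z :=
          (φ.left.fiberι _).isEmbedding.injective ((φ.left.fiberι_asFiber x).trans hx.symm)
        exact (Groth.Variety2.Dim.height_eq_zero_iff z).1 (this ▸ hh x)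
      exact key2 y z _ (Groth.FibreDim.apply_fiberι φ.left y z) rfl
    have : T1Space (φ.left.fiber y) := ⟨hclosed⟩
    have : CompactSpace (φ.left.fiber y) := inferInstance
    have : IsLocallyNoetherian (φ.left.fiber y) :=
      LocallyOfFiniteType.isLocallyNoetherian (φ.left.fiberToSpecResidueField y)
    have : AlgebraicGeometry.IsNoetherian (φ.left.fiber y) := ⟨⟩
    have hf : Finite (φ.left.fiber y) := by
      rw [← Set.finite_univ_iff]
      refine (NoetherianSpace.finite_irreducibleComponents.biUnion (t := id) fun C hC => ?_).subset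
        fun z _ => Set.mem_biUnion (irreducibleComponent_mem_irreducibleComponents z) mem_irreducibleComponent
      obtain ⟨c, hc⟩ := QuasiSober.sober hC.1 (isClosed_of_mem_irreducibleComponents C hC)
      rw [id, ← hc.def, (hclosed c).closure_eq]
      exact Set.finite_singleton c
    have : Finite (φ.left ⁻¹' {y}) := Finite.of_equiv _ (φ.left.fiberHomeo y).toEquiv
    exact Set.toFinite _

end Groth.NeronArea.Isogeny
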