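import Groth.Agent.NeronArea.Mapping
import Groth.Agent.AlgGrp1.Extension
import Groth.Agent.AlgSpBasic.Topology
import Groth.Prelude.Def_NonAbH2
import Mathlib.AlgebraicGeometry.Sites.Fpqc

/-!
# Descent of the Néron mapping property: extensions and torsors
-/

set_option autoImplicit false
set_option backward.isDefEq.respectTransparency false
set_option linter.style.haveILetI false

universe u

open CategoryTheory CategoryTheory.Limits MonoidalCategory CartesianMonoidalCategory MonObj GrpObj AlgebraicGeometry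

namespace Groth.NeronArea

variable {S U : Scheme.{u}} (j₀ : U ⟶ S)

/-- Functoriality of restriction. -/
noncomputable def rstMap {P Y : Over S} (c : P ⟶ Y) : rst j₀ P ⟶ rst j₀ Y :=
  Over.homMk (pullback.lift (pullback.fst P.hom j₀ ≫ c.left) (pullback.snd P.hom j₀)
    (by rw [Category.assoc, Over.w, pullback.condition])) (by simp)

lemma rstMap_π {P Y : Over S} (c : P ⟶ Y) : rstMap j₀ c ≫ rstπ j₀ Y = rstπ j₀ P ≫ c := by
  ext : 1
  simp [rstMap]

lemma rstMap_comp {Q P Y : Over S} (d : Q ⟶ P) (c : P ⟶ Y) :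
    rstMap j₀ (d ≫ c) = rstMap j₀ d ≫ rstMap j₀ c := by
  ext : 1
  apply pullback.hom_ext <;> simp [rstMap]

lemma rstMap_left_isPullback {P Y : Over S} (c : P ⟶ Y) :
    IsPullback (rstMap j₀ c).left (pullback.fst P.hom j₀) (pullback.fst Y.hom j₀) c.left := by
  have h : (rstMap j₀ c).left ≫ pullback.snd Y.hom j₀ = pullback.snd P.hom j₀ := pullback.lift_snd _ _ _
  refine IsPullback.of_right ?_ ?_ (IsPullback.of_hasPullback Y.hom j₀).flip
  · rw [h, Over.w]
    exact (IsPullback.of_hasPullback P.hom j₀).flip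
  · exact pullback.lift_fst _ _ _

lemma epi_rstMap {P Y : Over S} (c : P ⟶ Y) [Surjective c.left] [Flat c.left]
    [LocallyOfFinitePresentation c.left] : Epi (rstMap j₀ c) := by
  have hp := rstMap_left_isPullback j₀ c
  haveI : Surjective (rstMap j₀ c).left := MorphismProperty.of_isPullback hp.flip ‹Surjective c.left›
  haveI : Flat (rstMap j₀ c).left := MorphismProperty.of_isPullback hp.flip ‹Flat c.left›
  haveI : LocallyOfFinitePresentation (rstMap j₀ c).left :=
    MorphismProperty.of_isPullback hp.flip ‹LocallyOfFinitePresentation c.left›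
  haveI : EffectiveEpi (rstMap j₀ c).left := inferInstance
  haveI : Epi (rstMap j₀ c).left := inferInstance
  exact Over.epi_of_epi_left _

/-- Morphisms defined on the restriction extend if they extend after a smooth surjection. -/
lemma surjective_of_cover {Y P N : Over S} (c : P ⟶ Y) [Smooth c.left] [Surjective c.left]
    [Smooth P.hom]
    (hinj : ∀ Q : Over S, Smooth Q.hom → Function.Injective (fun g : Q ⟶ N => rstπ j₀ Q ≫ g))
    (u : rst j₀ Y ⟶ N) (h : P ⟶ N) (hh : rstπ j₀ P ≫ h = rstMap j₀ c ≫ u) :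
    ∃ g : Y ⟶ N, rstπ j₀ Y ≫ g = u := by
  haveI : Flat c.left := inferInstance
  haveI : LocallyOfFinitePresentation c.left := inferInstance
  let Q : Over S := Over.mk (pullback.fst c.left c.left ≫ P.hom)
  let p₁ : Q ⟶ P := Over.homMk (pullback.fst c.left c.left) rfl
  let p₂ : Q ⟶ P := Over.homMk (pullback.snd c.left c.left) (by
    show pullback.snd c.left c.left ≫ P.hom = pullback.fst c.left c.left ≫ P.hom
    rw [← Over.w c, pullback.condition_assoc])
  haveI : Smooth Q.hom := inferInstanceAs (Smooth (pullback.fst c.left c.left ≫ P.hom))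
  have hp : p₁ ≫ c = p₂ ≫ c := Over.OverMorphism.ext pullback.condition
  have heq : p₁ ≫ h = p₂ ≫ h := by
    refine hinj Q inferInstance ?_
    show rstπ j₀ Q ≫ p₁ ≫ h = rstπ j₀ Q ≫ p₂ ≫ h
    rw [← Category.assoc, ← rstMap_π, Category.assoc, hh, ← Category.assoc (rstπ j₀ Q), ← rstMap_π,
      Category.assoc, hh, ← Category.assoc, ← rstMap_comp, ← Category.assoc, ← rstMap_comp, hp]
  have hcond : ∀ {Z : Scheme.{u}} (g₁ g₂ : Z ⟶ P.left), g₁ ≫ c.left = g₂ ≫ c.left →
      g₁ ≫ h.left = g₂ ≫ h.left := fun g₁ g₂ hg => by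
    have h2 : pullback.fst c.left c.left ≫ h.left = pullback.snd c.left c.left ≫ h.left :=
      congrArg CommaMorphism.left heq
    have := congrArg (pullback.lift g₁ g₂ hg ≫ ·) h2
    simpa using this
  haveI : EffectiveEpi c.left := inferInstance
  let g := EffectiveEpi.desc c.left h.left hcond
  have hg : c.left ≫ g = h.left := EffectiveEpi.fac c.left h.left hcond
  let G : Y ⟶ N := Over.homMk g (by rw [← cancel_epi c.left, reassoc_of% hg, Over.w h, Over.w c])
  refine ⟨G, ?_⟩
  haveI := epi_rstMap j₀ c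
  rw [← cancel_epi (rstMap j₀ c), ← Category.assoc, rstMap_π, Category.assoc,
    show c ≫ G = h from Over.OverMorphism.ext hg, hh]

/-- An extension of objects with the mapping property has it. -/
theorem hasNMP_of_extension {G' G G'' : Over S} [GrpObj G'] [GrpObj G] [GrpObj G''] (i : G' ⟶ G)
    (q : G ⟶ G'') [IsMonHom i] [IsMonHom q] (hker : AlgGrp.IsKernel i q) [Smooth q.left] [Surjective q.left]
    [Smooth G.hom]
    (hG' : HasNMP j₀ G') (hG'' : HasNMP j₀ G'') : HasNMP j₀ G := by
  have := Groth.AlgGrp1.IsKernel.mono hker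
  have hinj : ∀ Q : Over S, Smooth Q.hom → Function.Injective (fun g : Q ⟶ G => rstπ j₀ Q ≫ g) := by
    intro Q hQ a b hab
    simp only at hab
    have hq : a ≫ q = b ≫ q := ((bijective_map_iff j₀ Q G'').1 (hG'' Q hQ)).1 (by
      simp only; rw [← Category.assoc, hab, Category.assoc])
    obtain ⟨n, hn⟩ := Groth.AlgGrp1.IsKernel.exists_lift hker (a * b⁻¹) (by
      rw [MonObj.mul_comp, GrpObj.inv_comp, hq, mul_inv_cancel])
    have h1 : rstπ j₀ Q ≫ n = rstπ j₀ Q ≫ (1 : Q ⟶ G') := by
      rw [← cancel_mono i, Category.assoc, hn, MonObj.comp_mul, GrpObj.comp_inv, hab, mul_inv_cancel,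
        MonObj.comp_one, MonObj.one_comp]
    have hn1 : n = 1 := ((bijective_map_iff j₀ Q G').1 (hG' Q hQ)).1 h1
    rw [hn1, MonObj.one_comp] at hn
    exact mul_inv_eq_one.1 hn.symm
  intro Y hY
  rw [bijective_map_iff]
  refine ⟨hinj Y hY, fun u => ?_⟩
  obtain ⟨g'', hg''⟩ := ((bijective_map_iff j₀ Y G'').1 (hG'' Y hY)).2 (u ≫ q)
  simp only at hg''
  let P : Over S := Over.mk (pullback.fst g''.left q.left ≫ Y.hom)
  let c : P ⟶ Y := Over.homMk (pullback.fst g''.left q.left) rfl
  let l : P ⟶ G := Over.homMk (pullback.snd g''.left q.left) (by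
    show pullback.snd g''.left q.left ≫ G.hom = pullback.fst g''.left q.left ≫ Y.hom
    rw [← Over.w q, ← pullback.condition_assoc, Over.w g''])
  haveI : Smooth c.left := inferInstanceAs (Smooth (pullback.fst g''.left q.left))
  haveI : Surjective c.left := inferInstanceAs (Surjective (pullback.fst g''.left q.left))
  haveI : Smooth P.hom := inferInstanceAs (Smooth (pullback.fst g''.left q.left ≫ Y.hom))
  have hl : l ≫ q = c ≫ g'' := Over.OverMorphism.ext pullback.condition.symm
  obtain ⟨n, hn⟩ := Groth.AlgGrp1.IsKernel.exists_lift hker ((rstMap j₀ c ≫ u) * (rstπ j₀ P ≫ l)⁻¹) (by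
    rw [MonObj.mul_comp, GrpObj.inv_comp, Category.assoc, Category.assoc, hl, ← Category.assoc (rstπ j₀ P),
      ← rstMap_π, Category.assoc, hg'', mul_inv_cancel])
  obtain ⟨n₀, hn₀⟩ := ((bijective_map_iff j₀ P G').1 (hG' P inferInstance)).2 n
  simp only at hn₀
  refine surjective_of_cover j₀ c hinj u ((n₀ ≫ i) * l) ?_
  rw [MonObj.comp_mul, ← Category.assoc, hn₀, hn, inv_mul_cancel_right]

section Torsor

variable {G X : Over S} [GrpObj G] (a : AlgGrp.Action G X) (ha : NonAbH1.IsPseudoTorsorSch a)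

/-- Division in a pseudo-torsor. -/
noncomputable def torsorDiv {T : Over S} (x y : T ⟶ X) : T ⟶ G :=
  haveI : IsIso (lift a.act (snd G X)) := ha
  lift x y ≫ inv (lift a.act (snd G X)) ≫ fst G X

lemma torsorDiv_act {T : Over S} (x y : T ⟶ X) : lift (torsorDiv a ha x y) y ≫ a.act = x := by
  haveI : IsIso (lift a.act (snd G X)) := ha
  let m := lift x y ≫ inv (lift a.act (snd G X))
  have hm : m ≫ lift a.act (snd G X) = lift x y := by
    show (lift x y ≫ inv (lift a.act (snd G X))) ≫ lift a.act (snd G X) = lift x y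
    rw [Category.assoc, IsIso.inv_hom_id, Category.comp_id]
  have h1 : m ≫ a.act = x := by
    have := congrArg (· ≫ fst X X) hm
    simpa using this
  have h2 : m ≫ snd G X = y := by
    have := congrArg (· ≫ snd X X) hm
    simpa using this
  have h3 : lift (torsorDiv a ha x y) y = m := by
    apply CartesianMonoidalCategory.hom_ext
    · simp [torsorDiv, m]
    · rw [lift_snd, h2]
  rw [h3, h1]

include ha in
lemma torsor_cancel {T : Over S} (g g' : T ⟶ G) (y : T ⟶ X)
    (h : lift g y ≫ a.act = lift g' y ≫ a.act) : g = g' := by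
  haveI : IsIso (lift a.act (snd G X)) := ha
  have : lift g y ≫ lift a.act (snd G X) = lift g' y ≫ lift a.act (snd G X) := by
    apply CartesianMonoidalCategory.hom_ext <;> simp [h]
  have := congrArg (· ≫ fst G X) ((cancel_mono _).1 this)
  simpa using this

lemma one_act_eq {T : Over S} (y : T ⟶ X) : lift (1 : T ⟶ G) y ≫ a.act = y := by
  have h : lift (1 : T ⟶ G) y = lift (toUnit T) y ≫ (η[G] ▷ X) := by
    rw [lift_whiskerRight, Hom.one_def]
  rw [h, Category.assoc, a.one_act, leftUnitor_hom, lift_snd]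

include ha in
/-- A pseudo-torsor which is a smooth surjective scheme inherits the mapping property from the group. -/
theorem hasNMP_torsor [Smooth X.hom] [Surjective X.hom] (hG : HasNMP j₀ G) : HasNMP j₀ X := by
  have hinj : ∀ Q : Over S, Smooth Q.hom → Function.Injective (fun g : Q ⟶ X => rstπ j₀ Q ≫ g) := by
    intro Q hQ x y hxy
    simp only at hxy
    have h1 : rstπ j₀ Q ≫ torsorDiv a ha x y = rstπ j₀ Q ≫ (1 : Q ⟶ G) := by
      apply torsor_cancel a ha _ _ (rstπ j₀ Q ≫ y)
      rw [MonObj.comp_one, ← comp_lift, Category.assoc, torsorDiv_act, one_act_eq, hxy]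
    have h2 := ((bijective_map_iff j₀ Q G).1 (hG Q hQ)).1 h1
    rw [← torsorDiv_act a ha x y, h2, one_act_eq]
  intro Y hY
  rw [bijective_map_iff]
  refine ⟨hinj Y hY, fun u => ?_⟩
  haveI : Smooth (fst Y X).left := inferInstanceAs (Smooth (pullback.fst Y.hom X.hom))
  haveI : Surjective (fst Y X).left := inferInstanceAs (Surjective (pullback.fst Y.hom X.hom))
  haveI : Smooth (Y ⊗ X).hom := smooth_tensor Y X
  obtain ⟨n, hn⟩ := ((bijective_map_iff j₀ (Y ⊗ X) G).1 (hG _ inferInstance)).2
    (torsorDiv a ha (rstMap j₀ (fst Y X) ≫ u) (rstπ j₀ (Y ⊗ X) ≫ snd Y X))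
  simp only at hn
  refine surjective_of_cover j₀ (fst Y X) hinj u (lift n (snd Y X) ≫ a.act) ?_
  rw [← Category.assoc, comp_lift, hn, torsorDiv_act]

include a ha in
/-- The group inherits the mapping property from a smooth surjective pseudo-torsor. -/
theorem hasNMP_of_torsor [Smooth X.hom] [Surjective X.hom] (hX : HasNMP j₀ X) : HasNMP j₀ G := by
  have hinj : ∀ Q : Over S, Smooth Q.hom → Function.Injective (fun g : Q ⟶ G => rstπ j₀ Q ≫ g) := by
    intro Q hQ g g' hg
    simp only at hg
    haveI : Smooth (fst Q X).left := inferInstanceAs (Smooth (pullback.fst Q.hom X.hom))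
    haveI : Surjective (fst Q X).left := inferInstanceAs (Surjective (pullback.fst Q.hom X.hom))
    haveI : EffectiveEpi (fst Q X).left := inferInstance
    haveI : Epi (fst Q X).left := inferInstance
    haveI : Epi (fst Q X) := Over.epi_of_epi_left _
    haveI : Smooth (Q ⊗ X).hom := smooth_tensor Q X
    rw [← cancel_epi (fst Q X)]
    apply torsor_cancel a ha _ _ (snd Q X)
    refine ((bijective_map_iff j₀ (Q ⊗ X) X).1 (hX _ inferInstance)).1 ?_
    simp only
    have e : ∀ k : Q ⟶ G, rstπ j₀ (Q ⊗ X) ≫ lift (fst Q X ≫ k) (snd Q X) ≫ a.act =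
        lift (rstMap j₀ (fst Q X) ≫ rstπ j₀ Q ≫ k) (rstπ j₀ (Q ⊗ X) ≫ snd Q X) ≫ a.act := fun k => by
      rw [← Category.assoc, comp_lift, ← Category.assoc (rstπ j₀ (Q ⊗ X)), ← rstMap_π, Category.assoc]
    rw [e, e, hg]
  intro Y hY
  rw [bijective_map_iff]
  refine ⟨hinj Y hY, fun u => ?_⟩
  haveI : Smooth (fst Y X).left := inferInstanceAs (Smooth (pullback.fst Y.hom X.hom))
  haveI : Surjective (fst Y X).left := inferInstanceAs (Surjective (pullback.fst Y.hom X.hom))
  haveI : Smooth (Y ⊗ X).hom := smooth_tensor Y X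
  obtain ⟨n, hn⟩ := ((bijective_map_iff j₀ (Y ⊗ X) X).1 (hX _ inferInstance)).2
    (lift (rstMap j₀ (fst Y X) ≫ u) (rstπ j₀ (Y ⊗ X) ≫ snd Y X) ≫ a.act)
  simp only at hn
  refine surjective_of_cover j₀ (fst Y X) hinj u (torsorDiv a ha n (snd Y X)) ?_
  apply torsor_cancel a ha _ _ (rstπ j₀ (Y ⊗ X) ≫ snd Y X)
  rw [← comp_lift, Category.assoc, torsorDiv_act, hn]

include a ha in
/-- Trivialisation of a pseudo-torsor by a point. -/
theorem property_snd_of_section (P : MorphismProperty Scheme.{u}) [P.IsStableUnderBaseChange] [P.RespectsIso]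
    (hP : P G.hom) {S' : Scheme.{u}} (f : S' ⟶ S) (s : S' ⟶ X.left) (hs : s ≫ X.hom = f) :
    P (pullback.snd X.hom f) := by
  haveI : IsIso (lift a.act (snd G X)) := ha
  haveI : IsIso (lift a.act (snd G X)).left :=
    inferInstanceAs (IsIso ((Over.forget S).map (lift a.act (snd G X))))
  have h1 : P (pullback.snd G.hom X.hom) := P.pullback_snd _ _ hP
  have h2 : P (pullback.snd X.hom X.hom) := by
    rw [← P.cancel_left_of_respectsIso (lift a.act (snd G X)).left]
    have e : (lift a.act (snd G X)).left ≫ pullback.snd X.hom X.hom = pullback.snd G.hom X.hom :=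
      congrArg CommaMorphism.left (lift_snd a.act (snd G X))
    rw [e]
    exact h1
  have h3 : P (pullback.snd (pullback.snd X.hom X.hom) s) := P.pullback_snd _ _ h2
  have hp := (IsPullback.of_hasPullback (pullback.snd X.hom X.hom) s).paste_horiz
    (IsPullback.of_hasPullback X.hom X.hom)
  rw [hs] at hp
  rw [← P.cancel_left_of_respectsIso hp.isoPullback.hom, hp.isoPullback_hom_snd]
  exact h3

include a ha in
/-- A locally trivial pseudo-torsor has every fppf local property of its group. -/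
theorem property_of_isLocallyTrivial (P : MorphismProperty Scheme.{u}) [P.IsStableUnderBaseChange]
    [P.IsLocalAtTarget Scheme.fppfPrecoverage]
    (hX : NonAbH1.IsLocallyTrivialFor Scheme.fppfPrecoverage X) (hP : P G.hom) : P X.hom := by
  obtain ⟨R, hR, hsec⟩ := hX
  refine MorphismProperty.IsLocalAtTarget.of_forall_pullbackSnd (K := Scheme.fppfPrecoverage) hR fun {S'} {f} _ hf => ?_
  obtain ⟨s, hs⟩ := hsec f hf
  exact property_snd_of_section a ha P hP f s hs

theorem surjective_of_isLocallyTrivial (hX : NonAbH1.IsLocallyTrivialFor Scheme.fppfPrecoverage X) :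
    Surjective X.hom := by
  obtain ⟨R, hR, hsec⟩ := hX
  refine ⟨fun y => ?_⟩
  obtain ⟨Y, g, hg, y', rfl⟩ := hR.1 y
  obtain @⟨S', f, hf⟩ := hg
  obtain ⟨s, hs⟩ := hsec f hf
  exact ⟨s y', by rw [← Scheme.Hom.comp_apply, hs]; rfl⟩

end Torsor

end Groth.NeronArea
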