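import Groth.Agent.NeronArea.SmoothAtBasics
import Groth.Agent.NeronArea.SingularIdeal
import Mathlib.RingTheory.Localization.Integer
import Mathlib.RingTheory.Localization.AtPrime.Basic
import Mathlib.RingTheory.MvPolynomial.Localization
import Mathlib.RingTheory.Artinian.Ring
import Mathlib.RingTheory.KrullDimension.Zero
import Mathlib.RingTheory.Smooth.Basic

/-! Delocalizing resolutions of local singularity problems. -/

open MvPolynomial Smoothing
open scoped TensorProduct

set_option linter.style.haveILetI false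

namespace Groth.NeronArea.Delocalize

universe u

/-- Homogenisation of a polynomial by an extra variable. -/
lemma exists_homogenize {A : Type u} [CommRing A] {k : ℕ} (G : MvPolynomial (Fin k) A) :
    ∃ (D : ℕ) (H : MvPolynomial (Fin k ⊕ Unit) A), 0 < D ∧
      ∀ {L : Type u} [CommRing L] [Algebra A L] (y : Fin k → L) (t : L),
        (∀ z : Fin k → L, (∀ i, y i = t * z i) →
          aeval (Sum.elim y fun _ => t) H = t ^ D * aeval z G) ∧
        ∀ c : L, aeval (Sum.elim (fun i => c * y i) fun _ => c * t) H =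
          c ^ D * aeval (Sum.elim y fun _ => t) H := by
  induction G using MvPolynomial.induction_on with
  | C a =>
    exact ⟨1, C a * X (Sum.inr ()), one_pos, fun y t =>
      ⟨fun z _ => by simp [mul_comm], fun c => by simp [mul_left_comm]⟩⟩
  | add p q hp hq =>
    obtain ⟨D1, H1, h1, hH1⟩ := hp
    obtain ⟨D2, H2, h2, hH2⟩ := hq
    refine ⟨D1 + D2, H1 * X (Sum.inr ()) ^ D2 + H2 * X (Sum.inr ()) ^ D1, by omega, fun y t => ⟨?_, fun c => ?_⟩⟩
    · intro z hz
      simp only [map_add, map_mul, map_pow, aeval_X, Sum.elim_inr, (hH1 y t).1 z hz, (hH2 y t).1 z hz]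
      ring
    · simp only [map_add, map_mul, map_pow, aeval_X, Sum.elim_inr, (hH1 y t).2 c, (hH2 y t).2 c]
      ring
  | mul_X p i hp =>
    obtain ⟨D, H, h, hH⟩ := hp
    refine ⟨D + 1, H * X (Sum.inl i), by omega, fun y t => ⟨?_, fun c => ?_⟩⟩
    · intro z hz
      simp only [map_mul, aeval_X, Sum.elim_inl, (hH y t).1 z hz, hz i]
      ring
    · simp only [map_mul, aeval_X, Sum.elim_inl, (hH y t).2 c]
      ring

/-- Glue the smooth locus of `A` with a smooth factorization over a localization at a prime. -/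
theorem exists_glue {R A Λ RS B'' Λq : Type u} [CommRing R] [CommRing A] [Algebra R A]
    [Algebra.FinitePresentation R A] [CommRing Λ] [Algebra R Λ] (φ : A →ₐ[R] Λ) (𝔮 : Ideal Λ) [𝔮.IsPrime]
    [CommRing Λq] [Algebra Λ Λq] [IsLocalization.AtPrime Λq 𝔮] [Algebra R Λq] [IsScalarTower R Λ Λq]
    (S : Submonoid R) (hS : ∀ s ∈ S, algebraMap R Λ s ∉ 𝔮) [CommRing RS] [Algebra R RS] [IsLocalization S RS]
    [CommRing B''] [Algebra R B''] [Algebra RS B''] [IsScalarTower R RS B''] [Algebra.FinitePresentation RS B'']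
    [Algebra.FormallySmooth R B''] (g'' : A →ₐ[R] B'') (h'' : B'' →ₐ[R] Λq)
    (hgh : ∀ a, h'' (g'' a) = algebraMap Λ Λq (φ a))
    {r : ℕ} (a : Fin r → A) (ha : ∀ i, a i ∈ singularIdeal R A)
    (μ : Λ) (hμ : μ ∉ 𝔮) (hμa : ∀ i, μ * φ (a i) = 0) :
    ∃ (B : Type u) (_ : CommRing B) (_ : Algebra R B), Algebra.FinitePresentation R B ∧
      ∃ (α : A →ₐ[R] B) (β : B →ₐ[R] Λ), β.comp α = φ ∧
        ¬ (singularIdeal R B).map β ≤ 𝔮 ∧ ∀ i, φ (a i) ∈ (singularIdeal R B).map β := by
  classical
  obtain ⟨k, π, hπ, hπfg⟩ := Algebra.FinitePresentation.out (R := RS) (A := B'')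
  obtain ⟨m, G', hG'⟩ := Submodule.fg_iff_exists_fin_generating_family.1 hπfg
  obtain ⟨n, f, hf⟩ := Algebra.FiniteType.iff_quotient_mvPolynomial''.1 (inferInstance : Algebra.FiniteType R A)
  letI : Algebra (MvPolynomial (Fin k) R) (MvPolynomial (Fin k) RS) := algebraMvPolynomial
  have : IsLocalization (S.map (C (σ := Fin k) : R →+* MvPolynomial (Fin k) R)) (MvPolynomial (Fin k) RS) :=
    MvPolynomial.isLocalization S RS
  have hclear : ∀ P : MvPolynomial (Fin k) RS, ∃ (G : MvPolynomial (Fin k) R) (s : R), s ∈ S ∧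
      MvPolynomial.map (algebraMap R RS) G = C (algebraMap R RS s) * P := by
    intro P
    obtain ⟨⟨G, ⟨_, s, hs, rfl⟩⟩, h⟩ := IsLocalization.surj (S.map (C (σ := Fin k) : R →+* MvPolynomial (Fin k) R)) P
    refine ⟨G, s, hs, ?_⟩
    rw [show MvPolynomial.map (algebraMap R RS) G = algebraMap (MvPolynomial (Fin k) R) (MvPolynomial (Fin k) RS) G from rfl,
      ← h, mul_comm]
    congr 1
    exact MvPolynomial.map_C _ _
  choose Gp sG hsG hGp using fun j => hclear (G' j)
  choose αp sα hsα hαp using fun i => hclear (Classical.choose (hπ (g'' (f (X i)))))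
  have hα : ∀ i, π (C (algebraMap R RS (sα i)) * Classical.choose (hπ (g'' (f (X i))))) =
      algebraMap R B'' (sα i) * g'' (f (X i)) := fun i => by
    rw [map_mul, ← MvPolynomial.algebraMap_eq, AlgHom.commutes, Classical.choose_spec (hπ (g'' (f (X i)))),
      ← IsScalarTower.algebraMap_apply]
  let zb : Fin k → B'' := fun l => π (X l)
  have hzb : ∀ q : MvPolynomial (Fin k) R, aeval zb q = π (MvPolynomial.map (algebraMap R RS) q) := by
    intro q
    induction q using MvPolynomial.induction_on with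
    | C c => rw [aeval_C, map_C, ← MvPolynomial.algebraMap_eq, AlgHom.commutes, ← IsScalarTower.algebraMap_apply]
    | add p q hp hq => simp [hp, hq]
    | mul_X p l hp => simp [hp, zb]
  have hG0 : ∀ j, aeval zb (Gp j) = 0 := fun j => by
    rw [hzb, hGp, map_mul, show π (G' j) = 0 from (SetLike.ext_iff.1 hG' _).1 (Submodule.subset_span ⟨j, rfl⟩), mul_zero]
  have hα0 : ∀ i, aeval zb (αp i) = algebraMap R B'' (sα i) * g'' (f (X i)) := fun i => by
    rw [hzb, hαp, hα]
  -- all equations, over `A`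
  let eqs : Fin m ⊕ Fin n → MvPolynomial (Fin k) A :=
    Sum.elim (fun j => MvPolynomial.map (algebraMap R A) (Gp j))
      (fun i => MvPolynomial.map (algebraMap R A) (αp i) - C (algebraMap R A (sα i) * f (X i)))
  choose D H hD hH using fun j => exists_homogenize (eqs j)
  let σ := (Fin k ⊕ Unit) ⊕ Fin r
  let P := MvPolynomial σ A
  let yv : Fin k ⊕ Unit → P := fun l => X (Sum.inl l)
  let uv : Fin r → P := fun i => X (Sum.inr i)
  let J : Ideal P := Ideal.span
    (Set.range (fun j => aeval yv (H j)) ∪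
      (Set.range (fun q : (Fin k ⊕ Unit) × Fin r => yv q.1 * uv q.2) ∪
        Set.range (fun q : Fin r × Fin r => uv q.1 * (C (a q.2) - uv q.2))))
  let B := P ⧸ J
  have hJfg : J.FG := Submodule.fg_span
    ((Set.finite_range _).union ((Set.finite_range _).union (Set.finite_range _)))
  have : Algebra.FinitePresentation A B := Algebra.FinitePresentation.quotient hJfg
  have hfpB : Algebra.FinitePresentation R B := Algebra.FinitePresentation.trans R A B
  let α : A →ₐ[R] B := IsScalarTower.toAlgHom R A B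
  let yB : Fin k → B := fun l => Ideal.Quotient.mk J (X (Sum.inl (Sum.inl l)))
  let tB : B := Ideal.Quotient.mk J (X (Sum.inl (Sum.inr ())))
  let uB : Fin r → B := fun i => Ideal.Quotient.mk J (X (Sum.inr i))
  have hkerJ : ∀ {L : Type u} [CommRing L] [Algebra A L] (y : Fin k → L) (t : L) (u : Fin r → L),
      (∀ j, aeval (Sum.elim y fun _ => t) (H j) = 0) → (∀ l i, y l * u i = 0) → (∀ i, t * u i = 0) →
      (∀ i i', u i * (algebraMap A L (a i') - u i') = 0) →
      J ≤ RingHom.ker (aeval (R := A) (Sum.elim (Sum.elim y fun _ => t) u)) := by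
    intro L _ _ y t u h1 h2 h3 h4
    refine Ideal.span_le.2 ?_
    rintro _ (⟨j, rfl⟩ | ⟨⟨l, i⟩, rfl⟩ | ⟨⟨i, i'⟩, rfl⟩)
    · show aeval _ (aeval yv (H j)) = 0
      rw [comp_aeval_apply yv (aeval (R := A) (Sum.elim (Sum.elim y fun _ => t) u)) (H j)]
      have : (fun l => aeval (R := A) (Sum.elim (Sum.elim y fun _ => t) u) (yv l)) = Sum.elim y fun _ => t :=
        funext fun l => aeval_X _ _
      rw [this]; exact h1 j
    · show aeval _ (yv l * uv i) = 0
      rw [map_mul, aeval_X, aeval_X]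
      rcases l with l | l
      · exact h2 l i
      · exact h3 i
    · show aeval _ (uv i * (C (a i') - uv i')) = 0
      rw [map_mul, map_sub, aeval_X, aeval_X, aeval_C]
      exact h4 i i'
  have hrelH : ∀ j, aeval (Sum.elim yB fun _ => tB) (H j) = 0 := fun j => by
    have h : Ideal.Quotient.mk J (aeval yv (H j)) = 0 :=
      Ideal.Quotient.eq_zero_iff_mem.2 (Ideal.subset_span (Or.inl ⟨j, rfl⟩))
    rw [← h, ← Ideal.Quotient.mkₐ_eq_mk A, comp_aeval_apply yv (Ideal.Quotient.mkₐ A J) (H j)]
    have he : (Sum.elim yB fun _ => tB) = fun l => (Ideal.Quotient.mkₐ A J) (yv l) :=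
      funext fun l => by rcases l with l | l <;> rfl
    rw [he]
  have hyu : ∀ l i, yB l * uB i = 0 := fun l i => by
    rw [← map_mul]
    exact Ideal.Quotient.eq_zero_iff_mem.2 (Ideal.subset_span (Or.inr (Or.inl ⟨(Sum.inl l, i), rfl⟩)))
  have htu : ∀ i, tB * uB i = 0 := fun i => by
    rw [← map_mul]
    exact Ideal.Quotient.eq_zero_iff_mem.2 (Ideal.subset_span (Or.inr (Or.inl ⟨(Sum.inr (), i), rfl⟩)))
  have huu : ∀ i i', uB i * (algebraMap A B (a i') - uB i') = 0 := fun i i' => by
    show Ideal.Quotient.mk J (uv i) * (Ideal.Quotient.mk J (C (a i')) - Ideal.Quotient.mk J (uv i')) = 0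
    rw [← map_sub, ← map_mul]
    exact Ideal.Quotient.eq_zero_iff_mem.2 (Ideal.subset_span (Or.inr (Or.inr ⟨(i, i'), rfl⟩)))
  have hextB : ∀ {L : Type u} [CommRing L] (p q : B →+* L), (∀ x, p (algebraMap A B x) = q (algebraMap A B x)) →
      (∀ l, p (yB l) = q (yB l)) → p tB = q tB → (∀ i, p (uB i) = q (uB i)) → p = q := by
    intro L _ p q h1 h2 h3 h4
    refine Ideal.Quotient.ringHom_ext (MvPolynomial.ringHom_ext h1 ?_)
    rintro ((l | l) | i)
    · exact h2 l
    · exact h3
    · exact h4 i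
  -- smoothness where `t` and `S` are invertible
  have hsmt : ∀ (Q : Ideal B) [Q.IsPrime], tB ∉ Q → (∀ s ∈ S, algebraMap R B s ∉ Q) →
      Algebra.IsSmoothAt R Q := by
    intro Q hQ htQ hSQ
    let BQ := Localization.AtPrime Q
    have hunit : ∀ x : B, x ∉ Q → IsUnit (algebraMap B BQ x) := fun x hx =>
      IsLocalization.map_units BQ (⟨x, hx⟩ : Q.primeCompl)
    obtain ⟨tu, htu'⟩ := hunit tB htQ
    let zq : Fin k → BQ := fun l => ↑tu⁻¹ * algebraMap B BQ (yB l)
    have hyz : ∀ l, algebraMap B BQ (yB l) = algebraMap B BQ tB * zq l := fun l => by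
      rw [← htu']; exact (Units.mul_inv_cancel_left _ _).symm
    have heq : ∀ j, aeval zq (eqs j) = 0 := fun j => by
      have h := congrArg (IsScalarTower.toAlgHom A B BQ) (hrelH j)
      rw [map_zero, comp_aeval_apply] at h
      have he : (fun l : Fin k ⊕ Unit => IsScalarTower.toAlgHom A B BQ ((Sum.elim yB fun _ => tB) l)) =
          Sum.elim (fun l => algebraMap B BQ (yB l)) fun _ : Unit => algebraMap B BQ tB :=
        funext fun l => by rcases l with l | l <;> rfl
      rw [he, (hH j (L := BQ) (fun l => algebraMap B BQ (yB l)) (algebraMap B BQ tB)).1 zq hyz] at h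
      rw [← htu', ← Units.val_pow_eq_pow_val] at h
      exact (Units.mul_right_eq_zero _).1 h
    have hSu : ∀ s : S, IsUnit (algebraMap R BQ (s : R)) := fun s => by
      rw [IsScalarTower.algebraMap_apply R B BQ]; exact hunit _ (hSQ s s.2)
    let cRS : RS →ₐ[R] BQ := IsLocalization.liftAlgHom (S := RS) (M := S) (f := Algebra.ofId R BQ) hSu
    let ev : MvPolynomial (Fin k) RS →+* BQ := eval₂Hom cRS.toRingHom zq
    have hev : ∀ q : MvPolynomial (Fin k) R, ev (MvPolynomial.map (algebraMap R RS) q) =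
        aeval zq (MvPolynomial.map (algebraMap R A) q) := fun q => by
      show eval₂ _ _ _ = eval₂ _ _ _
      rw [eval₂_map, eval₂_map]
      congr 1
      rw [show cRS.toRingHom.comp (algebraMap R RS) = algebraMap R BQ from RingHom.ext fun x => cRS.commutes x,
        IsScalarTower.algebraMap_eq R A BQ]
    have hker : RingHom.ker π.toRingHom ≤ RingHom.ker ev := by
      rw [← hG']
      refine Submodule.span_le.2 ?_
      rintro _ ⟨j, rfl⟩
      show ev (G' j) = 0
      have h0 : ev (MvPolynomial.map (algebraMap R RS) (Gp j)) = 0 := by rw [hev]; exact heq (Sum.inl j)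
      rw [hGp, map_mul, show ev (C (algebraMap R RS (sG j))) = algebraMap R BQ (sG j) by
        simp [ev]] at h0
      exact (hSu ⟨_, hsG j⟩).mul_right_eq_zero.1 h0
    let e := RingHom.quotientKerEquivOfSurjective (f := π.toRingHom) hπ
    let ι0 : B'' →+* BQ :=
      (Ideal.Quotient.lift (RingHom.ker π.toRingHom) ev fun x hx => hker hx).comp e.symm.toRingHom
    have hι0 : ∀ x, ι0 (π x) = ev x := fun x => by
      show Ideal.Quotient.lift (RingHom.ker π.toRingHom) ev (fun y hy => hker hy) (e.symm (e (Ideal.Quotient.mk _ x))) = _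
      rw [RingEquiv.symm_apply_apply]; rfl
    let ι : B'' →ₐ[R] BQ :=
      { ι0 with
        commutes' := fun x => by
          show ι0 (algebraMap R B'' x) = _
          rw [IsScalarTower.algebraMap_apply R RS B'', ← π.commutes, hι0, MvPolynomial.algebraMap_eq]
          simp [ev] }
    have hιg : ι.comp g'' = IsScalarTower.toAlgHom R A BQ := by
      have h0 : (ι.comp g'').comp f = (IsScalarTower.toAlgHom R A BQ).comp f := by
        refine MvPolynomial.algHom_ext fun i => ?_
        show ι0 (g'' (f (X i))) = algebraMap A BQ (f (X i))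
        refine (hSu ⟨_, hsα i⟩).mul_left_cancel ?_
        have h1 := heq (Sum.inr i)
        simp only [eqs, Sum.elim_inr, map_sub, aeval_C, sub_eq_zero] at h1
        rw [← hev, hαp, ← hι0, hα, map_mul, map_mul, ← IsScalarTower.algebraMap_apply] at h1
        rwa [show ι0 (algebraMap R B'' (sα i)) = algebraMap R BQ (sα i) from ι.commutes _] at h1
      exact AlgHom.ext fun x => by obtain ⟨x, rfl⟩ := hf x; exact AlgHom.congr_fun h0 x
    refine Algebra.FormallySmooth.of_comp_surjective fun W _ _ I hI F => ?_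
    obtain ⟨l, hl⟩ := Algebra.FormallySmooth.exists_lift (R := R) (A := B'') I ⟨2, hI⟩ (F.comp ι)
    letI : Algebra A W := (l.comp g'').toRingHom.toAlgebra
    have : IsScalarTower R A W := IsScalarTower.of_algebraMap_eq fun x => ((l.comp g'').commutes x).symm
    obtain ⟨τ, hτ⟩ := Ideal.Quotient.mk_surjective (F (algebraMap B BQ tB))
    let yW : Fin k → W := fun i => τ * l (zb i)
    have hl' : ∀ q : MvPolynomial (Fin k) R, aeval (fun i => l (zb i)) (MvPolynomial.map (algebraMap R A) q) =
        l (aeval zb q) := fun q => by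
      rw [comp_aeval_apply zb l q, aeval_map_algebraMap]
    have h1 : ∀ j, aeval (fun i => l (zb i)) (eqs j) = 0 := by
      rintro (j | i)
      · simp only [eqs, Sum.elim_inl, hl', hG0, map_zero]
      · simp only [eqs, Sum.elim_inr, map_sub, hl', hα0, map_mul, aeval_C, map_mul,
          show ∀ x, algebraMap A W x = l (g'' x) from fun _ => rfl, AlgHom.commutes, sub_self]
    have hkW : J ≤ RingHom.ker (aeval (R := A) (Sum.elim (Sum.elim yW fun _ => τ) fun _ : Fin r => (0 : W))) :=
      hkerJ yW τ _ (fun j => by rw [(hH j yW τ).1 (fun i => l (zb i)) fun i => rfl, h1, mul_zero])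
        (fun _ _ => mul_zero _) (fun _ => mul_zero _) (fun _ _ => zero_mul _)
    let m0 : B →ₐ[A] W := Ideal.Quotient.liftₐ J _ fun x hx => hkW hx
    have hm0y : ∀ i, m0 (yB i) = τ * l (zb i) := fun i => aeval_X _ (Sum.inl (Sum.inl i))
    have hm0t : m0 tB = τ := aeval_X _ (Sum.inl (Sum.inr ()))
    have hm0u : ∀ i, m0 (uB i) = 0 := fun i => aeval_X _ (Sum.inr i)
    have hl0 : ∀ x, Ideal.Quotient.mk I (l x) = F (ι x) := fun x => AlgHom.congr_fun hl x
    have hm0 : (Ideal.Quotient.mk I).comp m0.toRingHom = F.toRingHom.comp (algebraMap B BQ) := by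
      refine hextB _ _ (fun x => ?_) (fun i => ?_) ?_ (fun i => ?_)
      · show Ideal.Quotient.mk I (m0 (algebraMap A B x)) = F (algebraMap B BQ (algebraMap A B x))
        rw [m0.commutes, ← IsScalarTower.algebraMap_apply]
        show Ideal.Quotient.mk I (l (g'' x)) = _
        rw [hl0, show ι (g'' x) = _ from AlgHom.congr_fun hιg x]
        rfl
      · show Ideal.Quotient.mk I (m0 (yB i)) = F (algebraMap B BQ (yB i))
        rw [hm0y, map_mul, hτ, hl0, hyz, map_mul]
        congr 2
        show ι0 (π (X i)) = _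
        rw [hι0]
        exact eval₂Hom_X' _ _ _
      · show Ideal.Quotient.mk I (m0 tB) = F (algebraMap B BQ tB)
        rw [hm0t, hτ]
      · show Ideal.Quotient.mk I (m0 (uB i)) = F (algebraMap B BQ (uB i))
        have : algebraMap B BQ (uB i) = 0 := by
          have h := congrArg (algebraMap B BQ) (htu i)
          rw [map_mul, map_zero, ← htu'] at h
          exact (Units.mul_right_eq_zero tu).1 h
        rw [hm0u, this, map_zero, map_zero]
    let mR : B →ₐ[R] W := m0.restrictScalars R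
    let mQ : BQ →ₐ[R] W := IsLocalization.liftAlgHom (S := BQ) (M := Q.primeCompl) (f := mR) fun x => by
      refine (IsNilpotent.isUnit_quotient_mk_iff ⟨2, hI⟩).1 ?_
      rw [show Ideal.Quotient.mk I (mR x) = F (algebraMap B BQ x) from RingHom.congr_fun hm0 x]
      exact (IsLocalization.map_units BQ x).map F
    refine ⟨mQ, IsLocalization.algHom_ext Q.primeCompl (AlgHom.ext fun x => ?_)⟩
    show Ideal.Quotient.mk I (mQ (algebraMap B BQ x)) = _
    rw [show mQ (algebraMap B BQ x) = mR x from IsLocalization.lift_eq _ _]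
    exact RingHom.congr_fun hm0 x
  -- smoothness where some `u i` is invertible
  have hsmu : ∀ i, uB i ∈ singularIdeal R B := by
    intro i
    rw [SmoothAtBasics.mem_singularIdeal_iff]
    intro Q hQ huQ
    let BQ := Localization.AtPrime Q
    have hu : IsUnit (algebraMap B BQ (uB i)) := IsLocalization.map_units BQ (⟨uB i, huQ⟩ : Q.primeCompl)
    have hzero : ∀ x, uB i * x = 0 → algebraMap B BQ x = 0 := fun x hx => by
      have h := congrArg (algebraMap B BQ) hx
      rw [map_mul, map_zero] at h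
      exact hu.mul_right_eq_zero.1 h
    have hua : ∀ i', algebraMap B BQ (uB i') = algebraMap A BQ (a i') := fun i' => by
      have h := hzero _ (huu i i')
      rw [map_sub, sub_eq_zero, ← IsScalarTower.algebraMap_apply] at h
      exact h.symm
    let L := Localization.Away (a i)
    have hL : Algebra.Smooth R L := SmoothAtBasics.mem_singularIdeal_iff_smooth.1 (ha i)
    have : Algebra.FormallySmooth R L := hL.formallySmooth
    let ι : L →ₐ[R] BQ := IsLocalization.liftAlgHom (S := L) (M := Submonoid.powers (a i))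
      (f := IsScalarTower.toAlgHom R A BQ) fun x => by
        obtain ⟨d, hd⟩ := x.2
        rw [← hd, map_pow]
        show IsUnit (algebraMap A BQ (a i) ^ d)
        rw [← hua]; exact hu.pow d
    refine Algebra.FormallySmooth.of_comp_surjective fun W _ _ I hI F => ?_
    obtain ⟨l, hl⟩ := Algebra.FormallySmooth.exists_lift (R := R) (A := L) I ⟨2, hI⟩ (F.comp ι)
    let lA : A →ₐ[R] W := l.comp (IsScalarTower.toAlgHom R A L)
    letI : Algebra A W := lA.toRingHom.toAlgebra
    have : IsScalarTower R A W := IsScalarTower.of_algebraMap_eq fun x => (lA.commutes x).symm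
    have hH0 : ∀ j, aeval (Sum.elim (fun _ : Fin k => (0 : W)) fun _ => (0 : W)) (H j) = 0 := fun j => by
      have h := (hH j (fun _ : Fin k => (0 : W)) (0 : W)).2 0
      rw [zero_pow (hD j).ne', zero_mul] at h
      simpa using h
    have hkW : J ≤ RingHom.ker (aeval (R := A)
        (Sum.elim (Sum.elim (fun _ : Fin k => (0 : W)) fun _ => (0 : W)) fun i' => algebraMap A W (a i'))) :=
      hkerJ _ _ _ hH0 (fun _ _ => zero_mul _) (fun _ => zero_mul _) (fun _ _ => by rw [sub_self, mul_zero])
    let m0 : B →ₐ[A] W := Ideal.Quotient.liftₐ J _ fun x hx => hkW hx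
    have hl0 : ∀ x : A, Ideal.Quotient.mk I (algebraMap A W x) = F (algebraMap A BQ x) := fun x =>
      (AlgHom.congr_fun hl (algebraMap A L x)).trans (congrArg F (IsLocalization.lift_eq _ x))
    have hm0 : (Ideal.Quotient.mk I).comp m0.toRingHom = F.toRingHom.comp (algebraMap B BQ) := by
      refine hextB _ _ (fun x => ?_) (fun i' => ?_) ?_ (fun i' => ?_)
      · show Ideal.Quotient.mk I (m0 (algebraMap A B x)) = F (algebraMap B BQ (algebraMap A B x))
        rw [m0.commutes, ← IsScalarTower.algebraMap_apply]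
        exact hl0 x
      · show Ideal.Quotient.mk I (m0 (yB i')) = F (algebraMap B BQ (yB i'))
        rw [show m0 (yB i') = 0 from aeval_X _ (Sum.inl (Sum.inl i')),
          hzero _ ((mul_comm _ _).trans (hyu i' i)), map_zero, map_zero]
      · show Ideal.Quotient.mk I (m0 tB) = F (algebraMap B BQ tB)
        rw [show m0 tB = 0 from aeval_X _ (Sum.inl (Sum.inr ())),
          hzero _ ((mul_comm _ _).trans (htu i)), map_zero, map_zero]
      · show Ideal.Quotient.mk I (m0 (uB i')) = F (algebraMap B BQ (uB i'))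
        rw [show m0 (uB i') = algebraMap A W (a i') from aeval_X _ (Sum.inr i'), hua]
        exact hl0 _
    let mQ : BQ →ₐ[R] W := IsLocalization.liftAlgHom (S := BQ) (M := Q.primeCompl) (f := m0.restrictScalars R) fun x => by
      refine (IsNilpotent.isUnit_quotient_mk_iff ⟨2, hI⟩).1 ?_
      rw [show Ideal.Quotient.mk I (m0.restrictScalars R x) = F (algebraMap B BQ x) from RingHom.congr_fun hm0 x]
      exact (IsLocalization.map_units BQ x).map F
    refine ⟨mQ, IsLocalization.algHom_ext Q.primeCompl (AlgHom.ext fun x => ?_)⟩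
    show Ideal.Quotient.mk I (mQ (algebraMap B BQ x)) = _
    rw [show mQ (algebraMap B BQ x) = m0.restrictScalars R x from IsLocalization.lift_eq _ _]
    exact RingHom.congr_fun hm0 x
  -- the map to `Λ`
  letI : Algebra A Λ := φ.toRingHom.toAlgebra
  have : IsScalarTower R A Λ := IsScalarTower.of_algebraMap_eq fun x => (φ.commutes x).symm
  letI : Algebra A Λq := ((algebraMap Λ Λq).comp φ.toRingHom).toAlgebra
  have : IsScalarTower A Λ Λq := IsScalarTower.of_algebraMap_eq' rfl
  have : IsScalarTower R A Λq := IsScalarTower.of_algebraMap_eq fun x => by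
    show _ = algebraMap Λ Λq (φ (algebraMap R A x))
    rw [φ.commutes, ← IsScalarTower.algebraMap_apply]
  obtain ⟨⟨den, hden⟩, hlam⟩ := IsLocalization.exist_integer_multiples_of_finite 𝔮.primeCompl
    (fun l => h'' (zb l))
  choose lam hlam using hlam
  have hlam' : ∀ l, algebraMap Λ Λq (lam l) = algebraMap Λ Λq den * h'' (zb l) := fun l => by
    rw [hlam l, Algebra.smul_def]
  have hqz : ∀ j, aeval (fun l => h'' (zb l)) (eqs j) = 0 := by
    have hq : ∀ q : MvPolynomial (Fin k) R,
        aeval (fun l => h'' (zb l)) (MvPolynomial.map (algebraMap R A) q) = h'' (aeval zb q) := fun q => by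
      rw [comp_aeval_apply zb h'' q, aeval_map_algebraMap]
    rintro (j | i)
    · simp only [eqs, Sum.elim_inl, hq, hG0, map_zero]
    · simp only [eqs, Sum.elim_inr, map_sub, hq, hα0, map_mul, aeval_C, hgh,
        show ∀ x, algebraMap A Λq x = algebraMap Λ Λq (φ x) from fun _ => rfl, AlgHom.commutes,
        ← IsScalarTower.algebraMap_apply, sub_self]
  let E : Fin m ⊕ Fin n → Λ := fun j => aeval (Sum.elim lam fun _ => den) (H j)
  have hE : ∀ j, algebraMap Λ Λq (E j) = 0 := fun j => by
    have h := comp_aeval_apply (Sum.elim lam fun _ => den) (IsScalarTower.toAlgHom A Λ Λq) (H j)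
    rw [show algebraMap Λ Λq (E j) = IsScalarTower.toAlgHom A Λ Λq (aeval (Sum.elim lam fun _ => den) (H j)) from rfl, h,
      show (fun l => IsScalarTower.toAlgHom A Λ Λq ((Sum.elim lam fun _ => den) l)) =
        Sum.elim (fun l => algebraMap Λ Λq (lam l)) fun _ => algebraMap Λ Λq den from
        funext fun l => by rcases l with l | l <;> rfl,
      (hH j _ _).1 (fun l => h'' (zb l)) hlam', hqz, mul_zero]
  choose ν hν using fun j => (IsLocalization.map_eq_zero_iff 𝔮.primeCompl Λq (E j)).1 (hE j)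
  let c : Λ := μ * ∏ j, (ν j : Λ)
  have hc : c ∉ 𝔮 := Ideal.IsPrime.mul_notMem inferInstance hμ fun h => by
    obtain ⟨j, -, hj⟩ := (Ideal.IsPrime.prod_mem_iff (p := 𝔮)).1 h
    exact (ν j).2 hj
  have hkΛ : J ≤ RingHom.ker (aeval (R := A)
      (Sum.elim (Sum.elim (fun l => c * lam l) fun _ => c * den) fun i => φ (a i))) := by
    refine hkerJ _ _ _ (fun j => ?_) (fun l i => ?_) (fun i => ?_) fun i i' => ?_
    · rw [(hH j lam den).2 c]
      obtain ⟨d, hd⟩ : (ν j : Λ) ∣ c := (Finset.dvd_prod_of_mem _ (Finset.mem_univ j)).mul_left μ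
      obtain ⟨e, he⟩ := Nat.exists_eq_add_of_le (hD j)
      rw [he, pow_add, pow_one]
      conv_lhs => arg 1; arg 1; rw [hd]
      linear_combination d * c ^ e * hν j
    · show μ * _ * lam l * φ (a i) = 0
      linear_combination (∏ j, (ν j : Λ)) * lam l * hμa i
    · show μ * _ * den * φ (a i) = 0
      linear_combination (∏ j, (ν j : Λ)) * den * hμa i
    · show φ (a i) * (φ (a i') - φ (a i')) = 0
      rw [sub_self, mul_zero]
  let βA : B →ₐ[A] Λ := Ideal.Quotient.liftₐ J _ fun x hx => hkΛ hx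
  let β : B →ₐ[R] Λ := βA.restrictScalars R
  refine ⟨B, inferInstance, inferInstance, hfpB, α, β, AlgHom.ext fun x => βA.commutes x, ?_, fun i => ?_⟩
  · intro hle
    let Q : Ideal B := 𝔮.comap β
    have : Q.IsPrime := Ideal.IsPrime.comap β
    have htQ : tB ∉ Q := by
      show β tB ∉ 𝔮
      rw [show β tB = c * den from aeval_X _ (Sum.inl (Sum.inr ()))]
      exact Ideal.IsPrime.mul_notMem inferInstance hc hden
    have hsm : Algebra.IsSmoothAt R Q := hsmt Q htQ fun s hs => by
      show β (algebraMap R B s) ∉ 𝔮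
      rw [β.commutes]; exact hS s hs
    obtain ⟨e, he, heQ⟩ := Singular.exists_elementary (R := R) ⟨Q, inferInstance⟩ hsm
    exact heQ (hle (Ideal.mem_map_of_mem β (SmoothAtBasics.mem_singularIdeal_iff.2 fun Q' _ h =>
      Singular.mem_smoothLocus_of_strictlyStandard (Singular.isStrictlyStandard_of_elementary he) ⟨Q', inferInstance⟩ h)))
  · rw [← show β (uB i) = φ (a i) from aeval_X _ (Sum.inr i)]
    exact Ideal.mem_map_of_mem β (hsmu i)

/-- A resolution of the localized problem gives a smooth factorization through a finitely presented algebra. -/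
lemma exists_smooth_of_resolvable {R A Λq : Type u} [CommRing R] [CommRing A] [Algebra R A]
    [CommRing Λq] [Algebra R Λq] [IsLocalRing Λq] (φ : A →ₐ[R] Λq) (I : Ideal Λq)
    (hI : I = IsLocalRing.maximalIdeal Λq) (hres : Resolvable R φ I) :
    ∃ (B : Type u) (_ : CommRing B) (_ : Algebra R B), Algebra.Smooth R B ∧
      ∃ (g : A →ₐ[R] B) (h : B →ₐ[R] Λq), h.comp g = φ := by
  obtain ⟨B', _, _, hB', g, h, hgh, -, hn⟩ := hres
  have hn' : ¬ (singularIdeal R B').map h ≤ I := fun hle => hn (by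
    subst hI
    exact (IsLocalRing.maximalIdeal.isMaximal Λq).isPrime.radical_le_iff.2 hle)
  rw [Ideal.map_le_iff_le_comap, SetLike.not_le_iff_exists] at hn'
  obtain ⟨b, hb, hbI⟩ := hn'
  have hu : IsUnit (h b) := by
    by_contra hu
    exact hbI (by rw [Ideal.mem_comap, hI]; exact (IsLocalRing.mem_maximalIdeal _).2 hu)
  refine ⟨Localization.Away b, inferInstance, inferInstance, SmoothAtBasics.mem_singularIdeal_iff_smooth.1 hb,
    (IsScalarTower.toAlgHom R B' _).comp g,
    IsLocalization.liftAlgHom (S := Localization.Away b) (M := Submonoid.powers b) (f := h) (fun y => by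
      obtain ⟨d, hd⟩ := y.2
      rw [← hd, map_pow]; exact hu.pow d), ?_⟩
  refine AlgHom.ext fun x => ?_
  exact (IsLocalization.lift_eq _ (g x)).trans (AlgHom.congr_fun hgh x)

section

variable {R A Λ Rₚ Λq : Type u} [CommRing R] [IsNoetherianRing R] [CommRing A]
    [Algebra R A] [Algebra.FinitePresentation R A] [CommRing Λ] [Algebra R Λ] (φ : A →ₐ[R] Λ)
    (𝔮 : Ideal Λ) [𝔮.IsPrime]
    [CommRing Rₚ] [Algebra R Rₚ] [IsLocalization.AtPrime Rₚ (𝔮.comap (algebraMap R Λ))]
    [CommRing Λq] [Algebra Λ Λq] [IsLocalization.AtPrime Λq 𝔮] [Algebra R Λq] [IsScalarTower R Λ Λq]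
    [Algebra Rₚ Λq] [IsScalarTower R Rₚ Λq]

theorem delocalize {r : ℕ} (a : Fin r → A) (ha : ∀ i, a i ∈ singularIdeal R A) (μ : Λ) (hμ : μ ∉ 𝔮)
    (hμa : ∀ i, μ * φ (a i) = 0)
    (hres : Smoothing.Resolvable Rₚ
      (Algebra.TensorProduct.lift (Algebra.ofId Rₚ Λq) ((IsScalarTower.toAlgHom R Λ Λq).comp φ)
        (fun _ _ => Commute.all _ _) : Rₚ ⊗[R] A →ₐ[Rₚ] Λq) (𝔮.map (algebraMap Λ Λq))) :
    ∃ (B : Type u) (_ : CommRing B) (_ : Algebra R B), Algebra.FinitePresentation R B ∧
      ∃ (α : A →ₐ[R] B) (β : B →ₐ[R] Λ), β.comp α = φ ∧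
        ¬ (singularIdeal R B).map β ≤ 𝔮 ∧ ∀ i, φ (a i) ∈ (singularIdeal R B).map β := by
  have := IsLocalization.AtPrime.isLocalRing Λq 𝔮
  obtain ⟨B'', _, _, hB'', g, h, hgh⟩ := exists_smooth_of_resolvable _ _
    (IsLocalization.AtPrime.map_eq_maximalIdeal 𝔮 Λq) hres
  letI : Algebra R B'' := ((algebraMap Rₚ B'').comp (algebraMap R Rₚ)).toAlgebra
  have : IsScalarTower R Rₚ B'' := IsScalarTower.of_algebraMap_eq' rfl
  have : Algebra.FinitePresentation Rₚ B'' := hB''.finitePresentation
  have : Algebra.FormallySmooth Rₚ B'' := hB''.formallySmooth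
  have : Algebra.FormallySmooth R Rₚ :=
    Algebra.FormallySmooth.of_isLocalization (𝔮.comap (algebraMap R Λ)).primeCompl
  have : Algebra.FormallySmooth R B'' := Algebra.FormallySmooth.comp R Rₚ B''
  refine exists_glue φ 𝔮 (𝔮.comap (algebraMap R Λ)).primeCompl (fun s hs => hs)
    (RS := Rₚ) (Λq := Λq) ((g.restrictScalars R).comp Algebra.TensorProduct.includeRight) (h.restrictScalars R)
    (fun x => ?_) a ha μ hμ hμa
  refine (AlgHom.congr_fun hgh ((1 : Rₚ) ⊗ₜ x)).trans ?_
  show Algebra.TensorProduct.lift _ _ _ ((1 : Rₚ) ⊗ₜ x) = _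
  rw [Algebra.TensorProduct.lift_tmul, map_one, one_mul]
  rfl

theorem resolvable_of_dim_zero (hmin : 𝔮 ∈ (Smoothing.singRad R φ).minimalPrimes)
    (hdim : ringKrullDim Λq = 0)
    (hres : Smoothing.Resolvable Rₚ
      (Algebra.TensorProduct.lift (Algebra.ofId Rₚ Λq) ((IsScalarTower.toAlgHom R Λ Λq).comp φ)
        (fun _ _ => Commute.all _ _) : Rₚ ⊗[R] A →ₐ[Rₚ] Λq) (𝔮.map (algebraMap Λ Λq))) :
    Smoothing.Resolvable R φ 𝔮 := by
  classical
  have := IsLocalization.AtPrime.isLocalRing Λq 𝔮
  have : IsNoetherianRing A := Algebra.FiniteType.isNoetherianRing R A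
  obtain ⟨r, a, ha⟩ := Submodule.fg_iff_exists_fin_generating_family.1 (IsNoetherian.noetherian (singularIdeal R A))
  have haS : ∀ i, a i ∈ singularIdeal R A := fun i =>
    (SetLike.ext_iff.1 ha _).1 (Submodule.subset_span ⟨i, rfl⟩)
  have : Ring.KrullDimLE 0 Λq := Ring.krullDimLE_iff.2 (by rw [hdim]; norm_num)
  have hnil : ∀ i, ∃ (N : ℕ) (ν : 𝔮.primeCompl), (ν : Λ) * φ (a i) ^ N = 0 := by
    intro i
    have hq : φ (a i) ∈ 𝔮 := hmin.1.2 (Ideal.le_radical (Ideal.mem_map_of_mem _ (haS i)))
    have h1 : algebraMap Λ Λq (φ (a i)) ∈ IsLocalRing.maximalIdeal Λq := by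
      rw [← IsLocalization.AtPrime.map_eq_maximalIdeal 𝔮 Λq]
      exact Ideal.mem_map_of_mem _ hq
    obtain ⟨N, hN⟩ : IsNilpotent (algebraMap Λ Λq (φ (a i))) := by
      rw [← mem_nilradical, Ring.KrullDimLE.nilradical_eq_maximalIdeal]
      exact h1
    rw [← map_pow] at hN
    exact ⟨N, (IsLocalization.map_eq_zero_iff 𝔮.primeCompl Λq _).1 hN⟩
  choose N ν hν using hnil
  obtain ⟨B, _, _, hB, α, β, hαβ, h𝔮, hle⟩ :=
    delocalize φ 𝔮 (Rₚ := Rₚ) (Λq := Λq) (fun i => a i ^ (N i + 1))
      (fun i => Ideal.pow_mem_of_mem _ (haS i) _ (Nat.succ_pos _)) (∏ i, (ν i : Λ))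
      (fun h => by
        obtain ⟨i, -, hi⟩ := (Ideal.IsPrime.prod_mem_iff (p := 𝔮)).1 h
        exact (ν i).2 hi)
      (fun i => by
        obtain ⟨d, hd⟩ : (ν i : Λ) ∣ ∏ j, (ν j : Λ) := Finset.dvd_prod_of_mem _ (Finset.mem_univ i)
        rw [hd, map_pow, pow_succ]
        linear_combination d * φ (a i) * hν i)
      hres
  refine ⟨B, inferInstance, inferInstance, hB, α, β, hαβ, ?_, fun h => h𝔮 (Ideal.le_radical.trans h)⟩
  refine (Ideal.radical_isRadical _).radical_le_iff.2 ?_
  rw [← ha, Ideal.submodule_span_eq, Ideal.map_span, Ideal.span_le]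
  rintro _ ⟨_, ⟨i, rfl⟩, rfl⟩
  exact ⟨N i + 1, by rw [← map_pow]; exact hle i⟩

end

end Groth.NeronArea.Delocalize
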