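import Groth.Agent.NeronArea.SymSmooth
import Mathlib.RingTheory.Etale.Kaehler
import Mathlib.RingTheory.Flat.Basic
import Mathlib.RingTheory.Localization.Away.Basic
import Mathlib.RingTheory.RingHom.Flat
import Mathlib.LinearAlgebra.TensorProduct.Prod

/-! A retract with free differentials over the smooth locus. -/

open scoped TensorProduct
open KaehlerDifferential

set_option linter.style.haveILetI false

namespace Groth.NeronArea.FreeKaehler

universe u

/-- If `M` is projective after inverting `a`, the symmetric algebra is formally smooth after inverting `a`. -/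
theorem formallySmooth_sym_away {A : Type u} [CommRing A] {M : Type u} [AddCommGroup M] [Module A M] (a : A)
    [Module.Projective (Localization.Away a) (Localization.Away a ⊗[A] M)] :
    Algebra.FormallySmooth A (Localization.Away (algebraMap A (SymmetricAlgebra A M) a)) := by
  let C := SymmetricAlgebra A M
  let Aa := Localization.Away a
  let L := Localization.Away (algebraMap A C a)
  refine Algebra.FormallySmooth.of_comp_surjective fun Q _ _ J hJ f => ?_
  have hu : IsUnit (algebraMap A (Q ⧸ J) a) := by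
    have h := (IsLocalization.Away.algebraMap_isUnit (S := L) (algebraMap A C a)).map f
    rwa [show algebraMap C L (algebraMap A C a) = algebraMap A L a from
      (IsScalarTower.algebraMap_apply A C L a).symm, f.commutes] at h
  have huQ : IsUnit (algebraMap A Q a) := by
    obtain ⟨b, hb⟩ := hu.exists_right_inv
    obtain ⟨b, rfl⟩ := Ideal.Quotient.mk_surjective b
    rw [IsScalarTower.algebraMap_apply A Q (Q ⧸ J), Ideal.Quotient.algebraMap_eq, ← map_mul,
      ← map_one (Ideal.Quotient.mk J), Ideal.Quotient.eq] at hb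
    have h0 := Ideal.mul_mem_mul hb hb
    rw [← pow_two J, hJ, Ideal.mem_bot] at h0
    refine IsUnit.of_mul_eq_one (b * (2 - algebraMap A Q a * b)) ?_
    linear_combination -h0
  let lA : Aa →+* Q := IsLocalization.Away.lift a huQ
  letI : Algebra Aa Q := lA.toAlgebra
  have : IsScalarTower A Aa Q := IsScalarTower.of_algebraMap_eq fun x =>
    (IsLocalization.Away.lift_eq a huQ x).symm
  let g₀ : M →ₗ[A] Q ⧸ J :=
    f.toLinearMap ∘ₗ (IsScalarTower.toAlgHom A C L).toLinearMap ∘ₗ SymmetricAlgebra.ι A M
  obtain ⟨G, hG⟩ := Module.projective_lifting_property (Ideal.Quotient.mkₐ Aa J).toLinearMap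
    (LinearMap.liftBaseChange Aa g₀) Ideal.Quotient.mk_surjective
  let g : C →ₐ[A] Q := SymmetricAlgebra.lift (G.restrictScalars A ∘ₗ (TensorProduct.mk A Aa M 1))
  have hg : (Ideal.Quotient.mkₐ A J).comp g = f.comp (IsScalarTower.toAlgHom A C L) := by
    refine SymmetricAlgebra.algHom_ext (LinearMap.ext fun m => ?_)
    show Ideal.Quotient.mk J (g (SymmetricAlgebra.ι A M m)) = _
    rw [SymmetricAlgebra.lift_ι_apply]
    refine (LinearMap.congr_fun hG ((1 : Aa) ⊗ₜ m)).trans ?_
    rw [LinearMap.liftBaseChange_tmul, one_smul]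
    rfl
  have hunit : ∀ y : Submonoid.powers (algebraMap A C a), IsUnit (g y) := fun y => by
    obtain ⟨k, hk⟩ := y.2
    rw [← hk, map_pow, g.commutes]; exact huQ.pow k
  refine ⟨IsLocalization.liftAlgHom (S := L) hunit, ?_⟩
  refine AlgHom.coe_ringHom_injective (IsLocalization.ringHom_ext (Submonoid.powers (algebraMap A C a))
    (RingHom.ext fun c => ?_))
  show Ideal.Quotient.mk J (IsLocalization.liftAlgHom (S := L) hunit (algebraMap C L c)) = f (algebraMap C L c)
  have hlift : IsLocalization.liftAlgHom (S := L) hunit (algebraMap C L c) = g c :=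
    IsLocalization.lift_eq hunit c
  rw [hlift]
  exact AlgHom.congr_fun hg c

set_option backward.isDefEq.respectTransparency false in
theorem exists_retract_smooth {R A : Type u} [CommRing R] [CommRing A] [Algebra R A]
    [Algebra.FinitePresentation R A] :
    ∃ (C : Type u) (_ : CommRing C) (_ : Algebra A C) (_ : Algebra R C) (_ : IsScalarTower R A C),
      Algebra.FiniteType A C ∧ Nonempty (C →ₐ[A] A) ∧
      ∀ a : A, Algebra.Smooth R (Localization.Away a) →
        Algebra.FormallySmooth R (Localization.Away (algebraMap A C a)) ∧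
          Module.Free (Localization.Away (algebraMap A C a)) Ω[Localization.Away (algebraMap A C a)⁄R] := by
  classical
  obtain ⟨n, φ, hφ, hfg⟩ := Algebra.FinitePresentation.out (R := R) (A := A)
  let F := Fin n → A
  let π : F →ₗ[A] Ω[A⁄R] := Fintype.linearCombination A fun j => D R A (φ (MvPolynomial.X j))
  have hπ : Function.Surjective π := by
    rw [← LinearMap.range_eq_top, ← top_le_iff, ← span_range_derivation, Submodule.span_le]
    rintro _ ⟨x, rfl⟩
    obtain ⟨p, rfl⟩ := hφ x
    show D R A (φ p) ∈ LinearMap.range π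
    induction p using MvPolynomial.induction_on with
    | C r =>
      rw [← MvPolynomial.algebraMap_eq, AlgHom.commutes, Derivation.map_algebraMap]; exact zero_mem _
    | add p q hp hq => rw [map_add, map_add]; exact add_mem hp hq
    | mul_X p i hp =>
      rw [map_mul, Derivation.leibniz]
      exact add_mem (Submodule.smul_mem _ _ ⟨Pi.single i 1, by
        simp only [π]; rw [Fintype.linearCombination_apply_single, one_smul]⟩)
        (Submodule.smul_mem _ _ hp)
  let K := LinearMap.ker π
  have : Module.FinitePresentation A Ω[A⁄R] := inferInstance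
  have hKfg : K.FG := Module.FinitePresentation.fg_ker π hπ
  have : Module.Finite A K := Module.Finite.iff_fg.2 hKfg
  let C := SymmetricAlgebra A K
  letI : Algebra R C := ((algebraMap A C).comp (algebraMap R A)).toAlgebra
  have htower : IsScalarTower R A C := IsScalarTower.of_algebraMap_eq' rfl
  obtain ⟨k, s, hs⟩ := Module.Finite.exists_fin' A K
  have : Algebra.FiniteType A C := by
    have h : Algebra.FiniteType A (SymmetricAlgebra A (Fin k → A)) :=
      Algebra.FiniteType.equiv (inferInstance : Algebra.FiniteType A (MvPolynomial (Fin k) A))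
        (SymmetricAlgebra.equivMvPolynomial (Pi.basisFun A (Fin k))).symm
    refine h.of_surjective (SymmetricAlgebra.lift (SymmetricAlgebra.ι A K ∘ₗ s)) fun c => ?_
    induction c using SymmetricAlgebra.induction with
    | algebraMap r => exact ⟨algebraMap A _ r, AlgHom.commutes _ r⟩
    | ι z =>
      obtain ⟨y, rfl⟩ := hs z
      exact ⟨SymmetricAlgebra.ι A _ y, SymmetricAlgebra.lift_ι_apply _ _⟩
    | mul p q hp hq =>
      obtain ⟨p', rfl⟩ := hp; obtain ⟨q', rfl⟩ := hq; exact ⟨p' * q', map_mul _ _ _⟩
    | add p q hp hq =>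
      obtain ⟨p', rfl⟩ := hp; obtain ⟨q', rfl⟩ := hq; exact ⟨p' + q', map_add _ _ _⟩
  refine ⟨C, inferInstance, inferInstance, inferInstance, htower, this,
    ⟨SymmetricAlgebra.lift 0⟩, fun a hsm => ?_⟩
  let Aa := Localization.Away a
  let L := Localization.Away (algebraMap A C a)
  have : Algebra.FormallyEtale A Aa := Algebra.FormallyEtale.of_isLocalization (Submonoid.powers a)
  let eΩ : Aa ⊗[A] Ω[A⁄R] ≃ₗ[Aa] Ω[Aa⁄R] := tensorKaehlerEquivOfFormallyEtale R A Aa
  have : Module.Projective Aa (Aa ⊗[A] Ω[A⁄R]) := Module.Projective.of_equiv eΩ.symm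
  let ι' : Aa ⊗[A] K →ₗ[Aa] Aa ⊗[A] F := LinearMap.baseChange Aa K.subtype
  let π' : Aa ⊗[A] F →ₗ[Aa] Aa ⊗[A] Ω[A⁄R] := LinearMap.baseChange Aa π
  have hι' : Function.Injective ι' :=
    Module.Flat.lTensor_preserves_injective_linearMap (M := Aa) K.subtype K.subtype_injective
  have hex : Function.Exact ι' π' := Module.Flat.lTensor_exact Aa (LinearMap.exact_subtype_ker_map π)
  obtain ⟨sec, hsec⟩ := Module.projective_lifting_property π' LinearMap.id (LinearMap.lTensor_surjective Aa hπ)
  let e₁ : Aa ⊗[A] F ≃ₗ[Aa] (Aa ⊗[A] K) × (Aa ⊗[A] Ω[A⁄R]) := (hex.splitSurjectiveEquiv hι' ⟨sec, hsec⟩).1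
  have : Module.Projective Aa (Aa ⊗[A] K) :=
    .of_split (e₁.symm.toLinearMap ∘ₗ LinearMap.inl Aa _ _) (LinearMap.fst Aa _ _ ∘ₗ e₁.toLinearMap)
      (LinearMap.ext fun x => by simp)
  have : Algebra.FormallySmooth A L := formallySmooth_sym_away a
  obtain ⟨eL⟩ := SymSmooth.nonempty_kaehler_equiv_prod R A L
  have : Algebra.FormallyEtale C L := Algebra.FormallyEtale.of_isLocalization (Submonoid.powers (algebraMap A C a))
  let e₂ : L ⊗[A] K ≃ₗ[L] Ω[L⁄A] :=
    (TensorProduct.AlgebraTensorModule.cancelBaseChange A C L L K).symm ≪≫ₗ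
      LinearEquiv.baseChange C L _ _ (LinearEquiv.ofBijective _ (Groth.Agent.S7237.result A K)) ≪≫ₗ
      tensorKaehlerEquivOfFormallyEtale A C L
  let lA : Aa →+* L := IsLocalization.Away.lift a (g := algebraMap A L) (by
    rw [IsScalarTower.algebraMap_apply A C L]
    exact IsLocalization.Away.algebraMap_isUnit _)
  letI : Algebra Aa L := lA.toAlgebra
  have : IsScalarTower A Aa L := IsScalarTower.of_algebraMap_eq fun x =>
    (IsLocalization.Away.lift_eq a _ x).symm
  let e₃ : L ⊗[A] F ≃ₗ[L] (L ⊗[A] K) × (L ⊗[A] Ω[A⁄R]) :=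
    (TensorProduct.AlgebraTensorModule.cancelBaseChange A Aa L L F).symm ≪≫ₗ
      LinearEquiv.baseChange Aa L _ _ e₁ ≪≫ₗ TensorProduct.prodRight Aa L L _ _ ≪≫ₗ
      (TensorProduct.AlgebraTensorModule.cancelBaseChange A Aa L L K).prodCongr
        (TensorProduct.AlgebraTensorModule.cancelBaseChange A Aa L L Ω[A⁄R])
  have : Algebra.FormallySmooth Aa L := Algebra.FormallySmooth.localization_base (R := A) (Submonoid.powers a)
  have : IsScalarTower R Aa L := IsScalarTower.of_algebraMap_eq fun r => by
    rw [IsScalarTower.algebraMap_apply R A L, IsScalarTower.algebraMap_apply A Aa L, ← IsScalarTower.algebraMap_apply R A Aa]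
  refine ⟨Algebra.FormallySmooth.comp R Aa L, ?_⟩
  exact Module.Free.of_equiv ((TensorProduct.piScalarRight A L L (Fin n)).symm ≪≫ₗ e₃ ≪≫ₗ
    LinearEquiv.prodComm L _ _ ≪≫ₗ (LinearEquiv.refl L _).prodCongr e₂ ≪≫ₗ eL.symm)

theorem exists_retract {R A : Type u} [CommRing R] [CommRing A] [Algebra R A]
    [Algebra.FinitePresentation R A] :
    ∃ (C : Type u) (_ : CommRing C) (_ : Algebra A C) (_ : Algebra R C) (_ : IsScalarTower R A C),
      Algebra.FiniteType A C ∧ Nonempty (C →ₐ[A] A) ∧
      ∀ a : A, Algebra.Smooth R (Localization.Away a) →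
        Module.Free (Localization.Away (algebraMap A C a)) Ω[Localization.Away (algebraMap A C a)⁄R] := by
  obtain ⟨C, i1, i2, i3, i4, h1, h2, h3⟩ := exists_retract_smooth (R := R) (A := A)
  exact ⟨C, i1, i2, i3, i4, h1, h2, fun a ha => (h3 a ha).2⟩

end Groth.NeronArea.FreeKaehler
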