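import Groth.Agent.Calg6.CMSop
import Groth.Agent.S6820
import Mathlib.RingTheory.RegularLocalRing.Defs
import Mathlib.Algebra.Module.SpanRank
import Mathlib.RingTheory.Localization.AtPrime.Basic
import Mathlib.RingTheory.KrullDimension.Zero

/-! Parameters of a regular localization with annihilator conditions. -/

open IsLocalRing RingTheory.Sequence

namespace Groth.NeronArea.Parameters

universe u

/-- Powers of a regular system of parameters form a regular sequence. -/
lemma pow_param_regular {R : Type u} [CommRing R] [IsRegularLocalRing R] {d : ℕ} (x : Fin d → R)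
    (hd : ringKrullDim R = d) (hx : Ideal.span (Set.range x) = maximalIdeal R) {e : ℕ} (he : 0 < e) (i : Fin d) :
    ∀ y : R, x i * y ∈ Ideal.span (Set.range fun j : {j : Fin d // (j : ℕ) < (i : ℕ)} => x j ^ e) →
      y ∈ Ideal.span (Set.range fun j : {j : Fin d // (j : ℕ) < (i : ℕ)} => x j ^ e) := by
  classical
  let L : List R := List.ofFn fun j => x j ^ e
  have hxm : ∀ j, x j ∈ maximalIdeal R := fun j => hx ▸ Ideal.subset_span ⟨j, rfl⟩
  have hLm : ∀ z ∈ L, z ∈ maximalIdeal R := fun z hz => by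
    obtain ⟨j, rfl⟩ := (List.mem_ofFn' _ _).1 hz
    exact Ideal.pow_mem_of_mem _ (hxm j) e he
  have hL : Ideal.ofList L = Ideal.span (Set.range fun j => x j ^ e) := by
    rw [Ideal.ofList]
    congr 1
    ext z
    exact List.mem_ofFn' _ _
  have : (nilradical (R ⧸ Ideal.ofList L)).IsMaximal := by
    have hle : Ideal.ofList L ≤ maximalIdeal R := Ideal.span_le.2 hLm
    have hmk : nilradical (R ⧸ Ideal.ofList L) =
        (maximalIdeal R).map (Ideal.Quotient.mk (Ideal.ofList L)) := by
      refine le_antisymm (fun z hz => ?_) ?_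
      · obtain ⟨z, rfl⟩ := Ideal.Quotient.mk_surjective z
        obtain ⟨k, hk⟩ := mem_nilradical.1 hz
        rw [← map_pow, Ideal.Quotient.eq_zero_iff_mem] at hk
        exact Ideal.mem_map_of_mem _ ((maximalIdeal.isMaximal R).isPrime.mem_of_pow_mem k (hle hk))
      · rw [← hx, Ideal.map_span, Ideal.span_le]
        rintro _ ⟨_, ⟨j, rfl⟩, rfl⟩
        refine mem_nilradical.2 ⟨e, ?_⟩
        rw [← map_pow, Ideal.Quotient.eq_zero_iff_mem, hL]
        exact Ideal.subset_span ⟨j, rfl⟩
    rw [hmk]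
    exact Ideal.IsMaximal.map_of_surjective_of_ker_le Ideal.Quotient.mk_surjective (by rw [Ideal.mk_ker]; exact hle)
  have h0 : Ring.KrullDimLE 0 (R ⧸ Ideal.ofList L) := Ring.KrullDimLE.of_isMaximal_nilradical _
  have hreg : IsWeaklyRegular R L := by
    refine Groth.Calg6.isWeaklyRegular_of_supportDim_add_length_le L R
      (Groth.Calg6.isCohenMacaulayModule_of_isRegularLocalRing R) hLm ?_
    have hS : Module.supportDim R (R ⧸ (Ideal.ofList L • ⊤ : Submodule R R)) ≤ 0 := by
      rw [smul_eq_mul, Ideal.mul_top, Module.supportDim_quotient_eq_ringKrullDim]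
      exact Ring.krullDimLE_iff.1 h0
    rw [Module.supportDim_self_eq_ringKrullDim, hd]
    calc _ ≤ (0 : WithBot ℕ∞) + (L.length : WithBot ℕ∞) := add_le_add hS le_rfl
      _ = _ := by simp [L]
  intro y hy
  have hreg' := hreg.regular_mod_prev i (by simp [L])
  have htake : Ideal.ofList (L.take i) = Ideal.span (Set.range fun j : {j : Fin d // (j : ℕ) < (i : ℕ)} => x j ^ e) := by
    rw [Ideal.ofList]
    congr 1
    ext z
    simp only [Set.mem_setOf_eq, List.mem_take_iff_getElem, Set.mem_range, L, List.getElem_ofFn, List.length_ofFn]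
    constructor
    · rintro ⟨k, hk, rfl⟩
      exact ⟨⟨⟨k, by omega⟩, show k < (i : ℕ) by omega⟩, rfl⟩
    · rintro ⟨⟨j, hj⟩, rfl⟩
      exact ⟨j, by omega, rfl⟩
  rw [htake] at hreg'
  have h1 : (Submodule.Quotient.mk y : R ⧸ (Ideal.span (Set.range fun j : {j : Fin d // (j : ℕ) < (i : ℕ)} => x j ^ e) • ⊤ : Submodule R R)) = 0 := by
    refine hreg' ?_
    show L[(i : ℕ)]'(by simp [L]) • Submodule.Quotient.mk y = L[(i : ℕ)]'(by simp [L]) • (0 : _)
    rw [smul_zero, ← Submodule.Quotient.mk_smul, Submodule.Quotient.mk_eq_zero, smul_eq_mul, smul_eq_mul, Ideal.mul_top]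
    obtain ⟨e', rfl⟩ := Nat.exists_eq_add_of_le he
    simp only [L, List.getElem_ofFn, Fin.eta]
    rw [pow_add (x i), pow_one, mul_comm (x i), mul_assoc]
    exact Ideal.mul_mem_left _ _ hy
  rwa [Submodule.Quotient.mk_eq_zero, smul_eq_mul, Ideal.mul_top] at h1

lemma range_castSucc_eq {d : ℕ} {S : Type u} (F : Fin (d + 1) → S) (k : ℕ) (hk : k ≤ d) :
    (Set.range fun j : {j : Fin (d + 1) // (j : ℕ) < k} => F j) =
      Set.range fun j : {j : Fin d // (j : ℕ) < k} => F (j : Fin d).castSucc := by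
  ext z
  constructor
  · rintro ⟨⟨j, hj⟩, rfl⟩; exact ⟨⟨⟨j, lt_of_lt_of_le hj hk⟩, hj⟩, rfl⟩
  · rintro ⟨⟨j, hj⟩, rfl⟩; exact ⟨⟨j.castSucc, hj⟩, rfl⟩

variable {Λ : Type u} [CommRing Λ] [IsNoetherianRing Λ] (I q : Ideal Λ) [q.IsPrime]

theorem exists_parameters_pow (n e d : ℕ) (hn : 0 < n) (he : 0 < e)
    (hpow : (q ^ n).map (algebraMap Λ (Localization.AtPrime q)) ≤ I.map (algebraMap Λ (Localization.AtPrime q)))
    [IsRegularLocalRing (Localization.AtPrime q)] (hd : ringKrullDim (Localization.AtPrime q) = d) :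
    ∃ π : Fin d → Λ,
      Ideal.span (Set.range fun i => algebraMap Λ (Localization.AtPrime q) (π i)) =
        q.map (algebraMap Λ (Localization.AtPrime q)) ∧
      (∀ i, π i ^ n ∈ I) ∧
      ∀ i : Fin d, ∀ x : Λ ⧸ Ideal.span (Set.range fun j : {j : Fin d // (j : ℕ) < (i : ℕ)} => π j ^ e),
        Ideal.Quotient.mk _ (π i) ^ 2 * x = 0 → Ideal.Quotient.mk _ (π i) * x = 0 := by
  classical
  let R := Localization.AtPrime q
  let g : Λ →+* R := algebraMap Λ R
  have hqm : q.map g = maximalIdeal R := IsLocalization.AtPrime.map_eq_maximalIdeal q R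
  obtain ⟨G, hGcard, hGspan⟩ := (IsNoetherian.noetherian (maximalIdeal R)).exists_span_finset_card_eq_spanFinrank
  have hGd : G.card = d := by
    have h := IsRegularLocalRing.spanFinrank_maximalIdeal (R := R)
    rw [hd, ← hGcard] at h
    exact_mod_cast h
  let eG : Fin d ≃ G := (G.equivFinOfCardEq hGd).symm
  have hsp : Ideal.span (Set.range fun j => (eG j : R)) = maximalIdeal R := by
    rw [show (Set.range fun j => (eG j : R)) = (G : Set R) from (eG.surjective.range_comp Subtype.val).trans Subtype.range_coe]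
    exact hGspan
  have hlift : ∀ j, ∃ a : Λ, a ^ n ∈ I ∧ ∃ u : R, IsUnit u ∧ g a = u * (eG j : R) := by
    intro j
    obtain ⟨⟨a, s⟩, ha⟩ := IsLocalization.surj q.primeCompl (eG j : R)
    have haq : a ∈ q := by
      refine (IsLocalization.AtPrime.to_map_mem_maximal_iff R q a).1 ?_
      show g a ∈ maximalIdeal R
      rw [show g a = (eG j : R) * algebraMap Λ R s from ha.symm]
      exact Ideal.mul_mem_right _ _ (hsp ▸ Ideal.subset_span ⟨j, rfl⟩)
    obtain ⟨m, hm, hmI⟩ := (IsLocalization.algebraMap_mem_map_algebraMap_iff q.primeCompl R I (a ^ n)).1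
      (hpow (Ideal.mem_map_of_mem _ (Ideal.pow_mem_pow haq n)))
    refine ⟨m * a, ?_, g m * algebraMap Λ R s, ?_, ?_⟩
    · obtain ⟨n, rfl⟩ := Nat.exists_eq_add_of_le hn
      rw [mul_pow, pow_add m, pow_one, mul_comm m, mul_assoc]
      exact I.mul_mem_left _ hmI
    · exact (IsLocalization.map_units R (⟨m, hm⟩ : q.primeCompl)).mul (IsLocalization.map_units R s)
    · rw [map_mul, show g a = (eG j : R) * algebraMap Λ R s from ha.symm]; ring
  choose a haI u hu hga using hlift
  have key : ∀ (k : ℕ) (hk : k ≤ d), ∃ π : Fin d → Λ, (∀ j, ∃ s : q.primeCompl, π j = s * a j) ∧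
      ∀ i : Fin d, (i : ℕ) < k → ∀ x : Λ,
        π i ^ 2 * x ∈ Ideal.span (Set.range fun j : {j : Fin d // (j : ℕ) < (i : ℕ)} => π j ^ e) →
          π i * x ∈ Ideal.span (Set.range fun j : {j : Fin d // (j : ℕ) < (i : ℕ)} => π j ^ e) := by
    intro k
    induction k with
    | zero => exact fun _ => ⟨a, fun j => ⟨1, (one_mul _).symm⟩, fun i hi => absurd hi (Nat.not_lt_zero _)⟩
    | succ k ih =>
      intro hk
      obtain ⟨π, hπs, hπ⟩ := ih (Nat.le_of_succ_le hk)
      let i0 : Fin d := ⟨k, hk⟩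
      let J : Ideal Λ := Ideal.span (Set.range fun j : {j : Fin d // (j : ℕ) < k} => π j ^ e)
      choose s hs using hπs
      let v : Fin d → R := fun j => g (s j) * u j
      have hv : ∀ j, IsUnit (v j) := fun j => (IsLocalization.map_units R (s j)).mul (hu j)
      have hgπ : ∀ j, g (π j) = v j * (eG j : R) := fun j => by rw [hs, map_mul, hga, mul_assoc]
      have hspan : Ideal.span (Set.range fun j => g (π j)) = maximalIdeal R := by
        rw [← hsp]
        refine le_antisymm (Ideal.span_le.2 ?_) (Ideal.span_le.2 ?_)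
        · rintro _ ⟨j, rfl⟩
          show g (π j) ∈ Ideal.span _
          rw [hgπ]; exact Ideal.mul_mem_left _ _ (Ideal.subset_span ⟨j, rfl⟩)
        · rintro _ ⟨j, rfl⟩
          show (eG j : R) ∈ _
          rw [show (eG j : R) = ↑(hv j).unit⁻¹ * g (π j) by
            rw [hgπ, ← mul_assoc, IsUnit.val_inv_mul, one_mul]]
          exact Ideal.mul_mem_left _ _ (Ideal.subset_span ⟨j, rfl⟩)
      have hJ : J.map g = Ideal.span (Set.range fun j : {j : Fin d // (j : ℕ) < k} => g (π j) ^ e) := by
        show J.map g = _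
        rw [Ideal.map_span, ← Set.range_comp]
        congr 2; funext j; exact map_pow g _ _
      have hloc : ∀ m : LocalizedModule q.primeCompl (Λ ⧸ J), π i0 ^ 2 • m = 0 → π i0 • m = 0 := by
        intro m
        induction m using LocalizedModule.induction_on with | h x t => ?_
        obtain ⟨x, rfl⟩ := Ideal.Quotient.mk_surjective x
        intro h0
        rw [LocalizedModule.smul'_mk, ← LocalizedModule.zero_mk t, LocalizedModule.mk_eq] at h0
        obtain ⟨c, hcx⟩ := h0
        have h1 : ((c * t : q.primeCompl) : Λ) * (π i0 ^ 2 * x) ∈ J := by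
          simp only [smul_zero, Submonoid.smul_def, Algebra.smul_def, Ideal.Quotient.algebraMap_eq, ← map_mul,
            Ideal.Quotient.eq_zero_iff_mem] at hcx
          rw [Submonoid.coe_mul, mul_assoc]; exact hcx
        have h2 : g (π i0) * (g (π i0) * g x) ∈ J.map g := by
          have := Ideal.mem_map_of_mem g h1
          rw [map_mul, Ideal.unit_mul_mem_iff_mem _ (IsLocalization.map_units R (c * t))] at this
          rwa [map_mul, map_pow, sq, mul_assoc] at this
        rw [hJ] at h2
        have h3 := pow_param_regular (fun j => g (π j)) hd hspan he i0 _ h2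
        rw [← hJ, ← map_mul] at h3
        obtain ⟨c', hc', hc'x⟩ := (IsLocalization.algebraMap_mem_map_algebraMap_iff q.primeCompl R J _).1 h3
        rw [LocalizedModule.smul'_mk, ← LocalizedModule.zero_mk t, LocalizedModule.mk_eq]
        refine ⟨⟨c', hc'⟩, ?_⟩
        simp only [smul_zero, Submonoid.smul_def, Algebra.smul_def, Ideal.Quotient.algebraMap_eq, ← map_mul,
          Ideal.Quotient.eq_zero_iff_mem]
        rw [mul_left_comm]; exact J.mul_mem_left _ hc'x
      obtain ⟨σ, hσ, hσk⟩ := Groth.Agent.S6820.result (Λ ⧸ J) q.primeCompl (π i0) hloc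
      have hprev : ∀ i : Fin d, (i : ℕ) ≤ k →
          (Set.range fun j : {j : Fin d // (j : ℕ) < (i : ℕ)} => Function.update π i0 (σ * π i0) j ^ e) =
            Set.range fun j : {j : Fin d // (j : ℕ) < (i : ℕ)} => π j ^ e := fun i hi => by
        congr 1; funext j
        rw [Function.update_of_ne]
        intro h
        have := j.2
        rw [h] at this
        exact absurd (lt_of_lt_of_le this hi) (lt_irrefl k)
      refine ⟨Function.update π i0 (σ * π i0), fun j => ?_, fun i hi x => ?_⟩
      · by_cases h : j = i0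
        · subst h
          exact ⟨⟨σ, hσ⟩ * s i0, by rw [Function.update_self, hs]; exact (mul_assoc _ _ _).symm⟩
        · exact ⟨s j, by rw [Function.update_of_ne h, hs]⟩
      · rw [hprev i (Nat.lt_succ_iff.1 hi)]
        rcases Nat.lt_succ_iff_lt_or_eq.1 hi with hi' | hi'
        · rw [Function.update_of_ne (fun h => by rw [h] at hi'; exact lt_irrefl k hi')]
          exact hπ i hi' x
        · have : i = i0 := Fin.ext hi'
          subst this
          rw [Function.update_self]
          intro hx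
          have h := hσk 1 one_pos (Ideal.Quotient.mk J x)
          rw [pow_one, Algebra.smul_def, Algebra.smul_def, Ideal.Quotient.algebraMap_eq, ← map_mul, ← map_mul,
            Ideal.Quotient.eq_zero_iff_mem, Ideal.Quotient.eq_zero_iff_mem] at h
          exact h hx
  obtain ⟨π, hπs, hπ⟩ := key d le_rfl
  refine ⟨π, ?_, fun i => ?_, fun i x => ?_⟩
  · show Ideal.span (Set.range fun i => g (π i)) = q.map g
    rw [hqm, ← hsp]
    refine le_antisymm (Ideal.span_le.2 ?_) (Ideal.span_le.2 ?_)
    · rintro _ ⟨j, rfl⟩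
      obtain ⟨s, hs⟩ := hπs j
      show g (π j) ∈ Ideal.span _
      rw [hs, map_mul, hga, ← mul_assoc]
      exact Ideal.mul_mem_left _ _ (Ideal.subset_span ⟨j, rfl⟩)
    · rintro _ ⟨j, rfl⟩
      obtain ⟨s, hs⟩ := hπs j
      have hv : IsUnit (g (s : Λ) * u j) := (IsLocalization.map_units R s).mul (hu j)
      show (eG j : R) ∈ _
      rw [show (eG j : R) = ↑hv.unit⁻¹ * g (π j) by
        rw [hs, map_mul g, hga, ← mul_assoc (g (s : Λ)), ← mul_assoc, IsUnit.val_inv_mul, one_mul]]
      exact Ideal.mul_mem_left _ _ (Ideal.subset_span ⟨j, rfl⟩)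
  · obtain ⟨s, hs⟩ := hπs i
    rw [hs, mul_pow]
    exact I.mul_mem_left _ (haI i)
  · obtain ⟨x, rfl⟩ := Ideal.Quotient.mk_surjective x
    rw [← map_pow, ← map_mul, ← map_mul, Ideal.Quotient.eq_zero_iff_mem, Ideal.Quotient.eq_zero_iff_mem]
    exact hπ i i.2 x

theorem exists_parameters (n e d : ℕ) (hn : 0 < n) (he : 0 < e)
    (hpow : (q ^ n).map (algebraMap Λ (Localization.AtPrime q)) ≤ I.map (algebraMap Λ (Localization.AtPrime q)))
    [IsRegularLocalRing (Localization.AtPrime q)] (hd : ringKrullDim (Localization.AtPrime q) = d) :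
    ∃ (N : ℕ) (π : Fin d → Λ), 0 < N ∧
      Ideal.span (Set.range fun i => algebraMap Λ (Localization.AtPrime q) (π i)) =
        q.map (algebraMap Λ (Localization.AtPrime q)) ∧
      (∀ i, π i ^ N ∈ I) ∧
      ∀ i : Fin d, ∀ x : Λ ⧸ Ideal.span (Set.range fun j : {j : Fin d // (j : ℕ) < (i : ℕ)} => π j ^ e),
        Ideal.Quotient.mk _ (π i) ^ 2 * x = 0 → Ideal.Quotient.mk _ (π i) * x = 0 := by
  obtain ⟨π, h1, h2, h3⟩ := exists_parameters_pow I q n e d hn he hpow hd
  exact ⟨n, π, hn, h1, h2, h3⟩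

end Groth.NeronArea.Parameters
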