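import Groth.Agent.NeronArea.LiftingApply
import Mathlib.RingTheory.Smooth.Basic
import Mathlib.RingTheory.Ideal.Over
import Mathlib.RingTheory.TensorProduct.Quotient
import Mathlib.RingTheory.FinitePresentation

/-! Resolving a local problem from a resolution modulo eighth powers of strictly standard elements. -/

open Smoothing
open scoped TensorProduct

set_option linter.style.haveILetI false

namespace Groth.NeronArea.ResolveMod

universe u

/-- The singular ideal of an algebra maps into that of its reduction. -/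
lemma singularIdeal_map_le_quotient {R A : Type u} [CommRing R] [CommRing A] [Algebra R A]
    [Algebra.FinitePresentation R A] (K : Ideal R) {a : A} (ha : a ∈ singularIdeal R A) :
    Ideal.Quotient.mk (K.map (algebraMap R A)) a ∈
      singularIdeal (R ⧸ K) (A ⧸ K.map (algebraMap R A)) := by
  let A' := A ⧸ K.map (algebraMap R A)
  let a' : A' := Ideal.Quotient.mk (K.map (algebraMap R A)) a
  have hsm := SmoothAtBasics.mem_singularIdeal_iff_smooth.1 ha
  have : Algebra.FinitePresentation R (Localization.Away a) := hsm.finitePresentation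
  have : Algebra.FiniteType R (R ⧸ K) := inferInstance
  let L := Localization.Away a
  let L' := Localization.Away a'
  have hfs : Algebra.FormallySmooth (R ⧸ K) L' := by
    refine Algebra.FormallySmooth.of_comp_surjective fun B _ _ I hI f => ?_
    letI : Algebra R B := ((algebraMap (R ⧸ K) B).comp (Ideal.Quotient.mk K)).toAlgebra
    have : IsScalarTower R (R ⧸ K) B := IsScalarTower.of_algebraMap_eq' rfl
    let qA : A →ₐ[R] A' := Ideal.Quotient.mkₐ R _
    let toL' : A →ₐ[R] L' := (IsScalarTower.toAlgHom R A' L').comp qA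
    let ι : L →ₐ[R] L' := IsLocalization.liftAlgHom (S := L) (M := Submonoid.powers a) (f := toL') fun y => by
      obtain ⟨d, hd⟩ := y.2
      rw [← hd, map_pow]
      exact (IsLocalization.Away.algebraMap_isUnit (S := L') a').pow d
    have hι : ∀ x : A, ι (algebraMap A L x) = algebraMap A' L' (qA x) := fun x =>
      IsLocalization.lift_eq _ x
    have hfsL : Algebra.FormallySmooth R L := hsm.formallySmooth
    obtain ⟨l, hl⟩ := Algebra.FormallySmooth.exists_lift (R := R) (A := L) I ⟨2, hI⟩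
      ((f.restrictScalars R).comp ι)
    let lA : A →ₐ[R] B := l.comp (IsScalarTower.toAlgHom R A L)
    have hlA : K.map (algebraMap R A) ≤ RingHom.ker lA := by
      rw [Ideal.map_le_iff_le_comap]
      intro r hr
      rw [Ideal.mem_comap, RingHom.mem_ker, AlgHom.commutes, IsScalarTower.algebraMap_apply R (R ⧸ K) B,
        show algebraMap R (R ⧸ K) r = 0 from Ideal.Quotient.eq_zero_iff_mem.2 hr, map_zero]
    let lA' : A' →ₐ[R ⧸ K] B :=
      { (Ideal.Quotient.liftₐ _ lA fun x hx => hlA hx).toRingHom with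
        commutes' := fun r => by
          obtain ⟨r, rfl⟩ := Ideal.Quotient.mk_surjective r
          show lA (algebraMap R A r) = _
          rw [AlgHom.commutes]
          rfl }
    have hu : IsUnit (lA' a') := (IsLocalization.Away.algebraMap_isUnit (S := L) a).map l
    let m : L' →ₐ[R ⧸ K] B := IsLocalization.liftAlgHom (S := L') (M := Submonoid.powers a') (f := lA') fun y => by
      obtain ⟨d, hd⟩ := y.2
      rw [← hd, map_pow]
      exact hu.pow d
    refine ⟨m, IsLocalization.algHom_ext (Submonoid.powers a') (AlgHom.ext fun x => ?_)⟩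
    obtain ⟨x, rfl⟩ := Ideal.Quotient.mk_surjective x
    show Ideal.Quotient.mk I (m (algebraMap A' L' (qA x))) = f (algebraMap A' L' (qA x))
    rw [show m (algebraMap A' L' (qA x)) = lA' (qA x) from IsLocalization.lift_eq _ _, ← hι]
    exact AlgHom.congr_fun hl (algebraMap A L x)
  rw [SmoothAtBasics.mem_singularIdeal_iff]
  intro Q hQ haQ
  let LQ := Localization.AtPrime Q
  have hu : IsUnit (algebraMap A' LQ a') := IsLocalization.map_units LQ (⟨a', haQ⟩ : Q.primeCompl)
  let ι : L' →+* LQ := IsLocalization.Away.lift a' hu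
  let := ι.toAlgebra
  have : IsScalarTower A' L' LQ :=
    IsScalarTower.of_algebraMap_eq fun x => (IsLocalization.Away.lift_eq a' hu x).symm
  have : IsScalarTower (R ⧸ K) L' LQ := IsScalarTower.of_algebraMap_eq fun x => by
    rw [IsScalarTower.algebraMap_apply (R ⧸ K) A' L', ← IsScalarTower.algebraMap_apply A' L' LQ,
      ← IsScalarTower.algebraMap_apply]
  have : IsLocalization (Q.primeCompl.map (algebraMap A' L')) LQ :=
    IsLocalization.isLocalization_of_submonoid_le L' LQ (Submonoid.powers a') Q.primeCompl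
      (Submonoid.powers_le.2 haQ)
  have : Algebra.FormallySmooth L' LQ :=
    Algebra.FormallySmooth.of_isLocalization (Q.primeCompl.map (algebraMap A' L'))
  exact Algebra.FormallySmooth.comp (R ⧸ K) L' LQ

/-- Resolution data over `R'` for the image of an ideal `E`, lifted one step. -/
theorem step {R A Λ R' Λ' B' : Type u} [CommRing R] [IsNoetherianRing R] [CommRing Λ] [Algebra R Λ]
    [CommRing A] [Algebra R A] [Algebra.FinitePresentation R A] (φ : A →ₐ[R] Λ) (𝔮 : Ideal Λ) [𝔮.IsPrime]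
    (π : R) (hR : ∀ r : R, π ^ 2 * r = 0 → π * r = 0) (hΛ : ∀ x : Λ, π ^ 2 • x = 0 → π • x = 0)
    (hπ : IsStrictlyStandard R A (algebraMap R A π)) (hπ𝔮 : algebraMap R Λ π ∈ 𝔮)
    [CommRing R'] [Algebra R R'] (hR's : Function.Surjective (algebraMap R R'))
    (hR'k : RingHom.ker (algebraMap R R') = Ideal.span {π ^ 8})
    [CommRing Λ'] [Algebra R Λ'] [Algebra R' Λ'] [IsScalarTower R R' Λ']
    (qL : Λ →ₐ[R] Λ') (hqLs : Function.Surjective qL)
    (hqLk : RingHom.ker qL.toRingHom = Ideal.span {algebraMap R Λ (π ^ 8)})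
    [CommRing B'] [Algebra R' B'] [Algebra R B'] [IsScalarTower R R' B'] [Algebra.FinitePresentation R' B']
    (γ : A →ₐ[R] B') (h' : B' →ₐ[R'] Λ') (hcomm : ∀ a, h' (γ a) = qL (φ a))
    (E : Ideal Λ) (hE : E.map qL ≤ singRad R' h') (h𝔮 : ¬ singRad R' h' ≤ 𝔮.map qL) :
    ∃ (B : Type u) (_ : CommRing B) (_ : Algebra R B), Algebra.FinitePresentation R B ∧
      ∃ (α : A →ₐ[R] B) (β : B →ₐ[R] Λ), β.comp α = φ ∧ E ≤ singRad R β ∧ ¬ singRad R β ≤ 𝔮 := by
  let Rb := R ⧸ Ideal.span {π ^ 8}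
  let e : Rb →+* R' := Ideal.Quotient.lift _ (algebraMap R R') fun r hr => by
    rw [← hR'k] at hr; exact hr
  have he : Function.Bijective e := by
    constructor
    · rw [injective_iff_map_eq_zero]
      intro x hx
      obtain ⟨x, rfl⟩ := Ideal.Quotient.mk_surjective x
      rw [Ideal.Quotient.eq_zero_iff_mem, ← hR'k]; exact hx
    · intro y; obtain ⟨r, rfl⟩ := hR's y; exact ⟨Ideal.Quotient.mk _ r, rfl⟩
  letI : Algebra Rb R' := e.toAlgebra
  letI : Algebra Rb B' := ((algebraMap R' B').comp e).toAlgebra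
  have : IsScalarTower Rb R' B' := IsScalarTower.of_algebraMap_eq' rfl
  have : IsScalarTower R Rb R' := IsScalarTower.of_algebraMap_eq' rfl
  have : IsScalarTower R Rb B' := IsScalarTower.of_algebraMap_eq fun r =>
    IsScalarTower.algebraMap_apply R R' B' r
  let eR : Rb ≃ₐ[Rb] R' := AlgEquiv.ofBijective (Algebra.ofId Rb R') he
  have : Algebra.FormallySmooth Rb R' := Algebra.FormallySmooth.of_equiv eR
  have : Algebra.FinitePresentation Rb R' := Algebra.FinitePresentation.equiv eR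
  have : Algebra.FinitePresentation Rb B' := Algebra.FinitePresentation.trans Rb R' B'
  let eL : (Λ ⧸ Ideal.span {algebraMap R Λ (π ^ 8)}) ≃ₐ[R] Λ' :=
    (Ideal.quotientEquivAlgOfEq R hqLk.symm).trans (Ideal.quotientKerAlgEquivOfSurjective hqLs)
  have heL : ∀ x, eL (Ideal.Quotient.mk _ x) = qL x := fun x => rfl
  let g : B' →ₐ[R] Λ ⧸ Ideal.span {algebraMap R Λ (π ^ 8)} :=
    eL.symm.toAlgHom.comp (h'.restrictScalars R)
  have hg : ∀ b, eL (g b) = h' b := fun b => eL.apply_symm_apply _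
  obtain ⟨B, _, _, hB, α, β, hαβ, hoff, hle⟩ :=
    Lifting.desingularize_lifting π hR hΛ φ hπ γ g fun a => eL.injective (by rw [hg, heL, hcomm])
  let J := singRad R β
  have hπJ : algebraMap R Λ π ∈ J := by
    rw [← β.commutes]
    exact Ideal.le_radical (Ideal.mem_map_of_mem _ (SmoothAtBasics.mem_singularIdeal_iff.2 hoff))
  have hkJ : RingHom.ker qL ≤ J := by
    rw [show RingHom.ker qL = Ideal.span {algebraMap R Λ (π ^ 8)} from hqLk,
      Ideal.span_singleton_le_iff_mem, map_pow]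
    exact Ideal.pow_mem_of_mem _ hπJ 8 (by norm_num)
  have hsing : singularIdeal R' B' ≤ singularIdeal Rb B' := fun b hb => by
    rw [SmoothAtBasics.mem_singularIdeal_iff] at hb ⊢
    intro Q hQ hbQ
    have : Algebra.FormallySmooth R' (Localization.AtPrime Q) := hb Q hbQ
    exact Algebra.FormallySmooth.comp Rb R' (Localization.AtPrime Q)
  have hh' : singRad R' h' ≤ J.map qL := by
    have hrad : (J.map qL).IsRadical := by
      intro x hx
      obtain ⟨x, rfl⟩ := hqLs x
      obtain ⟨k, hk⟩ := hx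
      rw [← map_pow, ← Ideal.mem_comap, Ideal.comap_map_of_surjective' _ hqLs, sup_eq_left.2 hkJ] at hk
      exact Ideal.mem_map_of_mem _ ((Ideal.radical_isRadical _) ⟨k, hk⟩)
    refine hrad.radical_le_iff.2 (Ideal.map_le_iff_le_comap.2 fun b hb => ?_)
    have h1 := hle (Ideal.mem_map_of_mem g (hsing hb))
    obtain ⟨l, hl, hlg⟩ := (Ideal.mem_map_iff_of_surjective _ Ideal.Quotient.mk_surjective).1 h1
    rw [Ideal.mem_comap, ← hg, ← hlg, heL]
    exact Ideal.mem_map_of_mem _ hl
  refine ⟨B, inferInstance, inferInstance, hB, α, β, hαβ, ?_, fun h => h𝔮 (hh'.trans (Ideal.map_mono h))⟩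
  have h2 := Ideal.map_le_iff_le_comap.1 (hE.trans hh')
  rwa [Ideal.comap_map_of_surjective' _ hqLs, sup_eq_left.2 hkJ] at h2

lemma range_castSucc {r : ℕ} {S : Type u} (F : Fin (r + 1) → S) (i : Fin r) :
    (Set.range fun j : {j : Fin (r + 1) // (j : ℕ) < ((i.castSucc : Fin (r + 1)) : ℕ)} => F j) =
      Set.range fun j : {j : Fin r // (j : ℕ) < (i : ℕ)} => F (j : Fin r).castSucc := by
  ext x
  constructor
  · rintro ⟨⟨j, hj⟩, rfl⟩
    simp only [Fin.val_castSucc] at hj
    exact ⟨⟨⟨j, lt_trans hj i.2⟩, hj⟩, rfl⟩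
  · rintro ⟨⟨j, hj⟩, rfl⟩
    exact ⟨⟨j.castSucc, by simpa using hj⟩, rfl⟩

lemma range_last {r : ℕ} {S : Type u} (F : Fin (r + 1) → S) :
    (Set.range fun j : {j : Fin (r + 1) // (j : ℕ) < ((Fin.last r) : ℕ)} => F j) =
      Set.range fun j : Fin r => F j.castSucc := by
  ext x
  constructor
  · rintro ⟨⟨j, hj⟩, rfl⟩
    exact ⟨⟨j, by simpa using hj⟩, rfl⟩
  · rintro ⟨j, rfl⟩
    exact ⟨⟨j.castSucc, by simp⟩, rfl⟩

lemma strictlyStandard_zero {R A : Type u} [CommRing R] [CommRing A] [Algebra R A]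
    [Algebra.FinitePresentation R A] : IsStrictlyStandard R A (0 : A) := by
  classical
  obtain ⟨n, φ, hφ, hfg⟩ := Algebra.FinitePresentation.out (R := R) (A := A)
  obtain ⟨m, f, hf⟩ := Submodule.fg_iff_exists_fin_generating_family.1 hfg
  refine ⟨{ n, m, c := 0, hcn := Nat.zero_le _, hcm := Nat.zero_le _, rel := f, hom := φ,
            surj := hφ, ker_eq := hf.symm }, zero_mem _, fun a' ha' j _ => ?_⟩
  refine Ideal.mem_sup_right ?_
  rw [sq]
  refine Ideal.mul_mem_mul ?_ (Ideal.subset_span ⟨j, rfl⟩)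
  show a' ∈ Submodule.span _ (Set.range f)
  exact (SetLike.ext_iff.1 hf a').2 ha'

/-- Resolution data modulo the eighth powers lift to resolution data. -/
theorem chain : ∀ {r : ℕ} {R A Λ R' Λ' B' : Type u} [CommRing R] [IsNoetherianRing R] [CommRing Λ] [Algebra R Λ]
    [CommRing A] [Algebra R A] [Algebra.FinitePresentation R A] (φ : A →ₐ[R] Λ) (𝔮 : Ideal Λ) [𝔮.IsPrime]
    (π : Fin r → R)
    (_ : ∀ i : Fin r, ∀ x : R,
      π i ^ 2 * x ∈ Ideal.span (Set.range fun j : {j : Fin r // (j : ℕ) < (i : ℕ)} => π j ^ 8) →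
        π i * x ∈ Ideal.span (Set.range fun j : {j : Fin r // (j : ℕ) < (i : ℕ)} => π j ^ 8))
    (_ : ∀ i : Fin r, ∀ x : Λ,
      algebraMap R Λ (π i) ^ 2 * x ∈
          Ideal.span (Set.range fun j : {j : Fin r // (j : ℕ) < (i : ℕ)} => algebraMap R Λ (π j) ^ 8) →
        algebraMap R Λ (π i) * x ∈
          Ideal.span (Set.range fun j : {j : Fin r // (j : ℕ) < (i : ℕ)} => algebraMap R Λ (π j) ^ 8))
    (_ : ∀ i, IsStrictlyStandard R A (algebraMap R A (π i))) (_ : ∀ i, algebraMap R Λ (π i) ∈ 𝔮)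
    [CommRing R'] [Algebra R R'] (_ : Function.Surjective (algebraMap R R'))
    (_ : RingHom.ker (algebraMap R R') = Ideal.span (Set.range fun i => π i ^ 8))
    [CommRing Λ'] [Algebra R Λ'] [Algebra R' Λ'] [IsScalarTower R R' Λ']
    (qL : Λ →ₐ[R] Λ') (_ : Function.Surjective qL)
    (_ : RingHom.ker qL.toRingHom = Ideal.span (Set.range fun i => algebraMap R Λ (π i) ^ 8))
    [CommRing B'] [Algebra R' B'] [Algebra R B'] [IsScalarTower R R' B'] [Algebra.FinitePresentation R' B']
    (γ : A →ₐ[R] B') (h' : B' →ₐ[R'] Λ') (_ : ∀ a, h' (γ a) = qL (φ a))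
    (E : Ideal Λ) (_ : E.map qL ≤ singRad R' h') (_ : ¬ singRad R' h' ≤ 𝔮.map qL),
    ∃ (B : Type u) (_ : CommRing B) (_ : Algebra R B), Algebra.FinitePresentation R B ∧
      ∃ (α : A →ₐ[R] B) (β : B →ₐ[R] Λ), β.comp α = φ ∧ E ≤ singRad R β ∧ ¬ singRad R β ≤ 𝔮 := by
  intro r
  induction r with
  | zero =>
    intro R A Λ R' Λ' B' _ _ _ _ _ _ _ φ 𝔮 _ π _ _ _ _ _ _ hR's hR'k _ _ _ _ qL hqLs hqLk _ _ _ _ _ γ h' hcomm E hE h𝔮
    refine step φ 𝔮 0 (fun r _ => zero_mul r) (fun x _ => zero_smul R x) (by rw [map_zero]; exact strictlyStandard_zero)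
      (by rw [map_zero]; exact zero_mem _) hR's ?_ qL hqLs ?_ γ h' hcomm E hE h𝔮
    · rw [hR'k, Set.range_eq_empty, Ideal.span_empty, zero_pow (by norm_num), Ideal.span_singleton_eq_bot.2 rfl]
    · rw [hqLk, Set.range_eq_empty, Ideal.span_empty, zero_pow (by norm_num), map_zero,
        Ideal.span_singleton_eq_bot.2 rfl]
  | succ r ih =>
    intro R A Λ R' Λ' B' _ _ _ _ _ _ _ φ 𝔮 _ π hR hΛ hstd hπ𝔮 _ _ hR's hR'k _ _ _ _ qL hqLs hqLk _ _ _ _ _ γ h' hcomm E hE h𝔮
    classical
    let π0 : Fin r → R := fun i => π i.castSucc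
    let J : Ideal R := Ideal.span (Set.range fun i => π0 i ^ 8)
    let JL : Ideal Λ := J.map (algebraMap R Λ)
    have hJL : JL = Ideal.span (Set.range fun i => algebraMap R Λ (π0 i) ^ 8) := by
      show J.map _ = _
      rw [Ideal.map_span, ← Set.range_comp]
      congr 2; funext i; exact map_pow _ _ _
    have hsplit : ∀ {S : Type u} [CommRing S] (F : Fin (r + 1) → S),
        Ideal.span (Set.range F) = Ideal.span (Set.range fun i : Fin r => F i.castSucc) ⊔ Ideal.span {F (Fin.last r)} := by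
      intro S _ F
      rw [← Ideal.span_union]
      congr 1
      ext x
      constructor
      · rintro ⟨i, rfl⟩
        induction i using Fin.lastCases with
        | last => exact Or.inr rfl
        | cast i => exact Or.inl ⟨i, rfl⟩
      · rintro (⟨i, rfl⟩ | rfl)
        · exact ⟨i.castSucc, rfl⟩
        · exact ⟨Fin.last r, rfl⟩
    let R1 := R ⧸ J
    let Λ1 := Λ ⧸ JL
    have hJ' : J ≤ RingHom.ker (algebraMap R R') := by
      rw [hR'k, hsplit fun i => π i ^ 8]; exact le_sup_left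
    let e1 : R1 →+* R' := Ideal.Quotient.lift J (algebraMap R R') fun x hx => hJ' hx
    letI : Algebra R1 R' := e1.toAlgebra
    letI : Algebra R1 Λ' := ((algebraMap R' Λ').comp e1).toAlgebra
    letI : Algebra R1 B' := ((algebraMap R' B').comp e1).toAlgebra
    have : IsScalarTower R1 R' Λ' := IsScalarTower.of_algebraMap_eq' rfl
    have : IsScalarTower R1 R' B' := IsScalarTower.of_algebraMap_eq' rfl
    have : IsScalarTower R R1 Λ' := IsScalarTower.of_algebraMap_eq fun r =>
      IsScalarTower.algebraMap_apply R R' Λ' r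
    have : IsScalarTower R R1 B' := IsScalarTower.of_algebraMap_eq fun r =>
      IsScalarTower.algebraMap_apply R R' B' r
    have hJLk : JL ≤ RingHom.ker qL := by
      rw [show RingHom.ker qL = _ from hqLk, hsplit fun i => algebraMap R Λ (π i) ^ 8, hJL]
      exact le_sup_left
    let qL1R : Λ1 →ₐ[R] Λ' := Ideal.Quotient.liftₐ JL qL fun x hx => hJLk hx
    let qL1 : Λ1 →ₐ[R1] Λ' :=
      { qL1R.toRingHom with
        commutes' := fun x => by
          obtain ⟨x, rfl⟩ := Ideal.Quotient.mk_surjective x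
          show qL (algebraMap R Λ x) = _
          rw [qL.commutes, IsScalarTower.algebraMap_apply R R' Λ']
          rfl }
    have hqL1 : ∀ x, qL1 (Ideal.Quotient.mk JL x) = qL x := fun x => rfl
    let mk1 : Λ →ₐ[R] Λ1 := Ideal.Quotient.mkₐ R JL
    have hJ𝔮 : JL ≤ 𝔮 := by
      rw [hJL]
      refine Ideal.span_le.2 ?_
      rintro _ ⟨i, rfl⟩
      exact Ideal.pow_mem_of_mem _ (hπ𝔮 _) 8 (by norm_num)
    let 𝔮1 : Ideal Λ1 := 𝔮.map mk1
    have : 𝔮1.IsPrime := Ideal.map_isPrime_of_surjective (f := mk1)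
      (Ideal.Quotient.mk_surjective (I := JL)) (by
        show RingHom.ker (Ideal.Quotient.mk JL) ≤ 𝔮
        rw [Ideal.mk_ker]; exact hJ𝔮)
    let A1 := R1 ⊗[R] A
    let φ1 : A1 →ₐ[R1] Λ1 := Algebra.TensorProduct.lift (Algebra.ofId R1 Λ1) (mk1.comp φ) fun _ _ => Commute.all _ _
    have hφ1 : ∀ a, φ1 (1 ⊗ₜ a) = mk1 (φ a) := fun a => by
      show Algebra.TensorProduct.lift _ _ _ (1 ⊗ₜ a) = _
      rw [Algebra.TensorProduct.lift_tmul, map_one, one_mul]; rfl
    let γ1 : A1 →ₐ[R1] B' := Algebra.TensorProduct.lift (Algebra.ofId R1 B') γ fun _ _ => Commute.all _ _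
    let h1 : B' →ₐ[R1] Λ' := h'.restrictScalars R1
    have hcomm1 : ∀ a, h1 (γ1 a) = qL1 (φ1 a) := by
      intro a
      refine AlgHom.congr_fun (φ₁ := h1.comp γ1) (φ₂ := qL1.comp φ1) ?_ a
      refine Algebra.TensorProduct.ext (Subsingleton.elim _ _) (AlgHom.ext fun a => ?_)
      show h1 (γ1 (1 ⊗ₜ a)) = qL1 (φ1 (1 ⊗ₜ a))
      rw [hφ1, show γ1 (1 ⊗ₜ a) = γ a by
        show Algebra.TensorProduct.lift _ _ _ (1 ⊗ₜ a) = _
        rw [Algebra.TensorProduct.lift_tmul, map_one, one_mul]]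
      exact (hcomm a).trans (hqL1 _).symm
    have hlast := Fin.last r
    have hR1 : ∀ x : R1, Ideal.Quotient.mk J (π (Fin.last r)) ^ 2 * x = 0 →
        Ideal.Quotient.mk J (π (Fin.last r)) * x = 0 := by
      intro x
      obtain ⟨x, rfl⟩ := Ideal.Quotient.mk_surjective x
      rw [← map_pow, ← map_mul, ← map_mul, Ideal.Quotient.eq_zero_iff_mem, Ideal.Quotient.eq_zero_iff_mem]
      have h := hR (Fin.last r) x
      rwa [range_last fun i => π i ^ 8] at h
    have hΛ1 : ∀ x : Λ1, Ideal.Quotient.mk J (π (Fin.last r)) ^ 2 • x = 0 →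
        Ideal.Quotient.mk J (π (Fin.last r)) • x = 0 := by
      intro x
      obtain ⟨x, rfl⟩ := Ideal.Quotient.mk_surjective x
      rw [Algebra.smul_def, Algebra.smul_def, map_pow,
        show algebraMap R1 Λ1 (Ideal.Quotient.mk J (π (Fin.last r))) =
          Ideal.Quotient.mk JL (algebraMap R Λ (π (Fin.last r))) from rfl,
        ← map_pow, ← map_mul, ← map_mul, Ideal.Quotient.eq_zero_iff_mem, Ideal.Quotient.eq_zero_iff_mem, hJL]
      have h := hΛ (Fin.last r) x
      rwa [range_last fun i => algebraMap R Λ (π i) ^ 8] at h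
    have hstd1 : IsStrictlyStandard R1 A1 (algebraMap R1 A1 (Ideal.Quotient.mk J (π (Fin.last r)))) := by
      have h := StandardBC.strictly_bc R1 (hstd (Fin.last r))
      rwa [show ((1 : R1) ⊗ₜ[R] algebraMap R A (π (Fin.last r))) =
          algebraMap R1 A1 (Ideal.Quotient.mk J (π (Fin.last r))) by
        rw [Algebra.TensorProduct.algebraMap_apply, Algebra.algebraMap_eq_smul_one (A := A),
          ← TensorProduct.smul_tmul, ← Algebra.algebraMap_eq_smul_one]
        rfl] at h
    have hk1 : RingHom.ker (algebraMap R1 R') = Ideal.span {Ideal.Quotient.mk J (π (Fin.last r)) ^ 8} := by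
      show RingHom.ker e1 = _
      rw [Ideal.ker_quotient_lift, hR'k, hsplit fun i => π i ^ 8, Ideal.map_sup, Ideal.map_quotient_self,
        bot_sup_eq, Ideal.map_span, Set.image_singleton, map_pow]
    have hk2 : RingHom.ker qL1.toRingHom =
        Ideal.span {algebraMap R1 Λ1 (Ideal.Quotient.mk J (π (Fin.last r)) ^ 8)} := by
      show RingHom.ker (Ideal.Quotient.lift JL qL.toRingHom fun x hx => hJLk hx) = _
      rw [Ideal.ker_quotient_lift, hqLk, hsplit fun i => algebraMap R Λ (π i) ^ 8, Ideal.map_sup, ← hJL,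
        Ideal.map_quotient_self, bot_sup_eq, Ideal.map_span, Set.image_singleton, map_pow, map_pow]
      rfl
    have hmapq : ∀ I : Ideal Λ, (I.map mk1).map qL1 = I.map qL := fun I => by
      show (I.map mk1.toRingHom).map qL1.toRingHom = I.map qL.toRingHom
      rw [Ideal.map_map]; rfl
    have : Algebra.FinitePresentation R1 R' := by
      refine Algebra.FinitePresentation.of_surjective (f := Algebra.ofId R1 R') ?_ ?_
      · intro y; obtain ⟨x, rfl⟩ := hR's y; exact ⟨Ideal.Quotient.mk J x, rfl⟩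
      · show (RingHom.ker (algebraMap R1 R')).FG
        rw [hk1]; exact Submodule.fg_span_singleton _
    have : Algebra.FinitePresentation R1 B' := Algebra.FinitePresentation.trans R1 R' B'
    obtain ⟨B, _, _, hB, α1, β1, hαβ1, hE1, h𝔮1⟩ :=
      step (R' := R') (B' := B') φ1 𝔮1 _ hR1 hΛ1 hstd1
        (Ideal.mem_map_of_mem mk1 (hπ𝔮 (Fin.last r)))
        (fun y => by obtain ⟨x, rfl⟩ := hR's y; exact ⟨Ideal.Quotient.mk J x, rfl⟩) hk1 qL1
        (fun y => by obtain ⟨x, rfl⟩ := hqLs y; exact ⟨Ideal.Quotient.mk JL x, hqL1 x⟩) hk2 γ1 h' hcomm1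
        (E.map mk1) (by rw [hmapq]; exact hE) (by rw [hmapq]; exact h𝔮)
    letI : Algebra R B := ((algebraMap R1 B).comp (Ideal.Quotient.mk J)).toAlgebra
    have : IsScalarTower R R1 B := IsScalarTower.of_algebraMap_eq' rfl
    refine ih φ 𝔮 π0 (fun i x => ?_) (fun i x => ?_) (fun i => hstd _) (fun i => hπ𝔮 _)
      (R' := R1) (Λ' := Λ1) (B' := B) Ideal.Quotient.mk_surjective (Ideal.mk_ker) mk1
      (Ideal.Quotient.mk_surjective (I := JL))
      (by show RingHom.ker (Ideal.Quotient.mk JL) = _; rw [Ideal.mk_ker, hJL])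
      ((α1.restrictScalars R).comp Algebra.TensorProduct.includeRight) β1
      (fun a => (AlgHom.congr_fun hαβ1 ((1 : R1) ⊗ₜ a)).trans (hφ1 a)) E hE1 h𝔮1
    · have h := hR i.castSucc x
      rwa [range_castSucc fun i => π i ^ 8] at h
    · have h := hΛ i.castSucc x
      rwa [range_castSucc fun i => algebraMap R Λ (π i) ^ 8] at h

theorem resolvable {R A Λ : Type u} [CommRing R] [IsNoetherianRing R]
    [CommRing A] [Algebra R A] [Algebra.FinitePresentation R A] [CommRing Λ] [Algebra R Λ]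
    (φ : A →ₐ[R] Λ) (𝔮 : Ideal Λ) [𝔮.IsPrime] {r : ℕ} (π : Fin r → R)
    (hπ𝔮 : ∀ i, algebraMap R Λ (π i) ∈ 𝔮)
    (hR : ∀ i : Fin r, ∀ x : R ⧸ Ideal.span (Set.range fun j : {j : Fin r // (j : ℕ) < (i : ℕ)} => π j ^ 8),
      Ideal.Quotient.mk _ (π i) ^ 2 * x = 0 → Ideal.Quotient.mk _ (π i) * x = 0)
    (hΛ : ∀ i : Fin r, ∀ x : Λ ⧸ Ideal.span (Set.range fun j : {j : Fin r // (j : ℕ) < (i : ℕ)} =>
        algebraMap R Λ (π j) ^ 8),
      Ideal.Quotient.mk _ (algebraMap R Λ (π i)) ^ 2 * x = 0 → Ideal.Quotient.mk _ (algebraMap R Λ (π i)) * x = 0)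
    (hstd : ∀ i, Smoothing.IsStrictlyStandard R A (algebraMap R A (π i)))
    (K : Ideal R) (hK : K = Ideal.span (Set.range fun i => π i ^ 8))
    (φK : (A ⧸ K.map (algebraMap R A)) →ₐ[R ⧸ K] (Λ ⧸ K.map (algebraMap R Λ)))
    (hφK : ∀ a : A, φK (Ideal.Quotient.mk _ a) = Ideal.Quotient.mk _ (φ a))
    (hres : Smoothing.Resolvable (R ⧸ K) φK (𝔮.map (Ideal.Quotient.mk (K.map (algebraMap R Λ))))) :
    Smoothing.Resolvable R φ 𝔮 := by
  obtain ⟨B', _, _, hB', g, h', hgh, hle, hnle⟩ := hres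
  letI : Algebra R B' := ((algebraMap (R ⧸ K) B').comp (Ideal.Quotient.mk K)).toAlgebra
  have : IsScalarTower R (R ⧸ K) B' := IsScalarTower.of_algebraMap_eq' rfl
  let γ : A →ₐ[R] B' :=
    { g.toRingHom.comp (Ideal.Quotient.mk (K.map (algebraMap R A))) with
      commutes' := fun x => by
        show g (Ideal.Quotient.mk _ (algebraMap R A x)) = _
        exact g.commutes (Ideal.Quotient.mk K x) }
  have hcomm : ∀ a, h' (γ a) = Ideal.Quotient.mkₐ R (K.map (algebraMap R Λ)) (φ a) := fun a =>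
    (AlgHom.congr_fun hgh _).trans (hφK a)
  obtain ⟨B, _, _, hB, α, β, hαβ, hE, h𝔮⟩ :=
    chain φ 𝔮 π
      (fun i x hx => by
        have h := hR i (Ideal.Quotient.mk _ x)
        rw [← map_pow, ← map_mul, ← map_mul, Ideal.Quotient.eq_zero_iff_mem, Ideal.Quotient.eq_zero_iff_mem] at h
        exact h hx)
      (fun i x hx => by
        have h := hΛ i (Ideal.Quotient.mk _ x)
        rw [← map_pow, ← map_mul, ← map_mul, Ideal.Quotient.eq_zero_iff_mem, Ideal.Quotient.eq_zero_iff_mem] at h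
        exact h hx)
      hstd hπ𝔮 (R' := R ⧸ K) Ideal.Quotient.mk_surjective (by
        show RingHom.ker (Ideal.Quotient.mk K) = _
        rw [Ideal.mk_ker, hK])
      (Λ' := Λ ⧸ K.map (algebraMap R Λ)) (Ideal.Quotient.mkₐ R _)
      (Ideal.Quotient.mk_surjective (I := K.map (algebraMap R Λ))) (by
        show RingHom.ker (Ideal.Quotient.mk _) = _
        rw [Ideal.mk_ker, hK, Ideal.map_span, ← Set.range_comp]
        congr 2; funext i; exact map_pow _ _ _)
      γ h' hcomm (singRad R φ) (by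
        rw [Ideal.map_le_iff_le_comap]
        refine ((Ideal.radical_isRadical _).comap _).radical_le_iff.2 (Ideal.map_le_iff_le_comap.2 fun a ha => ?_)
        refine hle (Ideal.le_radical ?_)
        show Ideal.Quotient.mk _ (φ a) ∈ _
        rw [← hφK]
        exact Ideal.mem_map_of_mem _ (singularIdeal_map_le_quotient K ha)) hnle
  exact ⟨B, inferInstance, inferInstance, hB, α, β, hαβ, hE, h𝔮⟩

end Groth.NeronArea.ResolveMod
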