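import Groth.Agent.NeronArea.StandardElement
import Groth.Agent.NeronArea.SingularIdeal
import Mathlib.RingTheory.Kaehler.Basic
import Mathlib.Algebra.TrivSqZeroExt.Basic
import Mathlib.RingTheory.Localization.Integer
import Mathlib.LinearAlgebra.Matrix.Rank

/-! Smooth localizations with stably free differentials give strictly standard powers. -/

open MvPolynomial Smoothing

set_option linter.style.haveILetI false

namespace Groth.NeronArea.StableFree

universe u

variable {R A : Type u} [CommRing R] [CommRing A] [Algebra R A] {n m : ℕ}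
  (f : Fin m → MvPolynomial (Fin n) R) (φ : MvPolynomial (Fin n) R →ₐ[R] A)

/-- The Jacobian matrix in the localization. -/
noncomputable def jac (a : A) : Matrix (Fin n) (Fin m) (Localization.Away a) :=
  Matrix.of fun i l => algebraMap A (Localization.Away a) (φ (pderiv i (f l)))

lemma pderiv_sq_mem (hker : RingHom.ker φ.toRingHom = Ideal.span (Set.range f)) (i : Fin n) {z : MvPolynomial (Fin n) R}
    (hz : z ∈ Ideal.span (Set.range f) ^ 2) : φ (pderiv i z) = 0 := by
  rw [sq] at hz
  refine Submodule.mul_induction_on hz (fun x hx y hy => ?_) (fun x y hx hy => ?_)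
  · have hx' : φ x = 0 := RingHom.mem_ker.1 (hker.symm ▸ hx)
    have hy' : φ y = 0 := RingHom.mem_ker.1 (hker.symm ▸ hy)
    rw [pderiv_mul, map_add, map_mul, map_mul, hx', hy', mul_zero, zero_mul, add_zero]
  · rw [map_add, map_add, hx, hy, add_zero]

lemma exists_rel (hφ : Function.Surjective φ) (hker : RingHom.ker φ.toRingHom = Ideal.span (Set.range f))
    (a : A) (a1 : MvPolynomial (Fin n) R) (ha1 : φ a1 = a) [Algebra.Smooth R (Localization.Away a)] :
    ∃ (N : ℕ) (t : Fin n → Fin m → MvPolynomial (Fin n) R), ∀ l,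
      a1 ^ N * f l - ∑ i, pderiv i (f l) * ∑ l', t i l' * f l' ∈ Ideal.span (Set.range f) ^ 2 := by
  classical
  let P := MvPolynomial (Fin n) R
  let I : Ideal (MvPolynomial (Fin n) R) := Ideal.span (Set.range f)
  let B := Localization.Away a1
  let L := Localization.Away a
  let π : B →ₐ[R] L := IsLocalization.liftAlgHom (S := B) (M := Submonoid.powers a1)
    (f := (IsScalarTower.toAlgHom R A L).comp φ) fun y => by
      obtain ⟨d, hd⟩ := y.2
      rw [← hd, map_pow]
      show IsUnit (algebraMap A L (φ a1) ^ d)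
      rw [ha1]; exact (IsLocalization.Away.algebraMap_isUnit a).pow d
  have hπe : ∀ p, π (algebraMap _ B p) = algebraMap A L (φ p) := fun p => IsLocalization.lift_eq _ p
  have hπs : Function.Surjective π := by
    intro z
    obtain ⟨⟨x, ⟨_, d, rfl⟩⟩, hxy⟩ := IsLocalization.surj (Submonoid.powers a) z
    obtain ⟨x, rfl⟩ := hφ x
    refine ⟨IsLocalization.mk' B x (⟨a1 ^ d, d, rfl⟩ : Submonoid.powers a1), ?_⟩
    have h1 := congrArg π (IsLocalization.mk'_spec B x (⟨a1 ^ d, d, rfl⟩ : Submonoid.powers a1))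
    simp only [map_mul, hπe, map_pow, ha1] at h1 hxy
    exact ((IsLocalization.Away.algebraMap_isUnit a).pow d).mul_right_cancel (h1.trans hxy.symm)
  have hkπ : RingHom.ker π = I.map (algebraMap (MvPolynomial (Fin n) R) B) := by
    refine le_antisymm (fun z hz => ?_) (Ideal.map_le_iff_le_comap.2 fun x hx => ?_)
    · obtain ⟨x, y, rfl⟩ := IsLocalization.exists_mk'_eq (Submonoid.powers a1) z
      have h0 : algebraMap A L (φ x) = 0 := by
        rw [← hπe, ← IsLocalization.mk'_spec B x y, map_mul, RingHom.mem_ker.1 hz, zero_mul]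
      obtain ⟨⟨_, d, rfl⟩, hd⟩ := (IsLocalization.map_eq_zero_iff (Submonoid.powers a) L _).1 h0
      rw [IsLocalization.mk'_mem_map_algebraMap_iff (Submonoid.powers a1)]
      refine ⟨a1 ^ d, ⟨d, rfl⟩, (SetLike.ext_iff.1 hker _).1 ?_⟩
      show φ (a1 ^ d * x) = 0
      rw [map_mul, map_pow, ha1]; exact hd
    · rw [Ideal.mem_comap, RingHom.mem_ker, hπe, show φ x = 0 from RingHom.mem_ker.1 (hker.symm ▸ hx), map_zero]
  obtain ⟨ρ, hρ, hdef⟩ := Standard.exists_defect π hπs fun i => algebraMap (MvPolynomial (Fin n) R) B (X i)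
  have hspan : I.map (algebraMap (MvPolynomial (Fin n) R) B) = Ideal.span (Set.range fun l => algebraMap _ B (f l)) := by
    rw [Ideal.map_span, ← Set.range_comp]; rfl
  have hρ' : ∀ i, ∃ s : Fin m → B, ∑ l, s l * algebraMap _ B (f l) = ρ i := fun i =>
    Ideal.mem_span_range_iff_exists_fun.1 (hspan ▸ hkπ ▸ RingHom.mem_ker.2 (hρ i))
  choose s hs using hρ'
  obtain ⟨⟨_, N, rfl⟩, hN⟩ := IsLocalization.exist_integer_multiples_of_finite (Submonoid.powers a1)
    (fun q : Fin n × Fin m => s q.1 q.2)
  choose t ht using fun i l => hN (i, l)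
  have haev : ∀ p : MvPolynomial (Fin n) R, aeval (fun i => algebraMap (MvPolynomial (Fin n) R) B (X i)) p =
      algebraMap _ B p := fun p => by
    exact (comp_aeval_apply X (IsScalarTower.toAlgHom R (MvPolynomial (Fin n) R) B) p).symm.trans
      (congrArg (algebraMap (MvPolynomial (Fin n) R) B) (aeval_X_left_apply p))
  have hmem : ∀ l, ∃ M, a1 ^ M * (a1 ^ N * f l - ∑ i, pderiv i (f l) * ∑ l', t i l' * f l') ∈ I ^ 2 := by
    intro l
    have h1 : algebraMap _ B (f l) - ∑ i, algebraMap _ B (pderiv i (f l)) * ρ i ∈ RingHom.ker π ^ 2 := by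
      have h := hdef (f l) (by
        rw [haev, hπe, show φ (f l) = 0 from RingHom.mem_ker.1 (hker.symm ▸ Ideal.subset_span ⟨l, rfl⟩), map_zero])
      simpa only [haev] using h
    have h2 : algebraMap _ B (a1 ^ N * f l - ∑ i, pderiv i (f l) * ∑ l', t i l' * f l') ∈ (I ^ 2).map (algebraMap _ B) := by
      rw [Ideal.map_pow, ← hkπ]
      convert Ideal.mul_mem_left _ (algebraMap _ B (a1 ^ N)) h1 using 1
      rw [map_sub, map_mul, map_sum, mul_sub, Finset.mul_sum]
      congr 1
      refine Finset.sum_congr rfl fun i _ => ?_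
      rw [map_mul, map_sum, ← hs i, Finset.mul_sum, Finset.mul_sum, Finset.mul_sum]
      refine Finset.sum_congr rfl fun l' _ => ?_
      rw [map_mul, ht i l', Algebra.smul_def]; ring
    obtain ⟨_, ⟨M, rfl⟩, hM⟩ := (IsLocalization.algebraMap_mem_map_algebraMap_iff (Submonoid.powers a1) B _ _).1 h2
    exact ⟨M, hM⟩
  choose M hM using hmem
  refine ⟨(∑ l, M l) + N, fun i l' => a1 ^ (∑ l, M l) * t i l', fun l => ?_⟩
  obtain ⟨d, hd⟩ := Nat.exists_eq_add_of_le (Finset.single_le_sum (f := M) (fun j _ => Nat.zero_le _) (Finset.mem_univ l))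
  convert Ideal.mul_mem_left _ (a1 ^ d) (hM l) using 1
  rw [← mul_assoc, ← pow_add, show d + M l = ∑ l, M l by omega, mul_sub, Finset.mul_sum, ← mul_assoc, ← pow_add]
  congr 1
  refine Finset.sum_congr rfl fun i _ => ?_
  simp only [Finset.mul_sum]
  exact Finset.sum_congr rfl fun l' _ => by ring

/-- The differentials of the localization are the cokernel of the Jacobian matrix. -/
theorem exists_kaehler_equiv (hφ : Function.Surjective φ) (hker : RingHom.ker φ.toRingHom = Ideal.span (Set.range f))
    (a : A) : Nonempty (((Fin n → Localization.Away a) ⧸ LinearMap.range (jac f φ a).mulVecLin)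
      ≃ₗ[Localization.Away a] Ω[Localization.Away a⁄R]) := by
  classical
  let L := Localization.Away a
  let W := LinearMap.range (jac f φ a).mulVecLin
  let Coker := (Fin n → L) ⧸ W
  let x : Fin n → L := fun i => algebraMap A L (φ (X i))
  have hx : ∀ p, aeval x p = algebraMap A L (φ p) := fun p => by
    refine AlgHom.congr_fun (φ₁ := aeval (R := R) x) (φ₂ := (IsScalarTower.toAlgHom R A L).comp φ) ?_ p
    exact MvPolynomial.algHom_ext fun i => by simp [x]
  have hcol : ∀ l, (fun i => aeval x (pderiv i (f l))) = (jac f φ a).mulVecLin (Pi.single l 1) := fun l => by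
    funext i
    rw [Matrix.mulVecLin_apply, Matrix.mulVec_single_one, hx]; rfl
  -- the map to the differentials
  have hD : ∀ p : MvPolynomial (Fin n) R, KaehlerDifferential.D R L (aeval x p) =
      ∑ i, aeval x (pderiv i p) • KaehlerDifferential.D R L (x i) := by
    intro p
    induction p using MvPolynomial.induction_on with
    | C c => simp
    | add p q hp hq => simp only [map_add, hp, hq, add_smul, Finset.sum_add_distrib]
    | mul_X p k hp =>
      rw [map_mul, aeval_X, Derivation.leibniz, hp, Finset.smul_sum]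
      simp only [pderiv_mul, map_add, map_mul, aeval_X, add_smul, Finset.sum_add_distrib, smul_smul]
      rw [add_comm]
      congr 1
      · exact Finset.sum_congr rfl fun i _ => by rw [mul_comm]
      · rw [Finset.sum_eq_single k]
        · simp
        · intro i _ hi; simp [pderiv_X_of_ne hi.symm]
        · simp
  let to0 : (Fin n → L) →ₗ[L] Ω[L⁄R] := Fintype.linearCombination L fun i => KaehlerDifferential.D R L (x i)
  have hto0 : ∀ v, to0 v = ∑ i, v i • KaehlerDifferential.D R L (x i) := fun v => Fintype.linearCombination_apply _ _ _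
  have hW : W ≤ LinearMap.ker to0 := by
    rintro _ ⟨v, rfl⟩
    rw [show v = ∑ l, v l • (Pi.single l (1 : L) : Fin m → L) from (pi_eq_sum_univ' v), map_sum, LinearMap.mem_ker,
      map_sum]
    refine Finset.sum_eq_zero fun l _ => ?_
    rw [map_smul, map_smul, ← hcol, hto0, ← hD, hx,
      show φ (f l) = 0 from RingHom.mem_ker.1 (hker.symm ▸ Ideal.subset_span ⟨l, rfl⟩), map_zero, map_zero, smul_zero]
  -- the derivation into the cokernel
  let mk : (Fin n → L) →ₗ[L] Coker := W.mkQ
  let e : Fin n → Coker := fun i => mk (Pi.single i 1)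
  have : IsCentralScalar L Coker := inferInstance
  letI : Algebra R (TrivSqZeroExt L Coker) := TrivSqZeroExt.algebra' R L Coker
  let v : Fin n → TrivSqZeroExt L Coker := fun i => TrivSqZeroExt.inl (x i) + TrivSqZeroExt.inr (e i)
  have hv : ∀ p : MvPolynomial (Fin n) R, TrivSqZeroExt.fst (aeval v p) = aeval x p ∧
      TrivSqZeroExt.snd (aeval v p) = mk (fun i => aeval x (pderiv i p)) := by
    intro p
    induction p using MvPolynomial.induction_on with
    | C c =>
      refine ⟨by rw [aeval_C, aeval_C]; rfl, ?_⟩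
      rw [aeval_C, show (fun i => aeval x (pderiv i (MvPolynomial.C c))) = 0 from funext fun i => by simp, map_zero]
      rfl
    | add p q hp hq =>
      refine ⟨by rw [map_add, TrivSqZeroExt.fst_add, hp.1, hq.1, map_add], ?_⟩
      rw [map_add, TrivSqZeroExt.snd_add, hp.2, hq.2, ← map_add]
      congr 1; funext i; simp
    | mul_X p k hp =>
      refine ⟨by rw [map_mul, aeval_X, TrivSqZeroExt.fst_mul, hp.1, map_mul, aeval_X]; simp [v], ?_⟩
      rw [map_mul, aeval_X, TrivSqZeroExt.snd_mul, hp.1, hp.2]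
      simp only [v, TrivSqZeroExt.fst_add, TrivSqZeroExt.fst_inl, TrivSqZeroExt.fst_inr, add_zero,
        TrivSqZeroExt.snd_add, TrivSqZeroExt.snd_inl, TrivSqZeroExt.snd_inr, zero_add, op_smul_eq_smul, e]
      rw [← map_smul, ← map_smul, ← map_add]
      congr 1
      funext i
      simp only [Pi.add_apply, Pi.smul_apply, smul_eq_mul, pderiv_mul, map_add, map_mul, aeval_X]
      by_cases h : i = k
      · subst h; simp; ring
      · rw [pderiv_X_of_ne (Ne.symm h), map_zero, mul_zero, Pi.single_eq_of_ne h, mul_zero]; ring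
  have hkerv : RingHom.ker φ.toRingHom ≤ RingHom.ker (aeval (R := R) v) := by
    rw [hker]
    refine Ideal.span_le.2 ?_
    rintro _ ⟨l, rfl⟩
    refine TrivSqZeroExt.ext ?_ ?_
    · rw [(hv (f l)).1, hx, show φ (f l) = 0 from RingHom.mem_ker.1 (hker.symm ▸ Ideal.subset_span ⟨l, rfl⟩), map_zero]
      rfl
    · rw [(hv (f l)).2, hcol]
      exact (Submodule.Quotient.mk_eq_zero W).2 (LinearMap.mem_range_self _ _)
  let eA := Ideal.quotientKerAlgEquivOfSurjective hφ
  let hA0 : (MvPolynomial (Fin n) R ⧸ RingHom.ker φ.toRingHom) →ₐ[R] TrivSqZeroExt L Coker :=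
    Ideal.Quotient.liftₐ (RingHom.ker φ.toRingHom) (aeval v) fun _ h => hkerv h
  let hA : A →ₐ[R] TrivSqZeroExt L Coker := hA0.comp eA.symm.toAlgHom
  have hhA : ∀ p, hA (φ p) = aeval v p := fun p => by
    show hA0 (eA.symm (eA (Ideal.Quotient.mk _ p))) = _
    rw [AlgEquiv.symm_apply_apply]; rfl
  have hAu : ∀ y : Submonoid.powers a, IsUnit (hA y) := fun y => by
    obtain ⟨d, hd⟩ := y.2
    rw [← hd, map_pow]
    refine IsUnit.pow d (TrivSqZeroExt.isUnit_iff_isUnit_fst.2 ?_)
    obtain ⟨a1, ha1⟩ := hφ a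
    have hfa : TrivSqZeroExt.fst (hA a) = algebraMap A L a :=
      (congrArg (fun z => TrivSqZeroExt.fst (hA z)) ha1.symm).trans
        (((congrArg TrivSqZeroExt.fst (hhA a1)).trans (hv a1).1).trans ((hx a1).trans (congrArg _ ha1)))
    exact hfa.symm ▸ IsLocalization.Away.algebraMap_isUnit a
  let hL : L →ₐ[R] TrivSqZeroExt L Coker := IsLocalization.liftAlgHom (S := L) (M := Submonoid.powers a) (f := hA) hAu
  have hLA : ∀ y, hL (algebraMap A L y) = hA y := fun y => IsLocalization.lift_eq _ y
  have hfst : (TrivSqZeroExt.fstHom R L Coker).comp hL = AlgHom.id R L := by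
    refine IsLocalization.algHom_ext (Submonoid.powers a) (AlgHom.ext fun y => ?_)
    obtain ⟨p, rfl⟩ := hφ y
    show TrivSqZeroExt.fst (hL (algebraMap A L (φ p))) = algebraMap A L (φ p)
    rw [hLA, hhA, (hv p).1, hx]
  have hfst' : ∀ y, TrivSqZeroExt.fst (hL y) = y := fun y => AlgHom.congr_fun hfst y
  let δl : L →ₗ[R] Coker :=
    { toFun := fun y => TrivSqZeroExt.snd (hL y)
      map_add' := fun y z => by rw [map_add, TrivSqZeroExt.snd_add]
      map_smul' := fun r y => by rw [map_smul, TrivSqZeroExt.snd_smul]; rfl }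
  let δ : Derivation R L Coker := Derivation.mk' δl fun y z => by
    show TrivSqZeroExt.snd (hL (y * z)) = y • TrivSqZeroExt.snd (hL z) + z • TrivSqZeroExt.snd (hL y)
    rw [map_mul, TrivSqZeroExt.snd_mul, hfst', hfst', op_smul_eq_smul]
  let back : Ω[L⁄R] →ₗ[L] Coker := δ.liftKaehlerDifferential
  let to1 : Coker →ₗ[L] Ω[L⁄R] := W.liftQ to0 hW
  have hδx : ∀ i, δ (x i) = e i := fun i => by
    show TrivSqZeroExt.snd (hL (algebraMap A L (φ (X i)))) = _
    rw [hLA, hhA, (hv (X i)).2]
    refine congrArg mk (funext fun j => ?_)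
    by_cases h : j = i
    · subst h; simp
    · simp [pderiv_X_of_ne (Ne.symm h), Pi.single_eq_of_ne h]
  have h1 : back.comp to1 = LinearMap.id := by
    refine W.linearMap_qext (LinearMap.pi_ext fun i c => ?_)
    show back (to0 (Pi.single i c)) = mk (Pi.single i c)
    rw [show to0 (Pi.single i c) = c • KaehlerDifferential.D R L (x i) from Fintype.linearCombination_apply_single _ _ _ _,
      map_smul, show back (KaehlerDifferential.D R L (x i)) = δ (x i) from δ.liftKaehlerDifferential_comp_D _, hδx,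
      ← map_smul]
    congr 1
    funext j
    by_cases h : j = i
    · subst h; simp
    · simp [Pi.single_eq_of_ne h]
  have h2 : to1.comp back = LinearMap.id := by
    refine Derivation.liftKaehlerDifferential_unique _ _ (Derivation.ext fun y => ?_)
    show to1 (back (KaehlerDifferential.D R L y)) = KaehlerDifferential.D R L y
    rw [show back (KaehlerDifferential.D R L y) = δ y from δ.liftKaehlerDifferential_comp_D y]
    obtain ⟨⟨b, ⟨_, d, rfl⟩⟩, hbd⟩ := IsLocalization.surj (Submonoid.powers a) y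
    have hAgree : ∀ b : A, to1 (δ (algebraMap A L b)) = KaehlerDifferential.D R L (algebraMap A L b) := by
      intro b
      obtain ⟨p, rfl⟩ := hφ b
      rw [show δ (algebraMap A L (φ p)) = mk fun i => aeval x (pderiv i p) from by
          show TrivSqZeroExt.snd (hL _) = _
          rw [hLA, hhA, (hv p).2], ← hx, hD p]
      show to0 _ = _
      rw [hto0]
    have e1 := congrArg (fun z => to1 (δ z)) hbd
    have e2 := congrArg (KaehlerDifferential.D R L) hbd
    simp only [Derivation.leibniz, map_add, map_smul, hAgree] at e1 e2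
    have := e1.trans e2.symm
    rw [add_right_inj] at this
    exact ((IsLocalization.map_units L (⟨a ^ d, d, rfl⟩ : Submonoid.powers a)).smul_left_cancel).1 this
  exact ⟨LinearEquiv.ofLinearMap to1 back h2 h1⟩

/-- Powers of a function with smooth localization and stably free differentials are strictly standard. -/
theorem pow_isStrictlyStandard [Algebra.FinitePresentation R A] (a : A) [Algebra.Smooth R (Localization.Away a)]
    (p q : ℕ) (e : (Ω[Localization.Away a⁄R] × (Fin p → Localization.Away a)) ≃ₗ[Localization.Away a]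
      (Fin q → Localization.Away a)) :
    ∃ e₀ : ℕ, ∀ N : ℕ, e₀ ≤ N → Smoothing.IsStrictlyStandard R A (a ^ N) := by
  classical
  obtain ⟨n, φ, hφ, hfg⟩ := Algebra.FinitePresentation.out (R := R) (A := A)
  obtain ⟨m, f, hf⟩ := Submodule.fg_iff_exists_fin_generating_family.1 hfg
  have hker : RingHom.ker φ.toRingHom = Ideal.span (Set.range f) := hf.symm
  obtain ⟨a1, ha1⟩ := hφ a
  obtain ⟨N, t, ht⟩ := exists_rel f φ hφ hker a a1 ha1
  obtain ⟨eΩ⟩ := exists_kaehler_equiv f φ hφ hker a
  let L := Localization.Away a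
  let I : Ideal (MvPolynomial (Fin n) R) := Ideal.span (Set.range f)
  let E := jac f φ a
  let W := LinearMap.range E.mulVecLin
  have hua : IsUnit (algebraMap A L a ^ N) := (IsLocalization.Away.algebraMap_isUnit a).pow N
  let ψ : MvPolynomial (Fin n) R →+* L := (algebraMap A L).comp φ.toRingHom
  have hψ0 : ∀ l, ψ (f l) = 0 := fun l => by
    show algebraMap A L (φ (f l)) = 0
    rw [show φ (f l) = 0 from RingHom.mem_ker.1 (hker.symm ▸ Ideal.subset_span ⟨l, rfl⟩), map_zero]
  let r : Matrix (Fin m) (Fin n) L := Matrix.of fun l' i => ↑hua.unit⁻¹ * ψ (t i l')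
  have hidem : ∀ k l, ∑ i, E i l * ∑ l', r l' i * E k l' = E k l := by
    intro k l
    refine hua.mul_left_cancel ?_
    have h0 := congrArg (algebraMap A L) (pderiv_sq_mem f φ hker k (ht l))
    rw [map_zero] at h0
    have hder : ∀ z, algebraMap A L (φ (pderiv k z)) = ψ (pderiv k z) := fun z => rfl
    rw [hder] at h0
    simp only [map_sub, map_sum, map_mul, pderiv_mul, map_add, Finset.mul_sum, Finset.sum_add_distrib,
      hψ0, mul_zero, zero_mul, add_zero, zero_add, Finset.sum_const_zero] at h0
    rw [sub_eq_zero] at h0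
    rw [show ψ (a1 ^ N) = algebraMap A L a ^ N by simp [ψ, ha1]] at h0
    refine Eq.trans ?_ h0.symm
    simp only [Finset.mul_sum, r, Matrix.of_apply]
    refine (Finset.mul_sum _ _ _).trans (Finset.sum_congr rfl fun i _ => ?_)
    refine (Finset.mul_sum _ _ _).trans (Finset.sum_congr rfl fun l' _ => ?_)
    show _ = ψ (pderiv i (f l)) * (ψ (t i l') * ψ (pderiv k (f l')))
    rw [show E i l = ψ (pderiv i (f l)) from rfl, show E k l' = ψ (pderiv k (f l')) from rfl]
    linear_combination (ψ (pderiv i (f l)) * ψ (t i l') * ψ (pderiv k (f l'))) * hua.mul_val_inv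
  -- syzygy property
  have hstar : ∀ w : Fin m → MvPolynomial (Fin n) R, (E.mulVec fun l => ψ (w l)) = 0 →
      ∃ j, a1 ^ j * ∑ l, w l * f l ∈ I ^ 2 := by
    intro w hw
    have hi : ∀ i, ∃ j, a1 ^ j * ∑ l, w l * pderiv i (f l) ∈ I := by
      intro i
      have h0 : algebraMap A L (φ (∑ l, w l * pderiv i (f l))) = 0 := by
        have := congrFun hw i
        simp only [Matrix.mulVec, dotProduct, Pi.zero_apply] at this
        rw [map_sum, map_sum, ← this]
        refine Finset.sum_congr rfl fun l _ => ?_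
        rw [map_mul, map_mul, mul_comm]; rfl
      obtain ⟨⟨_, j, rfl⟩, hj⟩ := (IsLocalization.map_eq_zero_iff (Submonoid.powers a) L _).1 h0
      refine ⟨j, (SetLike.ext_iff.1 hker _).1 ?_⟩
      show φ _ = 0
      rw [map_mul, map_pow, ha1]; exact hj
    choose j hj using hi
    let J := ∑ i, j i
    refine ⟨J + N, ?_⟩
    have h1 : ∑ l, w l * (a1 ^ N * f l - ∑ i, pderiv i (f l) * ∑ l', t i l' * f l') ∈ I ^ 2 :=
      Ideal.sum_mem _ fun l _ => Ideal.mul_mem_left _ _ (ht l)
    have h2 : a1 ^ J * ∑ i, (∑ l, w l * pderiv i (f l)) * ∑ l', t i l' * f l' ∈ I ^ 2 := by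
      rw [Finset.mul_sum]
      refine Ideal.sum_mem _ fun i _ => ?_
      obtain ⟨d, hd⟩ := Nat.exists_eq_add_of_le (Finset.single_le_sum (f := j) (fun _ _ => Nat.zero_le _) (Finset.mem_univ i))
      rw [← mul_assoc, sq, show J = d + j i by simp only [J]; omega, pow_add, mul_assoc (a1 ^ d)]
      exact Ideal.mul_mem_mul (Ideal.mul_mem_left _ _ (hj i))
        (Ideal.sum_mem _ fun l' _ => Ideal.mul_mem_left _ _ (Ideal.subset_span ⟨l', rfl⟩))
    have := add_mem (Ideal.mul_mem_left _ (a1 ^ J) h1) h2
    convert this using 1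
    rw [← mul_add, pow_add, mul_assoc]
    congr 1
    have hsw : ∑ i, (∑ l, w l * pderiv i (f l)) * (∑ l', t i l' * f l') =
        ∑ l, w l * ∑ i, pderiv i (f l) * ∑ l', t i l' * f l' := by
      simp only [Finset.sum_mul, Finset.mul_sum (s := (Finset.univ : Finset (Fin n))), mul_assoc]
      exact Finset.sum_comm
    rw [hsw, ← Finset.sum_add_distrib, Finset.mul_sum]
    exact Finset.sum_congr rfl fun l _ => by ring
  -- splitting
  let er : (Fin n → L) →ₗ[L] W :=
    (E * r).mulVecLin.codRestrict W fun v => ⟨r.mulVec v, by simp [Matrix.mulVec_mulVec]⟩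
  have hEE : E * r * E = E := by
    ext k l
    rw [Matrix.mul_apply, ← hidem k l]
    refine Finset.sum_congr rfl fun i _ => ?_
    rw [Matrix.mul_apply, mul_comm]
    congr 1
    exact Finset.sum_congr rfl fun l' _ => mul_comm _ _
  have herW : ∀ v : W, er v = v := fun v => by
    obtain ⟨_, w, rfl⟩ := v
    refine Subtype.ext ?_
    show (E * r).mulVec (E.mulVec w) = E.mulVec w
    rw [Matrix.mulVec_mulVec, hEE]
  let Θ1 : (Fin n → L) ≃ₗ[L] W × ((Fin n → L) ⧸ W) := LinearEquiv.ofBijective (er.prod W.mkQ) (by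
    constructor
    · rw [← LinearMap.ker_eq_bot, eq_bot_iff]
      intro v hv
      replace hv : er v = 0 ∧ W.mkQ v = 0 := Prod.mk_eq_zero.1 hv
      have hvW : v ∈ W := (Submodule.Quotient.mk_eq_zero W).1 hv.2
      exact congrArg Subtype.val ((herW ⟨v, hvW⟩).symm.trans hv.1)
    · rintro ⟨w, c⟩
      obtain ⟨v, rfl⟩ := W.mkQ_surjective c
      refine ⟨v - (er v : Fin n → L) + w, Prod.ext ?_ ?_⟩
      · show er (v - (er v : Fin n → L) + w) = w
        rw [map_add, map_sub, herW, herW, sub_self, zero_add]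
      · show Submodule.Quotient.mk (v - (er v : Fin n → L) + w) = Submodule.Quotient.mk v
        rw [Submodule.Quotient.eq]
        rw [show v - (er v : Fin n → L) + w - v = -(er v : Fin n → L) + w by abel]
        exact add_mem (neg_mem (er v).2) w.2)
  let Θ : (W × (Fin q → L)) ≃ₗ[L] (Fin (n + p) → L) :=
    (LinearEquiv.prodCongr (LinearEquiv.refl L W) e.symm) ≪≫ₗ
      (LinearEquiv.prodAssoc L W Ω[L⁄R] (Fin p → L)).symm ≪≫ₗ
      LinearEquiv.prodCongr ((LinearEquiv.prodCongr (LinearEquiv.refl L W) eΩ.symm) ≪≫ₗ Θ1.symm) (LinearEquiv.refl L _) ≪≫ₗ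
      (LinearEquiv.sumArrowLequivProdArrow (Fin n) (Fin p) L L).symm ≪≫ₗ
      LinearEquiv.funCongrLeft L L finSumFinEquiv.symm
  let γ : Fin (n + p) → W × (Fin q → L) := fun j => Θ.symm (Pi.single j 1)
  have hγ : ∀ v, v = ∑ j, Θ v j • γ j := fun v => by
    have hv : Θ v = ∑ j, Θ v j • (Pi.single j (1 : L) : Fin (n + p) → L) := pi_eq_sum_univ' _
    conv_lhs => rw [← Θ.symm_apply_apply v, hv, map_sum]
    simp only [map_smul, γ]
  choose w hw using fun j => (γ j).1.2
  obtain ⟨⟨_, M, rfl⟩, hM⟩ := IsLocalization.exist_integer_multiples_of_finite (Submonoid.powers a)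
    (Sum.elim (fun x : Fin (n + p) × Fin m => w x.1 x.2) fun x : Fin (n + p) × Fin q => (γ x.1).2 x.2)
  have hlift : ∀ x, ∃ z : MvPolynomial (Fin n) R,
      ψ z = algebraMap A L a ^ M * (Sum.elim (fun x : Fin (n + p) × Fin m => w x.1 x.2) fun x : Fin (n + p) × Fin q => (γ x.1).2 x.2) x := by
    intro x
    obtain ⟨y, hy⟩ := hM x
    obtain ⟨p, rfl⟩ := hφ y
    exact ⟨p, by rw [show ψ p = algebraMap A L (φ p) from rfl, hy, Algebra.smul_def, map_pow]⟩
  choose lw hlw using fun j l => hlift (Sum.inl (j, l))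
  choose lu hlu using fun j l => hlift (Sum.inr (j, l))
  simp only [Sum.elim_inl] at hlw
  simp only [Sum.elim_inr] at hlu
  let uM : L := algebraMap A L a ^ M
  have huM : IsUnit uM := (IsLocalization.Away.algebraMap_isUnit a).pow M
  -- the presentation
  let c := n + p
  let P2 := MvPolynomial (Fin (n + q)) R
  let ι : MvPolynomial (Fin n) R →ₐ[R] MvPolynomial (Fin (n + q)) R := rename (Fin.castAdd q)
  let g : Fin c → MvPolynomial (Fin (n + q)) R := fun j =>
    (∑ l, ι (lw j l) * ι (f l)) + ∑ i, ι (lu j i) * X (Fin.natAdd n i)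
  let rel : Fin (c + (m + q)) → MvPolynomial (Fin (n + q)) R :=
    Fin.append g (Fin.append (fun l => ι (f l)) fun i => X (Fin.natAdd n i))
  let φ2 : MvPolynomial (Fin (n + q)) R →ₐ[R] A := aeval (Fin.append (fun i => φ (X i)) fun _ => 0)
  have hφ2ι : ∀ z, φ2 (ι z) = φ z := fun z => by
    refine AlgHom.congr_fun (φ₁ := φ2.comp ι) (φ₂ := φ) ?_ z
    exact MvPolynomial.algHom_ext fun i => by simp [φ2, ι, Fin.append_left]
  have hφ2X : ∀ i, φ2 (X (Fin.natAdd n i)) = 0 := fun i => by simp [φ2, Fin.append_right]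
  have hφ2 : Function.Surjective φ2 := fun y => by
    obtain ⟨z, rfl⟩ := hφ y; exact ⟨ι z, hφ2ι z⟩
  let I2 : Ideal (MvPolynomial (Fin (n + q)) R) := Ideal.span (Set.range rel)
  have hfI : ∀ l, ι (f l) ∈ I2 := fun l =>
    Ideal.subset_span ⟨Fin.natAdd c (Fin.castAdd q l), by simp [rel, Fin.append_left, Fin.append_right]⟩
  have hXI : ∀ i, (X (Fin.natAdd n i) : MvPolynomial (Fin (n + q)) R) ∈ I2 := fun i =>
    Ideal.subset_span ⟨Fin.natAdd c (Fin.natAdd m i), by simp [rel, Fin.append_right]⟩
  have hker2 : RingHom.ker φ2.toRingHom = Ideal.span (Set.range rel) := by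
    refine le_antisymm (fun z hz => ?_) (Ideal.span_le.2 ?_)
    · let back : MvPolynomial (Fin (n + q)) R →ₐ[R] MvPolynomial (Fin n) R := aeval (Fin.append X fun _ => 0)
      have hdiff : ∀ z, z - ι (back z) ∈ I2 := by
        intro z
        induction z using MvPolynomial.induction_on with
        | C c => simp [back, ι]
        | add p q hp hq =>
          rw [map_add, map_add, add_sub_add_comm]; exact add_mem hp hq
        | mul_X p i hp =>
          have hi : X i - ι (back (X i)) ∈ I2 := by
            induction i using Fin.addCases with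
            | left i => simp [back, ι, Fin.append_left]
            | right i => simpa [back, ι, Fin.append_right] using hXI i
          rw [show p * X i - ι (back (p * X i)) = (p - ι (back p)) * X i + ι (back p) * (X i - ι (back (X i))) by
            rw [map_mul, map_mul]; ring]
          exact add_mem (Ideal.mul_mem_right _ _ hp) (Ideal.mul_mem_left _ _ hi)
      have hb : φ (back z) = 0 := by
        have hz' : φ2 z = 0 := hz
        rw [← hφ2ι]
        have h0 : φ2 (z - ι (back z)) = 0 := by
          refine (Ideal.span_le (I := RingHom.ker φ2.toRingHom)).2 ?_ (hdiff z)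
          rintro _ ⟨j, rfl⟩
          induction j using Fin.addCases with
          | left j => simp [rel, g, Fin.append_left, hφ2ι, hφ2X, show ∀ l, φ (f l) = 0 from fun l => RingHom.mem_ker.1 (hker.symm ▸ Ideal.subset_span ⟨l, rfl⟩)]
          | right j =>
            induction j using Fin.addCases with
            | left l => simp [rel, Fin.append_left, Fin.append_right, hφ2ι, show φ (f l) = 0 from RingHom.mem_ker.1 (hker.symm ▸ Ideal.subset_span ⟨l, rfl⟩)]
            | right i => simp [rel, Fin.append_right, hφ2X]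
        rw [map_sub] at h0
        linear_combination hz' - h0
      have hbI : back z ∈ I := (SetLike.ext_iff.1 hker _).1 hb
      have hmap : I.map ι ≤ I2 := by
        rw [Ideal.map_span]
        refine Ideal.span_le.2 ?_
        rintro _ ⟨_, ⟨l, rfl⟩, rfl⟩
        exact hfI l
      have := add_mem (hdiff z) (hmap (Ideal.mem_map_of_mem ι hbI))
      rwa [sub_add_cancel] at this
    · rintro _ ⟨j, rfl⟩
      have hf0 : ∀ l, φ (f l) = 0 := fun l => RingHom.mem_ker.1 (hker.symm ▸ Ideal.subset_span ⟨l, rfl⟩)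
      show φ2 (rel j) = 0
      induction j using Fin.addCases with
      | left j => simp [rel, g, Fin.append_left, hφ2ι, hφ2X, hf0]
      | right j =>
        induction j using Fin.addCases with
        | left l => simp [rel, Fin.append_left, Fin.append_right, hφ2ι, hf0]
        | right i => simp [rel, Fin.append_right, hφ2X]
  -- the derivatives of the leading relations
  have hf0 : ∀ l, φ (f l) = 0 := fun l => RingHom.mem_ker.1 (hker.symm ▸ Ideal.subset_span ⟨l, rfl⟩)
  let χ : MvPolynomial (Fin (n + q)) R → L := fun z => algebraMap A L (φ2 z)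
  have hιpd : ∀ (i : Fin q) (z : MvPolynomial (Fin n) R), pderiv (Fin.natAdd n i) (ι z) = 0 := fun i z => by
    refine pderiv_eq_zero_of_notMem_vars fun hh => ?_
    obtain ⟨k, -, hk⟩ := Finset.mem_image.1 (vars_rename (Fin.castAdd q) z hh)
    have := congrArg Fin.val hk
    simp at this; omega
  have hιpd' : ∀ (i : Fin n) (z : MvPolynomial (Fin n) R),
      pderiv (Fin.castAdd q i) (ι z) = ι (pderiv i z) := fun i z => pderiv_rename (Fin.castAdd_injective _ _) i z
  let col : Fin c → Fin (n + q) → L := fun j => uM • Fin.append ((γ j).1 : Fin n → L) (γ j).2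
  have hcol : ∀ j i, χ (pderiv i (g j)) = col j i := by
    intro j i
    induction i using Fin.addCases with
    | left i =>
      have hne : ∀ i', Fin.natAdd n i' ≠ Fin.castAdd q i := fun i' hh => by
        have := congrArg Fin.val hh; simp at this; omega
      show algebraMap A L (φ2 _) = _
      simp only [g, map_add, map_sum, pderiv_mul, hιpd', hφ2ι, map_mul, hf0, mul_zero, map_zero, zero_add,
        pderiv_X_of_ne (hne _), hφ2X, add_zero, Finset.sum_const_zero]
      rw [show col j (Fin.castAdd q i) = uM * ((γ j).1 : Fin n → L) i by simp [col, Fin.append_left],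
        ← hw j]
      simp only [Matrix.mulVecLin_apply, Matrix.mulVec, dotProduct, Finset.mul_sum]
      refine Finset.sum_congr rfl fun l _ => ?_
      rw [show algebraMap A L (φ (lw j l)) = ψ (lw j l) from rfl, hlw,
        show algebraMap A L (φ (pderiv i (f l))) = E i l from rfl]
      ring
    | right i =>
      show algebraMap A L (φ2 _) = _
      rw [show col j (Fin.natAdd n i) = uM * (γ j).2 i by simp [col, Fin.append_right], ← hlu j i]
      simp only [g, map_add, map_sum, pderiv_mul, hιpd, zero_mul, mul_zero, map_zero, zero_add,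
        Finset.sum_const_zero]
      rw [Finset.sum_eq_single i]
      · simp [hφ2ι, ψ]
      · intro i' _ hi
        have hne : Fin.natAdd n i' ≠ Fin.natAdd n i := fun hh => hi (Fin.natAdd_injective _ _ hh)
        simp [pderiv_X_of_ne hne]
      · simp
  -- the minors generate the unit ideal after localizing
  let pr : (Fin (n + q) → L) →ₗ[L] (Fin n → L) × (Fin q → L) :=
    (LinearMap.funLeft L L (Fin.castAdd q)).prod (LinearMap.funLeft L L (Fin.natAdd n))
  let back : (Fin (n + q) → L) →ₗ[L] (Fin c → L) :=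
    (↑huM.unit⁻¹ : L) • (Θ.toLinearMap ∘ₗ (er.prodMap LinearMap.id) ∘ₗ pr)
  have hback : ∀ j, back (col j) = Pi.single j 1 := by
    intro j
    have h1 : (er.prodMap LinearMap.id) (pr (Fin.append ((γ j).1 : Fin n → L) (γ j).2)) = γ j := by
      refine Prod.ext ?_ ?_
      · show er (fun i => Fin.append ((γ j).1 : Fin n → L) (γ j).2 (Fin.castAdd q i)) = (γ j).1
        simp only [Fin.append_left]; exact herW _
      · show (fun i => Fin.append ((γ j).1 : Fin n → L) (γ j).2 (Fin.natAdd n i)) = (γ j).2
        simp only [Fin.append_right]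
    show (↑huM.unit⁻¹ : L) • Θ ((er.prodMap LinearMap.id) (pr (uM • Fin.append _ _))) = _
    rw [map_smul, map_smul, map_smul, h1, smul_smul, IsUnit.val_inv_mul, one_smul]
    exact Θ.apply_symm_apply _
  let minor : (Fin c → Fin (n + q)) → A := fun cols => φ2 (Matrix.of fun j k => pderiv (cols k) (g j)).det
  have hminor : Ideal.span (Set.range fun cols => algebraMap A L (minor cols)) = ⊤ := by
    by_contra hne
    obtain ⟨𝔪, h𝔪, hle⟩ := Ideal.exists_le_maximal _ hne
    letI := Ideal.Quotient.field 𝔪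
    let res := Ideal.Quotient.mk 𝔪
    let V : Matrix (Fin c) (Fin (n + q)) L := Matrix.of fun j i => col j i
    have hV : LinearMap.toMatrix' back * V.transpose = 1 := by
      ext k j
      have := congrFun (hback j) k
      rw [← LinearMap.toMatrix'_mulVec] at this
      rw [Matrix.one_apply]
      simp only [Matrix.mul_apply, Matrix.mulVec, dotProduct, Matrix.transpose_apply, V, Matrix.of_apply] at this ⊢
      rw [this, Pi.single_apply]
    have hli : LinearIndependent (L ⧸ 𝔪) (V.map res).row := by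
      rw [← Matrix.vecMul_injective_iff]
      intro v v' hvv
      have hVt : (V.map res) * (LinearMap.toMatrix' back).transpose.map res = 1 := by
        rw [← Matrix.map_mul, show V * (LinearMap.toMatrix' back).transpose = 1 by
          rw [← Matrix.transpose_transpose V, ← Matrix.transpose_mul, hV, Matrix.transpose_one],
          Matrix.map_one _ (map_zero _) (map_one _)]
      simpa [Matrix.vecMul_vecMul, hVt] using
        congrArg (fun z => Matrix.vecMul z ((LinearMap.toMatrix' back).transpose.map res)) hvv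
    obtain ⟨cols, hcols⟩ := Standard.exists_det_ne_zero (V.map res) hli
    apply hcols
    have h2 : (V.map res).submatrix id cols = (V.submatrix id cols).map res := rfl
    rw [h2, ← RingHom.mapMatrix_apply, ← RingHom.map_det, Ideal.Quotient.eq_zero_iff_mem]
    refine hle ?_
    have h3 : (V.submatrix id cols).det = algebraMap A L (minor cols) := by
      show _ = algebraMap A L (φ2 _)
      rw [AlgHom.map_det, RingHom.map_det]
      congr 1
      ext j k
      exact (hcol j (cols k)).symm
    rw [h3]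
    exact Ideal.subset_span ⟨cols, rfl⟩
  obtain ⟨K, hK⟩ : ∃ K, a ^ K ∈ Ideal.span (Set.range minor) := by
    have h1 : algebraMap A L 1 ∈ (Ideal.span (Set.range minor)).map (algebraMap A L) := by
      rw [Ideal.map_span, ← Set.range_comp]
      rw [show (⇑(algebraMap A L) ∘ minor) = fun cols => algebraMap A L (minor cols) from rfl, hminor]
      exact Submodule.mem_top
    obtain ⟨_, ⟨K, rfl⟩, hK⟩ := (IsLocalization.algebraMap_mem_map_algebraMap_iff (Submonoid.powers a) L _ _).1 h1
    exact ⟨K, by rwa [mul_one] at hK⟩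
  -- the tail is killed
  let G := Ideal.span (Set.range g)
  have htail : ∀ (w0 : Fin m → MvPolynomial (Fin n) R) (u0 : Fin q → MvPolynomial (Fin n) R),
      ∃ e, ι a1 ^ e * (∑ l, ι (w0 l) * ι (f l) + ∑ i, ι (u0 i) * X (Fin.natAdd n i)) ∈ G ⊔ I2 ^ 2 := by
    intro w0 u0
    let y : W × (Fin q → L) := (⟨E.mulVec fun l => ψ (w0 l), LinearMap.mem_range.2 ⟨_, rfl⟩⟩, fun i => ψ (u0 i))
    obtain ⟨⟨_, T, rfl⟩, hT⟩ := IsLocalization.exist_integer_multiples_of_finite (Submonoid.powers a)
      (fun j => ↑huM.unit⁻¹ * Θ y j)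
    have hct : ∀ j, ∃ z : MvPolynomial (Fin n) R, ψ z = algebraMap A L a ^ T * (↑huM.unit⁻¹ * Θ y j) := fun j => by
      obtain ⟨y', hy'⟩ := hT j
      obtain ⟨z, rfl⟩ := hφ y'
      exact ⟨z, by rw [show ψ z = algebraMap A L (φ z) from rfl, hy', Algebra.smul_def, map_pow]⟩
    choose ct hct using hct
    have hcomb : ∀ (κ : (W × (Fin q → L)) →ₗ[L] L),
        ∑ j, ψ (ct j) * (uM * κ (γ j)) = algebraMap A L a ^ T * κ y := by
      intro κ
      conv_rhs => rw [hγ y, map_sum, Finset.mul_sum]
      refine Finset.sum_congr rfl fun j _ => ?_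
      rw [hct, map_smul, smul_eq_mul]
      linear_combination (algebraMap A L a ^ T * Θ y j * κ (γ j)) * huM.val_inv_mul
    let w1 : Fin m → MvPolynomial (Fin n) R := fun l => a1 ^ T * w0 l - ∑ j, ct j * lw j l
    let u1 : Fin q → MvPolynomial (Fin n) R := fun i => a1 ^ T * u0 i - ∑ j, ct j * lu j i
    have hψa : ψ (a1 ^ T) = algebraMap A L a ^ T := by simp [ψ, ha1]
    have hw1 : (E.mulVec fun l => ψ (w1 l)) = 0 := by
      funext i
      have hk := hcomb ((LinearMap.proj i).comp (W.subtype.comp (LinearMap.fst L W (Fin q → L))))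
      simp only [LinearMap.comp_apply, LinearMap.fst_apply, LinearMap.proj_apply, Submodule.subtype_apply, y] at hk
      simp only [← hw, Matrix.mulVecLin_apply, Matrix.mulVec, dotProduct, Pi.zero_apply] at hk ⊢
      rw [Finset.mul_sum] at hk
      simp only [w1, map_sub, map_mul, map_sum, hψa, hlw, mul_sub, Finset.sum_sub_distrib, Finset.mul_sum]
      rw [sub_eq_zero, Finset.sum_comm (s := (Finset.univ : Finset (Fin m)))]
      refine Eq.trans (Eq.trans ?_ hk.symm) (Finset.sum_congr rfl fun j _ => ?_)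
      · exact Finset.sum_congr rfl fun l _ => by ring
      · simp only [Finset.mul_sum]
        exact Finset.sum_congr rfl fun l _ => by simp only [uM]; ring
    have hu1 : ∀ i, ψ (u1 i) = 0 := by
      intro i
      have hk := hcomb ((LinearMap.proj i).comp (LinearMap.snd L W (Fin q → L)))
      simp only [LinearMap.comp_apply, LinearMap.snd_apply, LinearMap.proj_apply, y] at hk
      simp only [u1, map_sub, map_mul, map_sum, hψa, hlu, sub_eq_zero]
      exact hk.symm
    obtain ⟨e1, he1⟩ := hstar w1 hw1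
    have hu1' : ∀ i, ∃ e, a1 ^ e * u1 i ∈ I := fun i => by
      obtain ⟨⟨_, e, rfl⟩, he⟩ := (IsLocalization.map_eq_zero_iff (Submonoid.powers a) L (φ (u1 i))).1 (hu1 i)
      refine ⟨e, (SetLike.ext_iff.1 hker _).1 ?_⟩
      show φ _ = 0
      rw [map_mul, map_pow, ha1]; exact he
    choose e2 he2 using hu1'
    let e := e1 + ∑ i, e2 i
    have hmap : I.map ι ≤ I2 := by
      rw [Ideal.map_span]
      refine Ideal.span_le.2 ?_
      rintro _ ⟨_, ⟨l, rfl⟩, rfl⟩
      exact hfI l
    refine ⟨e + T, ?_⟩
    have hA1 : ι a1 ^ e * ∑ l, ι (w1 l) * ι (f l) ∈ I2 ^ 2 := by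
      refine Ideal.pow_right_mono hmap 2 ?_
      rw [← Ideal.map_pow]
      have := Ideal.mem_map_of_mem ι (Ideal.mul_mem_left _ (a1 ^ ∑ i, e2 i) he1)
      rw [map_mul, map_mul, map_pow, map_pow, map_sum, ← mul_assoc, ← pow_add, add_comm (∑ i, e2 i) e1] at this
      simpa only [map_mul] using this
    have hA2 : ι a1 ^ e * ∑ i, ι (u1 i) * X (Fin.natAdd n i) ∈ I2 ^ 2 := by
      rw [Finset.mul_sum]
      refine Ideal.sum_mem _ fun i _ => ?_
      obtain ⟨d, hd⟩ := Nat.exists_eq_add_of_le (Finset.single_le_sum (f := e2) (fun _ _ => Nat.zero_le _) (Finset.mem_univ i))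
      rw [sq, show e = (e1 + d) + e2 i by simp only [e]; omega, pow_add, ← mul_assoc, mul_assoc (ι a1 ^ (e1 + d))]
      refine Ideal.mul_mem_mul (Ideal.mul_mem_left _ _ ?_) (hXI i)
      rw [← map_pow, ← map_mul]
      exact hmap (Ideal.mem_map_of_mem ι (he2 i))
    have hsplit : ι a1 ^ T * (∑ l, ι (w0 l) * ι (f l) + ∑ i, ι (u0 i) * X (Fin.natAdd n i)) =
        ∑ l, ι (w1 l) * ι (f l) + ∑ i, ι (u1 i) * X (Fin.natAdd n i) + ∑ j, ι (ct j) * g j := by
      simp only [w1, u1, g, map_sub, map_mul, map_pow, map_sum, sub_mul, Finset.sum_sub_distrib, mul_add,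
        Finset.mul_sum, Finset.sum_mul, Finset.sum_add_distrib]
      rw [Finset.sum_comm (s := (Finset.univ : Finset (Fin c))) (t := (Finset.univ : Finset (Fin m))),
        Finset.sum_comm (s := (Finset.univ : Finset (Fin c))) (t := (Finset.univ : Finset (Fin q)))]
      simp only [mul_assoc]
      ring
    rw [pow_add, mul_assoc, hsplit, mul_add, mul_add]
    refine add_mem (add_mem (Ideal.mem_sup_right hA1) (Ideal.mem_sup_right hA2)) (Ideal.mem_sup_left ?_)
    exact Ideal.mul_mem_left _ _ (Ideal.sum_mem _ fun j _ => Ideal.mul_mem_left _ _ (Ideal.subset_span ⟨j, rfl⟩))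
  have htail' : ∀ j : Fin (m + q), ∃ e, ι a1 ^ e * rel (Fin.natAdd c j) ∈ G ⊔ I2 ^ 2 := by
    intro j
    induction j using Fin.addCases with
    | left l =>
      obtain ⟨e, he⟩ := htail (Pi.single l 1) 0
      exact ⟨e, by simpa [rel, Fin.append_left, Fin.append_right, Pi.single_apply, apply_ite ι, ite_mul] using he⟩
    | right i =>
      obtain ⟨e, he⟩ := htail 0 (Pi.single i 1)
      exact ⟨e, by simpa [rel, Fin.append_left, Fin.append_right, Pi.single_apply, apply_ite ι, ite_mul] using he⟩
  choose eT heT using htail'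
  obtain ⟨dd, hdd⟩ : ∃ dd, Subsingleton L → a ^ dd = 0 := by
    by_cases hL : Subsingleton L
    · have h0 : algebraMap A L (1 : A) = 0 := Subsingleton.elim _ _
      obtain ⟨⟨_, d, rfl⟩, hd⟩ := (IsLocalization.map_eq_zero_iff (Submonoid.powers a) L _).1 h0
      exact ⟨d, fun _ => by simpa using hd⟩
    · exact ⟨0, fun h => absurd h hL⟩
  refine ⟨dd + K + ∑ j, eT j, fun N' hN' => ?_⟩
  rcases subsingleton_or_nontrivial L with hL | hL
  · obtain ⟨d, rfl⟩ := Nat.exists_eq_add_of_le (show dd ≤ N' by omega)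
    rw [pow_add, hdd hL, zero_mul]
    refine ⟨{ n := n + q, m := c + (m + q), c := 0, hcn := Nat.zero_le _, hcm := Nat.zero_le _, rel, hom := φ2,
              surj := hφ2, ker_eq := hker2 }, zero_mem _, fun a' ha' j _ => Ideal.mem_sup_right ?_⟩
    rw [sq]
    exact Ideal.mul_mem_mul ((SetLike.ext_iff.1 hker2 a').1 ha') (Ideal.subset_span ⟨j, rfl⟩)
  have hcn : c ≤ n + q := le_of_fin_injective L
    ((((LinearEquiv.sumArrowLequivProdArrow (Fin n) (Fin q) L L).symm ≪≫ₗ
      LinearEquiv.funCongrLeft L L finSumFinEquiv.symm).toLinearMap ∘ₗ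
      (W.subtype.prodMap LinearMap.id)) ∘ₗ Θ.symm.toLinearMap) (by
    simp only [LinearMap.coe_comp, LinearEquiv.coe_coe]
    exact ((LinearEquiv.injective _).comp (Subtype.val_injective.prodMap Function.injective_id)).comp Θ.symm.injective)
  refine ⟨{ n := n + q, m := c + (m + q), c, hcn, hcm := Nat.le_add_right _ _, rel, hom := φ2,
            surj := hφ2, ker_eq := hker2 }, ?_, fun a' ha' j hj => ?_⟩
  · obtain ⟨d, rfl⟩ := Nat.exists_eq_add_of_le (show K ≤ N' by omega)
    rw [pow_add]
    refine Ideal.mul_mem_right _ _ ?_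
    refine Eq.mp (congrArg (fun J : Ideal A => a ^ K ∈ J) ?_) hK
    congr 2
    funext cols
    show φ2 _ = φ2 (jacobianMinor rel _ cols)
    congr 2
    ext j k : 1
    exact congrArg (pderiv (cols k)) (Fin.append_left g _ j).symm
  · induction j using Fin.addCases with
    | left j => exact absurd j.2 (not_lt.2 (by simpa using hj))
    | right j =>
      obtain ⟨d, hd⟩ := Nat.exists_eq_add_of_le (show eT j ≤ N' from
        le_trans (Finset.single_le_sum (f := eT) (fun _ _ => Nat.zero_le _) (Finset.mem_univ j)) (by omega))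
      have hz : a' - ι a1 ^ N' ∈ I2 := by
        refine (SetLike.ext_iff.1 hker2 _).1 ?_
        show φ2 _ = 0
        rw [map_sub, map_pow, hφ2ι, ha1, sub_eq_zero]; exact ha'
      have hle : G ⊔ I2 ^ 2 ≤ Ideal.span (rel '' {j' : Fin (c + (m + q)) | (j' : ℕ) < c}) ⊔ I2 ^ 2 := by
        refine sup_le_sup_right (Ideal.span_le.2 ?_) _
        rintro _ ⟨j', rfl⟩
        exact Ideal.subset_span ⟨Fin.castAdd _ j', j'.2, by simp [rel, Fin.append_left]⟩
      rw [show a' * rel (Fin.natAdd c j) = ι a1 ^ d * (ι a1 ^ eT j * rel (Fin.natAdd c j)) +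
        (a' - ι a1 ^ N') * rel (Fin.natAdd c j) by rw [hd, pow_add]; ring]
      refine add_mem (hle (Ideal.mul_mem_left _ _ (heT j))) (Ideal.mem_sup_right ?_)
      rw [sq]
      exact Ideal.mul_mem_mul hz (Ideal.subset_span ⟨_, rfl⟩)

end Groth.NeronArea.StableFree
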