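import Groth.Agent.NeronArea.Cover
import Groth.Agent.NeronArea.Parameters
import Groth.Agent.NeronArea.FreeKaehlerRetract
import Groth.Agent.NeronArea.StableFreeStandard
import Groth.Agent.NeronArea.ResolvableModPow
import Groth.Agent.NeronArea.Delocalize
import Groth.Agent.NeronArea.UnramifiedDVR
import Groth.Agent.Ega4Algebra2.FlatRegular
import Mathlib.RingTheory.MvPolynomial.Ideal
import Mathlib.RingTheory.Localization.Ideal

/-! Resolving at a regular point with separable residue field over a field. -/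

open MvPolynomial Smoothing RingTheory.Sequence
open scoped TensorProduct

set_option linter.style.haveILetI false

namespace Groth.NeronArea.ResolveRegular

universe u

/-- A Noetherian regular local ring is flat over the polynomial ring on a regular system of parameters. -/
theorem flat_of_params {k Λ : Type u} [Field k] [CommRing Λ] [IsRegularLocalRing Λ] {d : ℕ}
    [Algebra (MvPolynomial (Fin d) k) Λ] (hd : ringKrullDim Λ = d)
    (hx : Ideal.span (Set.range fun i => algebraMap (MvPolynomial (Fin d) k) Λ (X i)) = IsLocalRing.maximalIdeal Λ) :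
    Module.Flat (MvPolynomial (Fin d) k) Λ := by
  classical
  let R := MvPolynomial (Fin d) k
  let x : Fin d → Λ := fun i => algebraMap (MvPolynomial (Fin d) k) Λ (X i)
  have hregΛ : IsWeaklyRegular Λ (List.ofFn x) := by
    have hmem : ∀ z ∈ List.ofFn x, z ∈ IsLocalRing.maximalIdeal Λ := fun z hz => by
      obtain ⟨i, rfl⟩ := (List.mem_ofFn' _ _).1 hz
      rw [← hx]; exact Ideal.subset_span ⟨i, rfl⟩
    have hL : Ideal.ofList (List.ofFn x) = IsLocalRing.maximalIdeal Λ := by
      rw [← hx, Ideal.ofList]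
      congr 1
      ext z
      exact List.mem_ofFn' _ _
    refine Groth.Calg6.isWeaklyRegular_of_supportDim_add_length_le _ Λ
      (Groth.Calg6.isCohenMacaulayModule_of_isRegularLocalRing Λ) hmem ?_
    rw [hL, smul_eq_mul, Ideal.mul_top, Module.supportDim_quotient_eq_ringKrullDim, Module.supportDim_self_eq_ringKrullDim,
      hd, ringKrullDim_eq_zero_of_isField ((Ideal.Quotient.maximal_ideal_iff_isField_quotient _).1
        (IsLocalRing.maximalIdeal.isMaximal Λ)), List.length_ofFn, zero_add]
  have hreg : IsWeaklyRegular Λ (List.ofFn fun i : Fin d => (X i : MvPolynomial (Fin d) k)) := by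
    refine (isWeaklyRegular_map_algebraMap_iff Λ Λ _).1 ?_
    rw [List.map_ofFn]
    exact hregΛ
  let I : Ideal (MvPolynomial (Fin d) k) := Ideal.span (Set.range fun i : Fin d => (X i : MvPolynomial (Fin d) k))
  have hI : I.IsMaximal := by
    have hev : RingHom.ker (MvPolynomial.eval (0 : Fin d → k)) = I := by
      refine le_antisymm (fun p hp => ?_) (Ideal.span_le.2 ?_)
      · have h : ∀ p : MvPolynomial (Fin d) k, p - C (eval 0 p) ∈ I := by
          intro p
          induction p using MvPolynomial.induction_on with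
          | C c => simp
          | add p q hp hq => rw [map_add, map_add, add_sub_add_comm]; exact add_mem hp hq
          | mul_X p i hp =>
            simp only [map_mul, eval_X, Pi.zero_apply, mul_zero, map_zero, sub_zero]
            exact Ideal.mul_mem_left _ _ (Ideal.subset_span ⟨i, rfl⟩)
        have := h p
        rwa [RingHom.mem_ker.1 hp, map_zero, sub_zero] at this
      · rintro _ ⟨i, rfl⟩; simp
    rw [← hev]
    exact RingHom.ker_isMaximal_of_surjective _ fun c => ⟨C c, eval_C c⟩
  letI := Ideal.Quotient.field I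
  have : Module.Flat (MvPolynomial (Fin d) k ⧸ I) ((MvPolynomial (Fin d) k ⧸ I) ⊗[MvPolynomial (Fin d) k] Λ) :=
    inferInstance
  refine Groth.FlatMorOne.flat_of_rTensor_injective (S := Λ) I ?_ (Groth.Ega4b.rTensor_injective_of_isWeaklyRegular _ hreg)
  rw [IsLocalRing.jacobson_eq_maximalIdeal _ bot_ne_top, Ideal.map_span, ← Set.range_comp, ← hx]
  exact le_rfl

/-- A variable is a nonzerodivisor modulo powers of other variables. -/
lemma mul_X_pow_mem_iff {k : Type u} [CommRing k] {d : ℕ} (S : Set (Fin d)) (i : Fin d) (hi : i ∉ S) (e m : ℕ)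
    (y : MvPolynomial (Fin d) k) (hy : X i ^ m * y ∈ Ideal.span ((fun j => X j ^ e) '' S)) :
    y ∈ Ideal.span ((fun j => (X j : MvPolynomial (Fin d) k) ^ e) '' S) := by
  classical
  have hset : (fun j => (X j : MvPolynomial (Fin d) k) ^ e) '' S =
      (fun t => monomial t (1 : k)) '' ((fun j => Finsupp.single j e) '' S) := by
    rw [Set.image_image]
    exact Set.image_congr fun j _ => X_pow_eq_monomial
  rw [hset, MvPolynomial.mem_ideal_span_monomial_image] at hy ⊢
  intro t ht
  have hsupp : Finsupp.single i m + t ∈ (X i ^ m * y).support := by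
    rw [X_pow_eq_monomial, mem_support_iff, coeff_monomial_mul, one_mul]
    exact mem_support_iff.1 ht
  obtain ⟨_, ⟨j, hj, rfl⟩, hle⟩ := hy _ hsupp
  refine ⟨_, ⟨j, hj, rfl⟩, Finsupp.single_le_iff.2 ?_⟩
  have h := Finsupp.single_le_iff.1 hle
  rwa [Finsupp.add_apply, Finsupp.single_eq_of_ne (fun h' => hi (by subst h'; exact hj)), zero_add] at h

/-- The reduced problem: ind-smoothness gives a resolution. -/
lemma resolvable_of_indSmooth {R A Λ : Type u} [CommRing R] [CommRing A] [Algebra R A]
    [Algebra.FinitePresentation R A] [CommRing Λ] [Algebra R Λ] (h : IndSmooth R Λ) (φ : A →ₐ[R] Λ)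
    (𝔮 : Ideal Λ) (h𝔮 : 𝔮 ≠ ⊤) : Resolvable R φ 𝔮 := by
  obtain ⟨B, _, _, hB, g, l, hgl⟩ := h A inferInstance φ
  have : Algebra.FinitePresentation R B := hB.finitePresentation
  have h1 : (1 : B) ∈ singularIdeal R B := by
    rw [SmoothAtBasics.mem_singularIdeal_iff]
    intro Q hQ _
    exact (Algebra.smoothLocus_eq_univ_iff.2 hB.formallySmooth ▸ Set.mem_univ (⟨Q, hQ⟩ : PrimeSpectrum B) :
      (⟨Q, hQ⟩ : PrimeSpectrum B) ∈ Algebra.smoothLocus R B)
  have htop : singRad R l = ⊤ := by
    rw [singRad, Ideal.radical_eq_top, Ideal.eq_top_iff_one, ← map_one l]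
    exact Ideal.mem_map_of_mem l h1
  exact ⟨B, inferInstance, inferInstance, inferInstance, g, l, hgl, by rw [htop]; exact le_top,
    by rw [htop, top_le_iff]; exact h𝔮⟩

theorem main {k A Λ : Type u} [Field k] [CommRing A]
    [Algebra k A] [Algebra.FinitePresentation k A] [CommRing Λ] [Algebra k Λ] [IsNoetherianRing Λ]
    (φ : A →ₐ[k] Λ) (𝔮 : Ideal Λ) [𝔮.IsPrime] (hmin : 𝔮 ∈ (Smoothing.singRad k φ).minimalPrimes)
    [IsRegularLocalRing (Localization.AtPrime 𝔮)]
    [Algebra.IsGeometricallyReduced k 𝔮.ResidueField] : Smoothing.Resolvable k φ 𝔮 := by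
  classical
  let Λq := Localization.AtPrime 𝔮
  let loc : Λ →+* Localization.AtPrime 𝔮 := algebraMap Λ _
  obtain ⟨d, hd⟩ : ∃ d : ℕ, ringKrullDim (Localization.AtPrime 𝔮) = d := by
    refine ⟨(IsLocalRing.maximalIdeal (Localization.AtPrime 𝔮)).spanFinrank, ?_⟩
    exact IsRegularLocalRing.spanFinrank_maximalIdeal.symm
  have : IsNoetherianRing A := Algebra.FiniteType.isNoetherianRing k A
  obtain ⟨s, a, ha⟩ := Submodule.fg_iff_exists_fin_generating_family.1 (IsNoetherian.noetherian (singularIdeal k A))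
  have haS : ∀ j, a j ∈ singularIdeal k A := fun j => (SetLike.ext_iff.1 ha _).1 (Submodule.subset_span ⟨j, rfl⟩)
  let I : Ideal Λ := Ideal.span (Set.range fun j => φ (a j))
  have hImap : I = (singularIdeal k A).map φ := by
    rw [← ha, Ideal.submodule_span_eq, Ideal.map_span, ← Set.range_comp]; rfl
  have hI𝔮 : I ≤ 𝔮 := hImap.trans_le (Ideal.le_radical.trans hmin.1.2)
  obtain ⟨n, hn, hpow⟩ : ∃ n, 0 < n ∧ (𝔮 ^ n).map loc ≤ I.map loc := by
    have hle : 𝔮.map loc ≤ (I.map loc).radical := by
      rw [Ideal.radical_eq_sInf]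
      refine le_sInf fun P ⟨hP, hPp⟩ => ?_
      have hPc : P.comap loc ≤ 𝔮 := by
        have h2 : (IsLocalRing.maximalIdeal (Localization.AtPrime 𝔮)).comap loc = 𝔮 :=
          IsLocalization.AtPrime.comap_maximalIdeal (Localization.AtPrime 𝔮) 𝔮
        exact (Ideal.comap_mono (IsLocalRing.le_maximalIdeal hPp.ne_top)).trans h2.le
      have hIP : singRad k φ ≤ P.comap loc :=
        (hPp.comap loc).radical_le_iff.2 (hImap ▸ Ideal.map_le_iff_le_comap.1 hP)
      exact Ideal.map_le_iff_le_comap.2 (hmin.2 ⟨hPp.comap loc, hIP⟩ hPc)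
    obtain ⟨n, hn⟩ := Ideal.exists_pow_le_of_le_radical_of_fg hle (IsNoetherian.noetherian _)
    refine ⟨n + 1, Nat.succ_pos _, ?_⟩
    rw [Ideal.map_pow]
    exact (Ideal.pow_le_pow_right (Nat.le_succ n)).trans hn
  obtain ⟨B, _, _, _, _, hB, α, hBa, hBx, hlift⟩ := Cover.exists_cover a haS n d
  obtain ⟨C, _, _, _, _, hCft, ⟨ρ⟩, hC⟩ :=
    FreeKaehler.exists_retract_smooth (R := MvPolynomial (Fin d) k) (A := B)
  have : Algebra.FiniteType (MvPolynomial (Fin d) k) C := Algebra.FiniteType.trans (S := B) inferInstance hCft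
  have hCfp : Algebra.FinitePresentation (MvPolynomial (Fin d) k) C :=
    Algebra.FinitePresentation.of_finiteType.1 inferInstance
  have : IsNoetherianRing C := Algebra.FiniteType.isNoetherianRing (MvPolynomial (Fin d) k) C
  have hsingC : ∀ b ∈ singularIdeal (MvPolynomial (Fin d) k) B,
      Algebra.Smooth (MvPolynomial (Fin d) k) (Localization.Away (algebraMap B C b)) := fun b hb => by
    have hsm := SmoothAtBasics.mem_singularIdeal_iff_smooth.1 hb
    exact { formallySmooth := (hC b hsm).1,
            finitePresentation := Algebra.FinitePresentation.trans (MvPolynomial (Fin d) k) C _ }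
  have hCx : ∀ i, ∃ e₀ : ℕ, ∀ N : ℕ, e₀ ≤ N → IsStrictlyStandard (MvPolynomial (Fin d) k) C
      (algebraMap (MvPolynomial (Fin d) k) C (X i) ^ N) := by
    intro i
    let c := algebraMap B C (algebraMap (MvPolynomial (Fin d) k) B (X i))
    have : Algebra.Smooth (MvPolynomial (Fin d) k) (Localization.Away c) := hsingC _ (hBx i)
    have : Module.Free (Localization.Away c) Ω[Localization.Away c⁄MvPolynomial (Fin d) k] :=
      (hC _ (SmoothAtBasics.mem_singularIdeal_iff_smooth.1 (hBx i))).2
    have : Module.Finite (Localization.Away c) Ω[Localization.Away c⁄MvPolynomial (Fin d) k] := inferInstance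
    let bs := (Module.Free.chooseBasis (Localization.Away c) Ω[Localization.Away c⁄MvPolynomial (Fin d) k]).reindex
      (Fintype.equivFin _)
    have hc : c = algebraMap (MvPolynomial (Fin d) k) C (X i) :=
      (IsScalarTower.algebraMap_apply (MvPolynomial (Fin d) k) B C (X i)).symm
    obtain ⟨e₀, he₀⟩ := StableFree.pow_isStrictlyStandard c 0 _
      (LinearEquiv.prodUnique.trans bs.equivFun)
    exact ⟨e₀, fun N hN => hc ▸ he₀ N hN⟩
  choose e₀ he₀ using hCx
  obtain ⟨M, hM0, hM⟩ : ∃ M, 0 < M ∧ ∀ i, e₀ i ≤ M := ⟨(∑ i, e₀ i) + 1, Nat.succ_pos _, fun i =>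
    (Finset.single_le_sum (f := e₀) (fun _ _ => Nat.zero_le _) (Finset.mem_univ i)).trans (Nat.le_succ _)⟩
  obtain ⟨π, hπspan, hπn, hπann⟩ := Parameters.exists_parameters_pow I 𝔮 n (8 * M) d hn (by omega) hpow hd
  obtain ⟨β, hβα, hβx⟩ := hlift φ π hπn
  let p : MvPolynomial (Fin d) k →ₐ[k] Λ := aeval π
  letI : Algebra (MvPolynomial (Fin d) k) Λ := p.toRingHom.toAlgebra
  have : IsScalarTower k (MvPolynomial (Fin d) k) Λ :=
    IsScalarTower.of_algebraMap_eq fun r => (p.commutes r).symm
  have hpX : ∀ i, algebraMap (MvPolynomial (Fin d) k) Λ (X i) = π i := fun i => aeval_X _ i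
  let φB : B →ₐ[MvPolynomial (Fin d) k] Λ :=
    { β.toRingHom with
      commutes' := fun r => by
        refine AlgHom.congr_fun (φ₁ := β.comp (IsScalarTower.toAlgHom k (MvPolynomial (Fin d) k) B))
          (φ₂ := IsScalarTower.toAlgHom k (MvPolynomial (Fin d) k) Λ) ?_ r
        exact MvPolynomial.algHom_ext fun i => (hβx i).trans (hpX i).symm }
  let φC : C →ₐ[MvPolynomial (Fin d) k] Λ := φB.comp (ρ.restrictScalars (MvPolynomial (Fin d) k))
  have hφC : ∀ b, φC (algebraMap B C b) = β b := fun b => congrArg β (ρ.commutes b)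
  have hπ𝔮 : ∀ i, π i ∈ 𝔮 := fun i => by
    refine (IsLocalization.AtPrime.to_map_mem_maximal_iff (Localization.AtPrime 𝔮) 𝔮 (π i)).1 ?_
    rw [← IsLocalization.AtPrime.map_eq_maximalIdeal 𝔮 (Localization.AtPrime 𝔮), ← hπspan]
    exact Ideal.subset_span ⟨i, rfl⟩
  let π' : Fin d → MvPolynomial (Fin d) k := fun i => X i ^ M
  have hπ' : ∀ i, algebraMap (MvPolynomial (Fin d) k) Λ (π' i) = π i ^ M := fun i => by rw [map_pow, hpX]
  let K : Ideal (MvPolynomial (Fin d) k) := Ideal.span (Set.range fun i => π' i ^ 8)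
  have hK𝔮 : K.map (algebraMap (MvPolynomial (Fin d) k) Λ) ≤ 𝔮 := by
    rw [Ideal.map_span, Ideal.span_le]
    rintro _ ⟨_, ⟨i, rfl⟩, rfl⟩
    rw [SetLike.mem_coe, map_pow, hπ', ← pow_mul]
    exact Ideal.pow_mem_of_mem _ (hπ𝔮 i) _ (by omega)
  let φK : (C ⧸ K.map (algebraMap (MvPolynomial (Fin d) k) C)) →ₐ[MvPolynomial (Fin d) k ⧸ K]
      (Λ ⧸ K.map (algebraMap (MvPolynomial (Fin d) k) Λ)) :=
    { Ideal.quotientMap _ φC.toRingHom (Ideal.map_le_iff_le_comap.2 fun r hr => by
        rw [Ideal.mem_comap, Ideal.mem_comap]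
        show φC (algebraMap _ C r) ∈ _
        rw [φC.commutes]; exact Ideal.mem_map_of_mem _ hr) with
      commutes' := fun r => by
        obtain ⟨r, rfl⟩ := Ideal.Quotient.mk_surjective r
        exact congrArg (Ideal.Quotient.mk _) (φC.commutes r) }
  have hresC : Smoothing.Resolvable (MvPolynomial (Fin d) k) φC 𝔮 := by
    refine ResolveMod.resolvable φC 𝔮 π' (fun i => ?_) (fun i x => ?_) (fun i x => ?_) (fun i => ?_) K rfl φK
      (fun c => rfl) ?_
    · rw [hπ']; exact Ideal.pow_mem_of_mem _ (hπ𝔮 i) _ hM0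
    · obtain ⟨x, rfl⟩ := Ideal.Quotient.mk_surjective x
      rw [← map_pow, ← map_mul, ← map_mul, Ideal.Quotient.eq_zero_iff_mem, Ideal.Quotient.eq_zero_iff_mem]
      intro hx
      have hs : Set.range (fun j : {j : Fin d // (j : ℕ) < (i : ℕ)} => π' j ^ 8) =
          (fun j => (X j : MvPolynomial (Fin d) k) ^ (M * 8)) '' {j | (j : ℕ) < (i : ℕ)} := by
        rw [show (fun j => (X j : MvPolynomial (Fin d) k) ^ (M * 8)) '' {j | (j : ℕ) < (i : ℕ)} =
          Set.range fun j : {j : Fin d // (j : ℕ) < (i : ℕ)} => (X (j : Fin d) : MvPolynomial (Fin d) k) ^ (M * 8) from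
          Set.image_eq_range _ _]
        simp only [π', ← pow_mul]
      rw [hs] at hx ⊢
      refine Ideal.mul_mem_left _ _ (mul_X_pow_mem_iff _ i (fun h => lt_irrefl (i : ℕ) h) _ (M * 2) x ?_)
      rwa [show (π' i) ^ 2 = X i ^ (M * 2) by simp only [π', ← pow_mul]] at hx
    · intro hx
      rw [hπ', map_pow] at hx ⊢
      have hJ : Ideal.span (Set.range fun j : {j : Fin d // (j : ℕ) < (i : ℕ)} =>
          algebraMap (MvPolynomial (Fin d) k) Λ (π' j ^ 8)) =
          Ideal.span (Set.range fun j : {j : Fin d // (j : ℕ) < (i : ℕ)} => π j ^ (8 * M)) := by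
        congr 2; funext j; rw [map_pow, hπ', ← pow_mul, mul_comm M 8]
      obtain ⟨x, rfl⟩ := Ideal.Quotient.mk_surjective x
      simp only [← map_pow, ← map_mul, Ideal.Quotient.eq_zero_iff_mem] at hx ⊢
      rw [hJ] at hx ⊢
      rw [← Ideal.Quotient.eq_zero_iff_mem, map_mul, map_pow, map_pow] at hx
      rw [← Ideal.Quotient.eq_zero_iff_mem, map_mul, map_pow]
      obtain ⟨M', rfl⟩ : ∃ M', M = M' + 1 := ⟨M - 1, by omega⟩
      rw [← pow_mul, show (M' + 1) * 2 = (2 * M' + 1) + 1 by ring] at hx
      rw [pow_succ, mul_assoc,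
        Desing.mul_pow_eq_zero (hπann i) (2 * M' + 1) hx, mul_zero]
    · rw [map_pow]; exact he₀ i M (hM i)
    · by_cases hle : singRad (MvPolynomial (Fin d) k ⧸ K) φK ≤
        𝔮.map (Ideal.Quotient.mk (K.map (algebraMap (MvPolynomial (Fin d) k) Λ)))
      swap
      · have : Algebra.FinitePresentation (MvPolynomial (Fin d) k ⧸ K) (C ⧸ K.map (algebraMap (MvPolynomial (Fin d) k) C)) := by
          have : Algebra.FinitePresentation (MvPolynomial (Fin d) k) (C ⧸ K.map (algebraMap (MvPolynomial (Fin d) k) C)) :=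
            Algebra.FinitePresentation.quotient (IsNoetherian.noetherian (K.map (algebraMap (MvPolynomial (Fin d) k) C)))
          exact .of_restrict_scalars_finitePresentation (MvPolynomial (Fin d) k) _ _
        exact ⟨_, inferInstance, inferInstance, this, AlgHom.id _ _, φK, AlgHom.comp_id _, le_rfl, hle⟩
      let R' := MvPolynomial (Fin d) k
      let R'' := MvPolynomial (Fin d) k ⧸ K
      let JL := K.map (algebraMap (MvPolynomial (Fin d) k) Λ)
      let Λ'' := Λ ⧸ K.map (algebraMap (MvPolynomial (Fin d) k) Λ)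
      let 𝔮'' : Ideal (Λ ⧸ K.map (algebraMap (MvPolynomial (Fin d) k) Λ)) := 𝔮.map (Ideal.Quotient.mk _)
      have hker : RingHom.ker (Ideal.Quotient.mk (K.map (algebraMap (MvPolynomial (Fin d) k) Λ))) ≤ 𝔮 := by
        rw [Ideal.mk_ker]; exact hK𝔮
      have h𝔮'' : 𝔮''.IsPrime := Ideal.map_isPrime_of_surjective Ideal.Quotient.mk_surjective hker
      have hcomap : 𝔮''.comap (Ideal.Quotient.mk _) = 𝔮 :=
        (Ideal.comap_map_of_surjective' _ Ideal.Quotient.mk_surjective 𝔮).trans (sup_eq_left.2 hker)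
      have : Algebra.FinitePresentation (MvPolynomial (Fin d) k) (C ⧸ K.map (algebraMap (MvPolynomial (Fin d) k) C)) :=
        Algebra.FinitePresentation.quotient (IsNoetherian.noetherian (K.map (algebraMap (MvPolynomial (Fin d) k) C)))
      have hfpC : Algebra.FinitePresentation (MvPolynomial (Fin d) k ⧸ K) (C ⧸ K.map (algebraMap (MvPolynomial (Fin d) k) C)) :=
        .of_restrict_scalars_finitePresentation (MvPolynomial (Fin d) k) _ _
      have hmin'' : 𝔮'' ∈ (singRad (MvPolynomial (Fin d) k ⧸ K) φK).minimalPrimes := by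
        refine ⟨⟨h𝔮'', hle⟩, fun P ⟨hP, hPs⟩ hPq => ?_⟩
        have h0 : singRad k φ ≤ P.comap (Ideal.Quotient.mk _) := by
          refine (hP.comap _).radical_le_iff.2 ?_
          rw [← hImap, Ideal.span_le]
          rintro _ ⟨j, rfl⟩
          have hmem : φK (Ideal.Quotient.mk _ (algebraMap B C (α (a j)))) ∈ singRad (MvPolynomial (Fin d) k ⧸ K) φK :=
            Ideal.le_radical (Ideal.mem_map_of_mem _ (ResolveMod.singularIdeal_map_le_quotient K
              (SmoothAtBasics.mem_singularIdeal_iff_smooth.2 (hsingC _ (hBa j)))))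
          have he : φC (algebraMap B C (α (a j))) = φ (a j) := (hφC _).trans (AlgHom.congr_fun hβα _)
          have := hPs hmem
          show Ideal.Quotient.mk _ (φ (a j)) ∈ P
          rw [← he]; exact this
        have := hmin.2 ⟨hP.comap _, h0⟩ (hcomap ▸ Ideal.comap_mono hPq)
        exact Ideal.map_le_iff_le_comap.2 this
      -- the localized quotient
      have : IsScalarTower (MvPolynomial (Fin d) k) Λ (Localization.AtPrime 𝔮) := inferInstance
      let JQ : Ideal (Localization.AtPrime 𝔮) := (K.map (algebraMap (MvPolynomial (Fin d) k) Λ)).map (algebraMap Λ _)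
      let Λq'' := Localization.AtPrime 𝔮 ⧸ JQ
      have hsub : Algebra.algebraMapSubmonoid (Λ ⧸ K.map (algebraMap (MvPolynomial (Fin d) k) Λ)) 𝔮.primeCompl = 𝔮''.primeCompl := by
        ext z
        constructor
        · rintro ⟨y, hy, rfl⟩ hz
          exact hy (hcomap ▸ hz)
        · intro hz
          obtain ⟨y, rfl⟩ := Ideal.Quotient.mk_surjective z
          exact ⟨y, fun hy => hz (Ideal.mem_map_of_mem _ hy), rfl⟩
      have hlocΛ : IsLocalization.AtPrime Λq'' 𝔮'' := by
        have : IsLocalization (Algebra.algebraMapSubmonoid (Λ ⧸ K.map (algebraMap (MvPolynomial (Fin d) k) Λ)) 𝔮.primeCompl) Λq'' := inferInstance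
        rwa [hsub] at this
      let 𝔭'' : Ideal (MvPolynomial (Fin d) k ⧸ K) := 𝔮''.comap (algebraMap _ _)
      have hXnil : ∀ i, IsNilpotent (Ideal.Quotient.mk K (X i)) := fun i => ⟨M * 8, by
        rw [← map_pow, Ideal.Quotient.eq_zero_iff_mem, pow_mul]; exact Ideal.subset_span ⟨i, rfl⟩⟩
      let I0 : Ideal (MvPolynomial (Fin d) k ⧸ K) := Ideal.span (Set.range fun i => Ideal.Quotient.mk K (X i))
      have hI0 : IsNilpotent I0 := by
        refine (Ideal.FG.isNilpotent_iff_le_nilradical (Submodule.fg_span (Set.finite_range _))).2 ?_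
        rw [Ideal.span_le]
        rintro _ ⟨i, rfl⟩
        exact hXnil i
      have hdec : ∀ r : MvPolynomial (Fin d) k, ∃ c : k, Ideal.Quotient.mk K r - Ideal.Quotient.mk K (MvPolynomial.C c) ∈ I0 := by
        intro r
        induction r using MvPolynomial.induction_on with
        | C c => exact ⟨c, by simp⟩
        | add p q hp hq =>
          obtain ⟨c, hc⟩ := hp; obtain ⟨c', hc'⟩ := hq
          exact ⟨c + c', by rw [map_add, map_add, map_add, add_sub_add_comm]; exact add_mem hc hc'⟩
        | mul_X p i hp =>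
          refine ⟨0, ?_⟩
          rw [map_zero, map_zero, sub_zero, map_mul]
          exact Ideal.mul_mem_left _ _ (Ideal.subset_span ⟨i, rfl⟩)
      have hlocR : IsLocalization.AtPrime (MvPolynomial (Fin d) k ⧸ K) 𝔭'' := by
        refine IsLocalization.self fun z hz => ?_
        obtain ⟨r, rfl⟩ := Ideal.Quotient.mk_surjective z
        obtain ⟨c, hc⟩ := hdec r
        obtain ⟨N, hN⟩ := hI0
        have hnil : IsNilpotent (Ideal.Quotient.mk K r - Ideal.Quotient.mk K (MvPolynomial.C c)) :=
          ⟨N, Ideal.mem_bot.1 (by rw [← Ideal.zero_eq_bot, ← hN]; exact Ideal.pow_mem_pow hc N)⟩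
        have hc0 : c ≠ 0 := by
          rintro rfl
          rw [map_zero, map_zero, sub_zero] at hnil
          obtain ⟨N, hN⟩ := hnil
          have : (Ideal.Quotient.mk K r) ^ N ∈ 𝔭'' := by rw [hN]; exact zero_mem _
          exact hz (Ideal.IsPrime.mem_of_pow_mem inferInstance _ this)
        have hu : IsUnit (Ideal.Quotient.mk K (MvPolynomial.C c)) := ((Ne.isUnit hc0).map MvPolynomial.C).map _
        rw [show Ideal.Quotient.mk K r = Ideal.Quotient.mk K (MvPolynomial.C c) + (Ideal.Quotient.mk K r - Ideal.Quotient.mk K (MvPolynomial.C c)) by ring]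
        exact hnil.isUnit_add_left_of_commute hu (Commute.all _ _)
      letI : Algebra (MvPolynomial (Fin d) k ⧸ K) Λq'' :=
        ((algebraMap (Λ ⧸ K.map (algebraMap (MvPolynomial (Fin d) k) Λ)) Λq'').comp
          (algebraMap (MvPolynomial (Fin d) k ⧸ K) (Λ ⧸ K.map (algebraMap (MvPolynomial (Fin d) k) Λ)))).toAlgebra
      have : IsScalarTower (MvPolynomial (Fin d) k ⧸ K) (Λ ⧸ K.map (algebraMap (MvPolynomial (Fin d) k) Λ)) Λq'' :=
        IsScalarTower.of_algebraMap_eq' rfl
      have hdim : ringKrullDim Λq'' = 0 := by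
        have hminP : 𝔮'' ∈ minimalPrimes (Λ ⧸ K.map (algebraMap (MvPolynomial (Fin d) k) Λ)) := by
          refine ⟨⟨h𝔮'', bot_le⟩, fun P ⟨hP, _⟩ hPq => ?_⟩
          refine Ideal.map_le_iff_le_comap.2 ?_
          have h1 : 𝔮.map loc ≤ (P.comap (Ideal.Quotient.mk _)).map loc := by
            rw [← hπspan, Ideal.span_le]
            rintro _ ⟨i, rfl⟩
            refine Ideal.mem_map_of_mem _ ((hP.comap _).mem_of_pow_mem (M * 8) ?_)
            rw [Ideal.mem_comap, Ideal.Quotient.eq_zero_iff_mem.2 (show π i ^ (M * 8) ∈ _ from ?_)]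
            · exact zero_mem _
            · rw [pow_mul, ← hπ', ← map_pow]
              exact Ideal.mem_map_of_mem _ (Ideal.subset_span ⟨i, rfl⟩)
          intro z hz
          obtain ⟨m, hm, hmz⟩ := (IsLocalization.algebraMap_mem_map_algebraMap_iff 𝔮.primeCompl
            (Localization.AtPrime 𝔮) _ z).1 (h1 (Ideal.mem_map_of_mem loc hz))
          have hmP : m ∉ P.comap (Ideal.Quotient.mk _) := fun h => hm (hcomap ▸ Ideal.comap_mono hPq h)
          exact ((hP.comap _).mem_or_mem hmz).resolve_left hmP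
        have := IsLocalization.AtPrime.isLocalRing Λq'' 𝔮''
        have : Ring.KrullDimLE 0 Λq'' := Ring.KrullDimLE.of_isLocalization 𝔮'' hminP Λq''
        exact ringKrullDimZero_iff_ringKrullDim_eq_zero.1 inferInstance
      have : IsScalarTower (MvPolynomial (Fin d) k ⧸ K) (MvPolynomial (Fin d) k ⧸ K) Λq'' :=
        ⟨fun a b z => mul_smul a b z⟩
      refine Delocalize.resolvable_of_dim_zero φK 𝔮'' (Rₚ := MvPolynomial (Fin d) k ⧸ K) (Λq := Λq'') hmin'' hdim ?_
      refine resolvable_of_indSmooth ?_ _ _ ?_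
      swap
      · have := IsLocalization.AtPrime.isLocalRing Λq'' 𝔮''
        rw [IsLocalization.AtPrime.map_eq_maximalIdeal 𝔮'' Λq'']
        exact (IsLocalRing.maximalIdeal.isMaximal _).ne_top
      -- ind-smoothness of the Artinian localization
      have hflat : Module.Flat (MvPolynomial (Fin d) k) (Localization.AtPrime 𝔮) :=
        flat_of_params hd (by
          rw [← IsLocalization.AtPrime.map_eq_maximalIdeal 𝔮 (Localization.AtPrime 𝔮), ← hπspan]
          congr 2; funext i
          show loc (algebraMap (MvPolynomial (Fin d) k) Λ (X i)) = _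
          rw [hpX])
      have : Module.Flat (MvPolynomial (Fin d) k ⧸ K) Λq'' := by
        have hJQ : K.map (algebraMap (MvPolynomial (Fin d) k) (Localization.AtPrime 𝔮)) = JQ := by
          show _ = (K.map _).map _
          rw [Ideal.map_map]; rfl
        let E0 := (Algebra.TensorProduct.comm (MvPolynomial (Fin d) k) (MvPolynomial (Fin d) k ⧸ K) (Localization.AtPrime 𝔮)).trans
          (((Algebra.TensorProduct.quotIdealMapEquivTensorQuot (Localization.AtPrime 𝔮) K).symm.restrictScalars (MvPolynomial (Fin d) k)).trans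
            (Ideal.quotientEquivAlgOfEq (MvPolynomial (Fin d) k) hJQ))
        let e : (MvPolynomial (Fin d) k ⧸ K) ⊗[MvPolynomial (Fin d) k] Localization.AtPrime 𝔮 ≃ₗ[MvPolynomial (Fin d) k ⧸ K] Λq'' :=
          { E0.toLinearEquiv with
            map_smul' := fun c x => by
              obtain ⟨c, rfl⟩ := Ideal.Quotient.mk_surjective c
              show E0 (Ideal.Quotient.mk K c • x) = Ideal.Quotient.mk K c • E0 x
              rw [show (Ideal.Quotient.mk K c • x) = c • x from algebraMap_smul (MvPolynomial (Fin d) k ⧸ K) c x, map_smul]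
              obtain ⟨y, hy⟩ := Ideal.Quotient.mk_surjective (E0 x)
              rw [← hy]
              show Ideal.Quotient.mk JQ (c • y) = algebraMap (MvPolynomial (Fin d) k ⧸ K) Λq'' (Ideal.Quotient.mk K c) * Ideal.Quotient.mk JQ y
              rw [Algebra.smul_def, map_mul]
              rfl }
        exact Module.Flat.of_linearEquiv e.symm
      refine NilLift.indSmooth_of_isNilpotent I0 hI0 ?_
      let e0 : k →+* (MvPolynomial (Fin d) k ⧸ K) ⧸ I0 :=
        (Ideal.Quotient.mk I0).comp ((Ideal.Quotient.mk K).comp MvPolynomial.C)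
      have hI0ne : I0 ≠ ⊤ := by
        intro h
        obtain ⟨N, hN⟩ := hI0
        rw [h, Ideal.top_pow, Ideal.zero_eq_bot] at hN
        have : (1 : MvPolynomial (Fin d) k ⧸ K) = 0 := Ideal.mem_bot.1 (hN ▸ Submodule.mem_top)
        have h1 : (1 : MvPolynomial (Fin d) k) ∈ K := Ideal.Quotient.eq_zero_iff_mem.1 (by rw [map_one]; exact this)
        have h2 := hK𝔮 (Ideal.mem_map_of_mem _ h1)
        rw [map_one] at h2
        exact Ideal.IsPrime.ne_top' ((Ideal.eq_top_iff_one _).2 h2)
      have : Nontrivial ((MvPolynomial (Fin d) k ⧸ K) ⧸ I0) := Ideal.Quotient.nontrivial_iff.2 hI0ne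
      have he0 : Function.Bijective e0 := ⟨RingHom.injective e0, fun z => by
        obtain ⟨z, rfl⟩ := Ideal.Quotient.mk_surjective z
        obtain ⟨r, rfl⟩ := Ideal.Quotient.mk_surjective z
        obtain ⟨c, hc⟩ := hdec r
        exact ⟨c, (Ideal.Quotient.eq.2 hc).symm⟩⟩
      have hmax : I0.map (algebraMap (MvPolynomial (Fin d) k ⧸ K) Λq'') =
          (IsLocalRing.maximalIdeal (Localization.AtPrime 𝔮)).map (Ideal.Quotient.mk JQ) := by
        rw [← IsLocalization.AtPrime.map_eq_maximalIdeal 𝔮 (Localization.AtPrime 𝔮), ← hπspan, Ideal.map_span,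
          Ideal.map_span, ← Set.range_comp, ← Set.range_comp]
        congr 2
        funext i
        show Ideal.Quotient.mk JQ (algebraMap Λ (Localization.AtPrime 𝔮) (algebraMap (MvPolynomial (Fin d) k) Λ (X i))) = _
        rw [hpX]; rfl
      have hJQle : JQ ≤ IsLocalRing.maximalIdeal (Localization.AtPrime 𝔮) := by
        rw [← IsLocalization.AtPrime.map_eq_maximalIdeal 𝔮 (Localization.AtPrime 𝔮)]
        exact Ideal.map_mono hK𝔮
      refine NilLift.indSmooth_transport (R₁ := k) (Λ₁ := 𝔮.ResidueField) (RingEquiv.ofBijective e0 he0)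
        ((DoubleQuot.quotQuotEquivQuotOfLE hJQle).symm.trans (Ideal.quotEquivOfEq hmax.symm)) (fun r => ?_)
        UnramifiedDVR.indSmooth_field
      show _ = Ideal.Quotient.mk _ (Ideal.Quotient.mk JQ (loc (algebraMap (MvPolynomial (Fin d) k) Λ (MvPolynomial.C r))))
      rw [show algebraMap (MvPolynomial (Fin d) k) Λ (MvPolynomial.C r) = algebraMap k Λ r from aeval_C π r]
      rfl
  obtain ⟨C2, _, _, hC2, g2, h2, hgh2, hle2, hn2⟩ := hresC
  letI : Algebra k C2 := ((algebraMap (MvPolynomial (Fin d) k) C2).comp (algebraMap k (MvPolynomial (Fin d) k))).toAlgebra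
  have : IsScalarTower k (MvPolynomial (Fin d) k) C2 := IsScalarTower.of_algebraMap_eq' rfl
  let g : A →ₐ[k] C2 :=
    { g2.toRingHom.comp ((algebraMap B C).comp α.toRingHom) with
      commutes' := fun x => by
        show g2 (algebraMap B C (α (algebraMap k A x))) = _
        rw [α.commutes, IsScalarTower.algebraMap_apply k (MvPolynomial (Fin d) k) B, ← IsScalarTower.algebraMap_apply,
          g2.commutes]
        rfl }
  have hmono : singRad (MvPolynomial (Fin d) k) h2 ≤ singRad k (h2.restrictScalars k) := by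
    refine Ideal.radical_mono (Ideal.map_mono fun z hz => ?_)
    rw [SmoothAtBasics.mem_singularIdeal_iff] at hz ⊢
    intro Q hQ hzQ
    have : Algebra.FormallySmooth (MvPolynomial (Fin d) k) (Localization.AtPrime Q) := hz Q hzQ
    exact Algebra.FormallySmooth.comp k (MvPolynomial (Fin d) k) (Localization.AtPrime Q)
  refine ⟨C2, inferInstance, inferInstance, Algebra.FinitePresentation.trans k (MvPolynomial (Fin d) k) C2, g,
    h2.restrictScalars k, AlgHom.ext fun x => ?_, ?_, fun h => hn2 (hmono.trans h)⟩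
  · show h2 (g2 (algebraMap B C (α x))) = φ x
    exact (AlgHom.congr_fun hgh2 _).trans ((hφC _).trans (AlgHom.congr_fun hβα x))
  · refine (Ideal.radical_isRadical _).radical_le_iff.2 ?_
    rw [← hImap, Ideal.span_le]
    rintro _ ⟨j, rfl⟩
    refine hmono (hle2 (Ideal.le_radical ?_))
    show φ (a j) ∈ _
    rw [← show φC (algebraMap B C (α (a j))) = φ (a j) from (hφC _).trans (AlgHom.congr_fun hβα _)]
    exact Ideal.mem_map_of_mem _ (SmoothAtBasics.mem_singularIdeal_iff_smooth.2 (hsingC _ (hBa j)))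

end Groth.NeronArea.ResolveRegular
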