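import Groth.Prelude.Def_Smoothing
import Mathlib.RingTheory.TensorProduct.MvPolynomial
import Mathlib.LinearAlgebra.TensorProduct.RightExactness

/-! Base change of marked presentations. -/

open MvPolynomial
open scoped TensorProduct

namespace Groth.NeronArea.StandardBC

universe u

variable {R A : Type u} (R' : Type u) [CommRing R] [CommRing A] [Algebra R A] [CommRing R'] [Algebra R R']

noncomputable def bcHom (P : Smoothing.MarkedPresentation R A) :
    MvPolynomial (Fin P.n) R' →ₐ[R'] R' ⊗[R] A :=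
  (Algebra.TensorProduct.map (AlgHom.id R' R') P.hom).comp (algebraTensorAlgEquiv R R').symm.toAlgHom

lemma bcHom_map (P : Smoothing.MarkedPresentation R A) (p : MvPolynomial (Fin P.n) R) :
    bcHom R' P (map (algebraMap R R') p) = 1 ⊗ₜ P.hom p := by
  simp [bcHom]

noncomputable abbrev bc (P : Smoothing.MarkedPresentation R A) :
    Smoothing.MarkedPresentation R' (R' ⊗[R] A) where
  n := P.n
  m := P.m
  c := P.c
  hcn := P.hcn
  hcm := P.hcm
  rel j := map (algebraMap R R') (P.rel j)
  hom := bcHom R' P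
  surj := (Algebra.TensorProduct.map_surjective (AlgHom.id R' R') P.hom Function.surjective_id P.surj).comp
    (algebraTensorAlgEquiv R R').symm.surjective
  ker_eq := by
    refine le_antisymm (fun x hx => ?_) (Ideal.span_le.2 ?_)
    · have H := Algebra.TensorProduct.lTensor_ker (A := R') P.hom P.surj
      have H' : (algebraTensorAlgEquiv R R').symm x ∈
          RingHom.ker (Algebra.TensorProduct.map (AlgHom.id R R') P.hom) := hx
      rw [H, show RingHom.ker P.hom = Ideal.span (Set.range P.rel) from P.ker_eq, Ideal.map_span] at H'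
      have h2 := Ideal.mem_map_of_mem (algebraTensorAlgEquiv (σ := Fin P.n) R R').toAlgHom H'
      rw [Ideal.map_span, ← Set.range_comp, ← Set.range_comp] at h2
      convert h2 using 1
      · congr 1; congr 1; funext j; simp
      · exact ((algebraTensorAlgEquiv R R').apply_symm_apply x).symm
    · rintro _ ⟨j, rfl⟩
      show bcHom R' P _ = 0
      rw [bcHom_map, show P.hom (P.rel j) = 0 from
        RingHom.mem_ker.1 (P.ker_eq ▸ Ideal.subset_span ⟨j, rfl⟩), TensorProduct.tmul_zero]

lemma jacobianMinor_bc (P : Smoothing.MarkedPresentation R A) {c : ℕ} (rows : Fin c → Fin P.m)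
    (cols : Fin c → Fin P.n) :
    Smoothing.jacobianMinor (n := P.n) (m := P.m) (fun j => map (algebraMap R R') (P.rel j)) rows cols =
      map (algebraMap R R') (Smoothing.jacobianMinor P.rel rows cols) := by
  rw [Smoothing.jacobianMinor, Smoothing.jacobianMinor, RingHom.map_det]
  congr 1
  ext j k
  simp [pderiv_map]

lemma killsTail_bc (P : Smoothing.MarkedPresentation R A) {a : A} (h : Smoothing.KillsTail P a) :
    Smoothing.KillsTail (bc R' P) (1 ⊗ₜ a) := by
  intro (b : MvPolynomial (Fin P.n) R') hb (j : Fin P.m) hj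
  obtain ⟨a₀, ha₀⟩ := P.surj a
  have h1 : b - map (algebraMap R R') a₀ ∈ Ideal.span (Set.range (bc R' P).rel) := by
    rw [← (bc R' P).ker_eq, RingHom.mem_ker]
    show bcHom R' P _ = 0
    rw [map_sub, bcHom_map, ha₀, sub_eq_zero]; exact hb
  have h2 := Ideal.mem_map_of_mem (map (algebraMap R R') (σ := Fin P.n)) (h a₀ ha₀ j hj)
  rw [Ideal.map_sup, Ideal.map_pow, Ideal.map_span, Ideal.map_span, ← Set.range_comp, Set.image_image,
    map_mul] at h2
  have h3 : (b - map (algebraMap R R') a₀) * (bc R' P).rel j ∈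
      Ideal.span (Set.range (bc R' P).rel) ^ 2 := by
    rw [sq]; exact Ideal.mul_mem_mul h1 (Ideal.subset_span ⟨j, rfl⟩)
  have h4 := add_mem (Ideal.mem_sup_right
    (S := Ideal.span ((bc R' P).rel '' {j' : Fin P.m | (j' : ℕ) < P.c})) h3) h2
  rwa [show (bc R' P).rel j = map (algebraMap R R') (P.rel j) from rfl, ← add_mul, sub_add_cancel] at h4

theorem elementary_bc {a : A} (h : Smoothing.IsElementaryStandard R A a) :
    Smoothing.IsElementaryStandard R' (R' ⊗[R] A) ((1 : R') ⊗ₜ[R] a) := by
  obtain ⟨P, ⟨a', ha⟩, hk⟩ := h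
  refine ⟨bc R' P, ⟨1 ⊗ₜ a', ?_⟩, killsTail_bc R' P hk⟩
  show _ = _ * bcHom R' P (Smoothing.jacobianMinor (n := P.n) (m := P.m) (fun j => map (algebraMap R R') (P.rel j)) (Fin.castLE P.hcm) (Fin.castLE P.hcn))
  rw [jacobianMinor_bc, bcHom_map, Algebra.TensorProduct.tmul_mul_tmul, mul_one, ha]

theorem strictly_bc {a : A} (h : Smoothing.IsStrictlyStandard R A a) :
    Smoothing.IsStrictlyStandard R' (R' ⊗[R] A) ((1 : R') ⊗ₜ[R] a) := by
  obtain ⟨P, ha, hk⟩ := h
  refine ⟨bc R' P, ?_, killsTail_bc R' P hk⟩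
  have := Ideal.mem_map_of_mem (Algebra.TensorProduct.includeRight : A →ₐ[R] R' ⊗[R] A) ha
  rw [Ideal.map_span, ← Set.range_comp] at this
  refine Eq.mp (congrArg (fun I : Ideal (R' ⊗[R] A) => (1 : R') ⊗ₜ[R] a ∈ I) ?_) this
  congr 2
  funext cols
  symm
  show bcHom R' P (Smoothing.jacobianMinor (n := P.n) (m := P.m) (fun j => map (algebraMap R R') (P.rel j)) (Fin.castLE P.hcm) cols) = _
  rw [jacobianMinor_bc, bcHom_map]; rfl

end Groth.NeronArea.StandardBC
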