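import Groth.Agent.NeronArea.Desingularize
import Groth.Agent.NeronArea.StandardBaseChange
import Mathlib.RingTheory.Noetherian.Basic
import Mathlib.RingTheory.FiniteStability

/-! Desingularization relative to an approximate lift. -/

open Smoothing
open scoped TensorProduct

set_option linter.style.haveILetI false

namespace Groth.NeronArea.Desing

universe u

/-- Where `D` is smooth the annihilator condition holds after multiplying by a power. -/
theorem exists_pow_annihilator {R D : Type u} [CommRing R] [IsNoetherianRing R] [CommRing D] [Algebra R D]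
    [Algebra.FinitePresentation R D] (π : R) (hR : ∀ r : R, π ^ 2 * r = 0 → π * r = 0) (d : D)
    (hd : d ∈ singularIdeal R D) :
    ∃ N : ℕ, ∀ x : D, algebraMap R D π ^ 2 * x = 0 → algebraMap R D π * (d ^ N * x) = 0 := by
  classical
  have : IsNoetherianRing D := Algebra.FiniteType.isNoetherianRing R D
  have hsm := SmoothAtBasics.mem_singularIdeal_iff_smooth.1 hd
  let p := algebraMap R D π
  have key : ∀ x : D, p ^ 2 * x = 0 → ∃ k, d ^ k * (p * x) = 0 := by
    intro x hx
    have h0 : algebraMap R (Localization.Away d) π ^ 2 * algebraMap D (Localization.Away d) x = 0 := by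
      rw [IsScalarTower.algebraMap_apply R D (Localization.Away d), ← map_pow, ← map_mul, hx, map_zero]
    have h1 := annihilator_of_flat (r := (1 : R)) (fun y hy => by rw [one_mul]; exact hR y hy) _ h0
    rw [map_one, one_mul, IsScalarTower.algebraMap_apply R D (Localization.Away d), ← map_mul] at h1
    obtain ⟨⟨_, k, rfl⟩, hk⟩ := (IsLocalization.map_eq_zero_iff (Submonoid.powers d) _ _).1 h1
    exact ⟨k, hk⟩
  let K : Ideal D :=
    { carrier := {x | p ^ 2 * x = 0}
      zero_mem' := mul_zero _
      add_mem' := fun {a b} (ha : p ^ 2 * a = 0) (hb : p ^ 2 * b = 0) => by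
        show p ^ 2 * (a + b) = 0
        rw [mul_add, ha, hb, add_zero]
      smul_mem' := fun c a (ha : p ^ 2 * a = 0) => by
        show p ^ 2 * (c * a) = 0
        rw [mul_left_comm, ha, mul_zero] }
  obtain ⟨s, hs⟩ := (IsNoetherian.noetherian K : K.FG)
  choose k hk using fun x : s => key x.1 (show (x : D) ∈ K from hs ▸ Submodule.subset_span x.2)
  refine ⟨Finset.univ.sup k, fun x hx => ?_⟩
  have hxK : x ∈ Ideal.span (s : Set D) := by
    rw [show Ideal.span (s : Set D) = K from hs]; exact hx
  induction hxK using Submodule.span_induction with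
  | mem z hz =>
    obtain ⟨j, hj⟩ := Nat.exists_eq_add_of_le (Finset.le_sup (f := k) (Finset.mem_univ (⟨z, hz⟩ : s)))
    rw [hj, pow_add]
    linear_combination d ^ j * hk ⟨z, hz⟩
  | zero => simp
  | add a b ha hb iha ihb =>
    have hm : ∀ z, z ∈ Submodule.span D (s : Set D) → p ^ 2 * z = 0 := fun z hz => by
      rw [hs] at hz; exact hz
    rw [mul_add, mul_add, iha (hm a ha), ihb (hm b hb), add_zero]
  | smul c a ha iha =>
    have hm : p ^ 2 * a = 0 := by rw [hs] at ha; exact ha
    rw [smul_eq_mul]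
    linear_combination c * iha hm

theorem desingularize_lift {R Λ A D : Type u} [CommRing R] [IsNoetherianRing R]
    [CommRing Λ] [Algebra R Λ] (π : R) (hR : ∀ r : R, π ^ 2 * r = 0 → π * r = 0)
    (hΛ : ∀ x : Λ, π ^ 2 • x = 0 → π • x = 0) [CommRing A] [Algebra R A]
    [Algebra.FinitePresentation R A] [CommRing D] [Algebra R D] [Algebra.FinitePresentation R D]
    (φ : A →ₐ[R] Λ) (δ : D →ₐ[R] Λ) (hπ : Smoothing.IsStrictlyStandard R A (algebraMap R A π))
    (ψ : A →ₐ[R] D ⧸ Ideal.span {algebraMap R D (π ^ 4)})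
    (hψ : ∀ (a : A) (d : D), Ideal.Quotient.mk (Ideal.span {algebraMap R D (π ^ 4)}) d = ψ a →
      δ d - φ a ∈ Ideal.span {algebraMap R Λ (π ^ 4)}) :
    ∃ (B : Type u) (_ : CommRing B) (_ : Algebra R B) (_ : Algebra D B) (_ : IsScalarTower R D B),
      Algebra.FinitePresentation R B ∧
      ∃ (α : A →ₐ[R] B) (β : B →ₐ[R] Λ), β.comp α = φ ∧
        β.comp (IsScalarTower.toAlgHom R D B) = δ ∧
        (Smoothing.singularIdeal R D).map (algebraMap D B) ≤ Smoothing.singularIdeal D B ∧
        (Smoothing.singularIdeal R D).map (algebraMap D B) ≤ Smoothing.singularIdeal R B := by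
  classical
  have : IsNoetherianRing D := Algebra.FiniteType.isNoetherianRing R D
  letI : Algebra D Λ := δ.toRingHom.toAlgebra
  have : IsScalarTower R D Λ := IsScalarTower.of_algebraMap_eq fun r => (δ.commutes r).symm
  let p := algebraMap R D π
  let φD : D ⊗[R] A →ₐ[D] Λ := Algebra.TensorProduct.lift (Algebra.ofId D Λ) φ fun _ _ => Commute.all _ _
  have hI : (Ideal.span {algebraMap R D (π ^ 4)} : Ideal D) = Ideal.span {p ^ 4} := by rw [map_pow]
  let ψ' : A →ₐ[R] D ⧸ Ideal.span {p ^ 4} := (Ideal.quotientEquivAlgOfEq R hI).toAlgHom.comp ψ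
  let ρ : D ⊗[R] A →ₐ[D] D ⧸ Ideal.span {p ^ 4} :=
    Algebra.TensorProduct.lift (Algebra.ofId D _) ψ' fun _ _ => Commute.all _ _
  have hstd : IsStrictlyStandard D (D ⊗[R] A) (algebraMap D (D ⊗[R] A) p) := by
    have := StandardBC.strictly_bc D hπ
    rwa [show ((1 : D) ⊗ₜ[R] algebraMap R A π) = algebraMap D (D ⊗[R] A) p by
      rw [Algebra.TensorProduct.algebraMap_apply, Algebra.algebraMap_eq_smul_one (A := A),
        ← TensorProduct.smul_tmul, ← Algebra.algebraMap_eq_smul_one]
      rfl] at this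
  let IΛ : Ideal Λ := Ideal.span {algebraMap D Λ (p ^ 4)}
  have hIΛ : Ideal.span {algebraMap R Λ (π ^ 4)} = IΛ := by
    show _ = Ideal.span {algebraMap D Λ (p ^ 4)}
    rw [← map_pow (algebraMap R D), ← IsScalarTower.algebraMap_apply]
  have hρ : ∀ (a : D ⊗[R] A) (r : D), Ideal.Quotient.mk (Ideal.span {p ^ 4}) r = ρ a →
      algebraMap D Λ r - φD a ∈ IΛ := by
    intro a r hr
    obtain ⟨ra, hra⟩ := Ideal.Quotient.mk_surjective (ρ a)
    have hdiff : algebraMap D Λ (r - ra) ∈ IΛ := by
      have h := Ideal.mem_map_of_mem (algebraMap D Λ) (Ideal.Quotient.eq.1 (hr.trans hra.symm))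
      rwa [Ideal.map_span, Set.image_singleton] at h
    suffices h : algebraMap D Λ ra - φD a ∈ IΛ by
      have := add_mem hdiff h
      rwa [map_sub, sub_add_sub_cancel] at this
    clear hdiff hr
    induction a generalizing ra with
    | zero =>
      rw [map_zero, Ideal.Quotient.eq_zero_iff_mem] at hra
      rw [map_zero, sub_zero]
      have h := Ideal.mem_map_of_mem (algebraMap D Λ) hra
      rwa [Ideal.map_span, Set.image_singleton] at h
    | tmul d a =>
      obtain ⟨da, hda⟩ := Ideal.Quotient.mk_surjective (ψ a)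
      have h1 : δ da - φ a ∈ IΛ := hIΛ ▸ hψ a da hda
      have h2 : ρ (d ⊗ₜ a) = Ideal.Quotient.mk (Ideal.span {p ^ 4}) (d * da) := by
        show Algebra.TensorProduct.lift _ _ _ (d ⊗ₜ a) = _
        rw [Algebra.TensorProduct.lift_tmul, map_mul]
        congr 1
        show (Ideal.quotientEquivAlgOfEq R hI) (ψ a) = _
        rw [← hda]; rfl
      have h3 := Ideal.mem_map_of_mem (algebraMap D Λ) (Ideal.Quotient.eq.1 (hra.trans h2))
      rw [Ideal.map_span, Set.image_singleton] at h3
      have h4 : φD (d ⊗ₜ a) = δ d * φ a := by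
        show Algebra.TensorProduct.lift _ _ _ (d ⊗ₜ a) = _
        rw [Algebra.TensorProduct.lift_tmul]; rfl
      rw [h4]
      have := add_mem h3 (Ideal.mul_mem_left _ (δ d) h1)
      refine (?_ : (algebraMap D Λ ra - δ d * φ a) = algebraMap D Λ (ra - d * da) + δ d * (δ da - φ a)) ▸ this
      show δ ra - δ d * φ a = δ (ra - d * da) + δ d * (δ da - φ a)
      rw [map_sub, map_mul]; ring
    | add a b iha ihb =>
      obtain ⟨ua, hua⟩ := Ideal.Quotient.mk_surjective (ρ a)
      obtain ⟨ub, hub⟩ := Ideal.Quotient.mk_surjective (ρ b)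
      have h3 := Ideal.mem_map_of_mem (algebraMap D Λ) (Ideal.Quotient.eq.1
        (hra.trans (by rw [map_add, ← hua, ← hub, ← map_add]) : Ideal.Quotient.mk (Ideal.span {p ^ 4}) ra = Ideal.Quotient.mk _ (ua + ub)))
      rw [Ideal.map_span, Set.image_singleton] at h3
      have := add_mem h3 (add_mem (iha ua hua) (ihb ub hub))
      refine (?_ : (algebraMap D Λ ra - φD (a + b)) =
        algebraMap D Λ (ra - (ua + ub)) + ((algebraMap D Λ ua - φD a) + (algebraMap D Λ ub - φD b))) ▸ this
      rw [map_sub, map_add, map_add]; ring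
  have hΛD : ∀ x : Λ, p ^ 2 • x = 0 → p • x = 0 := fun x hx => by
    rw [algebraMap_smul D π x]
    refine hΛ x ?_
    rw [← algebraMap_smul D (π ^ 2) x, map_pow]
    exact hx
  obtain ⟨B, _, _, hB, α, β, hαβ, hsing⟩ := desingularize p hΛD φD hstd ρ hρ
  letI : Algebra R B := ((algebraMap D B).comp (algebraMap R D)).toAlgebra
  have : IsScalarTower R D B := IsScalarTower.of_algebraMap_eq' rfl
  have hfpR : Algebra.FinitePresentation R B := Algebra.FinitePresentation.trans R D B
  have h1 : (Smoothing.singularIdeal R D).map (algebraMap D B) ≤ Smoothing.singularIdeal D B := by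
    rw [Ideal.map_le_iff_le_comap]
    intro d hd
    obtain ⟨N, hN⟩ := exists_pow_annihilator π hR d hd
    have hN' := hsing (d ^ N) hN
    rw [Ideal.mem_comap, SmoothAtBasics.mem_singularIdeal_iff]
    intro Q hQ hdQ
    refine SmoothAtBasics.mem_singularIdeal_iff.1 hN' Q ?_
    rw [map_pow]
    exact fun h => hdQ (hQ.mem_of_pow_mem N h)
  have h2 : (Smoothing.singularIdeal R D).map (algebraMap D B) ≤ Smoothing.singularIdeal R B := by
    rw [Ideal.map_le_iff_le_comap]
    intro d hd
    rw [Ideal.mem_comap, SmoothAtBasics.mem_singularIdeal_iff]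
    intro Q hQ hdQ
    exact SmoothAtBasics.isSmoothAt_trans Q (SmoothAtBasics.mem_singularIdeal_iff.1 hd _ hdQ)
      (SmoothAtBasics.mem_singularIdeal_iff.1 (h1 (Ideal.mem_map_of_mem _ hd)) Q hdQ)
  refine ⟨B, inferInstance, inferInstance, inferInstance, inferInstance, hfpR,
    (α.restrictScalars R).comp Algebra.TensorProduct.includeRight, β.restrictScalars R, AlgHom.ext fun a => ?_,
    AlgHom.ext fun d => β.commutes d, h1, h2⟩
  refine (AlgHom.congr_fun hαβ ((1 : D) ⊗ₜ a)).trans ?_
  show Algebra.TensorProduct.lift _ _ _ ((1 : D) ⊗ₜ a) = _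
  rw [Algebra.TensorProduct.lift_tmul, map_one, one_mul]

end Groth.NeronArea.Desing
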