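import Groth.Agent.NeronArea.LiftingLemma
import Groth.Agent.NeronArea.DesingularizeBase

/-! Applying the lifting lemma and desingularization to a factorization modulo `π ^ 8`. -/

open Smoothing

set_option linter.style.haveILetI false

namespace Groth.NeronArea.Lifting

universe u

lemma lifting' {R Λ C : Type u} [CommRing R] [IsNoetherianRing R] [CommRing Λ]
    [Algebra R Λ] (p q : R) (hq : q = p ^ 2) (hR : ∀ r : R, p ^ 2 * r = 0 → p * r = 0)
    (hΛ : ∀ x : Λ, p ^ 2 • x = 0 → p • x = 0) [CommRing C] [Algebra R C]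
    [Algebra (R ⧸ Ideal.span {q}) C] [IsScalarTower R (R ⧸ Ideal.span {q}) C]
    [Algebra.FinitePresentation (R ⧸ Ideal.span {q}) C]
    (g : C →ₐ[R] Λ ⧸ Ideal.span {algebraMap R Λ q}) :
    ∃ (D : Type u) (_ : CommRing D) (_ : Algebra R D), Algebra.FinitePresentation R D ∧
      ∃ (δ : D →ₐ[R] Λ) (ψ : C →ₐ[R] D ⧸ Ideal.span {algebraMap R D p}),
        (∀ (c : C) (d : D) (l : Λ), Ideal.Quotient.mk (Ideal.span {algebraMap R D p}) d = ψ c →
          Ideal.Quotient.mk (Ideal.span {algebraMap R Λ q}) l = g c →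
            δ d - l ∈ Ideal.span {algebraMap R Λ p}) ∧
        (∀ (Q : Ideal D) [Q.IsPrime], algebraMap R D p ∉ Q → Algebra.IsSmoothAt R Q) ∧
        (∀ (Q : Ideal (D ⧸ Ideal.span {algebraMap R D p})) [Q.IsPrime],
          Algebra.IsSmoothAt (R ⧸ Ideal.span {q}) (Q.comap ψ) →
            Algebra.IsSmoothAt R (Q.comap (Ideal.Quotient.mk (Ideal.span {algebraMap R D p})))) := by
  subst hq
  exact lifting p hR hΛ g

theorem desingularize_lifting {R Λ A C : Type u} [CommRing R] [IsNoetherianRing R] [CommRing Λ]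
    [Algebra R Λ] (π : R) (hR : ∀ r : R, π ^ 2 * r = 0 → π * r = 0)
    (hΛ : ∀ x : Λ, π ^ 2 • x = 0 → π • x = 0) [CommRing A] [Algebra R A]
    [Algebra.FinitePresentation R A] (φ : A →ₐ[R] Λ)
    (hπ : Smoothing.IsStrictlyStandard R A (algebraMap R A π))
    [CommRing C] [Algebra R C] [Algebra (R ⧸ Ideal.span {π ^ 8}) C] [IsScalarTower R (R ⧸ Ideal.span {π ^ 8}) C]
    [Algebra.FinitePresentation (R ⧸ Ideal.span {π ^ 8}) C]
    (γ : A →ₐ[R] C) (g : C →ₐ[R] Λ ⧸ Ideal.span {algebraMap R Λ (π ^ 8)})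
    (hfac : ∀ a : A, g (γ a) = Ideal.Quotient.mk (Ideal.span {algebraMap R Λ (π ^ 8)}) (φ a)) :
    ∃ (B : Type u) (_ : CommRing B) (_ : Algebra R B), Algebra.FinitePresentation R B ∧
      ∃ (α : A →ₐ[R] B) (β : B →ₐ[R] Λ), β.comp α = φ ∧
        (∀ (Q : Ideal B) [Q.IsPrime], algebraMap R B π ∉ Q → Algebra.IsSmoothAt R Q) ∧
        (Smoothing.singularIdeal (R ⧸ Ideal.span {π ^ 8}) C).map g ≤
          ((Smoothing.singularIdeal R B).map β).radical.map
            (Ideal.Quotient.mk (Ideal.span {algebraMap R Λ (π ^ 8)})) := by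
  have hR4 : ∀ r : R, (π ^ 4) ^ 2 * r = 0 → π ^ 4 * r = 0 := fun r hr => by
    have h := Desing.mul_pow_eq_zero hR 7 (x := r) (by rw [← pow_mul] at hr; exact hr)
    linear_combination π ^ 3 * h
  have hΛ' : ∀ y : Λ, algebraMap R Λ π ^ 2 * y = 0 → algebraMap R Λ π * y = 0 := fun y hy => by
    rw [← Algebra.smul_def]
    exact hΛ y (by rw [Algebra.smul_def, map_pow]; exact hy)
  have hΛ4 : ∀ x : Λ, (π ^ 4) ^ 2 • x = 0 → π ^ 4 • x = 0 := fun x hx => by
    rw [Algebra.smul_def, map_pow, map_pow, ← pow_mul] at hx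
    have h := Desing.mul_pow_eq_zero hΛ' 7 (x := x) hx
    rw [Algebra.smul_def, map_pow]
    linear_combination algebraMap R Λ π ^ 3 * h
  obtain ⟨D, _, _, hD, δ, ψ, hcompat, hoff, hon⟩ :=
    lifting' (π ^ 4) (π ^ 8) (by ring) hR4 hΛ4 g
  obtain ⟨B, _, _, _, _, hB, α, β, hαβ, hβδ, -, hRB⟩ :=
    Desing.desingularize_lift π hR hΛ φ δ hπ (ψ.comp γ) fun a d hd =>
      hcompat (γ a) d (φ a) hd (hfac a).symm
  have hπD : algebraMap R D π ∈ Smoothing.singularIdeal R D :=
    SmoothAtBasics.mem_singularIdeal_iff.2 fun Q hQ h => hoff Q fun h' => h (by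
      rw [map_pow] at h'; exact hQ.mem_of_pow_mem 4 h')
  have hπB : algebraMap R B π ∈ Smoothing.singularIdeal R B := by
    rw [IsScalarTower.algebraMap_apply R D B]
    exact hRB (Ideal.mem_map_of_mem _ hπD)
  refine ⟨B, inferInstance, inferInstance, hB, α, β, hαβ,
    SmoothAtBasics.mem_singularIdeal_iff.1 hπB, ?_⟩
  have hπJ : algebraMap R Λ π ∈ ((Smoothing.singularIdeal R B).map β).radical := by
    rw [← β.commutes]; exact Ideal.le_radical (Ideal.mem_map_of_mem _ hπB)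
  rw [Ideal.map_le_iff_le_comap]
  intro c hc
  obtain ⟨d, hd⟩ := Ideal.Quotient.mk_surjective (ψ c)
  obtain ⟨l, hl⟩ := Ideal.Quotient.mk_surjective (g c)
  have hdD : d ∈ Smoothing.singularIdeal R D := by
    refine SmoothAtBasics.mem_singularIdeal_iff.2 fun Q hQ hdQ => ?_
    by_cases hpQ : algebraMap R D (π ^ 4) ∈ Q
    · let pD : Ideal D := Ideal.span {algebraMap R D (π ^ 4)}
      have hle : RingHom.ker (Ideal.Quotient.mk pD) ≤ Q := by
        rw [Ideal.mk_ker, Ideal.span_singleton_le_iff_mem]; exact hpQ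
      have : (Q.map (Ideal.Quotient.mk pD)).IsPrime :=
        Ideal.map_isPrime_of_surjective Ideal.Quotient.mk_surjective hle
      have hcomap : (Q.map (Ideal.Quotient.mk pD)).comap (Ideal.Quotient.mk pD) = Q :=
        Ideal.comap_map_of_surjective' _ (Ideal.Quotient.mk_surjective (I := pD)) Q ▸ sup_eq_left.2 hle
      have h := hon (Q.map (Ideal.Quotient.mk pD)) (SmoothAtBasics.mem_singularIdeal_iff.1 hc _
        (fun hcc => hdQ (by
          rw [← hcomap, Ideal.mem_comap, hd]; exact hcc)))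
      simpa [pD, hcomap] using h
    · exact hoff Q hpQ
  have hδd : δ d ∈ ((Smoothing.singularIdeal R B).map β).radical := by
    rw [← hβδ]
    exact Ideal.le_radical (Ideal.mem_map_of_mem _ (hRB (Ideal.mem_map_of_mem _ hdD)))
  have hl' : l ∈ ((Smoothing.singularIdeal R B).map β).radical := by
    rw [show l = δ d - (δ d - l) by ring]
    refine sub_mem hδd (Ideal.span_le.2 ?_ (hcompat c d l hd hl))
    rintro _ rfl
    show algebraMap R Λ (π ^ 4) ∈ _
    rw [map_pow]
    exact Ideal.pow_mem_of_mem _ hπJ 4 (by norm_num)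
  rw [Ideal.mem_comap, ← hl]
  exact Ideal.mem_map_of_mem _ hl'

end Groth.NeronArea.Lifting
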