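import Groth.Agent.NeronArea.Delocalize
import Groth.Agent.S2025
import Mathlib.RingTheory.Smooth.StandardSmooth
import Mathlib.RingTheory.Localization.BaseChange
import Mathlib.LinearAlgebra.Matrix.SchurComplement
import Mathlib.Data.Fin.Tuple.Basic

/-! Delocalizing a smooth factorization over a localization of the base. -/

open MvPolynomial Smoothing
open scoped TensorProduct

set_option linter.style.haveILetI false

namespace Groth.NeronArea.DelocalizeBase

universe u

/-- Chain rule for a linear substitution. -/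
lemma pderiv_aeval_scale {R : Type u} [CommRing R] {σ : Type} [DecidableEq σ] (s : R) (p : MvPolynomial σ R) (l : σ) :
    pderiv l (aeval (fun i => C s * X i) p) = C s * aeval (fun i => C s * X i) (pderiv l p) := by
  induction p using MvPolynomial.induction_on with
  | C a => simp
  | add p q hp hq => simp only [map_add, hp, hq, mul_add]
  | mul_X p i hp =>
    rw [map_mul, aeval_X, pderiv_mul, hp, pderiv_C_mul, pderiv_mul, map_add, map_mul, map_mul, aeval_X]
    by_cases h : i = l
    · subst h; simp only [pderiv_X_self, map_one]; ring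
    · simp only [pderiv_X_of_ne h, map_zero]; ring

theorem exists_standard_of_presentation {R A Λ RS B'' ΛS : Type u} [CommRing R] [CommRing A] [Algebra R A]
    [Algebra.FinitePresentation R A] [CommRing Λ] [Algebra R Λ] (φ : A →ₐ[R] Λ)
    (S : Submonoid R) [CommRing RS] [Algebra R RS] [IsLocalization S RS]
    [CommRing ΛS] [Algebra Λ ΛS] [IsLocalization (Algebra.algebraMapSubmonoid Λ S) ΛS]
    [Algebra R ΛS] [IsScalarTower R Λ ΛS]
    [CommRing B''] [Algebra R B''] [Algebra RS B''] [IsScalarTower R RS B'']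
    (g : A →ₐ[R] B'') (h : B'' →ₐ[R] ΛS) (hgh : ∀ a, h (g a) = algebraMap Λ ΛS (φ a))
    {k c : ℕ} (π : MvPolynomial (Fin k) RS →ₐ[RS] B'') (hπ : Function.Surjective π)
    (G' : Fin c → MvPolynomial (Fin k) RS) (hker : RingHom.ker π.toRingHom = Ideal.span (Set.range G'))
    (T : Fin c → Fin k) (hT : Function.Injective T)
    (hdet : IsUnit (π (Matrix.of fun i j => pderiv (T i) (G' j)).det)) :
    ∃ (B : Type u) (_ : CommRing B) (_ : Algebra R B) (α : A →ₐ[R] B) (β : B →ₐ[R] Λ),
      β.comp α = φ ∧ ∃ s ∈ S, Smoothing.IsElementaryStandard R B (algebraMap R B s) := by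
  classical
  obtain ⟨n, fA, hfA, hfg⟩ := Algebra.FinitePresentation.out (R := R) (A := A)
  obtain ⟨m, f, hf⟩ := Submodule.fg_iff_exists_fin_generating_family.1 hfg
  letI : Algebra (MvPolynomial (Fin k) R) (MvPolynomial (Fin k) RS) := algebraMvPolynomial
  have : IsLocalization (S.map (C (σ := Fin k) : R →+* MvPolynomial (Fin k) R)) (MvPolynomial (Fin k) RS) :=
    MvPolynomial.isLocalization S RS
  have hclear : ∀ P : MvPolynomial (Fin k) RS, ∃ (G : MvPolynomial (Fin k) R) (s : R), s ∈ S ∧
      MvPolynomial.map (algebraMap R RS) G = C (algebraMap R RS s) * P := by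
    intro P
    obtain ⟨⟨G, ⟨_, s, hs, rfl⟩⟩, h⟩ := IsLocalization.surj (S.map (C (σ := Fin k) : R →+* MvPolynomial (Fin k) R)) P
    refine ⟨G, s, hs, ?_⟩
    rw [show MvPolynomial.map (algebraMap R RS) G = algebraMap (MvPolynomial (Fin k) R) (MvPolynomial (Fin k) RS) G from rfl,
      ← h, mul_comm]
    congr 1
    exact MvPolynomial.map_C _ _
  have hUB : ∀ s : S, IsUnit (algebraMap R B'' (s : R)) := fun s => by
    rw [IsScalarTower.algebraMap_apply R RS B'']; exact (IsLocalization.map_units RS s).map _
  let z : Fin k → B'' := fun l => π (X l)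
  have hz : ∀ q : MvPolynomial (Fin k) R, aeval z q = π (MvPolynomial.map (algebraMap R RS) q) := by
    intro q
    induction q using MvPolynomial.induction_on with
    | C a => rw [aeval_C, map_C, ← MvPolynomial.algebraMap_eq, AlgHom.commutes, ← IsScalarTower.algebraMap_apply]
    | add p q hp hq => simp [hp, hq]
    | mul_X p l hp => simp [hp, z]
  choose Gp sG hsG hGp using fun j => hclear (G' j)
  choose αp sα hsα hαp using fun i => hclear (Classical.choose (hπ (g (fA (X i)))))
  have hG0 : ∀ j, aeval z (Gp j) = 0 := fun j => by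
    rw [hz, hGp, map_mul, show π (G' j) = 0 from (SetLike.ext_iff.1 hker _).2 (Ideal.subset_span ⟨j, rfl⟩), mul_zero]
  have hα0 : ∀ i, aeval z (αp i) = algebraMap R B'' (sα i) * g (fA (X i)) := fun i => by
    rw [hz, hαp, map_mul, Classical.choose_spec (hπ (g (fA (X i)))), ← MvPolynomial.algebraMap_eq, AlgHom.commutes,
      ← IsScalarTower.algebraMap_apply]
  choose D H hD hH using fun j => Delocalize.exists_homogenize (Gp j)
  choose D' H' hD' hH' using fun i => Delocalize.exists_homogenize (αp i)
  -- common denominator in `ΛS`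
  obtain ⟨⟨_, s, hs, rfl⟩, hlam⟩ := IsLocalization.exist_integer_multiples_of_finite
    (Algebra.algebraMapSubmonoid Λ S) (fun l => h (z l))
  choose lam hlam using hlam
  have hlam' : ∀ l, algebraMap Λ ΛS (lam l) = algebraMap Λ ΛS (algebraMap R Λ s) * h (z l) := fun l => by
    rw [hlam l, Algebra.smul_def]
  have hev : ∀ p : MvPolynomial (Fin k) R, aeval (fun l => h (z l)) p = h (aeval z p) := fun p =>
    (comp_aeval_apply z h p).symm
  let vΛ : Fin k ⊕ Unit → Λ := Sum.elim lam fun _ => algebraMap R Λ s
  let v' : Fin k ⊕ Unit → ΛS := Sum.elim (fun l => algebraMap Λ ΛS (lam l)) fun _ => algebraMap Λ ΛS (algebraMap R Λ s)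
  have hvv : ∀ p : MvPolynomial (Fin k ⊕ Unit) R, algebraMap Λ ΛS (aeval vΛ p) = aeval v' p := fun p => by
    rw [show v' = fun l => IsScalarTower.toAlgHom R Λ ΛS (vΛ l) from funext fun l => by rcases l with l | l <;> rfl]
    exact comp_aeval_apply vΛ (IsScalarTower.toAlgHom R Λ ΛS) p
  let E : Fin c ⊕ Fin n → Λ := Sum.elim (fun j => aeval vΛ (H j))
    fun i => aeval vΛ (H' i) - algebraMap R Λ (sα i * s ^ D' i) * φ (fA (X i))
  have hE : ∀ e, algebraMap Λ ΛS (E e) = 0 := by
    rintro (j | i)
    · show algebraMap Λ ΛS (aeval vΛ (H j)) = 0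
      rw [hvv, (hH j _ _).1 _ hlam', hev, hG0, map_zero, mul_zero]
    · show algebraMap Λ ΛS (aeval vΛ (H' i) - algebraMap R Λ (sα i * s ^ D' i) * φ (fA (X i))) = 0
      rw [map_sub, hvv, (hH' i _ _).1 _ hlam', hev, hα0, map_mul, AlgHom.commutes, hgh, map_mul,
        map_mul, map_mul, map_pow, map_pow, sub_eq_zero]
      simp only [← IsScalarTower.algebraMap_apply]
      ring
  choose ν hν using fun e => (IsLocalization.map_eq_zero_iff (Algebra.algebraMapSubmonoid Λ S) ΛS (E e)).1 (hE e)
  choose ν0 hν0S hν0 using fun e => (ν e).2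
  let σ := ∏ e, ν0 e
  have hσ : σ ∈ S := Submonoid.prod_mem _ fun e _ => hν0S e
  have hkillE : ∀ (e : Fin c ⊕ Fin n) (d : ℕ), 0 < d → algebraMap R Λ σ ^ d * E e = 0 := by
    intro e d hd
    obtain ⟨w, hw⟩ : ν0 e ∣ σ := Finset.dvd_prod_of_mem _ (Finset.mem_univ e)
    obtain ⟨d, rfl⟩ := Nat.exists_eq_add_of_le hd
    have h0 : algebraMap R Λ (ν0 e) * E e = 0 := by rw [hν0]; exact hν e
    rw [pow_add, pow_one, mul_assoc, mul_left_comm]
    rw [hw, map_mul, mul_comm (algebraMap R Λ (ν0 e)), mul_assoc, h0, mul_zero, mul_zero]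
  obtain ⟨t, htdef⟩ : ∃ t : R, t = σ * s := ⟨_, rfl⟩
  have ht : t ∈ S := htdef ▸ S.mul_mem hσ hs
  -- the new algebra
  let yv : Fin k → MvPolynomial (Fin (k + n)) R := fun l => X (Fin.castAdd n l)
  let xv : Fin n → MvPolynomial (Fin (k + n)) R := fun i => X (Fin.natAdd k i)
  let w : Fin k ⊕ Unit → MvPolynomial (Fin (k + n)) R := Sum.elim yv fun _ => C t
  let EH : Fin c → MvPolynomial (Fin (k + n)) R := fun j => aeval w (H j)
  let EX : Fin n → MvPolynomial (Fin (k + n)) R := fun i => aeval w (H' i) - C (sα i * t ^ D' i) * xv i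
  let rel : Fin ((c + n) + m) → MvPolynomial (Fin (k + n)) R := Fin.append (Fin.append EH EX) fun l => aeval xv (f l)
  let I := Ideal.span (Set.range rel)
  let Lead := Ideal.span (Set.range (Fin.append EH EX))
  let B := (MvPolynomial (Fin (k + n)) R) ⧸ I
  let q : MvPolynomial (Fin (k + n)) R →ₐ[R] B := Ideal.Quotient.mkₐ R I
  have hq : RingHom.ker q.toRingHom = Ideal.span (Set.range rel) := Ideal.mk_ker
  -- the map to `Λ`
  let vB : Fin (k + n) → Λ := Fin.append (fun l => algebraMap R Λ σ * lam l) fun i => φ (fA (X i))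
  have hvB : ∀ p : MvPolynomial (Fin k ⊕ Unit) R, aeval vB (aeval w p) =
      aeval (Sum.elim (fun l => algebraMap R Λ σ * lam l) fun _ => algebraMap R Λ σ * algebraMap R Λ s) p := fun p => by
    rw [comp_aeval_apply w (aeval (R := R) vB) p]
    congr 2
    funext l
    rcases l with l | l
    · simp [w, yv, vB, Fin.append_left]
    · simp [w, htdef]
  have hvBx : ∀ p, aeval vB (aeval xv p) = φ (fA p) := fun p => by
    refine AlgHom.congr_fun (φ₁ := (aeval (R := R) vB).comp (aeval xv)) (φ₂ := φ.comp fA) ?_ p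
    exact MvPolynomial.algHom_ext fun i => by simp [xv, vB, Fin.append_right]
  have hIv : I ≤ RingHom.ker (aeval (R := R) vB) := by
    refine Ideal.span_le.2 ?_
    rintro _ ⟨l, rfl⟩
    show aeval vB (rel l) = 0
    induction l using Fin.addCases with
    | left l =>
      induction l using Fin.addCases with
      | left j =>
        simp only [rel, Fin.append_left, EH, hvB, (hH j lam (algebraMap R Λ s)).2]
        exact hkillE (Sum.inl j) _ (hD j)
      | right i =>
        simp only [rel, Fin.append_left, Fin.append_right, EX, map_sub, map_mul, hvB, (hH' i lam (algebraMap R Λ s)).2,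
          aeval_C, xv, aeval_X, vB]
        have := hkillE (Sum.inr i) _ (hD' i)
        simp only [E, Sum.elim_inr, vΛ, map_mul, map_pow] at this
        simp only [htdef, map_mul, map_pow]
        linear_combination this
    | right l =>
      simp only [rel, Fin.append_right, hvBx]
      rw [show fA (f l) = 0 from (SetLike.ext_iff.1 hf _).1 (Submodule.subset_span ⟨l, rfl⟩), map_zero]
  let β : B →ₐ[R] Λ := Ideal.Quotient.liftₐ I (aeval vB) fun _ hx => hIv hx
  -- the map from `A`
  have hfI : RingHom.ker fA.toRingHom ≤ RingHom.ker (q.comp (aeval xv)).toRingHom := by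
    rw [← hf]
    refine Submodule.span_le.2 ?_
    rintro _ ⟨l, rfl⟩
    show q (aeval xv (f l)) = 0
    refine Ideal.Quotient.eq_zero_iff_mem.2 (Ideal.subset_span ⟨Fin.natAdd _ l, ?_⟩)
    simp [rel, Fin.append_right]
  let e := Ideal.quotientKerAlgEquivOfSurjective hfA
  let α0 : (MvPolynomial (Fin n) R ⧸ RingHom.ker fA.toRingHom) →ₐ[R] B :=
    Ideal.Quotient.liftₐ (RingHom.ker fA.toRingHom) (q.comp (aeval xv)) fun _ hx => hfI hx
  let α : A →ₐ[R] B := α0.comp e.symm.toAlgHom
  have hα : ∀ p, α (fA p) = q (aeval xv p) := fun p => by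
    show α0 (e.symm (e (Ideal.Quotient.mk _ p))) = _
    rw [AlgEquiv.symm_apply_apply]; rfl
  refine ⟨B, inferInstance, inferInstance, α, β, AlgHom.ext fun a => ?_, ?_⟩
  · obtain ⟨p, rfl⟩ := hfA a
    rw [AlgHom.comp_apply, hα]; exact hvBx p
  -- the leading relations cut out `B''` after localizing
  let vθ : Fin (k + n) → B'' := Fin.append (fun l => algebraMap R B'' t * z l) fun i => g (fA (X i))
  let θ : MvPolynomial (Fin (k + n)) R →ₐ[R] B'' := aeval vθ
  have hθw : ∀ p : MvPolynomial (Fin k ⊕ Unit) R, θ (aeval w p) =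
      aeval (Sum.elim (fun l => algebraMap R B'' t * z l) fun _ => algebraMap R B'' t) p := fun p => by
    rw [comp_aeval_apply w θ p]
    congr 2
    funext l
    rcases l with l | l
    · simp [w, yv, θ, vθ, Fin.append_left]
    · simp [w, θ]
  have hθx : ∀ p, θ (aeval xv p) = g (fA p) := fun p => by
    refine AlgHom.congr_fun (φ₁ := θ.comp (aeval xv)) (φ₂ := g.comp fA) ?_ p
    exact MvPolynomial.algHom_ext fun i => by simp [θ, xv, vθ, Fin.append_right]
  have hθlead : ∀ l, θ (Fin.append EH EX l) = 0 := by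
    intro l
    induction l using Fin.addCases with
    | left j =>
      simp only [Fin.append_left, EH, hθw, (hH j _ _).1 z fun _ => rfl, hG0, mul_zero]
    | right i =>
      simp only [Fin.append_right, EX, map_sub, map_mul, hθw, (hH' i _ _).1 z fun _ => rfl, hα0]
      simp only [θ, aeval_C, xv, aeval_X, vθ, Fin.append_right, map_mul, map_pow]
      ring
  let Q0 := (MvPolynomial (Fin (k + n)) R) ⧸ Lead
  have hzero : ∀ p : MvPolynomial (Fin (k + n)) R, θ p = 0 → ∃ r ∈ S, C r * p ∈ Lead := by
    suffices hgen : ∀ (L : Type u) [CommRing L] [Algebra Q0 L] [Algebra R L] [IsScalarTower R Q0 L]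
        [IsLocalization (Algebra.algebraMapSubmonoid Q0 S) L],
        ∀ p : MvPolynomial (Fin (k + n)) R, θ p = 0 → ∃ r ∈ S, C r * p ∈ Lead from
      hgen (Localization (Algebra.algebraMapSubmonoid Q0 S))
    intro L _ _ _ _ _
    have hUL : ∀ x : S, IsUnit (algebraMap R L (x : R)) := fun x => by
      rw [IsScalarTower.algebraMap_apply R Q0 L]
      exact IsLocalization.map_units L (⟨_, Algebra.mem_algebraMapSubmonoid_of_mem x⟩ : Algebra.algebraMapSubmonoid Q0 S)
    let cRS := IsLocalization.liftAlgHom (S := RS) (M := S) (f := Algebra.ofId R L) hUL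
    obtain ⟨tu, htu⟩ := hUL (⟨t, ht⟩ : S)
    let toL : MvPolynomial (Fin (k + n)) R →ₐ[R] L := (IsScalarTower.toAlgHom R Q0 L).comp (Ideal.Quotient.mkₐ R Lead)
    have hlead0 : ∀ l, toL (Fin.append EH EX l) = 0 := fun l => by
      show algebraMap Q0 L (Ideal.Quotient.mk Lead _) = 0
      exact (congrArg (algebraMap Q0 L) (Ideal.Quotient.eq_zero_iff_mem.2 (Ideal.subset_span ⟨l, rfl⟩))).trans (map_zero _)
    let zL : Fin k → L := fun l => ↑tu⁻¹ * toL (yv l)
    have hzL : ∀ l, toL (yv l) = algebraMap R L t * zL l := fun l => by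
      rw [← htu]; exact (Units.mul_inv_cancel_left _ _).symm
    have hLw : ∀ p : MvPolynomial (Fin k ⊕ Unit) R, toL (aeval w p) =
        aeval (Sum.elim (fun l => toL (yv l)) fun _ => algebraMap R L t) p := fun p => by
      rw [comp_aeval_apply w toL p]
      congr 2
      funext l
      rcases l with l | l
      · rfl
      · exact toL.commutes t
    let evL : MvPolynomial (Fin k) RS →+* L := eval₂Hom cRS.toRingHom zL
    have hevL : ∀ p : MvPolynomial (Fin k) R, evL (MvPolynomial.map (algebraMap R RS) p) = aeval zL p := fun p => by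
      show eval₂ _ _ _ = eval₂ _ _ _
      rw [eval₂_map]
      congr 1
      exact RingHom.ext fun x => cRS.commutes x
    have hkerL : RingHom.ker π.toRingHom ≤ RingHom.ker evL := by
      rw [hker]
      refine Ideal.span_le.2 ?_
      rintro _ ⟨j, rfl⟩
      show evL (G' j) = 0
      have h0 := hlead0 (Fin.castAdd n j)
      rw [Fin.append_left, hLw, (hH j _ _).1 zL hzL, ← htu, ← Units.val_pow_eq_pow_val] at h0
      have h1 := (Units.mul_right_eq_zero _).1 h0
      rw [← hevL, hGp, map_mul, show evL (C (algebraMap R RS (sG j))) = algebraMap R L (sG j) by simp [evL]] at h1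
      exact (hUL ⟨_, hsG j⟩).mul_right_eq_zero.1 h1
    let eπ := RingHom.quotientKerEquivOfSurjective (f := π.toRingHom) hπ
    let ι0 : B'' →+* L := (Ideal.Quotient.lift (RingHom.ker π.toRingHom) evL fun x hx => hkerL hx).comp eπ.symm.toRingHom
    have hι0 : ∀ x, ι0 (π x) = evL x := fun x => by
      show Ideal.Quotient.lift (RingHom.ker π.toRingHom) evL (fun y hy => hkerL hy) (eπ.symm (eπ (Ideal.Quotient.mk _ x))) = _
      rw [RingEquiv.symm_apply_apply]; rfl
    let ι : B'' →ₐ[R] L :=
      { ι0 with
        commutes' := fun x => by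
          show ι0 (algebraMap R B'' x) = _
          rw [IsScalarTower.algebraMap_apply R RS B'', ← π.commutes, hι0, MvPolynomial.algebraMap_eq]
          simp [evL] }
    have hιθ : ι.comp θ = toL := by
      refine MvPolynomial.algHom_ext fun l => ?_
      show ι (θ (X l)) = toL (X l)
      induction l using Fin.addCases with
      | left l =>
        rw [show θ (X (Fin.castAdd n l)) = algebraMap R B'' t * z l by simp [θ, vθ, Fin.append_left], map_mul,
          AlgHom.commutes, show ι (z l) = zL l from (hι0 (X l)).trans (eval₂Hom_X' _ _ _)]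
        exact (hzL l).symm
      | right i =>
        refine ((hUL ⟨_, S.mul_mem (hsα i) (pow_mem ht (D' i))⟩)).mul_left_cancel ?_
        have h0 := hlead0 (Fin.natAdd c i)
        rw [Fin.append_right, map_sub, map_mul, hLw, (hH' i _ _).1 zL hzL, sub_eq_zero] at h0
        rw [show θ (X (Fin.natAdd k i)) = g (fA (X i)) by simp [θ, vθ, Fin.append_right]]
        have h1 : aeval zL (αp i) = algebraMap R L (sα i) * ι (g (fA (X i))) := by
          rw [← hevL, hαp, ← hι0, map_mul, Classical.choose_spec (hπ (g (fA (X i)))), ← MvPolynomial.algebraMap_eq,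
            AlgHom.commutes, ← IsScalarTower.algebraMap_apply, map_mul,
            show ι0 (algebraMap R B'' (sα i)) = algebraMap R L (sα i) from ι.commutes _]
          rfl
        rw [h1, show toL (C (sα i * t ^ D' i)) = algebraMap R L (sα i * t ^ D' i) from toL.commutes _] at h0
        show algebraMap R L (sα i * t ^ D' i) * _ = algebraMap R L (sα i * t ^ D' i) * _
        rw [map_mul, map_pow] at h0 ⊢
        linear_combination h0
    intro p hp
    have h0 : algebraMap Q0 L (Ideal.Quotient.mk Lead p) = 0 := by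
      show toL p = 0
      rw [← hιθ, AlgHom.comp_apply, hp, map_zero]
    obtain ⟨⟨_, r, hr, rfl⟩, hr0⟩ := (IsLocalization.map_eq_zero_iff (Algebra.algebraMapSubmonoid Q0 S) L _).1 h0
    refine ⟨r, hr, Ideal.Quotient.eq_zero_iff_mem.1 ?_⟩
    rw [map_mul]; exact hr0
  -- rows and columns
  let rows : Fin (c + n) ↪ Fin ((c + n) + m) := ⟨Fin.castAdd m, Fin.castAdd_injective _ _⟩
  let cols : Fin (c + n) ↪ Fin (k + n) := ⟨Fin.append (Fin.castAdd n ∘ T) (Fin.natAdd k), by
    intro x y
    induction x using Fin.addCases <;> induction y using Fin.addCases <;>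
      simp [Fin.append_left, Fin.append_right, Fin.ext_iff, hT.eq_iff] <;> try omega
    · intro hxy; exact hT (Fin.ext hxy) ▸ rfl⟩
  have hrelrows : rel ∘ rows = Fin.append EH EX := funext fun l => by simp [rel, rows, Fin.append_left]
  have hMunit : IsUnit (θ (jacobianMinor rel rows cols)) := by
    let M : Matrix (Fin (c + n)) (Fin (c + n)) B'' :=
      Matrix.of fun j l => θ (pderiv (cols l) (rel (rows j)))
    have hM : θ (jacobianMinor rel rows cols) = (M.submatrix finSumFinEquiv finSumFinEquiv).det := by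
      rw [Matrix.det_submatrix_equiv_self, jacobianMinor, AlgHom.map_det]
      rfl
    have hxy : ∀ (l : Fin k) (i : Fin n), Fin.castAdd n l ≠ Fin.natAdd k i := fun l i hh => by
      have := congrArg Fin.val hh; simp at this; omega
    have hpw : ∀ (p : MvPolynomial (Fin k ⊕ Unit) R) (i : Fin n), pderiv (Fin.natAdd k i) (aeval w p) = 0 := by
      intro p i
      induction p using MvPolynomial.induction_on with
      | C a => simp
      | add p q hp hq => simp only [map_add, hp, hq, add_zero]
      | mul_X p l hp =>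
        rw [map_mul, aeval_X, pderiv_mul, hp]
        rcases l with l | l
        · simp [w, yv, pderiv_X_of_ne (hxy l i)]
        · simp [w]
    have hpw' : ∀ (p : MvPolynomial (Fin k ⊕ Unit) R) (i : Fin n), pderiv (Fin.natAdd k i) (bind₁ w p) = 0 := hpw
    rw [hM, ← Matrix.fromBlocks_toBlocks (M.submatrix finSumFinEquiv finSumFinEquiv)]
    have h12 : (M.submatrix finSumFinEquiv finSumFinEquiv).toBlocks₁₂ = 0 := by
      ext j i
      simp [Matrix.toBlocks₁₂, M, rows, cols, rel, Fin.append_left, Fin.append_right, EH, hpw, hpw']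
    rw [h12, Matrix.det_fromBlocks_zero₁₂]
    refine IsUnit.mul ?_ ?_
    · have h11 : (M.submatrix finSumFinEquiv finSumFinEquiv).toBlocks₁₁ =
          Matrix.of fun j l => θ (pderiv (Fin.castAdd n (T l)) (EH j)) := by
        ext j l
        simp [Matrix.toBlocks₁₁, M, rows, cols, rel, Fin.append_left]
      rw [h11]
      -- compute the block through the chain rule
      let sub : MvPolynomial (Fin (k + n)) R →ₐ[R] MvPolynomial (Fin k) R := aeval (Fin.append (fun l => C t * X l) fun _ => 0)
      have hθsub : ∀ j l, θ (pderiv (Fin.castAdd n l) (EH j)) = aeval z (sub (pderiv (Fin.castAdd n l) (EH j))) := by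
        intro j l
        have hkey : ∀ p : MvPolynomial (Fin k ⊕ Unit) R,
            θ (pderiv (Fin.castAdd n l) (aeval w p)) = aeval z (sub (pderiv (Fin.castAdd n l) (aeval w p))) ∧
            θ (aeval w p) = aeval z (sub (aeval w p)) := by
          intro p
          induction p using MvPolynomial.induction_on with
          | C a => simp [sub]
          | add p q hp hq => exact ⟨by simp only [map_add, hp.1, hq.1], by simp only [map_add, hp.2, hq.2]⟩
          | mul_X p i hp =>
            have hw : θ (w i) = aeval z (sub (w i)) := by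
              rcases i with i | i <;> simp [w, yv, θ, vθ, sub, Fin.append_left]
            have hw' : θ (pderiv (Fin.castAdd n l) (w i)) = aeval z (sub (pderiv (Fin.castAdd n l) (w i))) := by
              rcases i with i | i
              · simp only [w, Sum.elim_inl, yv, pderiv_X, Pi.single_apply]; split <;> simp
              · simp [w]
            constructor
            · rw [map_mul, aeval_X, pderiv_mul]
              simp only [map_add, map_mul, hp.1, hp.2, hw, hw']
            · rw [map_mul, aeval_X]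
              simp only [map_mul, hp.2, hw]
        exact (hkey (H j)).1
      have hchain : ∀ j l, algebraMap R B'' t * θ (pderiv (Fin.castAdd n l) (EH j)) =
          algebraMap R B'' (t ^ D j * sG j) * π (pderiv l (G' j)) := by
        intro j l
        have hcr : ∀ p : MvPolynomial (Fin k ⊕ Unit) R,
            pderiv l (sub (aeval w p)) = C t * sub (pderiv (Fin.castAdd n l) (aeval w p)) := by
          intro p
          induction p using MvPolynomial.induction_on with
          | C a => simp [sub]
          | add p q hp hq => simp only [map_add, hp, hq, mul_add]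
          | mul_X p i hp =>
            have hw' : pderiv l (sub (w i)) = C t * sub (pderiv (Fin.castAdd n l) (w i)) := by
              rcases i with i | i
              · simp only [w, Sum.elim_inl, yv, sub, aeval_X, Fin.append_left, pderiv_C_mul, pderiv_X,
                  Pi.single_apply, Fin.castAdd_inj]
                split <;> simp
              · simp [w, sub]
            rw [map_mul, aeval_X, map_mul, pderiv_mul, pderiv_mul, hp, hw', map_add, map_mul, map_mul]
            ring
        have hH0 : sub (EH j) = C t ^ D j * Gp j := by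
          show sub (aeval w (H j)) = _
          rw [comp_aeval_apply w sub (H j),
            show (fun i => sub (w i)) = Sum.elim (fun i => C t * X i) (fun _ => C t) from funext fun i => by
              rcases i with i | i <;> simp [w, yv, sub, Fin.append_left],
            (hH j _ _).1 X fun _ => rfl, aeval_X_left_apply]
        have h1 := congrArg (fun p => aeval z p) ((hcr (H j)).symm.trans (congrArg (pderiv l) hH0))
        simp only [map_mul, aeval_C] at h1
        rw [← hθsub] at h1
        rw [h1, ← C_pow, pderiv_C_mul, map_mul, aeval_C, map_mul]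
        have h2 : aeval z (pderiv l (Gp j)) = algebraMap R B'' (sG j) * π (pderiv l (G' j)) := by
          rw [hz, ← pderiv_map, hGp, pderiv_C_mul, map_mul, ← MvPolynomial.algebraMap_eq, AlgHom.commutes,
            ← IsScalarTower.algebraMap_apply]
        rw [h2]; ring
      have hN : IsUnit (π (Matrix.of fun j l : Fin c => pderiv (T l) (G' j)).det) := by
        rw [← Matrix.det_transpose]; exact hdet
      rw [AlgHom.map_det] at hN
      have hscale : (algebraMap R B'' t) • (Matrix.of fun j l => θ (pderiv (Fin.castAdd n (T l)) (EH j))) =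
          Matrix.diagonal (fun j => algebraMap R B'' (t ^ D j * sG j)) *
            (Matrix.of fun j l : Fin c => pderiv (T l) (G' j)).map π := by
        ext j l
        rw [Matrix.diagonal_mul, Matrix.smul_apply, smul_eq_mul]
        exact hchain j (T l)
      have h2 := congrArg Matrix.det hscale
      rw [Matrix.det_smul, Matrix.det_mul, Matrix.det_diagonal] at h2
      refine isUnit_of_mul_isUnit_right (x := algebraMap R B'' t ^ Fintype.card (Fin c)) ?_
      rw [h2]
      exact (IsUnit.prod_univ_iff.2 fun j => hUB ⟨_, S.mul_mem (pow_mem ht _) (hsG j)⟩).mul hN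
    · have h22 : (M.submatrix finSumFinEquiv finSumFinEquiv).toBlocks₂₂ =
          Matrix.diagonal fun i => - algebraMap R B'' (sα i * t ^ D' i) := by
        ext i i'
        by_cases hii : i = i'
        · subst hii
          simp [Matrix.toBlocks₂₂, M, rows, cols, rel, Fin.append_left, Fin.append_right, EX, hpw, hpw', xv,
            pderiv_C_mul, θ]
        · have hne : Fin.natAdd k i ≠ Fin.natAdd k i' := fun hh => hii (Fin.natAdd_injective _ _ hh)
          simp [Matrix.toBlocks₂₂, M, rows, cols, rel, Fin.append_left, Fin.append_right, EX, hpw, hpw', xv,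
            pderiv_C_mul, θ, hii, pderiv_X_of_ne hne]
      rw [h22, Matrix.det_diagonal]
      exact IsUnit.prod_univ_iff.2 fun i => (hUB ⟨_, S.mul_mem (hsα i) (pow_mem ht _)⟩).neg
  obtain ⟨Mu, hMu⟩ := hMunit
  obtain ⟨b0, hb0⟩ := hπ ↑Mu⁻¹
  obtain ⟨G0, s0, hs0, hG0'⟩ := hclear b0
  obtain ⟨D0, H0, hD0, hH0⟩ := Delocalize.exists_homogenize G0
  let v : MvPolynomial (Fin (k + n)) R := aeval w H0
  let r0 := t ^ D0 * s0
  have hr0 : r0 ∈ S := S.mul_mem (pow_mem ht _) hs0
  have hθv : θ (jacobianMinor rel rows cols * v - C r0) = 0 := by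
    rw [map_sub, map_mul, hθw, (hH0 _ _).1 z fun _ => rfl, hz, hG0', map_mul, hb0, ← hMu,
      ← MvPolynomial.algebraMap_eq, AlgHom.commutes, ← IsScalarTower.algebraMap_apply]
    simp only [θ, aeval_C, r0, map_mul, map_pow, MvPolynomial.algebraMap_eq]
    linear_combination (algebraMap R B'' t ^ D0 * algebraMap R B'' s0) * Mu.mul_inv
  obtain ⟨r1, hr1, hr1'⟩ := hzero _ hθv
  choose rf hrf hrf' using fun l => hzero (aeval xv (f l)) (by
    rw [hθx, show fA (f l) = 0 from (SetLike.ext_iff.1 hf _).1 (Submodule.subset_span ⟨l, rfl⟩), map_zero])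
  let r := r1 * r0 * ∏ l, rf l
  have hr : r ∈ S := S.mul_mem (S.mul_mem hr1 hr0) (Submonoid.prod_mem _ fun l _ => hrf l)
  have hLI : Lead ≤ I := Ideal.span_le.2 (by
    rintro _ ⟨l, rfl⟩
    exact Ideal.subset_span ⟨Fin.castAdd m l, by simp [rel, Fin.append_left]⟩)
  refine ⟨r, hr, Singular.isElementaryStandard_of_minor rel q Ideal.Quotient.mk_surjective hq _ rows cols
    (q (C (r1 * ∏ l, rf l) * v)) ?_ ?_⟩
  · rw [← map_mul, ← q.commutes, MvPolynomial.algebraMap_eq, ← sub_eq_zero, ← map_sub]
    refine Ideal.Quotient.eq_zero_iff_mem.2 (hLI ?_)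
    rw [show C r - C (r1 * ∏ l, rf l) * v * jacobianMinor rel rows cols =
      -(C (∏ l, rf l) * (C r1 * (jacobianMinor rel rows cols * v - C r0))) by simp only [r, map_mul]; ring]
    exact neg_mem (Ideal.mul_mem_left _ _ hr1')
  · intro a₁ ha₁ ℓ
    have hlead : Ideal.span (Set.range (rel ∘ rows)) = Lead := by rw [hrelrows]
    rw [hlead]
    have ha : a₁ - C r ∈ I := by
      rw [← Ideal.Quotient.eq_zero_iff_mem]
      show q (a₁ - C r) = 0
      rw [map_sub, ha₁, ← MvPolynomial.algebraMap_eq, AlgHom.commutes, sub_self]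
    rw [show a₁ * rel ℓ = C r * rel ℓ + (a₁ - C r) * rel ℓ by ring]
    refine add_mem (Ideal.mem_sup_left ?_) (Ideal.mem_sup_right ?_)
    · induction ℓ using Fin.addCases with
      | left l =>
        rw [show rel (Fin.castAdd m l) = Fin.append EH EX l by simp [rel, Fin.append_left]]
        exact Ideal.mul_mem_left _ _ (Ideal.subset_span ⟨l, rfl⟩)
      | right l =>
        rw [show rel (Fin.natAdd (c + n) l) = aeval xv (f l) by simp [rel, Fin.append_right]]
        obtain ⟨d, hd⟩ : rf l ∣ ∏ l, rf l := Finset.dvd_prod_of_mem _ (Finset.mem_univ l)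
        rw [show C r * aeval xv (f l) = C (r1 * r0 * d) * (C (rf l) * aeval xv (f l)) by
          simp only [r, hd, map_mul]; ring]
        exact Ideal.mul_mem_left _ _ (hrf' l)
    · rw [sq]; exact Ideal.mul_mem_mul ha (Ideal.subset_span ⟨ℓ, rfl⟩)

theorem delocalize_base {R A Λ Rₛ B' : Type u} [CommRing R] [CommRing A] [Algebra R A]
    [Algebra.FinitePresentation R A] [CommRing Λ] [Algebra R Λ] (φ : A →ₐ[R] Λ) (S : Submonoid R)
    [CommRing Rₛ] [Algebra R Rₛ] [IsLocalization S Rₛ] [CommRing B'] [Algebra Rₛ B']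
    [Algebra.Smooth Rₛ B'] (g : Rₛ ⊗[R] A →ₐ[Rₛ] B') (h : B' →ₐ[Rₛ] Rₛ ⊗[R] Λ)
    (hgh : h.comp g = Algebra.TensorProduct.map (AlgHom.id Rₛ Rₛ) φ) :
    ∃ (B : Type u) (_ : CommRing B) (_ : Algebra R B) (α : A →ₐ[R] B) (β : B →ₐ[R] Λ),
      β.comp α = φ ∧ ∃ s ∈ S, Smoothing.IsElementaryStandard R B (algebraMap R B s) := by
  classical
  obtain ⟨B'', _, _, _, _, -, ⟨ρ⟩, hstd⟩ := Groth.Agent.S2025.result (R := Rₛ) (A := B')
  obtain ⟨ι, τ, _, _, ⟨P0⟩⟩ := hstd.out
  cases nonempty_fintype ι
  cases nonempty_fintype τ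
  let P := P0.reindex (Fintype.equivFin ι).symm (Fintype.equivFin τ).symm
  letI : Algebra R B'' := ((algebraMap Rₛ B'').comp (algebraMap R Rₛ)).toAlgebra
  have : IsScalarTower R Rₛ B'' := IsScalarTower.of_algebraMap_eq' rfl
  let ρS : B'' →ₐ[Rₛ] B' := ρ.restrictScalars Rₛ
  let gA : A →ₐ[R] B'' :=
    ((IsScalarTower.toAlgHom Rₛ B' B'').comp g).restrictScalars R |>.comp Algebra.TensorProduct.includeRight
  letI : Algebra Λ (Rₛ ⊗[R] Λ) := Algebra.TensorProduct.rightAlgebra
  let hΛ : B'' →ₐ[R] Rₛ ⊗[R] Λ := (h.comp ρS).restrictScalars R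
  have : IsScalarTower R Λ (Rₛ ⊗[R] Λ) := IsScalarTower.of_algebraMap_eq fun r => by
    show _ = (1 : Rₛ) ⊗ₜ[R] algebraMap R Λ r
    rw [Algebra.TensorProduct.algebraMap_apply, Algebra.algebraMap_eq_smul_one (A := Λ),
      ← TensorProduct.smul_tmul, ← Algebra.algebraMap_eq_smul_one]
  have : IsLocalization (Algebra.algebraMapSubmonoid Λ S) (Rₛ ⊗[R] Λ) := inferInstance
  let π : MvPolynomial (Fin (Fintype.card ι)) Rₛ →ₐ[Rₛ] B'' := aeval P.val
  refine exists_standard_of_presentation φ S (RS := Rₛ) (ΛS := Rₛ ⊗[R] Λ) gA hΛ (fun a => ?_) π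
    P.aeval_val_surjective P.relation ?_ P.map P.map_inj ?_
  · show h (ρ (algebraMap B' B'' (g ((1 : Rₛ) ⊗ₜ a)))) = (1 : Rₛ) ⊗ₜ[R] φ a
    rw [ρ.commutes]
    exact (AlgHom.congr_fun hgh _).trans (by simp)
  · rw [P.span_range_relation_eq_ker, Algebra.Generators.ker_eq_ker_aeval_val]; rfl
  · have hu := P.jacobian_isUnit
    rw [Algebra.PreSubmersivePresentation.jacobian_eq_jacobiMatrix_det, Algebra.Generators.algebraMap_apply] at hu
    convert hu using 3
    ext i j
    rw [Algebra.PreSubmersivePresentation.jacobiMatrix_apply]; rfl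

end Groth.NeronArea.DelocalizeBase
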