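import Groth.Prelude.Def_Smoothing
import Mathlib.RingTheory.Smooth.Locus
import Mathlib.RingTheory.Localization.Away.Basic

/-! Basic facts on smoothness at primes and the singular ideal. -/

open Smoothing

namespace Groth.NeronArea.SmoothAtBasics

universe u

variable {R A : Type u} [CommRing R] [CommRing A] [Algebra R A]

lemma mem_singularIdeal_iff {r : A} :
    r ∈ singularIdeal R A ↔ ∀ (Q : Ideal A) [Q.IsPrime], r ∉ Q → Algebra.IsSmoothAt R Q := by
  rw [singularIdeal, PrimeSpectrum.mem_vanishingIdeal]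
  constructor
  · intro h Q hQ hr
    by_contra hn
    exact hr (h ⟨Q, hQ⟩ hn)
  · intro h q hq
    by_contra hr
    exact hq (h q.asIdeal hr)

lemma mem_singularIdeal_iff_smooth [Algebra.FinitePresentation R A] {r : A} :
    r ∈ singularIdeal R A ↔ Algebra.Smooth R (Localization.Away r) := by
  rw [← Algebra.basicOpen_subset_smoothLocus_iff_smooth, mem_singularIdeal_iff]
  exact ⟨fun h q hq => h q.asIdeal hq, fun h Q hQ hr => h (a := ⟨Q, hQ⟩) hr⟩

lemma isSmoothAt_of_smooth_away [Algebra.FinitePresentation R A] {r : A}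
    (h : Algebra.Smooth R (Localization.Away r)) (Q : Ideal A) [Q.IsPrime] (hr : r ∉ Q) :
    Algebra.IsSmoothAt R Q :=
  mem_singularIdeal_iff.1 (mem_singularIdeal_iff_smooth.2 h) Q hr

/-- A quotient by an ideal killed by `s` is smooth wherever the source is smooth and `s` is invertible. -/
lemma smooth_away_of_surjective {B₀ B : Type u} [CommRing B₀] [CommRing B] [Algebra R B₀] [Algebra R B]
    (f : B₀ →ₐ[R] B) (hf : Function.Surjective f) (s : B₀) (hs : ∀ x, f x = 0 → s * x = 0)
    (h : Algebra.Smooth R (Localization.Away s)) : Algebra.Smooth R (Localization.Away (f s)) := by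
  let L₀ := Localization.Away s
  let L := Localization.Away (f s)
  have hu : ∀ y : Submonoid.powers s, IsUnit (((IsScalarTower.toAlgHom R B L).comp f) (y : B₀)) := fun y => by
    obtain ⟨k, hk⟩ := y.2
    rw [← hk, map_pow]; exact (IsLocalization.Away.algebraMap_isUnit (f s)).pow k
  let φ : L₀ →ₐ[R] L := IsLocalization.liftAlgHom (S := L₀) hu
  have hφ : ∀ x, φ (algebraMap B₀ L₀ x) = algebraMap B L (f x) := fun x => IsLocalization.lift_eq hu x
  have hinj : Function.Injective φ := by
    rw [injective_iff_map_eq_zero]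
    intro z hz
    obtain ⟨⟨x, y⟩, hxy⟩ := IsLocalization.surj (Submonoid.powers s) z
    have h0 : algebraMap B L (f x) = 0 := by rw [← hφ, ← hxy, map_mul, hz, zero_mul]
    obtain ⟨⟨t, k, hk⟩, ht⟩ := (IsLocalization.map_eq_zero_iff (Submonoid.powers (f s)) L _).1 h0
    have hk' : f (s ^ k * x) = 0 := by
      rw [map_mul, map_pow]; simp only at hk ht; rw [hk]; exact ht
    have h1 : algebraMap B₀ L₀ x = 0 := (IsLocalization.map_eq_zero_iff (Submonoid.powers s) L₀ _).2
      ⟨⟨s ^ (k + 1), k + 1, rfl⟩, by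
        show s ^ (k + 1) * x = 0
        rw [pow_succ', mul_assoc]; exact hs _ hk'⟩
    rw [← (IsLocalization.map_units L₀ y).mul_left_eq_zero, hxy, h1]
  have hsurj : Function.Surjective φ := by
    intro z
    obtain ⟨⟨x, ⟨_, k, rfl⟩⟩, hxy⟩ := IsLocalization.surj (Submonoid.powers (f s)) z
    obtain ⟨x, rfl⟩ := hf x
    refine ⟨IsLocalization.mk' L₀ x (⟨s ^ k, k, rfl⟩ : Submonoid.powers s), ?_⟩
    have h1 := congrArg φ (IsLocalization.mk'_spec L₀ x (⟨s ^ k, k, rfl⟩ : Submonoid.powers s))
    simp only [map_mul, hφ, map_pow] at h1 hxy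
    exact ((IsLocalization.Away.algebraMap_isUnit (f s)).pow k).mul_right_cancel (h1.trans hxy.symm)
  exact Algebra.Smooth.of_equiv (AlgEquiv.ofBijective φ ⟨hinj, hsurj⟩)

lemma isSmoothAt_trans {D B : Type u} [CommRing D] [CommRing B] [Algebra R D] [Algebra R B] [Algebra D B]
    [IsScalarTower R D B] (Q : Ideal B) [Q.IsPrime]
    (h₁ : Algebra.IsSmoothAt R (Q.comap (algebraMap D B))) (h₂ : Algebra.IsSmoothAt D Q) :
    Algebra.IsSmoothAt R Q := by
  let P := Q.comap (algebraMap D B)
  let Dp := Localization.AtPrime P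
  let BQ := Localization.AtPrime Q
  have : Algebra.FormallySmooth R Dp := h₁
  have : Algebra.FormallySmooth D BQ := h₂
  have hu : ∀ y : P.primeCompl, IsUnit (algebraMap D BQ (y : D)) := fun y => by
    rw [IsScalarTower.algebraMap_apply D B BQ]
    exact IsLocalization.map_units BQ (⟨algebraMap D B y, y.2⟩ : Q.primeCompl)
  let l : Dp →+* BQ := IsLocalization.lift hu
  let := l.toAlgebra
  have : IsScalarTower D Dp BQ := IsScalarTower.of_algebraMap_eq fun x => (IsLocalization.lift_eq hu x).symm
  have : IsScalarTower R Dp BQ := IsScalarTower.of_algebraMap_eq fun x => by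
    rw [IsScalarTower.algebraMap_apply R D Dp, ← IsScalarTower.algebraMap_apply D Dp BQ,
      ← IsScalarTower.algebraMap_apply R D BQ]
  have : Algebra.FormallySmooth Dp BQ := Algebra.FormallySmooth.localization_base (R := D) P.primeCompl
  exact Algebra.FormallySmooth.comp R Dp BQ

end Groth.NeronArea.SmoothAtBasics
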