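import Groth.Prelude.Def_Smoothing
import Groth.Agent.NeronArea.SmoothAtBasics
import Groth.Agent.S2030
import Mathlib.RingTheory.Flat.EquationalCriterion
import Mathlib.RingTheory.Smooth.StandardSmooth
import Mathlib.RingTheory.Smooth.StandardSmoothCotangent
import Mathlib.RingTheory.Nakayama
import Mathlib.RingTheory.Smooth.Flat

/-! Desingularization of an algebra with a strictly standard element that has a section modulo its fourth power. -/

open MvPolynomial Smoothing

set_option linter.style.haveILetI false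

namespace Groth.NeronArea.Desing

universe u

lemma taylor {R S : Type u} [CommRing R] [CommRing S] [Algebra R S] {n : ℕ} (ro : Fin n → R)
    (u : Fin n → S) (t : R) (p : MvPolynomial (Fin n) R) :
    ∃ q : S, aeval (fun i => algebraMap R S (ro i) + algebraMap R S t * u i) p =
      algebraMap R S (eval ro p) + algebraMap R S t * (∑ i, algebraMap R S (eval ro (pderiv i p)) * u i)
        + algebraMap R S t ^ 2 * q := by
  classical
  induction p using MvPolynomial.induction_on with
  | C a => exact ⟨0, by simp⟩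
  | add p q hp hq =>
    obtain ⟨a, ha⟩ := hp; obtain ⟨b, hb⟩ := hq
    refine ⟨a + b, ?_⟩
    simp only [map_add, ha, hb, add_mul, Finset.sum_add_distrib, mul_add]; ring
  | mul_X p k hp =>
    obtain ⟨a, ha⟩ := hp
    have hsum : ∑ i, algebraMap R S (eval ro (pderiv i (p * X k))) * u i =
        algebraMap R S (ro k) * (∑ i, algebraMap R S (eval ro (pderiv i p)) * u i) +
          algebraMap R S (eval ro p) * u k := by
      simp only [pderiv_mul, map_add, map_mul, eval_X, add_mul, Finset.sum_add_distrib, Finset.mul_sum]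
      congr 1
      · exact Finset.sum_congr rfl fun i _ => by ring
      · rw [Finset.sum_eq_single k]
        · simp
        · intro i _ hi; simp [pderiv_X_of_ne hi.symm]
        · simp
    refine ⟨a * (algebraMap R S (ro k) + algebraMap R S t * u k) +
      (∑ i, algebraMap R S (eval ro (pderiv i p)) * u i) * u k, ?_⟩
    rw [map_mul, ha, aeval_X, hsum, map_mul, eval_X, map_mul]; ring

lemma mul_pow_eq_zero {M : Type u} [CommRing M] {p x : M} (h : ∀ y, p ^ 2 * y = 0 → p * y = 0) :
    ∀ k : ℕ, p ^ (k + 1) * x = 0 → p * x = 0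
  | 0, hk => by simpa using hk
  | k + 1, hk => mul_pow_eq_zero h k (by
      rw [pow_succ' p k, mul_assoc]
      refine h _ ?_
      rw [← mul_assoc, ← pow_add, show 2 + k = k + 1 + 1 by omega]; exact hk)

/-- A marked presentation whose base element is strictly standard gives a right inverse up to scale. -/
lemma exists_rightInverse {R A : Type u} [CommRing R] [CommRing A] [Algebra R A] (P : MarkedPresentation R A)
    (π : R) (hspan : algebraMap R A π ∈ Ideal.span (Set.range fun cols : Fin P.c → Fin P.n =>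
      P.hom (jacobianMinor P.rel (Fin.castLE P.hcm) cols)))
    (ro : Fin P.n → R) (hro : ∀ p, P.hom p = 0 → π ^ 4 ∣ eval ro p) :
    ∃ (G : Matrix (Fin P.n) (Fin P.c) R) (e : R),
      (Matrix.of fun j k => eval ro (pderiv k (P.rel (Fin.castLE P.hcm j))) : Matrix (Fin P.c) (Fin P.n) R) * G =
        (π * (1 + π ^ 3 * e)) • 1 := by
  classical
  obtain ⟨a, ha⟩ := (Ideal.mem_span_range_iff_exists_fun).1 hspan
  choose a' ha' using fun cols => P.surj (a cols)
  let d := fun cols : Fin P.c → Fin P.n => jacobianMinor P.rel (Fin.castLE P.hcm) cols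
  have h0 : P.hom (∑ cols, a' cols * d cols - C π) = 0 := by
    rw [map_sub, map_sum, sub_eq_zero, ← MvPolynomial.algebraMap_eq, AlgHom.commutes, ← ha]
    exact Finset.sum_congr rfl fun cols _ => by rw [map_mul, ha']
  obtain ⟨e, he⟩ := hro _ h0
  rw [map_sub, map_sum, eval_C, sub_eq_iff_eq_add] at he
  let J : Matrix (Fin P.c) (Fin P.n) R := Matrix.of fun j k => eval ro (pderiv k (P.rel (Fin.castLE P.hcm j)))
  let Sel : (Fin P.c → Fin P.n) → Matrix (Fin P.n) (Fin P.c) R := fun cols =>
    (1 : Matrix (Fin P.n) (Fin P.n) R).submatrix id cols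
  refine ⟨∑ cols, eval ro (a' cols) • (Sel cols * (J.submatrix id cols).adjugate), e, ?_⟩
  have h1 : ∀ cols, J * (Sel cols * (J.submatrix id cols).adjugate) =
      eval ro (d cols) • (1 : Matrix (Fin P.c) (Fin P.c) R) := by
    intro cols
    have : J * Sel cols = J.submatrix id cols := by
      ext i j; simp [Sel, Matrix.mul_apply, Matrix.one_apply]
    rw [← Matrix.mul_assoc, this, Matrix.mul_adjugate]
    congr 1
    simp only [d, jacobianMinor, RingHom.map_det]
    rfl
  refine (Matrix.mul_sum Finset.univ _ _).trans ?_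
  refine (Finset.sum_congr rfl fun cols _ => (Matrix.mul_smul _ _ _).trans (congrArg _ (h1 cols))).trans ?_
  simp only [smul_smul, ← Finset.sum_smul]
  congr 1
  rw [show ∑ x, eval ro (a' x) * eval ro (d x) = ∑ x, eval ro (a' x * d x) from
    Finset.sum_congr rfl fun x _ => (map_mul _ _ _).symm, he]
  ring

/-- Inverting the Jacobian determinant gives a smooth algebra. -/
theorem smooth_away_jacobian {R : Type u} [CommRing R] {σ : Type} [Finite σ] {c : ℕ}
    (h : Fin c → MvPolynomial σ R) (a : Fin c → σ) (ha : Function.Injective a) :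
    Algebra.Smooth R (Localization.Away (Ideal.Quotient.mk (Ideal.span (Set.range h))
      (Matrix.of fun i j => pderiv (a i) (h j)).det)) := by
  classical
  let Pre : Algebra.PreSubmersivePresentation R (MvPolynomial σ R ⧸ Ideal.span (Set.range h)) σ (Fin c) :=
    Algebra.PreSubmersivePresentation.naive (v := h) a ha
  let g := Ideal.Quotient.mk (Ideal.span (Set.range h)) (Matrix.of fun i j => pderiv (a i) (h j)).det
  have hjac : Pre.jacobian = g := by
    rw [Algebra.PreSubmersivePresentation.jacobian_eq_jacobiMatrix_det, Algebra.Generators.algebraMap_apply]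
    show aeval _ _ = _
    have hN : Pre.jacobiMatrix = Matrix.of fun i j => pderiv (a i) (h j) := by
      ext i j; rw [Algebra.PreSubmersivePresentation.jacobiMatrix_naive]; rfl
    rw [hN]
    exact AlgHom.congr_fun (show aeval Pre.val = Ideal.Quotient.mkₐ R (Ideal.span (Set.range h)) from
      MvPolynomial.algHom_ext fun i => aeval_X _ i) _
  let L := Localization.Away g
  let Loc := Algebra.PreSubmersivePresentation.localizationAway L g
  let S : Algebra.SubmersivePresentation R L (Unit ⊕ σ) (Unit ⊕ Fin c) :=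
    { toPreSubmersivePresentation := Loc.comp Pre
      jacobian_isUnit := by
        rw [Algebra.PreSubmersivePresentation.comp_jacobian_eq_jacobian_smul_jacobian, Algebra.smul_def,
          Algebra.PreSubmersivePresentation.localizationAway_jacobian, hjac]
        exact (IsLocalization.Away.algebraMap_isUnit g).mul (IsLocalization.Away.algebraMap_isUnit g) }
  have := S.isStandardSmooth
  exact (inferInstance : Algebra.Smooth R L)

/-- Flatness transports the annihilator condition. -/
theorem annihilator_of_flat {R L : Type u} [CommRing R] [CommRing L] [Algebra R L] [Module.Flat R L]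
    {π r : R} (hr : ∀ x : R, π ^ 2 * x = 0 → π * (r * x) = 0) (z : L)
    (hz : algebraMap R L π ^ 2 * z = 0) : algebraMap R L r * (algebraMap R L π * z) = 0 := by
  obtain ⟨k, a, y, hzy, ha⟩ := Module.Flat.isTrivialRelation_of_sum_smul_eq_zero (R := R) (M := L)
    (f := fun _ : Fin 1 => π ^ 2) (x := fun _ => z) (by simpa [Algebra.smul_def] using hz)
  have hz' := hzy 0
  simp only at hz'
  rw [hz', Finset.mul_sum, Finset.mul_sum]
  refine Finset.sum_eq_zero fun i _ => ?_
  have hai := ha i
  simp only [Fin.sum_univ_one] at hai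
  have h2 := hr _ hai
  rw [Algebra.smul_def, ← mul_assoc, ← mul_assoc, ← map_mul, ← map_mul,
    show r * π * a 0 i = π * (r * a 0 i) by ring, h2, map_zero, zero_mul]

/-- Away from `π`, the algebra is a localized polynomial algebra over `A`. -/
theorem smooth_away_param {R A B : Type u} [CommRing R] [CommRing A] [CommRing B] [Algebra R A] [Algebra R B]
    [Algebra.FinitePresentation R A] (π : R) [Algebra.Smooth R (Localization.Away (algebraMap R A π))]
    {n c : ℕ} (hom : MvPolynomial (Fin n) R →ₐ[R] A) (hsurj : Function.Surjective hom)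
    (ro : Fin n → R) (G : Fin n → Fin c → R) (xs : Fin n → MvPolynomial (Fin n ⊕ Fin c) R)
    (hxs : ∀ k, xs k = C (ro k) + C (π ^ 2) * (C π * X (Sum.inl k) + ∑ j, C (G k j) * X (Sum.inr j)))
    (f : MvPolynomial (Fin n ⊕ Fin c) R →ₐ[R] B) (hf : Function.Surjective f)
    (α : A →ₐ[R] B) (hα : ∀ q, α (hom q) = f (aeval xs q))
    (hker : ∀ (L : Type u) [CommRing L] [Algebra R L] (ζ : MvPolynomial (Fin n ⊕ Fin c) R →ₐ[R] L)
      (inA : A →ₐ[R] L), IsUnit (algebraMap R L π) → (∀ q, ζ (aeval xs q) = inA (hom q)) →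
        RingHom.ker f ≤ RingHom.ker ζ) :
    Algebra.Smooth R (Localization.Away (algebraMap R B π)) := by
  classical
  let AW := MvPolynomial (Fin c) A
  let L := Localization.Away (algebraMap R AW π)
  let LB := Localization.Away (algebraMap R B π)
  let Aπ := Localization.Away (algebraMap R A π)
  have hπu : IsUnit (algebraMap R L π) := by
    rw [IsScalarTower.algebraMap_apply R AW L]; exact IsLocalization.Away.algebraMap_isUnit _
  have hπuB : IsUnit (algebraMap R LB π) := by
    rw [IsScalarTower.algebraMap_apply R B LB]; exact IsLocalization.Away.algebraMap_isUnit _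
  obtain ⟨ui, hui⟩ := hπu.exists_right_inv
  let inA : A →ₐ[R] L := (IsScalarTower.toAlgHom R AW L).comp (IsScalarTower.toAlgHom R A AW)
  let wL : Fin c → L := fun j => algebraMap AW L (X j)
  let vL : Fin n → L := fun k => (inA (hom (X k)) - algebraMap R L (ro k)
    - algebraMap R L (π ^ 2) * ∑ j, algebraMap R L (G k j) * wL j) * ui ^ 3
  let ζT : MvPolynomial (Fin n ⊕ Fin c) R →ₐ[R] L := aeval (Sum.elim vL wL)
  have hζxs : ∀ k, ζT (xs k) = inA (hom (X k)) := fun k => by
    simp only [hxs, ζT, vL, map_add, map_mul, map_sum, aeval_C, aeval_X, Sum.elim_inl, Sum.elim_inr, map_pow]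
    linear_combination (inA (hom (X k)) - algebraMap R L (ro k)
      - algebraMap R L π ^ 2 * ∑ j, algebraMap R L (G k j) * wL j) *
      ((algebraMap R L π * ui) ^ 2 + algebraMap R L π * ui + 1) * hui
  have hζaev : ∀ q, ζT (aeval xs q) = inA (hom q) := fun q =>
    AlgHom.congr_fun (show ζT.comp (aeval xs) = inA.comp hom from MvPolynomial.algHom_ext fun i => by
      simp only [AlgHom.comp_apply, aeval_X]; exact hζxs i) q
  have hk := hker L ζT inA hπu hζaev
  let ζB : B →ₐ[R] L := (Ideal.Quotient.liftₐ (RingHom.ker f) ζT fun x hx => hk hx).comp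
    (Ideal.quotientKerAlgEquivOfSurjective hf).symm.toAlgHom
  have hζB' : ∀ t, ζB (f t) = ζT t := fun t => by
    simp only [ζB, AlgHom.comp_apply, AlgEquiv.coe_toAlgHom]
    rw [show (Ideal.quotientKerAlgEquivOfSurjective hf).symm (f t) = Ideal.Quotient.mk _ t from
      (AlgEquiv.symm_apply_eq _).2 rfl]
    rfl
  have hu1 : ∀ y : Submonoid.powers (algebraMap R B π), IsUnit (ζB y) := fun y => by
    obtain ⟨k, hk⟩ := y.2
    rw [← hk, map_pow, ζB.commutes]; exact hπu.pow k
  let ζ : LB →ₐ[R] L := IsLocalization.liftAlgHom (S := LB) hu1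
  let inB : MvPolynomial (Fin n ⊕ Fin c) R →ₐ[R] LB := (IsScalarTower.toAlgHom R B LB).comp f
  let αL : A →ₐ[R] LB := (IsScalarTower.toAlgHom R B LB).comp α
  let θW : AW →ₐ[R] LB :=
    { eval₂Hom αL.toRingHom (fun j => inB (X (Sum.inr j))) with
      commutes' := fun x => by
        show eval₂Hom αL.toRingHom _ (algebraMap R AW x) = _
        rw [IsScalarTower.algebraMap_apply R A AW, MvPolynomial.algebraMap_eq, eval₂Hom_C]
        exact αL.commutes x }
  have hu2 : ∀ y : Submonoid.powers (algebraMap R AW π), IsUnit (θW y) := fun y => by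
    obtain ⟨k, hk⟩ := y.2
    rw [← hk, map_pow, θW.commutes]; exact hπuB.pow k
  let θ : L →ₐ[R] LB := IsLocalization.liftAlgHom (S := L) hu2
  have hζB : ∀ t, ζ (inB t) = ζT t := fun t => (IsLocalization.lift_eq hu1 _).trans (hζB' t)
  have hθA : ∀ x : A, θ (inA x) = αL x := fun x => by
    show θ (algebraMap AW L (C x)) = _
    rw [show θ (algebraMap AW L (C x)) = θW (C x) from IsLocalization.lift_eq hu2 _]
    exact eval₂Hom_C _ _ x
  have hθw : ∀ j, θ (wL j) = inB (X (Sum.inr j)) := fun j => by
    rw [show θ (wL j) = θW (X j) from IsLocalization.lift_eq hu2 _]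
    exact eval₂Hom_X' _ _ j
  have hθζ : ∀ t, θ (ζT t) = inB t := by
    refine fun t => AlgHom.congr_fun (show θ.comp ζT = inB from MvPolynomial.algHom_ext fun i => ?_) t
    rcases i with k | j
    · rw [AlgHom.comp_apply]
      have hθu : θ ui * algebraMap R LB π = 1 := by
        rw [← θ.commutes π, ← map_mul, mul_comm, hui, map_one]
      have hxk : αL (hom (X k)) = inB (xs k) := by
        show algebraMap B LB (α (hom (X k))) = _
        rw [hα, aeval_X]; rfl
      show θ (ζT (X (Sum.inl k))) = _
      simp only [ζT, aeval_X, Sum.elim_inl, vL, map_mul, map_sub, map_sum, map_pow, hθA, hθw,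
        AlgHom.commutes, hxk, hxs, map_add, ← MvPolynomial.algebraMap_eq]
      linear_combination (inB (X (Sum.inl k))) *
        ((θ ui * algebraMap R LB π) ^ 2 + θ ui * algebraMap R LB π + 1) * hθu
    · rw [AlgHom.comp_apply]
      simp only [ζT, aeval_X, Sum.elim_inr]
      exact hθw j
  have e1 : θ.comp ζ = AlgHom.id R LB := by
    refine AlgHom.coe_ringHom_injective (IsLocalization.ringHom_ext (Submonoid.powers (algebraMap R B π))
      (RingHom.ext fun b => ?_))
    obtain ⟨t, rfl⟩ := hf b
    show θ (ζ (inB t)) = inB t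
    rw [hζB, hθζ]
  have e2 : ζ.comp θ = AlgHom.id R L := by
    refine AlgHom.coe_ringHom_injective (IsLocalization.ringHom_ext (Submonoid.powers (algebraMap R AW π))
      (MvPolynomial.ringHom_ext (fun x => ?_) fun j => ?_))
    · obtain ⟨q, rfl⟩ := hsurj x
      show ζ (θ (inA (hom q))) = inA (hom q)
      rw [hθA, show αL (hom q) = inB (aeval xs q) from congrArg (algebraMap B LB) (hα q), hζB, hζaev]
    · show ζ (θ (wL j)) = wL j
      rw [hθw, hζB]
      simp [ζT]
  let eq : L ≃ₐ[R] LB := AlgEquiv.ofAlgHom θ ζ e1 e2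
  have hπA : ∀ y : Submonoid.powers (algebraMap R A π), IsUnit (inA y) := fun y => by
    obtain ⟨k, hk⟩ := y.2
    rw [← hk, map_pow, inA.commutes]; exact hπu.pow k
  let lA : Aπ →ₐ[R] L := IsLocalization.liftAlgHom (S := Aπ) hπA
  let := lA.toRingHom.toAlgebra
  have : IsScalarTower R Aπ L := IsScalarTower.of_algebraMap_eq fun x => (lA.commutes x).symm
  have : IsScalarTower A Aπ L := IsScalarTower.of_algebraMap_eq fun x =>
    (IsLocalization.lift_eq hπA x).symm
  have : Algebra.Smooth A AW := {}
  have : Algebra.Smooth A L := Algebra.Smooth.comp A AW L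
  have : Algebra.FormallySmooth Aπ L :=
    Algebra.FormallySmooth.localization_base (R := A) (Submonoid.powers (algebraMap R A π))
  have : Algebra.FinitePresentation Aπ L := .of_restrict_scalars_finitePresentation A Aπ L
  have : Algebra.Smooth Aπ L := {}
  have : Algebra.Smooth R L := Algebra.Smooth.comp R Aπ L
  exact Algebra.Smooth.of_equiv eq

set_option maxHeartbeats 1000000 in
theorem desingularize {R Λ A : Type u} [CommRing R] [IsNoetherianRing R] [CommRing Λ]
    [Algebra R Λ] (π : R) (hΛ : ∀ x : Λ, π ^ 2 • x = 0 → π • x = 0) [CommRing A] [Algebra R A]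
    [Algebra.FinitePresentation R A] (φ : A →ₐ[R] Λ)
    (hπ : Smoothing.IsStrictlyStandard R A (algebraMap R A π))
    (ρ : A →ₐ[R] R ⧸ Ideal.span {π ^ 4})
    (hρ : ∀ (a : A) (r : R), Ideal.Quotient.mk (Ideal.span {π ^ 4}) r = ρ a →
      algebraMap R Λ r - φ a ∈ Ideal.span {algebraMap R Λ (π ^ 4)}) :
    ∃ (B : Type u) (_ : CommRing B) (_ : Algebra R B), Algebra.FinitePresentation R B ∧
      ∃ (α : A →ₐ[R] B) (β : B →ₐ[R] Λ), β.comp α = φ ∧
        ∀ r : R, (∀ x : R, π ^ 2 * x = 0 → π * (r * x) = 0) →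
          algebraMap R B r ∈ Smoothing.singularIdeal R B := by
  classical
  have hAπ : Algebra.Smooth R (Localization.Away (algebraMap R A π)) :=
    (Groth.Agent.S2030.result _ hπ).1
  obtain ⟨P, hspan, hkill⟩ := hπ
  let n := P.n; let c := P.c; let m := P.m
  let lead : Fin c → Fin m := Fin.castLE P.hcm
  choose ro hro using fun i => Ideal.Quotient.mk_surjective (ρ (P.hom (X i)))
  have hroev : ∀ p, Ideal.Quotient.mk (Ideal.span {π ^ 4}) (eval ro p) = ρ (P.hom p) := by
    intro p
    refine AlgHom.congr_fun (show (Ideal.Quotient.mkₐ R (Ideal.span {π ^ 4})).comp (aeval ro) = ρ.comp P.hom from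
      MvPolynomial.algHom_ext fun i => ?_) p
    show Ideal.Quotient.mk _ (aeval ro (X i)) = ρ (P.hom (X i))
    rw [aeval_X]; exact hro i
  have hdvd : ∀ p, P.hom p = 0 → π ^ 4 ∣ eval ro p := fun p hp => by
    rw [← Ideal.mem_span_singleton, ← Ideal.Quotient.eq_zero_iff_mem, hroev, hp, map_zero]
  obtain ⟨G, e, hG⟩ := exists_rightInverse P π hspan ro hdvd
  have hrel0 : ∀ j, P.hom (P.rel j) = 0 := fun j =>
    RingHom.mem_ker.1 (P.ker_eq ▸ Ideal.subset_span ⟨j, rfl⟩)
  choose cst hcst using fun j => hdvd _ (hrel0 j)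
  choose μ hμ using fun i => Ideal.mem_span_singleton'.1
    (Submodule.neg_mem _ (hρ (P.hom (X i)) (ro i) (hro i)))
  -- the variables
  let T := MvPolynomial (Fin n ⊕ Fin c) R
  let p : T := C π
  let u : Fin n → T := fun k => p * X (Sum.inl k) + ∑ j, C (G k j) * X (Sum.inr j)
  let xs : Fin n → T := fun k => C (ro k) + C (π ^ 2) * u k
  choose Q hQ using fun j : Fin m => taylor (S := T) ro u (π ^ 2) (P.rel j)
  let J : Fin c → Fin n → R := fun j k => eval ro (pderiv k (P.rel (lead j)))
  let h : Fin c → T := fun j => p * C (cst (lead j)) + (∑ k, C (J j k) * X (Sum.inl k))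
    + C (1 + π ^ 3 * e) * X (Sum.inr j) + p * Q (lead j)
  have hx_lead : ∀ j, aeval xs (P.rel (lead j)) = p ^ 3 * h j := by
    intro j
    have hcol : ∀ l, ∑ k, (C (J j k) : T) * (C (G k l) * X (Sum.inr l)) =
        (C (((π * (1 + π ^ 3 * e)) • (1 : Matrix (Fin c) (Fin c) R)) j l) : T) * X (Sum.inr l) := fun l => by
      rw [← hG, Matrix.mul_apply, map_sum, Finset.sum_mul]
      exact Finset.sum_congr rfl fun k _ => by simp [J, lead, mul_assoc]
    have hu : ∑ k, (C (J j k) : T) * u k =
        p * (∑ k, C (J j k) * X (Sum.inl k)) + p * C (1 + π ^ 3 * e) * X (Sum.inr j) := by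
      calc ∑ k, (C (J j k) : T) * u k
          = ∑ k, (p * (C (J j k) * X (Sum.inl k)) + ∑ l, C (J j k) * (C (G k l) * X (Sum.inr l))) :=
            Finset.sum_congr rfl fun k _ => by simp only [u, mul_add, Finset.mul_sum]; ring
        _ = p * (∑ k, C (J j k) * X (Sum.inl k)) + ∑ l, ∑ k, C (J j k) * (C (G k l) * X (Sum.inr l)) := by
            rw [Finset.sum_add_distrib, Finset.sum_comm, Finset.mul_sum]
        _ = _ := by
            simp only [hcol]
            congr 1
            rw [Finset.sum_eq_single j]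
            · simp [p]
            · intro b _ hb; simp [Matrix.one_apply_ne hb.symm]
            · simp
    refine (hQ (lead j)).trans ?_
    rw [hcst (lead j), show (algebraMap R T : R →+* T) = C from rfl, map_mul, hu]
    simp only [h, p, map_pow]
    ring
  let B₀ := T ⧸ Ideal.span (Set.range h)
  let xb : Fin n → B₀ := fun k => Ideal.Quotient.mk _ (xs k)
  let tail : Ideal B₀ := Ideal.span (Set.range fun j => aeval xb (P.rel j))
  let B := B₀ ⧸ tail
  have hxb : ∀ q, aeval xb q = Ideal.Quotient.mk _ (aeval xs q) := fun q =>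
    (comp_aeval_apply xs (Ideal.Quotient.mkₐ R (Ideal.span (Set.range h))) q).symm
  have hlead0 : ∀ j, aeval xb (P.rel (lead j)) = 0 := fun j => by
    rw [hxb, hx_lead, map_mul,
      Ideal.Quotient.eq_zero_iff_mem.2 (Ideal.subset_span (Set.mem_range_self j) : h j ∈ Ideal.span (Set.range h)),
      mul_zero]
  let f₀ : MvPolynomial (Fin n) R →ₐ[R] B := (Ideal.Quotient.mkₐ R tail).comp (aeval xb)
  have hf₀ : ∀ x ∈ RingHom.ker P.hom, f₀ x = 0 := fun x hx => by
    have hle : Ideal.span (Set.range P.rel) ≤ RingHom.ker f₀ := Ideal.span_le.2 (by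
      rintro _ ⟨j, rfl⟩
      exact Ideal.Quotient.eq_zero_iff_mem.2 (Ideal.subset_span ⟨j, rfl⟩))
    exact hle (P.ker_eq ▸ hx)
  let α : A →ₐ[R] B := (Ideal.Quotient.liftₐ (RingHom.ker P.hom) f₀ hf₀).comp
    (Ideal.quotientKerAlgEquivOfSurjective P.surj).symm.toAlgHom
  have hα : ∀ q, α (P.hom q) = f₀ q := fun q => by
    simp only [α, AlgHom.comp_apply, AlgEquiv.coe_toAlgHom]
    rw [show (Ideal.quotientKerAlgEquivOfSurjective P.surj).symm (P.hom q) = Ideal.Quotient.mk _ q from
      (AlgEquiv.symm_apply_eq _).2 rfl]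
    rfl
  -- the map to `Λ`
  let pt : Fin n ⊕ Fin c → Λ := Sum.elim (fun k => algebraMap R Λ π * μ k) 0
  let βT : T →ₐ[R] Λ := aeval pt
  have hβC : ∀ a, βT (C a) = algebraMap R Λ a := fun a => aeval_C pt a
  have hβl : ∀ k, βT (X (Sum.inl k)) = algebraMap R Λ π * μ k := fun k => aeval_X pt _
  have hβr : ∀ j, βT (X (Sum.inr j)) = 0 := fun j => aeval_X pt _
  have hβxs : ∀ k, βT (xs k) = φ (P.hom (X k)) := fun k => by
    simp only [xs, u, p, map_add, map_mul, map_sum, hβC, hβl, hβr, mul_zero, Finset.sum_const_zero, add_zero]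
    have := hμ k
    rw [neg_sub] at this
    rw [map_pow] at this ⊢
    linear_combination this
  have hβaev : ∀ q, βT (aeval xs q) = φ (P.hom q) := fun q =>
    AlgHom.congr_fun (show βT.comp (aeval xs) = φ.comp P.hom from MvPolynomial.algHom_ext fun i => by
      simp only [AlgHom.comp_apply, aeval_X]; exact hβxs i) q
  have hπΛ : ∀ y : Λ, algebraMap R Λ π ^ 2 * y = 0 → algebraMap R Λ π * y = 0 := fun y hy => by
    rw [← Algebra.smul_def]; exact hΛ y (by rw [Algebra.smul_def, map_pow]; exact hy)
  have hβh : ∀ j, βT (h j) = 0 := by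
    intro j
    have hex : ∃ y, βT (h j) = algebraMap R Λ π * y := by
      refine ⟨algebraMap R Λ (cst (lead j)) + (∑ k, algebraMap R Λ (J j k) * μ k) + βT (Q (lead j)), ?_⟩
      have hs : βT (∑ k, C (J j k) * X (Sum.inl k)) = algebraMap R Λ π * ∑ k, algebraMap R Λ (J j k) * μ k := by
        rw [map_sum, Finset.mul_sum]
        exact Finset.sum_congr rfl fun k _ => by rw [map_mul, hβC, hβl]; ring
      simp only [h, p, map_add, map_mul, hs, hβC, hβr, mul_zero, add_zero]
      ring
    obtain ⟨y, hy⟩ := hex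
    have h0 : βT (p ^ 3 * h j) = 0 := by
      rw [← hx_lead, hβaev, hrel0, map_zero]
    rw [map_mul, map_pow, hy, show βT p = algebraMap R Λ π from aeval_C pt π, ← mul_assoc, ← pow_succ] at h0
    rw [hy]; exact mul_pow_eq_zero hπΛ 3 h0
  let β₀ : B₀ →ₐ[R] Λ := Ideal.Quotient.liftₐ _ βT fun x hx => by
    have : Ideal.span (Set.range h) ≤ RingHom.ker βT := Ideal.span_le.2 (by
      rintro _ ⟨j, rfl⟩; exact hβh j)
    exact this hx
  let β : B →ₐ[R] Λ := Ideal.Quotient.liftₐ _ β₀ fun x hx => by
    have : tail ≤ RingHom.ker β₀ := Ideal.span_le.2 (by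
      rintro _ ⟨j, rfl⟩
      show β₀ (aeval xb (P.rel j)) = 0
      rw [hxb]; show βT _ = 0
      rw [hβaev, hrel0, map_zero])
    exact this hx
  have : Algebra.FinitePresentation R T := inferInstance
  have : Algebra.FinitePresentation R B₀ :=
    Algebra.FinitePresentation.quotient (Submodule.fg_span (Set.finite_range _))
  have hfpB : Algebra.FinitePresentation R B :=
    Algebra.FinitePresentation.quotient (Submodule.fg_span (Set.finite_range _))
  let πB : B := Ideal.Quotient.mkₐ R tail (algebraMap R B₀ π)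
  refine ⟨B, inferInstance, inferInstance, hfpB, α, β, AlgHom.ext fun a => ?_, fun r hr => ?_⟩
  · obtain ⟨q, rfl⟩ := P.surj a
    rw [AlgHom.comp_apply, hα]
    show β₀ (aeval xb q) = φ (P.hom q)
    rw [hxb]; exact hβaev q
  rw [SmoothAtBasics.mem_singularIdeal_iff]
  intro Qp hQp hrQ
  by_cases hπQ : πB ∈ Qp
  · -- near the fibre over `π`
    let mk₀ : B₀ →ₐ[R] B := Ideal.Quotient.mkₐ R tail
    let Q₀ : Ideal B₀ := Qp.comap mk₀
    have hQ₀ : Q₀.IsPrime := Ideal.IsPrime.comap _
    let π₀ := algebraMap R B₀ π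
    have hπQ₀ : π₀ ∈ Q₀ := hπQ
    have hone : ∀ a : B₀, a - 1 ∈ Ideal.span {π₀} → a ∉ Q₀ := fun a ha hmem => hQ₀.ne_top
      ((Ideal.eq_top_iff_one _).2 (by
        have := sub_mem hmem ((Ideal.span_singleton_le_iff_mem _).2 hπQ₀ ha)
        simpa using this))
    let N : Matrix (Fin c) (Fin c) T := Matrix.of fun i j => pderiv (Sum.inr i) (h j)
    let g : B₀ := Ideal.Quotient.mk (Ideal.span (Set.range h)) N.det
    let mkπ := Ideal.Quotient.mk (Ideal.span {p} : Ideal T)
    have hpπ : mkπ p = 0 := Ideal.Quotient.eq_zero_iff_mem.2 (Ideal.mem_span_singleton_self _)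
    have hN : N.det - 1 ∈ (Ideal.span {p} : Ideal T) := by
      rw [← Ideal.Quotient.eq_zero_iff_mem, map_sub, map_one, sub_eq_zero, RingHom.map_det]
      refine (congrArg Matrix.det ?_).trans Matrix.det_one
      ext i j
      rw [RingHom.mapMatrix_apply, Matrix.map_apply]
      show mkπ (pderiv (Sum.inr i) (h j)) = _
      have hd : pderiv (Sum.inr i) (h j) = p * pderiv (Sum.inr i) (Q (lead j)) +
          C (1 + π ^ 3 * e) * (if i = j then 1 else 0) := by
        have hs0 : pderiv (Sum.inr i) (∑ k, (C (J j k) : T) * X (Sum.inl k)) = 0 := by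
          rw [map_sum]
          exact Finset.sum_eq_zero fun k _ => by simp [pderiv_mul]
        simp only [h, p, map_add, hs0]
        by_cases hij : i = j
        · subst hij; simp [pderiv_mul]; ring
        · simp [pderiv_mul, hij, pderiv_X, Pi.single_apply, Ne.symm hij]
      have hC1 : mkπ (C (1 + π ^ 3 * e)) = 1 := by
        have hCπ : mkπ (C π) = 0 := hpπ
        simp [hCπ]
      rw [hd, map_add, map_mul, map_mul, hpπ, zero_mul, zero_add, hC1, one_mul]
      by_cases hij : i = j
      · subst hij; simp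
      · simp [Matrix.one_apply_ne hij, hij]
    have hg1 : g - 1 ∈ Ideal.span {π₀} := by
      have h1 := Ideal.mem_map_of_mem (Ideal.Quotient.mk (Ideal.span (Set.range h))) hN
      rw [Ideal.map_span, Set.image_singleton, map_sub, map_one] at h1
      exact h1
    have hgQ : g ∉ Q₀ := hone g hg1
    let L := Localization.Away g
    have hsmL : Algebra.Smooth R L := smooth_away_jacobian h Sum.inr Sum.inr_injective
    have hrB : ∀ z : L, algebraMap R L π ^ 2 * z = 0 → algebraMap R L r * (algebraMap R L π * z) = 0 :=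
      annihilator_of_flat hr
    -- the tail
    let Ix : Ideal B₀ := tail
    have hdvd2 : ∀ j, π₀ ^ 2 ∣ aeval xb (P.rel j) := fun j => by
      rw [hxb, show aeval xs (P.rel j) = _ from hQ j, hcst j]
      refine ⟨Ideal.Quotient.mk _ (C (π ^ 2 * cst j) + (∑ i, C (eval ro (pderiv i (P.rel j))) * u i)
        + C (π ^ 2) * Q j), ?_⟩
      simp only [π₀, show (algebraMap R T : R →+* T) = C from rfl, map_add, map_mul, map_pow,
        show (Ideal.Quotient.mk (Ideal.span (Set.range h))) (C π) = algebraMap R B₀ π from rfl]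
      ring
    have hkill' : ∀ j, π₀ * aeval xb (P.rel j) ∈ Ideal.span {π₀} * (Ideal.span {π₀} * tail) := by
      intro j
      by_cases hj : (j : ℕ) < c
      · rw [show j = lead ⟨j, hj⟩ from Fin.ext rfl, hlead0, mul_zero]; exact zero_mem _
      have hk := hkill (C π) (by rw [← MvPolynomial.algebraMap_eq, AlgHom.commutes]) j (not_lt.1 hj)
      have hk2 := Ideal.mem_map_of_mem (aeval xb) hk
      rw [Ideal.map_sup, Ideal.map_pow, Ideal.map_span, Ideal.map_span, ← Set.range_comp, map_mul,
        aeval_C] at hk2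
      have hz : Ideal.span (aeval xb '' (P.rel '' {j' : Fin m | (j' : ℕ) < c})) = ⊥ := by
        rw [Ideal.span_eq_bot]
        rintro _ ⟨_, ⟨j', hj', rfl⟩, rfl⟩
        rw [show j' = lead ⟨j', hj'⟩ from Fin.ext rfl, hlead0]
      rw [hz, bot_sup_eq] at hk2
      have hle : tail ≤ Ideal.span {π₀ ^ 2} := Ideal.span_le.2 (by
        rintro _ ⟨j, rfl⟩; exact Ideal.mem_span_singleton.2 (hdvd2 j))
      have hsq : tail ^ 2 ≤ Ideal.span {π₀} * (Ideal.span {π₀} * tail) := by
        rw [pow_two tail, ← mul_assoc, Ideal.span_singleton_mul_span_singleton]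
        exact Ideal.mul_mono_left (hle.trans (le_of_eq (by rw [pow_two π₀])))
      exact hsq hk2
    let I1 : Ideal B₀ := Ideal.span {π₀} * tail
    have hI1fg : I1.FG := Submodule.FG.mul (Submodule.fg_span_singleton _) (Submodule.fg_span (Set.finite_range _))
    have hI1 : I1 ≤ Ideal.span {π₀} • I1 := by
      rw [smul_eq_mul]
      show Ideal.span {π₀} * tail ≤ _
      rw [Ideal.span_singleton_mul_le_iff]
      intro z hz
      induction hz using Submodule.span_induction with
      | mem z hz => obtain ⟨j, rfl⟩ := hz; exact hkill' j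
      | zero => simp
      | add a b _ _ ha hb => rw [mul_add]; exact add_mem ha hb
      | smul a b _ hb => rw [smul_eq_mul, mul_left_comm]; exact Ideal.mul_mem_left _ _ hb
    obtain ⟨ee, hee1, hee⟩ := Submodule.exists_sub_one_mem_and_smul_eq_zero_of_fg_of_le_smul
      (Ideal.span {π₀}) I1 hI1fg hI1
    have heeQ : ee ∉ Q₀ := hone ee hee1
    let r₀ := algebraMap R B₀ r
    have hr₀Q : r₀ ∉ Q₀ := fun hh => hrQ (by
      have : mk₀ r₀ ∈ Qp := hh
      rwa [AlgHom.commutes] at this)
    have hgen : ∀ j, algebraMap B₀ L (ee * r₀ * aeval xb (P.rel j)) = 0 := by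
      intro j
      obtain ⟨s, hs⟩ := hdvd2 j
      have h1 : ee * (π₀ * aeval xb (P.rel j)) = 0 := hee _
        (Ideal.mul_mem_mul (Ideal.mem_span_singleton_self _) (Ideal.subset_span ⟨j, rfl⟩))
      have h2 : algebraMap R L π ^ 2 * algebraMap B₀ L (π₀ * s * ee) = 0 := by
        rw [IsScalarTower.algebraMap_apply R B₀ L, ← map_pow, ← map_mul]
        rw [show algebraMap R B₀ π ^ 2 * (π₀ * s * ee) = ee * (π₀ * (π₀ ^ 2 * s)) by simp [π₀]; ring,
          ← hs, h1, map_zero]
      have h3 := hrB _ h2
      rw [IsScalarTower.algebraMap_apply R B₀ L, IsScalarTower.algebraMap_apply R B₀ L, ← map_mul, ← map_mul] at h3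
      rw [hs, show ee * r₀ * (π₀ ^ 2 * s) = algebraMap R B₀ r * (algebraMap R B₀ π * (π₀ * s * ee)) by
        simp [π₀, r₀]; ring]
      exact h3
    choose kk hkk using fun j => (IsLocalization.map_eq_zero_iff (Submonoid.powers g) L _).1 (hgen j)
    let gg : B₀ := ∏ j, (kk j : B₀)
    have hggQ : gg ∉ Q₀ := fun hh => by
      obtain ⟨j, -, hj⟩ := hQ₀.prod_mem_iff.1 hh
      obtain ⟨i, hi⟩ := (kk j).2
      exact hgQ (hQ₀.mem_of_pow_mem i (by rw [show g ^ i = (kk j : B₀) from hi]; exact hj))
    let s : B₀ := gg * (ee * r₀) * g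
    have hsQ : s ∉ Q₀ := hQ₀.mul_notMem (hQ₀.mul_notMem hggQ (hQ₀.mul_notMem heeQ hr₀Q)) hgQ
    have hskill : ∀ x, mk₀ x = 0 → s * x = 0 := fun x hx => by
      have hx' : x ∈ tail := Ideal.Quotient.eq_zero_iff_mem.1 hx
      induction hx' using Submodule.span_induction with
      | mem z hz =>
        obtain ⟨j, rfl⟩ := hz
        obtain ⟨d, hd⟩ : (kk j : B₀) ∣ gg := Finset.dvd_prod_of_mem _ (Finset.mem_univ j)
        show gg * (ee * r₀) * g * aeval xb (P.rel j) = 0
        rw [hd]; linear_combination d * g * hkk j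
      | zero => simp
      | add a b ha' hb' iha ihb =>
        rw [mul_add, iha (Ideal.Quotient.eq_zero_iff_mem.2 ha'), ihb (Ideal.Quotient.eq_zero_iff_mem.2 hb'), add_zero]
      | smul a b hb' ihb =>
        rw [smul_eq_mul, mul_left_comm, ihb (Ideal.Quotient.eq_zero_iff_mem.2 hb'), mul_zero]
    have hsm_s : Algebra.Smooth R (Localization.Away s) := by
      rw [← SmoothAtBasics.mem_singularIdeal_iff_smooth]
      refine Ideal.mul_mem_left _ _ ?_
      rw [SmoothAtBasics.mem_singularIdeal_iff_smooth]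
      exact hsmL
    have hfin := @SmoothAtBasics.smooth_away_of_surjective R _ B₀ (B₀ ⧸ tail) _ _ _ _ mk₀
      Ideal.Quotient.mk_surjective s hskill hsm_s
    exact SmoothAtBasics.isSmoothAt_of_smooth_away hfin Qp hsQ
  · -- away from `π`
    let fB : T →ₐ[R] (B₀ ⧸ tail) :=
      (Ideal.Quotient.mkₐ R tail).comp (Ideal.Quotient.mkₐ R (Ideal.span (Set.range h)))
    have hsm : Algebra.Smooth R (Localization.Away (algebraMap R (B₀ ⧸ tail) π)) :=
      @smooth_away_param R A (B₀ ⧸ tail) _ _ _ _ _ _ π hAπ n c P.hom P.surj ro G xs (fun k => rfl) fB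
        (Ideal.Quotient.mk_surjective.comp Ideal.Quotient.mk_surjective) α
        (fun q => by rw [hα]; show Ideal.Quotient.mk tail (aeval xb q) = _; rw [hxb]; rfl)
        (fun L' _ _ ζ inA hu hζ t ht => by
          have hh : ∀ j, ζ (h j) = 0 := fun j => by
            have h0 : ζ (p ^ 3 * h j) = 0 := by rw [← hx_lead, hζ, hrel0, map_zero]
            rw [map_mul, map_pow, show ζ p = algebraMap R L' π from ζ.commutes π] at h0
            exact ((hu.pow 3).mul_right_eq_zero).1 h0
          let ζ₀ : B₀ →ₐ[R] L' := Ideal.Quotient.liftₐ _ ζ fun x hx => by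
            have : Ideal.span (Set.range h) ≤ RingHom.ker ζ := Ideal.span_le.2 (by
              rintro _ ⟨j, rfl⟩; exact hh j)
            exact this hx
          have h1 : tail ≤ RingHom.ker ζ₀ := Ideal.span_le.2 (by
            rintro _ ⟨j, rfl⟩
            show ζ₀ (aeval xb (P.rel j)) = 0
            rw [hxb]; show ζ _ = 0
            rw [hζ, hrel0, map_zero])
          have h2 : Ideal.Quotient.mk (Ideal.span (Set.range h)) t ∈ tail :=
            Ideal.Quotient.eq_zero_iff_mem.1 ht
          exact h1 h2)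
    exact SmoothAtBasics.isSmoothAt_of_smooth_away hsm Qp hπQ

end Groth.NeronArea.Desing
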