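import Mathlib.LinearAlgebra.SymmetricAlgebra.Basis
import Mathlib.RingTheory.Smooth.Basic
import Mathlib.RingTheory.Finiteness.Projective
import Mathlib.RingTheory.Kaehler.JacobiZariski
import Mathlib.RingTheory.Etale.Basic
import Groth.Agent.S7237

/-! Symmetric algebras of projective modules are smooth; splitting of differentials in smooth towers. -/

open scoped TensorProduct

namespace Groth.NeronArea.SymSmooth

universe u

variable {A : Type u} [CommRing A] {M : Type u} [AddCommGroup M] [Module A M]

/-- A retract of a finitely presented algebra is finitely presented. -/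
lemma finitePresentation_of_retract {P B : Type u} [CommRing P] [CommRing B] [Algebra A P] [Algebra A B]
    [Algebra.FinitePresentation A P] (q : P →ₐ[A] B) (j : B →ₐ[A] P) (h : ∀ b, q (j b) = b) :
    Algebra.FinitePresentation A B := by
  classical
  obtain ⟨G, hG⟩ := (inferInstance : Algebra.FiniteType A P).out
  refine Algebra.FinitePresentation.of_surjective (f := q) (fun b => ⟨j b, h b⟩)
    ⟨G.image fun x => x - j (q x), ?_⟩
  refine le_antisymm (Ideal.span_le.2 ?_) fun p hp => ?_
  · intro _ hx
    obtain ⟨x, -, rfl⟩ := Finset.mem_image.1 hx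
    show q _ = 0
    rw [map_sub, h, sub_self]
  · have key : ∀ x, x - j (q x) ∈ Ideal.span ((G.image fun x => x - j (q x) : Finset P) : Set P) := by
      intro x
      have hx : x ∈ Algebra.adjoin A (G : Set P) := hG ▸ Algebra.mem_top
      induction hx using Algebra.adjoin_induction with
      | mem x hx => exact Ideal.subset_span (Finset.mem_image_of_mem _ hx)
      | algebraMap r => simp
      | add x y _ _ hx hy => simpa [sub_add_sub_comm] using add_mem hx hy
      | mul x y _ _ hx hy =>
        have : x * y - j (q (x * y)) = x * (y - j (q y)) + (x - j (q x)) * j (q y) := by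
          rw [map_mul, map_mul]; ring
        rw [this]
        exact add_mem (Ideal.mul_mem_left _ _ hy) (Ideal.mul_mem_right _ _ hx)
    have hp0 : q p = 0 := hp
    simpa [hp0] using key p

instance formallySmooth_sym [Module.Projective A M] :
    Algebra.FormallySmooth A (SymmetricAlgebra A M) := by
  refine Algebra.FormallySmooth.of_comp_surjective fun B _ _ I hI f => ?_
  obtain ⟨g, hg⟩ := Module.projective_lifting_property (Ideal.Quotient.mkₐ A I).toLinearMap
    (f.toLinearMap ∘ₗ SymmetricAlgebra.ι A M) Ideal.Quotient.mk_surjective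
  refine ⟨SymmetricAlgebra.lift g, SymmetricAlgebra.algHom_ext (LinearMap.ext fun m => ?_)⟩
  show Ideal.Quotient.mkₐ A I (SymmetricAlgebra.lift g (SymmetricAlgebra.ι A M m)) = _
  rw [SymmetricAlgebra.lift_ι_apply]
  exact LinearMap.congr_fun hg m

instance finitePresentation_sym [Module.Projective A M] [Module.Finite A M] :
    Algebra.FinitePresentation A (SymmetricAlgebra A M) := by
  obtain ⟨n, f, g, -, -, hfg⟩ := Module.Finite.exists_comp_eq_id_of_projective A M
  let F := Fin n → A
  have : Algebra.FinitePresentation A (SymmetricAlgebra A F) :=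
    Algebra.FinitePresentation.equiv (SymmetricAlgebra.equivMvPolynomial (Pi.basisFun A (Fin n))).symm
  refine finitePresentation_of_retract
    (SymmetricAlgebra.lift (SymmetricAlgebra.ι A M ∘ₗ f))
    (SymmetricAlgebra.lift (SymmetricAlgebra.ι A F ∘ₗ g)) fun b => ?_
  refine AlgHom.congr_fun (φ₁ := (SymmetricAlgebra.lift (SymmetricAlgebra.ι A M ∘ₗ f)).comp
    (SymmetricAlgebra.lift (SymmetricAlgebra.ι A F ∘ₗ g))) (φ₂ := AlgHom.id A _)
    (SymmetricAlgebra.algHom_ext (LinearMap.ext fun m => ?_)) b
  simpa [F] using congrArg (SymmetricAlgebra.ι A M) (LinearMap.congr_fun hfg m)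

instance smooth_sym [Module.Projective A M] [Module.Finite A M] :
    Algebra.Smooth A (SymmetricAlgebra A M) where

section Tower

variable (R A C : Type u) [CommRing R] [CommRing A] [CommRing C] [Algebra R A] [Algebra A C] [Algebra R C]
  [IsScalarTower R A C]

/-- In a tower with smooth top, the differentials split. -/
theorem nonempty_kaehler_equiv_prod [Algebra.FormallySmooth A C] :
    Nonempty (Ω[C⁄R] ≃ₗ[C] (C ⊗[A] Ω[A⁄R]) × Ω[C⁄A]) := by
  have hinj : Function.Injective (KaehlerDifferential.mapBaseChange R A C) := by
    rw [injective_iff_map_eq_zero]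
    intro x hx
    obtain ⟨y, rfl⟩ := (Algebra.H1Cotangent.exact_δ_mapBaseChange R A C x).mp hx
    rw [Subsingleton.elim y 0, map_zero]
  have hsurj := KaehlerDifferential.map_surjective R A C
  obtain ⟨l, hl⟩ := Module.projective_lifting_property _ LinearMap.id hsurj
  exact ⟨((KaehlerDifferential.exact_mapBaseChange_map R A C).splitSurjectiveEquiv hinj ⟨l, hl⟩).1⟩

/-- Criterion for being etale over an intermediate algebra. -/
theorem formallyEtale_of_bijective [Algebra.FormallySmooth R C]
    (h : Function.Bijective (KaehlerDifferential.mapBaseChange R A C)) : Algebra.FormallyEtale A C := by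
  constructor
  · refine subsingleton_of_forall_eq 0 fun x => ?_
    obtain ⟨y, rfl⟩ := KaehlerDifferential.map_surjective R A C x
    obtain ⟨z, rfl⟩ := h.2 y
    exact (KaehlerDifferential.exact_mapBaseChange_map R A C).apply_apply_eq_zero z
  · refine subsingleton_of_forall_eq 0 fun x => ?_
    have hx : Algebra.H1Cotangent.δ R A C x = 0 := h.1 (by
      rw [(Algebra.H1Cotangent.exact_δ_mapBaseChange R A C).apply_apply_eq_zero x, map_zero])
    obtain ⟨y, rfl⟩ := (Algebra.H1Cotangent.exact_map_δ R A C x).mp hx
    rw [Subsingleton.elim y 0, map_zero]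

end Tower

end Groth.NeronArea.SymSmooth
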