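import Mathlib.AlgebraicGeometry.Morphisms.Etale
import Mathlib.AlgebraicGeometry.Morphisms.Smooth
import Mathlib.AlgebraicGeometry.Noetherian
import Mathlib.RingTheory.Ideal.KrullsHeightTheorem
import Mathlib.RingTheory.Etale.Locus
import Groth.Agent.NeronArea.SymSmooth

/-! A morphism of smooth schemes over a Noetherian base which is étale outside a closed subset of
codimension two of the base is étale. -/

universe u

open CategoryTheory AlgebraicGeometry TensorProduct

namespace Groth.NeronArea.EtaleCodimTwo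

section Algebra

theorem formallyEtale_of_height_le_one (R : Type u) {B T : Type u} [CommRing R] [CommRing B]
    [CommRing T] [Algebra R B] [Algebra R T] [Algebra B T] [IsScalarTower R B T] [IsLocalRing T]
    [IsNoetherianRing T] [Algebra.Smooth R B] [Algebra.FormallySmooth R T]
    [Algebra.EssFiniteType R T]
    (h : ∀ r : Ideal T, ∀ [r.IsPrime], r.height ≤ 1 →
      Algebra.FormallyEtale B (Localization.AtPrime r)) :
    Algebra.FormallyEtale B T := by
  haveI : Module.Free T (T ⊗[B] Ω[B⁄R]) := Module.free_of_flat_of_isLocalRing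
  haveI : Module.Free T Ω[T⁄R] := Module.free_of_flat_of_isLocalRing
  have hrk : Module.finrank T Ω[T⁄R] = Module.finrank T (T ⊗[B] Ω[B⁄R]) := by
    obtain ⟨r, hr⟩ := (⊥ : Ideal T).nonempty_minimalPrimes bot_ne_top
    haveI := hr.1.1
    have h0 : r.height ≤ 1 := by
      have h00 : r.height = 0 := Ideal.height_eq_zero_iff.2 hr
      rw [h00]
      exact zero_le_one
    haveI := h r h0
    let Tr := Localization.AtPrime r
    haveI : Algebra.FormallyEtale T Tr := .of_isLocalization r.primeCompl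
    rw [← Module.finrank_baseChange (R := Tr), ← Module.finrank_baseChange (R := Tr)
      (M' := T ⊗[B] Ω[B⁄R]),
      (KaehlerDifferential.tensorKaehlerEquivOfFormallyEtale R T Tr).finrank_eq,
      (AlgebraTensorModule.cancelBaseChange B T Tr Tr Ω[B⁄R]).finrank_eq,
      (KaehlerDifferential.tensorKaehlerEquivOfFormallyEtale R B Tr).finrank_eq]
  let e : Ω[T⁄R] ≃ₗ[T] (T ⊗[B] Ω[B⁄R]) := LinearEquiv.ofFinrankEq _ _ hrk
  let u := KaehlerDifferential.mapBaseChange R B T
  have hdet : IsUnit (LinearMap.det (e.toLinearMap ∘ₗ u)) := by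
    by_contra hd
    obtain ⟨r, hr⟩ := (Ideal.span {LinearMap.det (e.toLinearMap ∘ₗ u)}).nonempty_minimalPrimes
      (mt Ideal.span_singleton_eq_top.1 hd)
    haveI := hr.1.1
    have hdr : LinearMap.det (e.toLinearMap ∘ₗ u) ∈ r :=
      hr.1.2 (Ideal.mem_span_singleton_self _)
    haveI : (Ideal.span {LinearMap.det (e.toLinearMap ∘ₗ u)}).IsPrincipal := ⟨⟨_, rfl⟩⟩
    haveI := h r (Ideal.height_le_one_of_isPrincipal_of_mem_minimalPrimes _ _ hr)
    have key : ∀ y : Ω[T⁄R], ∃ s : r.primeCompl, ∃ z, u z = (s : T) • y := by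
      intro y
      obtain ⟨s, hs⟩ := (IsLocalizedModule.eq_zero_iff r.primeCompl
        (KaehlerDifferential.map B B T (Localization.AtPrime r))).1
        (Subsingleton.elim (KaehlerDifferential.map B B T (Localization.AtPrime r)
          (KaehlerDifferential.map R B T T y)) 0)
      refine ⟨s, (KaehlerDifferential.exact_mapBaseChange_map R B T _).1 ?_⟩
      rw [map_smul]
      exact hs
    let c := Module.Free.chooseBasis T Ω[T⁄R]
    choose s z hz using fun i => key (c i)
    let σ : T := ∏ i, (s i : T)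
    have hσ : σ ∈ r.primeCompl := prod_mem fun i _ => (s i).2
    let g : Ω[T⁄R] →ₗ[T] T ⊗[B] Ω[B⁄R] :=
      c.constr T fun i => (∏ j ∈ Finset.univ.erase i, (s j : T)) • z i
    have hg : u ∘ₗ g = σ • LinearMap.id := c.ext fun i => by
      show u (g (c i)) = σ • c i
      rw [Module.Basis.constr_basis, map_smul, hz, smul_smul,
        Finset.prod_erase_mul _ _ (Finset.mem_univ i)]
    have hcomp : (e.toLinearMap ∘ₗ u) ∘ₗ (g ∘ₗ e.symm.toLinearMap) =
        σ • (LinearMap.id : T ⊗[B] Ω[B⁄R] →ₗ[T] T ⊗[B] Ω[B⁄R]) := LinearMap.ext fun x => by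
      show e (u (g (e.symm x))) = σ • x
      rw [show u (g (e.symm x)) = σ • e.symm x from LinearMap.congr_fun hg _, map_smul,
        e.apply_symm_apply]
    have hdet := congrArg LinearMap.det hcomp
    rw [LinearMap.det_comp, LinearMap.det_smul, LinearMap.det_id, mul_one] at hdet
    exact r.primeCompl.pow_mem hσ _ (hdet ▸ r.mul_mem_right _ hdr)
  have hb := (Module.End.isUnit_iff _).1
    ((LinearMap.isUnit_iff_isUnit_det (e.toLinearMap ∘ₗ u)).2 hdet)
  refine Groth.NeronArea.SymSmooth.formallyEtale_of_bijective R (A := B) T ?_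
  exact ((e.bijective.of_comp_iff' _).1 hb)

end Algebra

theorem isEtaleAt_of_height_le_one {R B A : Type u} [CommRing R] [IsNoetherianRing R] [CommRing B]
    [Algebra R B] [Algebra.Smooth R B] [CommRing A] [Algebra R A] [Algebra.Smooth R A]
    [Algebra B A] [IsScalarTower R B A] (q : Ideal A) [q.IsPrime]
    (h : ∀ r : Ideal A, ∀ [r.IsPrime], r.height ≤ 1 → Algebra.IsEtaleAt B r) :
    Algebra.IsEtaleAt B q := by
  haveI : IsNoetherianRing A := Algebra.FiniteType.isNoetherianRing R A
  let T := Localization.AtPrime q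
  haveI : IsNoetherianRing T := IsLocalization.isNoetherianRing q.primeCompl T inferInstance
  haveI : Algebra.FormallyEtale A T := .of_isLocalization q.primeCompl
  haveI : Algebra.FormallySmooth R T := .comp R A T
  haveI : Algebra.EssFiniteType R T := .comp R A T
  refine formallyEtale_of_height_le_one (R := R) (B := B) (T := T) fun r _ hr => ?_
  haveI := h (r.comap (algebraMap A T)) (by
    rwa [IsLocalization.height_comap q.primeCompl])
  haveI : IsLocalization.AtPrime (Localization.AtPrime r) (r.comap (algebraMap A T)) :=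
    IsLocalization.isLocalization_isLocalization_atPrime_isLocalization q.primeCompl
      (Localization.AtPrime r) r
  exact Algebra.FormallyEtale.of_equiv ((IsLocalization.algEquiv
    (r.comap (algebraMap A T)).primeCompl (Localization.AtPrime (r.comap (algebraMap A T)))
    (Localization.AtPrime r)).restrictScalars B)

theorem height_comap_le {R A : Type u} [CommRing R] [IsNoetherianRing R] [CommRing A]
    [IsNoetherianRing A] [Algebra R A] [Module.Flat R A] (r : Ideal A) [r.IsPrime] :
    (r.comap (algebraMap R A)).height ≤ r.height := by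
  haveI : r.LiesOver (r.comap (algebraMap R A)) := ⟨rfl⟩
  rw [Ideal.height_eq_height_add_of_liesOver_of_hasGoingDown (r.comap (algebraMap R A)) r]
  exact le_self_add

/-- A morphism of smooth schemes, étale over an open of the base whose complement has codimension
at least two, is étale. -/
theorem etale_of_smooth {S X Y : Scheme.{u}} [IsLocallyNoetherian S] (p : X ⟶ S) (q : Y ⟶ S)
    (f : X ⟶ Y) (hfq : f ≫ q = p) [Smooth p] [Smooth q] (S₁ : S.Opens)
    (hcodim : ∀ s : S, s ∉ S₁ → (2 : WithBot ℕ∞) ≤ ringKrullDim (S.presheaf.stalk s))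
    (hf : Etale ((p ⁻¹ᵁ S₁).ι ≫ f)) : Etale f := by
  rw [HasRingHomProperty.iff_exists_appLE (P := @Etale)
    (RingHom.Etale.stableUnderComposition.stableUnderCompositionWithLocalizationAway (fun _ _ _ _ _ r _ => RingHom.etale_algebraMap.mpr (Algebra.Etale.of_isLocalizationAway r))).left]
  intro x
  obtain ⟨U, hU, hxU, -⟩ := exists_isAffineOpen_mem_and_subset (X := S) (x := p x)
    (U := ⊤) trivial
  have hxq : f x ∈ q ⁻¹ᵁ U := by
    show q (f x) ∈ U
    rw [← Scheme.Hom.comp_apply, hfq]
    exact hxU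
  obtain ⟨V, hV, hxV, hVU⟩ := exists_isAffineOpen_mem_and_subset (X := Y) (x := f x) hxq
  obtain ⟨W, hW, hxW, hWV⟩ := exists_isAffineOpen_mem_and_subset (X := X) (x := x)
    (U := f ⁻¹ᵁ V) hxV
  refine ⟨⟨V, hV⟩, ⟨W, hW⟩, hxW, hWV, ?_⟩
  haveI : IsNoetherianRing Γ(S, U) := IsLocallyNoetherian.component_noetherian ⟨U, hU⟩
  have hWU : W ≤ p ⁻¹ᵁ U := fun w hw => by
    show p w ∈ U
    rw [← hfq, Scheme.Hom.comp_apply]
    exact hVU (hWV hw)
  algebraize [(q.appLE U V hVU).hom, (p.appLE U W hWU).hom, (f.appLE V W hWV).hom]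
  haveI : IsScalarTower Γ(S, U) Γ(Y, V) Γ(X, W) := .of_algebraMap_eq' (by
    show (p.appLE U W hWU).hom = _
    subst hfq
    rw [← Scheme.Hom.appLE_comp_appLE f q U V W hVU hWV]
    rfl)
  haveI : Algebra.Smooth Γ(S, U) Γ(Y, V) := q.smooth_appLE hU hV hVU
  haveI : Algebra.Smooth Γ(S, U) Γ(X, W) := p.smooth_appLE hU hW hWU
  haveI : IsNoetherianRing Γ(X, W) := Algebra.FiniteType.isNoetherianRing Γ(S, U) Γ(X, W)
  haveI : Algebra.FinitePresentation Γ(Y, V) Γ(X, W) :=
    .of_restrict_scalars_finitePresentation Γ(S, U) Γ(Y, V) Γ(X, W)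
  show Algebra.Etale Γ(Y, V) Γ(X, W)
  rw [← Algebra.etaleLocus_eq_univ_iff_etale, Set.eq_univ_iff_forall]
  intro P
  refine isEtaleAt_of_height_le_one (R := Γ(S, U)) P.asIdeal fun r _ hr => ?_
  let y : X := hW.fromSpec ⟨r, inferInstance⟩
  have hyW : y ∈ W := by
    have hm : y ∈ Set.range hW.fromSpec := Set.mem_range_self _
    rwa [hW.range_fromSpec] at hm
  have hyr : hW.primeIdealOf ⟨y, hyW⟩ = ⟨r, inferInstance⟩ :=
    hW.isOpenImmersion_fromSpec.base_open.injective (hW.fromSpec_primeIdealOf ⟨y, hyW⟩)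
  have hs : p y ∈ S₁ := by
    by_contra hs
    have h2 := hcodim _ hs
    letI : Algebra Γ(S, U) (S.presheaf.stalk (p y)) :=
      TopCat.Presheaf.algebra_section_stalk S.presheaf ⟨p y, hWU hyW⟩
    haveI : IsLocalization.AtPrime (S.presheaf.stalk (p y))
        (hU.primeIdealOf ⟨p y, hWU hyW⟩).asIdeal := hU.isLocalization_stalk ⟨p y, hWU hyW⟩
    rw [IsLocalization.AtPrime.ringKrullDim_eq_height (hU.primeIdealOf ⟨p y, hWU hyW⟩).asIdeal
      (S.presheaf.stalk (p y))] at h2
    have hc : (hU.primeIdealOf ⟨p y, hWU hyW⟩).asIdeal =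
        r.comap (algebraMap Γ(S, U) Γ(X, W)) := by
      rw [← IsAffineOpen.comap_primeIdealOf_appLE U hU W hW hWU hyW, hyr]
      rfl
    rw [hc] at h2
    have h3 := (height_comap_le (R := Γ(S, U)) r).trans hr
    exact absurd (h2.trans (WithBot.coe_le_coe.2 h3)) (by decide)
  obtain ⟨a, haS, hya⟩ := hW.exists_basicOpen_le (V := p ⁻¹ᵁ S₁) ⟨y, hs⟩ hyW
  have hD : X.basicOpen a ≤ f ⁻¹ᵁ V := (X.basicOpen_le a).trans hWV
  have hetD : Etale (f.resLE V (X.basicOpen a) hD) := by
    haveI : Etale (f.resLE V (X.basicOpen a) hD ≫ V.ι) := by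
      rw [Scheme.Hom.resLE_comp_ι, ← Scheme.homOfLE_ι X haS, Category.assoc]
      infer_instance
    exact MorphismProperty.of_postcomp @Etale (W' := @LocallyOfFiniteType ⊓ @FormallyUnramified)
      _ V.ι ⟨inferInstance, inferInstance⟩ inferInstance
  haveI : IsAffine (X.basicOpen a).toScheme := hW.basicOpen a
  haveI : IsAffine V.toScheme := hV
  have hDe : (f.appLE V (X.basicOpen a) hD).hom.Etale := by
    rw [HasRingHomProperty.iff_of_isAffine (P := @Etale)] at hetD
    have h1 := RingHom.Etale.respectsIso.1 _ (X.basicOpen a).topIso.commRingCatIsoToRingEquiv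
      (RingHom.Etale.respectsIso.2 _ V.topIso.symm.commRingCatIsoToRingEquiv hetD)
    have he : f.appLE V (X.basicOpen a) hD = V.topIso.inv ≫
        (f.resLE V (X.basicOpen a) hD).appTop ≫ (X.basicOpen a).topIso.hom := by
      rw [show (f.resLE V (X.basicOpen a) hD).appTop = _ from Scheme.Hom.resLE_app_top f hD,
        Category.assoc, Category.assoc, Iso.inv_hom_id_assoc, Iso.inv_hom_id, Category.comp_id]
    rw [he]
    exact h1
  letI : Algebra Γ(X, W) Γ(X, X.basicOpen a) :=
    (X.presheaf.map (homOfLE (X.basicOpen_le a)).op).hom.toAlgebra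
  haveI : IsLocalization.Away a Γ(X, X.basicOpen a) := hW.isLocalization_basicOpen a
  letI : Algebra Γ(Y, V) Γ(X, X.basicOpen a) := (f.appLE V (X.basicOpen a) hD).hom.toAlgebra
  haveI : IsScalarTower Γ(Y, V) Γ(X, W) Γ(X, X.basicOpen a) := .of_algebraMap_eq' (by
    show (f.appLE V (X.basicOpen a) hD).hom = (f.appLE V W hWV ≫ X.presheaf.map _).hom
    rw [Scheme.Hom.appLE_map])
  haveI : Algebra.Etale Γ(Y, V) Γ(X, X.basicOpen a) := hDe
  haveI : Algebra.Etale Γ(Y, V) (Localization.Away a) :=
    Algebra.Etale.of_equiv ((IsLocalization.algEquiv (Submonoid.powers a)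
      Γ(X, X.basicOpen a) (Localization.Away a)).restrictScalars Γ(Y, V))
  refine (Algebra.basicOpen_subset_etaleLocus_iff_etale.2 ‹_› :
    _ ⊆ Algebra.etaleLocus Γ(Y, V) Γ(X, W)) (show (⟨r, inferInstance⟩ : PrimeSpectrum Γ(X, W)) ∈ _ from ?_)
  have := hW.fromSpec_preimage_basicOpen a
  rw [← this]
  exact hya

end Groth.NeronArea.EtaleCodimTwo
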