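import Groth.Agent.GrpschAbsch.AffLine
import Groth.Agent.S11992
import Groth.Agent.AlgGrp1.Geom
import Mathlib.AlgebraicGeometry.Geometrically.Connected

/-!
# Morphisms from open pieces of affine space to fibres of abelian schemes
-/

set_option autoImplicit false
set_option backward.isDefEq.respectTransparency false
set_option linter.style.haveILetI false

universe u

open CategoryTheory CategoryTheory.Limits AlgebraicGeometry MonoidalCategory CartesianMonoidalCategory

namespace Groth.NeronArea

open Groth.GrpschAbsch.RationalToAbelian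

variable {S : Scheme.{u}} (A : Over S) [GrpObj A] [IsProper A.hom] [Smooth A.hom]
  [GeometricallyConnected A.hom]

include A in
/-- A morphism from a nonempty open of affine space over a field to an abelian scheme factors through
a point. -/
theorem exists_constant {k : Type u} [Field k] {n : ℕ} (τ : Spec (CommRingCat.of k) ⟶ S)
    (W₀ : (Aff k n).left.Opens) (hW₀ : (W₀ : Set (Aff k n).left).Nonempty)
    (m : (W₀ : Scheme.{u}) ⟶ A.left) (hm : m ≫ A.hom = W₀.ι ≫ (Aff k n).hom ≫ τ) :
    ∃ p : Spec (CommRingCat.of k) ⟶ A.left, p ≫ A.hom = τ ∧ m = W₀.ι ≫ (Aff k n).hom ≫ p := by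
  let B := (Over.pullback τ).obj A
  letI : GrpObj B := Functor.grpObjObj
  haveI : IsProper B.hom := inferInstanceAs (IsProper (pullback.snd A.hom τ))
  haveI : Smooth B.hom := inferInstanceAs (Smooth (pullback.snd A.hom τ))
  haveI : ConnectedSpace B.left :=
    GeometricallyConnected.geometrically_connectedSpace (f := A.hom) τ _ _ (IsPullback.of_hasPullback A.hom τ)
  haveI := Groth.AlgGrp1.geometricallyIntegral_of_smooth B
  let m' : (W₀ : Scheme.{u}) ⟶ B.left := pullback.lift m (W₀.ι ≫ (Aff k n).hom) (by rw [hm, Category.assoc])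
  obtain ⟨g, hg, hgW⟩ := Groth.Agent.S11992.result k (Aff k n).left (Aff k n).hom B W₀ hW₀ m'
    (pullback.lift_snd _ _ _)
  let G : Aff k n ⟶ B := Over.homMk g hg
  have hG := congrArg CommaMorphism.left (aff_const B G)
  let o : Spec (CommRingCat.of k) ⟶ B.left := (zeroPt k n ≫ G).left
  have ho : o ≫ pullback.snd A.hom τ = 𝟙 _ := Over.w (zeroPt k n ≫ G)
  refine ⟨o ≫ pullback.fst A.hom τ, ?_, ?_⟩
  · rw [Category.assoc, pullback.condition, reassoc_of% ho]
  · have h1 : g = (Aff k n).hom ≫ o := hG
    have h2 : m' ≫ pullback.fst A.hom τ = m := pullback.lift_fst _ _ _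
    rw [← h2, ← hgW, h1, Category.assoc, Category.assoc]

end Groth.NeronArea
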