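import Groth.Agent.GrpschAbsch.SchDense
import Groth.Agent.Limits.GlueLocal
import Groth.Agent.PropsBasic2.StalkFlat
import Mathlib.AlgebraicGeometry.Morphisms.Etale
import Mathlib.AlgebraicGeometry.Morphisms.FlatDescent
import Mathlib.AlgebraicGeometry.Morphisms.Immersion
import Mathlib.AlgebraicGeometry.Noetherian

/-!
# Morphisms which are isomorphisms over an open with schematically dense preimage
-/

set_option autoImplicit false
set_option backward.isDefEq.respectTransparency false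
set_option linter.style.haveILetI false

universe u

open CategoryTheory CategoryTheory.Limits AlgebraicGeometry IsLocalRing

namespace Groth.NeronArea

variable {X S : Scheme.{u}} (f : X ⟶ S) (U : S.Opens) [IsIso (f ∣_ U)]

/-- Two maps into the part over which `f` is an isomorphism agree if they do so in the base. -/
lemma hom_ext_over_iso {T : Scheme.{u}} (a b : T ⟶ X) (h : a ≫ f = b ≫ f)
    (ha : ∀ t, f (a t) ∈ U) : a = b := by
  have hb : ∀ t, f (b t) ∈ U := fun t => by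
    rw [← Scheme.Hom.comp_apply, ← h]; exact ha t
  let la := IsOpenImmersion.lift (f ⁻¹ᵁ U).ι a (by
    rw [Scheme.Opens.range_ι]; rintro _ ⟨t, rfl⟩; exact ha t)
  let lb := IsOpenImmersion.lift (f ⁻¹ᵁ U).ι b (by
    rw [Scheme.Opens.range_ι]; rintro _ ⟨t, rfl⟩; exact hb t)
  have h1 : la ≫ (f ⁻¹ᵁ U).ι = a := IsOpenImmersion.lift_fac _ _ _
  have h2 : lb ≫ (f ⁻¹ᵁ U).ι = b := IsOpenImmersion.lift_fac _ _ _
  have : la = lb := by
    rw [← cancel_mono (f ∣_ U), ← cancel_mono U.ι]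
    simp only [Category.assoc, morphismRestrict_ι, reassoc_of% h1, reassoc_of% h2, h]
  rw [← h1, ← h2, this]

/-- A section through `x` over a neighbourhood of its image shows that `f` is an open immersion near `x`. -/
theorem exists_isOpenImmersion_of_section [IsLocallyNoetherian X] [LocallyOfFiniteType f]
    (hdense : CInt.IsSchematicallyDense (f ⁻¹ᵁ U)) (x : X) {V : S.Opens} (hV : f x ∈ V)
    (σ : (V : Scheme.{u}) ⟶ X) (hσ : σ ≫ f = V.ι) (hσx : σ ⟨f x, hV⟩ = x) :
    ∃ W : X.Opens, x ∈ W ∧ IsOpenImmersion (W.ι ≫ f) := by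
  haveI : IsImmersion (σ ≫ f) := by rw [hσ]; infer_instance
  haveI : IsImmersion σ := IsImmersion.of_comp σ f
  let O := σ.coborderRange
  let O' : O.toScheme.Opens := O.ι ⁻¹ᵁ (f ⁻¹ᵁ V)
  haveI : IsClosedImmersion (σ.liftCoborder ∣_ O') :=
    IsZariskiLocalAtTarget.restrict (P := @IsClosedImmersion) inferInstance O'
  let e := σ.liftCoborder ∣_ O'
  let P := (O'.ι ≫ O.ι) ⁻¹ᵁ (f ⁻¹ᵁ U)
  haveI : IsSchemeTheoreticallyDominant (f ⁻¹ᵁ U).ι :=
    Groth.GrpschAbsch.isSchemeTheoreticallyDominant_ι _ hdense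
  haveI : QuasiCompact (f ⁻¹ᵁ U).ι := inferInstance
  haveI : IsSchemeTheoreticallyDominant P.ι :=
    IsSchemeTheoreticallyDominant.of_isPullback (isPullback_morphismRestrict (O'.ι ≫ O.ι) (f ⁻¹ᵁ U))
  let j : (P : Scheme.{u}) ⟶ V := IsOpenImmersion.lift V.ι (P.ι ≫ O'.ι ≫ O.ι ≫ f) (by
    rw [Scheme.Opens.range_ι]; rintro _ ⟨t, rfl⟩; exact (P.ι t).2)
  have hj : j ≫ V.ι = P.ι ≫ O'.ι ≫ O.ι ≫ f := IsOpenImmersion.lift_fac _ _ _
  have hjσ : j ≫ σ = P.ι ≫ O'.ι ≫ O.ι := by
    refine (hom_ext_over_iso f U (P.ι ≫ O'.ι ≫ O.ι) (j ≫ σ) ?_ fun t => t.2).symm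
    simp only [Category.assoc, hσ, hj]
  have hlc : σ.liftCoborder ≫ O.ι = σ := σ.liftCoborder_ι
  have hjl : j ≫ σ.liftCoborder = P.ι ≫ O'.ι := by
    rw [← cancel_mono O.ι, Category.assoc, hlc, hjσ, Category.assoc]
  let j' := (isPullback_morphismRestrict σ.liftCoborder O').lift P.ι j hjl.symm
  have hj' : j' ≫ e = P.ι := (isPullback_morphismRestrict σ.liftCoborder O').lift_fst _ _ _
  have hk : e.ker = ⊥ := by
    rw [← le_bot_iff, ← P.ι.ker_eq_bot, ← hj']
    exact j'.le_ker_comp e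
  haveI : IsIso e := IsClosedImmersion.isIso_iff_ker_eq_bot.mpr hk
  have hE : O'.ι ≫ O.ι ≫ f = inv e ≫ (σ.liftCoborder ⁻¹ᵁ O').ι ≫ V.ι := by
    rw [← hσ, IsIso.eq_inv_comp, reassoc_of% morphismRestrict_ι σ.liftCoborder O', reassoc_of% hlc]
  haveI : IsOpenImmersion (O'.ι ≫ O.ι ≫ f) := by rw [hE]; infer_instance
  let i := O'.ι ≫ O.ι
  refine ⟨i.opensRange, ?_, ?_⟩
  · have hxO : x ∈ O := subset_coborder ⟨_, hσx⟩
    exact ⟨⟨⟨x, hxO⟩, hV⟩, rfl⟩
  · rw [← i.isoOpensRange_inv_comp, Category.assoc, Category.assoc]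
    infer_instance

/-- At a flat point the local ring maps isomorphically. -/
theorem isIso_stalkMap_of_flat [IsLocallyNoetherian X] (hdense : CInt.IsSchematicallyDense (f ⁻¹ᵁ U))
    (x : X) (hflat : (f.stalkMap x).hom.Flat) : IsIso (Spec.map (f.stalkMap x)) := by
  let φ := Spec.map (f.stalkMap x)
  haveI : Flat φ := Flat.SpecMap_iff.2 hflat
  haveI : Surjective φ := ⟨by
    letI := (f.stalkMap x).hom.toAlgebra
    haveI : Module.Flat (S.presheaf.stalk (f x)) (X.presheaf.stalk x) := hflat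
    haveI : IsLocalHom (algebraMap (S.presheaf.stalk (f x)) (X.presheaf.stalk x)) :=
      inferInstanceAs (IsLocalHom (f.stalkMap x).hom)
    haveI : Module.FaithfullyFlat (S.presheaf.stalk (f x)) (X.presheaf.stalk x) :=
      Module.FaithfullyFlat.of_flat_of_isLocalHom
    exact PrimeSpectrum.comap_surjective_of_faithfullyFlat⟩
  haveI := Groth.PropsBasic2.flat_fromSpecStalk x
  haveI : IsSchemeTheoreticallyDominant (f ⁻¹ᵁ U).ι :=
    Groth.GrpschAbsch.isSchemeTheoreticallyDominant_ι _ hdense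
  haveI : QuasiCompact (f ⁻¹ᵁ U).ι := inferInstance
  let g := pullback.fst φ φ ≫ X.fromSpecStalk x
  have hagree : pullback.fst φ φ = pullback.snd φ φ := by
    refine Groth.GrpschAbsch.ext_of_isSchemeTheoreticallyDominant φ pullback.condition
      (pullback.fst g (f ⁻¹ᵁ U).ι) ?_
    rw [← cancel_mono (X.fromSpecStalk x)]
    refine hom_ext_over_iso f U _ _ ?_ fun t => ?_
    · simp only [Category.assoc, φ]
      rw [← Scheme.SpecMap_stalkMap_fromSpecStalk, pullback.condition_assoc]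
    · have h := pullback.condition (f := g) (g := (f ⁻¹ᵁ U).ι)
      have : (pullback.fst g (f ⁻¹ᵁ U).ι ≫ g) t ∈ f ⁻¹ᵁ U := by
        rw [h, Scheme.Hom.comp_apply]
        exact (pullback.snd g (f ⁻¹ᵁ U).ι t).2
      simpa [g, Category.assoc] using this
  haveI : Mono φ := ⟨fun {T} a b hab => by
    have := pullback.lift a b hab ≫= hagree
    simpa using this⟩
  haveI : EffectiveEpi φ := inferInstance
  let d := EffectiveEpi.desc φ (𝟙 _) (fun a b hab => by rw [Category.comp_id, Category.comp_id]; exact (cancel_mono φ).1 hab)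
  have hd : φ ≫ d = 𝟙 _ := EffectiveEpi.fac φ _ _
  exact ⟨d, hd, by rw [← cancel_epi φ, reassoc_of% hd, Category.comp_id]⟩

/-- At a flat point there is a section. -/
theorem exists_section_of_flat [IsLocallyNoetherian X] [IsLocallyNoetherian S] [LocallyOfFiniteType f]
    (hdense : CInt.IsSchematicallyDense (f ⁻¹ᵁ U)) (x : X) (hflat : (f.stalkMap x).hom.Flat) :
    ∃ (V : S.Opens) (hV : f x ∈ V) (σ : (V : Scheme.{u}) ⟶ X),
        σ ≫ f = V.ι ∧ σ ⟨f x, hV⟩ = x := by
  haveI := isIso_stalkMap_of_flat f U hdense x hflat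
  obtain ⟨_, ⟨A, hA, rfl⟩, hsA, -⟩ :=
    S.isBasis_affineOpens.exists_subset_of_mem_open (Set.mem_univ (f x)) isOpen_univ
  haveI : LocallyOfFinitePresentation f := inferInstance
  obtain ⟨V, σ, hσ, hσf⟩ := Groth.Limits.exists_extend_nhd hA hsA (𝟙 S) f
    (inv (Spec.map (f.stalkMap x)) ≫ X.fromSpecStalk x) (by
      rw [Category.assoc, ← Scheme.SpecMap_stalkMap_fromSpecStalk, IsIso.inv_hom_id_assoc, Category.comp_id])
  refine ⟨V.1, V.2.1, σ, by simpa using hσf, ?_⟩
  have hc : V.1.fromSpecStalkOfMem (f x) V.2.1 (closedPoint (S.presheaf.stalk (f x))) = ⟨f x, V.2.1⟩ := by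
    refine V.1.ι.isOpenEmbedding.injective ?_
    rw [← Scheme.Hom.comp_apply, Scheme.Opens.fromSpecStalkOfMem_ι]
    exact Scheme.fromSpecStalk_closedPoint
  rw [← hc, ← Scheme.Hom.comp_apply, hσ, Scheme.Hom.comp_apply]
  have h2 : inv (Spec.map (f.stalkMap x)) (closedPoint (S.presheaf.stalk (f x))) = closedPoint (X.presheaf.stalk x) := by
    have h3 : Spec.map (f.stalkMap x) (closedPoint (X.presheaf.stalk x)) = closedPoint (S.presheaf.stalk (f x)) :=
      IsLocalRing.comap_closedPoint _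
    rw [← h3, ← Scheme.Hom.comp_apply, IsIso.hom_inv_id]
    rfl
  rw [h2]
  exact Scheme.fromSpecStalk_closedPoint

end Groth.NeronArea
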