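import Groth.Agent.Agf.BlowUpRegular
import Groth.Agent.Ega4Algebra1.RegularParams
import Groth.Agent.EGA41Two.RegularLift
import Mathlib.RingTheory.Valuation.ValuationSubring
import Mathlib.RingTheory.KrullDimension.Polynomial
import Mathlib.RingTheory.Ideal.KrullsHeightTheorem
import Mathlib.RingTheory.RegularLocalRing.Polynomial

/-!
# The chart of the blow-up of the closed point of a regular local ring along a valuation
-/

set_option autoImplicit false
set_option linter.style.haveILetI false

universe u

open IsLocalRing Groth.BlowUpBasics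

namespace Groth.NeronArea

/-- A chart `C` of the blow-up of the closed point of a regular local ring `R ⊆ K` inside a valuation
ring `W` dominating it, together with the identification of its exceptional divisor with an affine
space. -/
structure PointChart (R : Type u) [CommRing R] [IsLocalRing R] {K : Type u} [Field K] (j : R →+* K)
    (W : ValuationSubring K) where
  /-- The chart. -/
  C : Type u
  [commRing : CommRing C]
  [isDomain : IsDomain C]
  [algebra : Algebra R C]
  [finiteType : Algebra.FiniteType R C]
  /-- The map to the fraction field. -/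
  jC : C →+* K
  jC_injective : Function.Injective jC
  jC_comp : jC.comp (algebraMap R C) = j
  jC_mem : ∀ c, jC c ∈ W
  /-- The equation of the exceptional divisor. -/
  t : R
  t_mem : t ∈ maximalIdeal R
  t_ne_zero : algebraMap R C t ≠ 0
  /-- Coordinates of the exceptional divisor. -/
  n : ℕ
  card_succ : (n : WithBot ℕ∞) + 1 ≤ ringKrullDim R
  dvd : ∀ x ∈ maximalIdeal R, ∃ c : C, algebraMap R C x = algebraMap R C t * c
  /-- The restriction to the exceptional divisor. -/
  π : C →+* MvPolynomial (Fin n) (ResidueField R)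
  π_surjective : Function.Surjective π
  ker_π : RingHom.ker π = Ideal.span {algebraMap R C t}
  π_algebraMap : ∀ r, π (algebraMap R C r) = MvPolynomial.C (residue R r)

attribute [instance] PointChart.commRing PointChart.isDomain PointChart.algebra PointChart.finiteType

theorem exists_pointChart (R : Type u) [CommRing R] [IsRegularLocalRing R] {K : Type u} [Field K]
    (j : R →+* K) (hj : Function.Injective j) (W : ValuationSubring K) (hW : ∀ r, j r ∈ W)
    (hne : maximalIdeal R ≠ ⊥) : Nonempty (PointChart R j W) := by
  classical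
  haveI : IsDomain R := Groth.Ega4Algebra1.isDomain_of_isRegularLocalRing R
  let d := (maximalIdeal R).spanFinrank
  have hfg : (maximalIdeal R).FG := IsNoetherian.noetherian _
  obtain ⟨f, hf⟩ : ∃ f : Fin d → R, Ideal.span (Set.range f) = maximalIdeal R := by
    have hfin := Submodule.FG.finite_generators hfg
    let e := hfin.toFinset.equivFinOfCardEq (n := d) (by
      rw [← Set.ncard_eq_toFinset_card _ hfin]; exact Submodule.FG.generators_ncard hfg)
    refine ⟨fun i => (e.symm i : R), ?_⟩
    rw [show Set.range (fun i => (e.symm i : R)) = (maximalIdeal R).generators from ?_]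
    · exact (maximalIdeal R).span_generators
    · ext x
      refine ⟨?_, fun hx => ⟨e ⟨x, hfin.mem_toFinset.2 hx⟩, by simp⟩⟩
      rintro ⟨i, rfl⟩
      exact hfin.mem_toFinset.1 (e.symm i).2
  obtain ⟨i₀, hi₀⟩ : ∃ i, f i ≠ 0 := by
    by_contra h
    push Not at h
    apply hne
    rw [← hf, Ideal.span_eq_bot]
    rintro _ ⟨i, rfl⟩
    exact h i
  haveI : Nonempty (Fin d) := ⟨i₀⟩
  obtain ⟨i, -, hi⟩ := Finset.exists_max_image Finset.univ (fun i => W.valuation (j (f i))) Finset.univ_nonempty
  have hti : f i ≠ 0 := by
    intro h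
    have := hi i₀ (Finset.mem_univ _)
    rw [h, map_zero, map_zero, le_zero_iff, map_eq_zero, map_eq_zero_iff j hj] at this
    exact hi₀ this
  let t := f i
  let I := Ideal.span (Set.range f)
  let C := BlowUp.affineAlgebra R I t
  let fr : {k : Fin d // k ≠ i} → C := fun k => frac I t (f k.1) (Ideal.subset_span ⟨_, rfl⟩)
  have hjt : j t ≠ 0 := (map_ne_zero_iff j hj).2 hti
  let lift : Localization.Away t →+* K := IsLocalization.Away.lift t (g := j) (isUnit_iff_ne_zero.2 hjt)
  have hlift : ∀ r, lift (algebraMap R _ r) = j r := fun r => IsLocalization.Away.lift_eq t _ r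
  have hlinj : Function.Injective lift := by
    rw [injective_iff_map_eq_zero]
    intro z hz
    obtain ⟨a, s, rfl⟩ := IsLocalization.exists_mk'_eq (Submonoid.powers t) z
    have := congrArg (· * lift (algebraMap R _ (s : R))) hz
    rw [← map_mul, IsLocalization.mk'_spec, hlift, zero_mul, map_eq_zero_iff j hj] at this
    rw [this, IsLocalization.mk'_zero]
  haveI : IsDomain (Localization.Away t) := hlinj.isDomain
  let jC : C →+* K := lift.comp C.val.toRingHom
  have hjC : Function.Injective jC := hlinj.comp Subtype.val_injective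
  haveI : IsDomain C := hjC.isDomain
  have hjC' : ∀ r, jC (algebraMap R C r) = j r := fun r => by
    show lift ((algebraMap R C r : C) : Localization.Away t) = _
    rw [Subalgebra.coe_algebraMap, hlift]
  -- every element is a polynomial in the fractions
  have hgen : ∀ q : C, ∃ P : MvPolynomial {k : Fin d // k ≠ i} R,
      MvPolynomial.eval₂ (algebraMap R C) fr P = q := by
    let S := (MvPolynomial.eval₂Hom (algebraMap R C) fr).range
    suffices h : ∀ q : C, q ∈ S from fun q => h q
    rintro ⟨q, hq⟩
    induction hq using Algebra.adjoin_induction with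
    | mem q hq =>
      obtain ⟨x, hx, rfl⟩ := hq
      obtain ⟨c, hc⟩ := Ideal.mem_span_range_iff_exists_fun.1 hx
      have hk : ∀ k, ∃ P : MvPolynomial {k : Fin d // k ≠ i} R,
          MvPolynomial.eval₂ (algebraMap R C) fr P = frac I t (f k) (Ideal.subset_span ⟨_, rfl⟩) := fun k => by
        by_cases hk : k = i
        · subst hk
          exact ⟨1, by
            rw [MvPolynomial.eval₂_one]
            exact Subtype.ext (by rw [coe_frac, OneMemClass.coe_one]; exact (IsLocalization.mk'_self _ _).symm)⟩
        · exact ⟨MvPolynomial.X ⟨k, hk⟩, MvPolynomial.eval₂_X _ _ _⟩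
      choose P hP using hk
      refine ⟨∑ k, MvPolynomial.C (c k) * P k, ?_⟩
      refine (mul_cancel_right_mem_nonZeroDivisors
        (algebraMap_self_mem_nonZeroDivisors (I := I) (a := t))).mp ?_
      show MvPolynomial.eval₂ (algebraMap R C) fr (∑ k, MvPolynomial.C (c k) * P k) * algebraMap R C t =
        frac I t x hx * algebraMap R C t
      rw [frac_mul_algebraMap, MvPolynomial.eval₂_sum, Finset.sum_mul, ← hc, map_sum]
      refine Finset.sum_congr rfl fun k _ => ?_
      rw [MvPolynomial.eval₂_mul, MvPolynomial.eval₂_C, hP, mul_assoc, frac_mul_algebraMap, map_mul]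
    | algebraMap r => exact ⟨MvPolynomial.C r, MvPolynomial.eval₂_C _ _ _⟩
    | add q q' hq hq' h h' =>
      exact Subring.add_mem S h h'
    | mul q q' hq hq' h h' =>
      exact Subring.mul_mem S h h'
  have hfrW : ∀ k : Fin d, jC (frac I t (f k) (Ideal.subset_span ⟨_, rfl⟩)) ∈ W := fun k => by
    have e : jC (frac I t (f k) (Ideal.subset_span ⟨_, rfl⟩)) = j (f k) / j t := by
      rw [eq_div_iff hjt, ← hjC' t, ← map_mul, frac_mul_algebraMap, hjC']
    rw [e, ← W.valuation_le_one_iff, map_div₀]
    exact (div_le_one₀ (by simpa [zero_lt_iff] using hjt)).2 (hi k (Finset.mem_univ k))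
  -- the exceptional divisor
  have hI : I = maximalIdeal R := hf
  let J := Ideal.span {algebraMap R C t}
  have hIJ : I.map (algebraMap R C) = J := map_eq_span (Ideal.subset_span ⟨i, rfl⟩)
  let ρ : ResidueField R →+* C ⧸ J := Ideal.Quotient.lift (maximalIdeal R)
    ((Ideal.Quotient.mk J).comp (algebraMap R C)) fun a ha => by
      rw [RingHom.comp_apply, Ideal.Quotient.eq_zero_iff_mem, ← hIJ]
      exact Ideal.mem_map_of_mem _ (by rw [hI]; exact ha)
  let Φ : MvPolynomial {k : Fin d // k ≠ i} (ResidueField R) →+* C ⧸ J :=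
    MvPolynomial.eval₂Hom ρ fun k => Ideal.Quotient.mk J (fr k)
  have hmk : ∀ P, Φ (MvPolynomial.map (residue R) P) =
      Ideal.Quotient.mk J (MvPolynomial.eval₂ (algebraMap R C) fr P) := fun P => by
    have := RingHom.congr_fun (MvPolynomial.ringHom_ext (f := Φ.comp (MvPolynomial.map (residue R)))
      (g := (Ideal.Quotient.mk J).comp (MvPolynomial.eval₂Hom (algebraMap R C) fr))
      (fun r => by simp [Φ, ρ]; rfl) (fun k => by simp [Φ])) P
    exact this
  have hΦ : Function.Bijective Φ := by
    refine ⟨?_, fun z => ?_⟩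
    · rw [injective_iff_map_eq_zero]
      intro P hP
      obtain ⟨P, rfl⟩ := MvPolynomial.map_surjective _ IsLocalRing.residue_surjective P
      rw [hmk, Ideal.Quotient.eq_zero_iff_mem, ← hIJ] at hP
      have := Groth.Agf.BlowUpRegular.coeff_mem (f := f) (i := i)
        (Groth.Ega4Algebra1.isWeaklyRegular_of_span_eq d R rfl f hf) P hP
      ext m
      rw [MvPolynomial.coeff_map, MvPolynomial.coeff_zero, IsLocalRing.residue_eq_zero_iff, ← hI]
      exact this m
    · obtain ⟨q, rfl⟩ := Ideal.Quotient.mk_surjective z
      obtain ⟨P, rfl⟩ := hgen q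
      exact ⟨MvPolynomial.map (residue R) P, hmk P⟩
  let e := (MvPolynomial.renameEquiv (ResidueField R)
    (Fintype.equivFin {k : Fin d // k ≠ i})).symm.toRingEquiv.trans (RingEquiv.ofBijective Φ hΦ)
  refine ⟨{
    C := C
    finiteType := ?_
    jC := jC
    jC_injective := hjC
    jC_comp := RingHom.ext hjC'
    jC_mem := fun c => ?_
    t := t
    t_mem := hI ▸ Ideal.subset_span ⟨i, rfl⟩
    t_ne_zero := fun h => hjt (by rw [← hjC', h, map_zero])
    n := Fintype.card {k : Fin d // k ≠ i}
    card_succ := ?_
    dvd := fun x hx => ⟨frac I t x (hI.symm ▸ hx), by rw [mul_comm, frac_mul_algebraMap]⟩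
    π := e.symm.toRingHom.comp (Ideal.Quotient.mk J)
    π_surjective := e.symm.surjective.comp Ideal.Quotient.mk_surjective
    ker_π := by
      rw [RingHom.ker_equiv_comp, Ideal.mk_ker]
    π_algebraMap := fun r => ?_ }⟩
  · refine Algebra.FiniteType.of_surjective (MvPolynomial.aeval fr) fun q => ?_
    obtain ⟨P, hP⟩ := hgen q
    exact ⟨P, hP⟩
  · obtain ⟨P, rfl⟩ := hgen c
    show jC (MvPolynomial.eval₂Hom (algebraMap R C) fr P) ∈ W.toSubring
    induction P using MvPolynomial.induction_on with
    | C r => rw [MvPolynomial.eval₂Hom_C, hjC']; exact hW r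
    | add p q hp hq => rw [map_add, map_add]; exact W.toSubring.add_mem hp hq
    | mul_X p k hp => rw [map_mul, map_mul, MvPolynomial.eval₂Hom_X']; exact W.toSubring.mul_mem hp (hfrW k.1)
  · have h1 : Fintype.card {k : Fin d // k ≠ i} + 1 = d := by
      rw [Fintype.card_subtype_compl, Fintype.card_fin, Fintype.card_subtype_eq]
      have := i.2; omega
    rw [← (inferInstance : IsRegularLocalRing R).spanFinrank_maximalIdeal]
    have h2 := (Nat.cast_le (α := WithBot ℕ∞)).2 h1.le
    rw [Nat.cast_add, Nat.cast_one] at h2
    exact h2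
  · show e.symm (Ideal.Quotient.mk J (algebraMap R C r)) = _
    rw [RingEquiv.symm_apply_eq]
    show _ = Φ ((MvPolynomial.renameEquiv _ (Fintype.equivFin {k : Fin d // k ≠ i})).symm (MvPolynomial.C (residue R r)))
    simp [Φ, ρ]; rfl

namespace PointChart

variable {R : Type u} [CommRing R] [IsLocalRing R] [IsNoetherianRing R] {K : Type u} [Field K]
  {j : R →+* K} {W : ValuationSubring K} (D : PointChart R j W) (q : Ideal D.C) [q.IsPrime]

instance : IsNoetherianRing D.C := Algebra.FiniteType.isNoetherianRing R D.C

theorem span_le (ht : algebraMap R D.C D.t ∈ q) : RingHom.ker D.π ≤ q := by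
  rw [D.ker_π, Ideal.span_singleton_le_iff_mem]; exact ht

theorem comap_map (ht : algebraMap R D.C D.t ∈ q) : (q.map D.π).comap D.π = q := by
  rw [Ideal.comap_map_of_surjective' D.π D.π_surjective, sup_eq_left.mpr (D.span_le q ht)]

theorem isPrime_map (ht : algebraMap R D.C D.t ∈ q) : (q.map D.π).IsPrime :=
  Ideal.map_isPrime_of_surjective D.π_surjective (D.span_le q ht)

/-- The local rings of the chart on the exceptional divisor are regular. -/
theorem isRegularLocalRing (ht : algebraMap R D.C D.t ∈ q) :
    IsRegularLocalRing (Localization.AtPrime q) := by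
  haveI := D.isPrime_map q ht
  haveI : IsRegularRing (MvPolynomial (Fin D.n) (ResidueField R)) :=
    MvPolynomial.isRegularRing_of_isRegularRing (ResidueField R)
  haveI : IsRegularLocalRing (Localization.AtPrime (q.map D.π)) :=
    IsRegularRing.isRegularLocalRing_localization _
  exact Groth.EGA41Two.isRegularLocalRing_of_surjective D.π D.π_surjective D.ker_π
    (mem_nonZeroDivisors_of_ne_zero D.t_ne_zero) (q.map D.π) q (D.comap_map q ht).symm

/-- Their dimension. -/
theorem height_le (ht : algebraMap R D.C D.t ∈ q) : q.height ≤ (q.map D.π).height + 1 := by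
  let e := (Ideal.quotEquivOfEq D.ker_π.symm).trans
    (RingHom.quotientKerEquivOfSurjective D.π_surjective)
  have h := Ideal.height_le_height_add_spanFinrank_of_le (I := Ideal.span {algebraMap R D.C D.t}) (p := q)
    ((Ideal.span_singleton_le_iff_mem _).mpr ht)
  have he : (q.map (Ideal.Quotient.mk (Ideal.span {algebraMap R D.C D.t}))).map e.toRingHom = q.map D.π := by
    rw [Ideal.map_map]
    congr 1
  rw [← he, show ((q.map (Ideal.Quotient.mk (Ideal.span {algebraMap R D.C D.t}))).map e.toRingHom).height =
    (q.map (Ideal.Quotient.mk (Ideal.span {algebraMap R D.C D.t}))).height from RingEquiv.height_map e _]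
  refine h.trans ?_
  gcongr
  exact_mod_cast (Submodule.spanFinrank_span_le_ncard_of_finite (Set.finite_singleton _)).trans
    (Set.ncard_singleton _).le

theorem ringKrullDim_le (ht : algebraMap R D.C D.t ∈ q) :
    ringKrullDim (Localization.AtPrime q) ≤ ringKrullDim R ∧
      (¬ (q.map D.π).IsMaximal → ringKrullDim (Localization.AtPrime q) + 1 ≤ ringKrullDim R) := by
  haveI := D.isPrime_map q ht
  have hσ : ringKrullDim (MvPolynomial (Fin D.n) (ResidueField R)) = D.n := by
    rw [MvPolynomial.ringKrullDim_of_isNoetherianRing, ringKrullDim_eq_zero_of_field, zero_add, Nat.card_eq_fintype_card, Fintype.card_fin]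
  rw [IsLocalization.AtPrime.ringKrullDim_eq_height q (Localization.AtPrime q)]
  have h0 : (q.height : WithBot ℕ∞) ≤ ((q.map D.π).height : WithBot ℕ∞) + 1 := by
    exact_mod_cast D.height_le q ht
  have h1 : ((q.map D.π).height : WithBot ℕ∞) ≤ D.n :=
    hσ ▸ Ideal.height_le_ringKrullDim_of_ne_top (Ideal.IsPrime.ne_top inferInstance)
  refine ⟨h0.trans ((add_le_add h1 le_rfl).trans D.card_succ), fun hmax => ?_⟩
  obtain ⟨M, hM, hle⟩ := Ideal.exists_le_maximal (q.map D.π) (Ideal.IsPrime.ne_top inferInstance)
  have hlt : q.map D.π < M := lt_of_le_of_ne hle fun h => hmax (h ▸ hM)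
  have h2 : (((q.map D.π).height + 1 : ℕ∞) : WithBot ℕ∞) ≤ D.n :=
    (WithBot.coe_le_coe.2 (Ideal.height_add_one_le_of_lt_of_isPrime hlt)).trans
      (hσ ▸ Ideal.height_le_ringKrullDim_of_ne_top hM.ne_top)
  refine le_trans ?_ D.card_succ
  refine add_le_add (h0.trans ?_) le_rfl
  exact_mod_cast h2

end PointChart

end Groth.NeronArea
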