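import Groth.Agent.NeronArea.SeparatingCoordinates
import Groth.Agent.BlowUpBasics.AffineAlgebra

/-! Néron blow-ups at smooth centres are smooth. -/

set_option autoImplicit false
universe u

open TensorProduct

namespace Groth.NeronArea.BlowupSmooth

variable {R : Type u} [CommRing R] [IsDomain R] {A : Type u} [CommRing A] [Algebra R A]

/-- The blow-up of an ideal cut out by `π` and part of a system of étale coordinates is smooth. -/
theorem smooth_away (π : R) (hπ : π ≠ 0) (p : Ideal A) (h : A)
    {n : Type u} (c : n → Localization.Away h) (J : Set n) (a : J → A)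
    (hc : (MvPolynomial.aeval (R := R) c).toRingHom.Etale) (ha : ∀ i, a i ∈ p)
    (hac : ∀ i : J, algebraMap A _ (a i) = c i) (hπp : algebraMap R A π ∈ p)
    (hp : p.map (algebraMap A (Localization.Away h)) ≤
      Ideal.span (insert (algebraMap R _ π) (c '' J)))
    (hfin : Finite n) :
    Algebra.Smooth R (Localization.Away (algebraMap A (BlowUp.affineAlgebra A p (algebraMap R A π)) h)) := by
  classical
  let P := MvPolynomial n R
  let P' := MvPolynomial (ULift.{u} n) R
  let ρ : P →ₐ[R] P' := MvPolynomial.aeval fun i => if i ∈ J then MvPolynomial.C π * MvPolynomial.X ⟨i⟩ else MvPolynomial.X ⟨i⟩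
  letI : Algebra P P' := ρ.toRingHom.toAlgebra
  haveI : IsScalarTower R P P' := IsScalarTower.of_algebraMap_eq fun r => (ρ.commutes r).symm
  let T := Localization.Away h
  letI : Algebra P T := (MvPolynomial.aeval (R := R) c).toRingHom.toAlgebra
  haveI : IsScalarTower R P T := IsScalarTower.of_algebraMap_eq fun r => ((MvPolynomial.aeval (R := R) c).commutes r).symm
  haveI : Algebra.Etale P T := hc
  let T' := P' ⊗[P] T
  haveI : Finite (ULift.{u} n) := inferInstance
  haveI : Algebra.Smooth R P' := ⟨inferInstance, inferInstance⟩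
  haveI : Algebra.Smooth R T' := Algebra.Smooth.comp R P' T'
  let inT : T →ₐ[R] T' := (Algebra.TensorProduct.includeRight : T →ₐ[P] T').restrictScalars R
  let φ : A →ₐ[R] T' := inT.comp (IsScalarTower.toAlgHom R A T)
  let a₀ := algebraMap R A π
  let C' := BlowUp.affineAlgebra A p a₀
  have hnzd : φ a₀ ∈ nonZeroDivisors T' := by
    have h0 : (algebraMap R P' π) ∈ nonZeroDivisors P' :=
      mem_nonZeroDivisors_of_ne_zero fun h => hπ (MvPolynomial.C_injective (ULift.{u} n) R (by simpa using h))
    have hreg := Module.Flat.isSMulRegular_of_nonZeroDivisors (M := T') h0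
    rw [φ.commutes, mem_nonZeroDivisors_iff_right]
    intro x hx
    apply hreg
    show algebraMap R P' π • x = algebraMap R P' π • (0 : T')
    simp only [smul_zero]
    refine (Algebra.smul_def (R := P') (A := T') _ _).trans ?_
    rw [← IsScalarTower.algebraMap_apply R P' T', mul_comm]
    exact hx
  have hρJ : ∀ i, i ∈ J → ρ (MvPolynomial.X i) = MvPolynomial.C π * MvPolynomial.X ⟨i⟩ := fun i hi =>
    (MvPolynomial.aeval_X _ i).trans (if_pos hi)
  have hρN : ∀ i, i ∉ J → ρ (MvPolynomial.X i) = MvPolynomial.X ⟨i⟩ := fun i hi =>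
    (MvPolynomial.aeval_X _ i).trans (if_neg hi)
  have hX : ∀ i, inT (c i) = algebraMap P' T' (ρ (MvPolynomial.X i)) := fun i => by
    show (1 : P') ⊗ₜ[P] (c i) = (ρ (MvPolynomial.X i)) ⊗ₜ[P] (1 : T)
    have e1 : c i = (MvPolynomial.X i : P) • (1 : T) := by
      rw [Algebra.smul_def, mul_one]; exact (MvPolynomial.aeval_X c i).symm
    rw [e1, ← TensorProduct.smul_tmul, Algebra.smul_def, mul_one]
    rfl
  have hXJ : ∀ i ∈ J, inT (c i) = φ a₀ * algebraMap P' T' (MvPolynomial.X ⟨i⟩) := fun i hi => by
    rw [hX, hρJ i hi, map_mul, φ.commutes,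
      IsScalarTower.algebraMap_apply R P' T']
    rfl
  have hI : p.map φ.toRingHom ≤ Ideal.span {φ.toRingHom a₀} := by
    rw [show φ.toRingHom = inT.toRingHom.comp (algebraMap A T) from rfl, ← Ideal.map_map]
    refine (Ideal.map_mono hp).trans ?_
    rw [Ideal.map_span, Ideal.span_le]
    rintro _ ⟨x, hx | ⟨i, hi, rfl⟩, rfl⟩
    · subst hx
      rw [SetLike.mem_coe, Ideal.mem_span_singleton]
      exact dvd_of_eq ((φ.commutes π).trans (inT.commutes π).symm)
    · exact Ideal.mem_span_singleton.2 ⟨_, hXJ i hi⟩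
  obtain ⟨ψ₀, hψ₀⟩ := Groth.BlowUpBasics.exists_ringHom_lift (I := p) (a := a₀) φ.toRingHom hnzd hI
  let U := Localization.Away (algebraMap A C' h)
  have hψh : IsUnit (ψ₀ (algebraMap A C' h)) := by
    rw [← RingHom.comp_apply, hψ₀]
    exact (IsLocalization.Away.algebraMap_isUnit (S := T) h).map inT.toRingHom
  let ψ : U →+* T' := IsLocalization.Away.lift (algebraMap A C' h) hψh
  have hψC : ∀ x : C', ψ (algebraMap C' U x) = ψ₀ x := fun x => IsLocalization.Away.lift_eq _ _ x
  have hψA : ∀ x : A, ψ (algebraMap A U x) = φ x := fun x => by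
    rw [IsScalarTower.algebraMap_apply A C' U, hψC]; exact RingHom.congr_fun hψ₀ x
  have huh : IsUnit (algebraMap A U h) := by
    rw [IsScalarTower.algebraMap_apply A C' U]; exact IsLocalization.Away.algebraMap_isUnit _
  let gT : T →ₐ[A] U := IsLocalization.liftAlgHom (M := Submonoid.powers h) (f := Algebra.ofId A U) (by
    rintro ⟨_, k, rfl⟩
    simp only [Algebra.ofId_apply, map_pow]
    exact huh.pow k)
  have hψT : ∀ x : T, ψ (gT x) = inT x := fun x => by
    have := IsLocalization.ringHom_ext (M := Submonoid.powers h) (S := T) (j := ψ.comp gT.toRingHom) (k := inT.toRingHom)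
      (RingHom.ext fun y => by simpa [φ] using hψA y)
    exact RingHom.congr_fun this x
  letI : Algebra P U := (gT.toRingHom.comp (algebraMap P T)).toAlgebra
  haveI : IsScalarTower R P U := IsScalarTower.of_algebraMap_eq fun r => by
    show _ = gT (algebraMap P T (algebraMap R P r))
    rw [← IsScalarTower.algebraMap_apply R P T]
    exact ((gT.restrictScalars R).commutes r).symm
  let y : ULift.{u} n → U := fun i => if hi : i.down ∈ J then
      algebraMap C' U (Groth.BlowUpBasics.frac p a₀ (a ⟨i.down, hi⟩) (ha _)) else gT (c i.down)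
  let f₀ : P' →ₐ[R] U := MvPolynomial.aeval y
  have hgTc : ∀ i : J, gT (c i) = algebraMap A U (a i) := fun i => by rw [← hac, gT.commutes]
  have hf₀ : ∀ x : P, f₀ (ρ x) = gT (algebraMap P T x) := by
    intro x
    have : f₀.comp ρ = (gT.restrictScalars R).comp (IsScalarTower.toAlgHom R P T) := by
      refine MvPolynomial.algHom_ext fun i => ?_
      show f₀ (ρ (MvPolynomial.X i)) = gT (algebraMap P T (MvPolynomial.X i))
      rw [show algebraMap P T (MvPolynomial.X i) = c i from MvPolynomial.aeval_X c i]
      by_cases hi : i ∈ J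
      · rw [hρJ i hi,
          hgTc ⟨i, hi⟩]
        rw [map_mul, show f₀ (MvPolynomial.C π) = algebraMap R U π from MvPolynomial.aeval_C y π,
          show f₀ (MvPolynomial.X ⟨i⟩) = y ⟨i⟩ from MvPolynomial.aeval_X y ⟨i⟩,
          show y ⟨i⟩ = algebraMap C' U (Groth.BlowUpBasics.frac p a₀ (a ⟨i, hi⟩) (ha _)) from dif_pos hi]
        rw [IsScalarTower.algebraMap_apply R A U π, IsScalarTower.algebraMap_apply A C' U,
          IsScalarTower.algebraMap_apply A C' U, mul_comm, ← map_mul, Groth.BlowUpBasics.frac_mul_algebraMap]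
      · rw [hρN i hi, show f₀ (MvPolynomial.X ⟨i⟩) = y ⟨i⟩ from MvPolynomial.aeval_X y ⟨i⟩]
        exact dif_neg hi
    exact DFunLike.congr_fun this x
  let f : P' →ₐ[P] U := { f₀.toRingHom with commutes' := hf₀ }
  let g : T →ₐ[P] U := { gT.toRingHom with commutes' := fun x => rfl }
  let ω : T' →ₐ[P] U := Algebra.TensorProduct.lift f g fun _ _ => Commute.all _ _
  have hωl : ∀ x : P', ω (algebraMap P' T' x) = f₀ x := fun x => by
    show ω (x ⊗ₜ[P] (1 : T)) = f₀ x
    rw [Algebra.TensorProduct.lift_tmul, map_one, mul_one]; rfl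
  have hωr : ∀ x : T, ω (inT x) = gT x := fun x => by
    show ω ((1 : P') ⊗ₜ[P] x) = gT x
    rw [Algebra.TensorProduct.lift_tmul, map_one, one_mul]; rfl
  have hψω : ∀ x : T', ψ (ω x) = x := by
    have hl : ∀ x : P', ψ (f₀ x) = algebraMap P' T' x := by
      intro x
      induction x using MvPolynomial.induction_on with
      | C r =>
        rw [show f₀ (MvPolynomial.C r) = algebraMap R U r from MvPolynomial.aeval_C y r,
          IsScalarTower.algebraMap_apply R A U r, hψA, φ.commutes, IsScalarTower.algebraMap_apply R P' T']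
        rfl
      | add x z hx hz => rw [map_add, map_add, map_add, hx, hz]
      | mul_X x i hx =>
        rw [map_mul, map_mul, map_mul, hx]
        congr 1
        rw [show f₀ (MvPolynomial.X i) = y i from MvPolynomial.aeval_X y i]
        obtain ⟨i⟩ := i
        by_cases hi : i ∈ J
        · refine (mul_cancel_left_mem_nonZeroDivisors hnzd).1 ?_
          rw [← hXJ i hi, ← hψT, ← hψA, ← map_mul]
          congr 1
          simp only [y, dif_pos hi]
          rw [hgTc ⟨i, hi⟩, IsScalarTower.algebraMap_apply A C' U, IsScalarTower.algebraMap_apply A C' U, mul_comm,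
            ← map_mul, Groth.BlowUpBasics.frac_mul_algebraMap]
        · simp only [y, dif_neg hi]
          rw [hψT, hX, hρN i hi]
    intro x
    induction x using TensorProduct.induction_on with
    | zero => simp
    | tmul x z =>
      rw [Algebra.TensorProduct.lift_tmul, map_mul]
      show ψ (f₀ x) * ψ (gT z) = _
      rw [hl, hψT]
      show (x ⊗ₜ[P] (1 : T)) * ((1 : P') ⊗ₜ[P] z) = _
      rw [Algebra.TensorProduct.tmul_mul_tmul, mul_one, one_mul]
    | add x z hx hz => rw [map_add, map_add, hx, hz]
  have hωψ : ∀ x : U, ω (ψ x) = x := by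
    have h1 : (ω.toRingHom.comp ψ).comp (algebraMap C' U) = algebraMap C' U := by
      refine Groth.BlowUpBasics.ringHom_ext ?_ ?_
      · ext z
        show ω (ψ (algebraMap C' U (algebraMap A C' z))) = algebraMap C' U (algebraMap A C' z)
        rw [← IsScalarTower.algebraMap_apply A C' U, hψA]
        show ω (inT (algebraMap A T z)) = _
        rw [hωr, gT.commutes]
      · show ω (ψ (algebraMap C' U (algebraMap A C' a₀))) ∈ nonZeroDivisors U
        rw [← IsScalarTower.algebraMap_apply A C' U, hψA,
          show φ a₀ = inT (algebraMap A T a₀) from rfl, hωr, gT.commutes, IsScalarTower.algebraMap_apply A C' U]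
        exact IsLocalization.map_nonZeroDivisors_le (Submonoid.powers (algebraMap A C' h)) U
          ⟨_, Groth.BlowUpBasics.algebraMap_self_mem_nonZeroDivisors, rfl⟩
    intro x
    exact RingHom.congr_fun (IsLocalization.ringHom_ext (M := Submonoid.powers (algebraMap A C' h)) (S := U)
      (j := ω.toRingHom.comp ψ) (k := RingHom.id U) (h1.trans (RingHom.id_comp _).symm)) x
  let e : T' ≃ₐ[R] U := AlgEquiv.ofBijective (ω.restrictScalars R)
    ⟨Function.LeftInverse.injective (g := ψ) hψω, fun x => ⟨ψ x, hωψ x⟩⟩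
  exact Algebra.Smooth.of_equiv e

end Groth.NeronArea.BlowupSmooth
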