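import Mathlib.RingTheory.MvPowerSeries.Trunc
import Mathlib.RingTheory.MvPowerSeries.Inverse
import Mathlib.Algebra.MvPolynomial.CommRing
import Mathlib.Tactic.LinearCombination
import Mathlib.Algebra.QuadraticAlgebra.Basic
import Mathlib.RingTheory.DiscreteValuationRing.Basic
import Mathlib.RingTheory.Ideal.Quotient.Operations

/-!
# The cotangent filtration of a characteristic two Weierstrass singularity
-/

set_option autoImplicit false

universe u

open MvPolynomial

namespace Groth.NeronArea.CharTwo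

section EvalNilpotent

variable {R T : Type u} [CommRing R] [CommRing T] [Algebra R T] (t : Fin 2 → T) (N : ℕ)
  (ht : ∀ d : Fin 2 →₀ ℕ, N ≤ d.degree → t 0 ^ d 0 * t 1 ^ d 1 = 0)

include ht in
theorem aeval_eq_zero_of_low (P : MvPolynomial (Fin 2) R) (h : ∀ d : Fin 2 →₀ ℕ, d.degree < N → P.coeff d = 0) :
    aeval t P = 0 := by
  rw [P.as_sum, map_sum]
  refine Finset.sum_eq_zero fun d _ => ?_
  rcases lt_or_ge d.degree N with hd | hd
  · simp [h d hd]
  · rw [aeval_monomial, Finsupp.prod_fintype _ _ (fun i => pow_zero _), Fin.prod_univ_two, ht d hd, mul_zero]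

/-- Evaluation of power series at a tuple killing all monomials of large degree. -/
noncomputable def evalNil (hN : N ≠ 0) : MvPowerSeries (Fin 2) R →ₐ[R] T :=
  AlgHom.ofLinearMap ((aeval t).toLinearMap ∘ₗ MvPowerSeries.truncTotal N)
    (by simp [MvPowerSeries.truncTotal_one hN])
    (fun f g => by
      simp only [LinearMap.comp_apply, AlgHom.toLinearMap_apply]
      rw [← map_mul, ← sub_eq_zero, ← map_sub]
      refine aeval_eq_zero_of_low t N ht _ fun d hd => ?_
      rw [coeff_sub, MvPowerSeries.coeff_truncTotal _ hd,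
        MvPowerSeries.coeff_truncTotal_mul_truncTotal_eq_coeff_mul _ _ hd, sub_self])

theorem evalNil_coe (hN : N ≠ 0) (P : MvPolynomial (Fin 2) R) :
    evalNil t N ht hN (P : MvPowerSeries (Fin 2) R) = aeval t P := by
  show aeval t (MvPowerSeries.truncTotal N (P : MvPowerSeries (Fin 2) R)) = aeval t P
  rw [← sub_eq_zero, ← map_sub]
  refine aeval_eq_zero_of_low t N ht _ fun d hd => ?_
  rw [coeff_sub, MvPowerSeries.coeff_truncTotal _ hd, MvPolynomial.coeff_coe, sub_self]

theorem evalNil_X (hN : N ≠ 0) (i : Fin 2) : evalNil t N ht hN (MvPowerSeries.X i : MvPowerSeries (Fin 2) R) = t i := by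
  rw [← MvPolynomial.coe_X, evalNil_coe, aeval_X]

end EvalNilpotent

section Model

variable {A : Type u} [CommRing A] (π r c : A)

/-- The model `A[X,Y]/(Y² - r, X² - cY)`. -/
abbrev Mdl : Type u := QuadraticAlgebra (QuadraticAlgebra A r 0) ⟨0, c⟩ 0

/-- The class of `X`. -/
def mx : Mdl r c := ⟨0, 1⟩

/-- The class of `Y`. -/
def my : Mdl r c := QuadraticAlgebra.C ⟨0, 1⟩

/-- A scalar. -/
def sc (a : A) : Mdl r c := algebraMap A (Mdl r c) a

theorem mx_sq : mx r c * mx r c = sc r c c * my r c := by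
  ext <;> simp [mx, my, sc, QuadraticAlgebra.algebraMap_eq, QuadraticAlgebra.C_eq_algebraMap, IsScalarTower.algebraMap_apply A (QuadraticAlgebra A r 0) (Mdl r c)]

theorem my_sq : my r c * my r c = sc r c r := by
  ext <;> simp [my, sc, QuadraticAlgebra.algebraMap_eq, QuadraticAlgebra.C_eq_algebraMap, IsScalarTower.algebraMap_apply A (QuadraticAlgebra A r 0) (Mdl r c)]

theorem comp_of_mem (v : ℕ) (hr : π ^ v * r = 0) (hc : π ^ v * c = 0) {t : Mdl r c}
    (ht : t ∈ Ideal.span {sc r c (π ^ v) * mx r c, sc r c (π ^ v) * my r c}) :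
    t.re.re = 0 ∧ ∃ s, t.im.im = π ^ v * s := by
  rw [Ideal.mem_span_pair] at ht
  obtain ⟨a, b, rfl⟩ := ht
  constructor
  · simp [mx, my, sc, QuadraticAlgebra.algebraMap_eq, QuadraticAlgebra.C_eq_algebraMap, IsScalarTower.algebraMap_apply A (QuadraticAlgebra A r 0) (Mdl r c)]
    linear_combination (a.im.re + a.im.im * 0) * 0 + b.re.im * hr + a.im.im * (r * hc)
  · refine ⟨a.re.im + b.im.re, ?_⟩
    simp [mx, my, sc, QuadraticAlgebra.algebraMap_eq, QuadraticAlgebra.C_eq_algebraMap, IsScalarTower.algebraMap_apply A (QuadraticAlgebra A r 0) (Mdl r c)]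
    ring

theorem comp_main (a b : A) : (sc r c a + sc r c b * (mx r c * my r c)).re.re = a ∧
    (sc r c a + sc r c b * (mx r c * my r c)).im.im = b := by
  constructor <;> simp [mx, my, sc, QuadraticAlgebra.algebraMap_eq, QuadraticAlgebra.C_eq_algebraMap, IsScalarTower.algebraMap_apply A (QuadraticAlgebra A r 0) (Mdl r c)]

end Model

theorem mem_maximalIdeal_of_model {R : Type u} [CommRing R] [IsDomain R] [IsDiscreteValuationRing R]
    (ϖ a₁ a₆ : R) (hϖ : Irreducible ϖ) (v : ℕ) (hv : 1 ≤ v) (u₁ u₆ : Rˣ) (ha₁ : a₁ = u₁ * ϖ ^ v) (ha₆ : a₆ = u₆ * ϖ)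
    (t : R) (h2 : (2 : R) = ϖ ^ v * t) (h3 : IsUnit (3 : R))
    (I M : Ideal (MvPowerSeries (Fin 2) R))
    (hI : I = Ideal.span {MvPowerSeries.X 1 ^ 2 + a₁ • (MvPowerSeries.X 0 * MvPowerSeries.X 1) - MvPowerSeries.X 0 ^ 3 - algebraMap R (MvPowerSeries (Fin 2) R) a₆,
      2 * MvPowerSeries.X 1 + a₁ • MvPowerSeries.X 0, 3 * MvPowerSeries.X 0 ^ 2 - a₁ • MvPowerSeries.X 1})
    (hM : M = Ideal.span {algebraMap R (MvPowerSeries (Fin 2) R) ϖ, MvPowerSeries.X 0, MvPowerSeries.X 1})
    (a b : R) (h : a • MvPowerSeries.X 1 ^ (2 * v) + b • (MvPowerSeries.X 0 * MvPowerSeries.X 1 ^ (2 * v - 1)) ∈ M ^ (2 * v + 1) ⊔ I) :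
    a ∈ IsLocalRing.maximalIdeal R ∧ b ∈ IsLocalRing.maximalIdeal R := by
  obtain ⟨w, rfl⟩ : ∃ w, v = w + 1 := ⟨v - 1, by omega⟩
  obtain ⟨i3, hi3⟩ := h3.exists_right_inv
  let A := R ⧸ Ideal.span {ϖ ^ (w + 2)}
  let q := Ideal.Quotient.mk (Ideal.span {ϖ ^ (w + 2)})
  let π : A := q ϖ
  let r : A := q a₆
  let c : A := q (a₁ * i3)
  let T := Mdl r c
  let X := mx r c
  let Y := my r c
  have hπ : π ^ (w + 2) = 0 := by
    rw [← map_pow]; exact Ideal.Quotient.eq_zero_iff_mem.2 (Ideal.mem_span_singleton_self _)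
  have hr : r = q u₆ * π := by simp only [r, π, ha₆, map_mul]
  have hc : c = q (u₁ * i3) * π ^ (w + 1) := by
    simp only [c, π, ha₁, map_mul, map_pow]; ring
  have hπc : π * c = 0 := by rw [hc]; linear_combination q (u₁ * i3) * hπ
  have hcr : c * r = 0 := by rw [hr]; linear_combination q u₆ * hπc
  have h2c : 2 * c = 0 := by
    rw [hc, show (2 : A) = q 2 from (map_ofNat q 2).symm, h2, map_mul, map_pow]
    linear_combination (q t * q (u₁ * i3) * π ^ w) * hπ
  have h3c : 3 * c = q a₁ := by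
    rw [show (3 : A) = q 3 from (map_ofNat q 3).symm, ← map_mul]
    congr 1
    linear_combination a₁ * hi3
  let s : A →+* T := algebraMap A T
  have hxx : X * X = s c * Y := mx_sq r c
  have hyy : Y * Y = s r := my_sq r c
  have hsr : s r = s (q u₆) * s π := by rw [← map_mul, ← hr]
  have hspc : s π * s c = 0 := by rw [← map_mul, hπc, map_zero]
  have hscr : s c * s r = 0 := by rw [← map_mul, hcr, map_zero]
  have hsπ : s π ^ (w + 2) = 0 := by rw [← map_pow, hπ, map_zero]
  have hx4 : X ^ 4 = 0 := by linear_combination (X * X + s c * Y) * hxx + s c ^ 2 * hyy + s c * hscr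
  have hyN : Y ^ (2 * (w + 2)) = 0 := by
    rw [pow_mul, sq, hyy, hsr, mul_pow, hsπ, mul_zero]
  have ht : ∀ d : Fin 2 →₀ ℕ, 2 * (w + 2) + 4 ≤ d.degree → X ^ d 0 * Y ^ d 1 = 0 := by
    intro d hd
    have hdeg : d.degree = d 0 + d 1 := by
      rw [Finsupp.degree_eq_sum, Fin.sum_univ_two]
    rcases le_or_gt 4 (d 0) with h0 | h0
    · rw [pow_eq_zero_of_le h0 hx4, zero_mul]
    · rw [pow_eq_zero_of_le (show 2 * (w + 2) ≤ d 1 by omega) hyN, mul_zero]
  let ψ := evalNil (R := R) (T := T) ![X, Y] (2 * (w + 2) + 4) (by simpa using ht) (by omega)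
  have hψx : ψ (MvPowerSeries.X 0) = X := by simpa using evalNil_X (R := R) (T := T) ![X, Y] _ (by simpa using ht) (by omega : 2 * (w + 2) + 4 ≠ 0) 0
  have hψy : ψ (MvPowerSeries.X 1) = Y := by simpa using evalNil_X (R := R) (T := T) ![X, Y] _ (by simpa using ht) (by omega : 2 * (w + 2) + 4 ≠ 0) 1
  have hψC : ∀ x : R, ψ (algebraMap R _ x) = s (q x) := fun x => by
    rw [AlgHom.commutes]; rfl
  have hψsmul : ∀ (x : R) (z : MvPowerSeries (Fin 2) R), ψ (x • z) = s (q x) * ψ z := fun x z => by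
    rw [Algebra.smul_def, map_mul, hψC]
  let F : Ideal T := Ideal.span {s (π ^ (w + 1)) * X, s (π ^ (w + 1)) * Y}
  -- the powers of the maximal ideal
  let G : Ideal T := Ideal.span {s π, X * Y}
  let N : Ideal T := Ideal.span {s π, X, Y}
  have hN2 : N ^ 2 ≤ G := by
    rw [sq, Ideal.span_mul_span', Ideal.span_le]
    have h1 : s π ∈ G := Ideal.subset_span (Or.inl rfl)
    have h2' : X * Y ∈ G := Ideal.subset_span (Or.inr rfl)
    have hX : X * X ∈ G := by
      rw [hxx]
      refine G.mul_mem_right _ ?_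
      have : s c = s (q (u₁ * i3)) * s π ^ w * s π := by rw [mul_assoc, ← pow_succ (s π), ← map_pow, ← map_mul, ← hc]
      rw [this]
      exact G.mul_mem_left _ h1
    have hY : Y * Y ∈ G := by rw [hyy, hsr]; exact G.mul_mem_left _ h1
    rintro _ ⟨p, hp, p', hp', rfl⟩
    rcases hp with rfl | rfl | rfl <;> rcases hp' with rfl | rfl | rfl
    all_goals first
      | exact G.mul_mem_right _ h1
      | exact G.mul_mem_left _ h1
      | exact hX
      | exact hY
      | exact h2'
      | (have e := h2'; rwa [mul_comm X Y] at e)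
  have hxy2 : (X * Y) * (X * Y) = 0 := by linear_combination (Y * Y) * hxx + s c * Y * hyy + Y * hscr
  have hGpow : ∀ n : ℕ, G ^ (n + 1) ≤ Ideal.span {s π ^ (n + 1), s π ^ n * (X * Y)} := by
    intro n
    induction n with
    | zero => simp [G]
    | succ n ih =>
      rw [pow_succ G (n + 1)]
      refine (Ideal.mul_mono ih le_rfl).trans ?_
      rw [Ideal.span_mul_span', Ideal.span_le]
      rintro _ ⟨p, hp, p', hp', rfl⟩
      rcases hp with rfl | rfl <;> rcases hp' with rfl | rfl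
      · exact Ideal.subset_span (Or.inl (pow_succ _ _).symm)
      · exact Ideal.subset_span (Or.inr rfl)
      · show s π ^ n * (X * Y) * s π ∈ _
        rw [mul_right_comm, ← pow_succ]
        exact Ideal.subset_span (Or.inr rfl)
      · show s π ^ n * (X * Y) * (X * Y) ∈ _
        rw [mul_assoc, hxy2, mul_zero]
        exact zero_mem _
  have hF : N ^ (2 * (w + 1) + 1) ≤ F := by
    rw [pow_succ N (2 * (w + 1)), pow_mul N 2 (w + 1)]
    refine (Ideal.mul_mono ((Ideal.pow_right_mono hN2 _).trans (hGpow w)) le_rfl).trans ?_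
    rw [Ideal.span_mul_span', Ideal.span_le]
    have fx : s (π ^ (w + 1)) * X ∈ F := Ideal.subset_span (Or.inl rfl)
    have fy : s (π ^ (w + 1)) * Y ∈ F := Ideal.subset_span (Or.inr rfl)
    rw [map_pow] at fx fy
    rintro _ ⟨p, hp, p', hp', rfl⟩
    rcases hp with rfl | rfl <;> rcases hp' with rfl | rfl | rfl
    · show s π ^ (w + 1) * s π ∈ F
      rw [← pow_succ, hsπ]; exact zero_mem _
    · exact fx
    · exact fy
    · show s π ^ w * (X * Y) * s π ∈ F
      have : s π ^ w * (X * Y) * s π = s π ^ (w + 1) * X * Y := by ring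
      rw [this]; exact F.mul_mem_right _ fx
    · show s π ^ w * (X * Y) * X ∈ F
      have : s π ^ w * (X * Y) * X = 0 := by linear_combination (s π ^ w * Y) * hxx + s π ^ w * s c * hyy + s π ^ w * hscr
      rw [this]; exact zero_mem _
    · show s π ^ w * (X * Y) * Y ∈ F
      have : s π ^ w * (X * Y) * Y = s (q u₆) * (s π ^ (w + 1) * X) := by
        linear_combination (s π ^ w * X) * hyy + (s π ^ w * X) * hsr
      rw [this]; exact F.mul_mem_left _ fx
  have hle : M ^ (2 * (w + 1) + 1) ⊔ I ≤ F.comap ψ := by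
    refine sup_le ?_ ?_
    · rw [← Ideal.map_le_iff_le_comap, Ideal.map_pow]
      refine (Ideal.pow_right_mono ?_ _).trans hF
      rw [hM, Ideal.map_span, Ideal.span_le]
      rintro _ ⟨z, hz, rfl⟩
      rcases hz with rfl | rfl | rfl
      · show ψ _ ∈ N
        rw [hψC]; exact Ideal.subset_span (Or.inl rfl)
      · show ψ _ ∈ N
        rw [hψx]; exact Ideal.subset_span (Or.inr (Or.inl rfl))
      · show ψ _ ∈ N
        rw [hψy]; exact Ideal.subset_span (Or.inr (Or.inr rfl))
    · rw [hI, Ideal.span_le]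
      rintro z (rfl | rfl | rfl)
      · show ψ _ ∈ F
        simp only [map_sub, map_add, map_pow, hψsmul, map_mul, hψx, hψy, hψC]
        have e : s (q a₁) = 3 * s c := by rw [← h3c, map_mul, map_ofNat]
        have e2 : (2 : T) * s c = 0 := by rw [← map_ofNat s 2, ← map_mul, h2c, map_zero]
        have : Y ^ 2 + s (q a₁) * (X * Y) - X ^ 3 - s (q a₆) = 0 := by
          linear_combination hyy + (X * Y) * e - X * hxx + (X * Y) * e2
        rw [this]; exact zero_mem _
      · show ψ _ ∈ F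
        simp only [map_add, map_mul, hψsmul, hψx, hψy, map_ofNat]
        refine F.add_mem ?_ ?_
        · have : (2 : T) * Y = s (q t) * (s (π ^ (w + 1)) * Y) := by
            rw [← mul_assoc, ← map_mul, ← map_ofNat s 2, ← map_ofNat q 2, h2]
            simp only [π, map_mul, map_pow]; ring
          rw [this]; exact F.mul_mem_left _ (Ideal.subset_span (Or.inr rfl))
        · have : s (q a₁) * X = s (q u₁) * (s (π ^ (w + 1)) * X) := by
            rw [← mul_assoc, ← map_mul, ha₁]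
            simp only [π, map_mul, map_pow]
          rw [this]; exact F.mul_mem_left _ (Ideal.subset_span (Or.inl rfl))
      · show ψ _ ∈ F
        simp only [map_sub, map_mul, map_pow, hψsmul, hψx, hψy, map_ofNat]
        have e : s (q a₁) = 3 * s c := by rw [← h3c, map_mul, map_ofNat]
        have : (3 : T) * X ^ 2 - s (q a₁) * Y = 0 := by linear_combination 3 * hxx - Y * e
        rw [this]; exact zero_mem _
  have hval := hle h
  rw [Ideal.mem_comap] at hval
  have he : ψ (a • MvPowerSeries.X 1 ^ (2 * (w + 1)) + b • (MvPowerSeries.X 0 * MvPowerSeries.X 1 ^ (2 * (w + 1) - 1))) =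
      sc r c (q a * r ^ (w + 1)) + sc r c (q b * r ^ w) * (X * Y) := by
    show _ = s _ + s _ * _
    simp only [map_add, hψsmul, map_mul, map_pow, hψx, hψy]
    rw [show 2 * (w + 1) - 1 = 2 * w + 1 by omega, pow_mul, pow_succ Y (2 * w), pow_mul, sq, hyy]
    ring
  rw [he] at hval
  have hπr : π ^ (w + 1) * r = 0 := by rw [hr]; linear_combination q u₆ * hπ
  have hπc' : π ^ (w + 1) * c = 0 := by linear_combination π ^ w * hπc
  obtain ⟨h₁, m, h₂⟩ := comp_of_mem π r c (w + 1) hπr hπc' hval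
  obtain ⟨e₁, e₂⟩ := comp_main r c (q a * r ^ (w + 1)) (q b * r ^ w)
  rw [e₁] at h₁
  rw [e₂] at h₂
  have hmax : IsLocalRing.maximalIdeal R = Ideal.span {ϖ} := hϖ.maximalIdeal_eq
  obtain ⟨m, rfl⟩ := Ideal.Quotient.mk_surjective m
  simp only [r, π, ← map_pow, ← map_mul, ha₆] at h₁ h₂
  rw [Ideal.Quotient.eq_zero_iff_mem, Ideal.mem_span_singleton] at h₁
  replace h₂ := Ideal.mem_span_singleton.1 ((Ideal.Quotient.eq (I := Ideal.span {ϖ ^ (w + 2)})).1 (h₂.trans (map_mul q _ _).symm))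
  obtain ⟨k₁, hk₁⟩ := h₁
  obtain ⟨k₂, hk₂⟩ := h₂
  rw [hmax, Ideal.mem_span_singleton, Ideal.mem_span_singleton]
  constructor
  · refine (u₆.isUnit.pow (w + 1)).dvd_mul_right.1 ⟨k₁, mul_left_cancel₀ (pow_ne_zero (w + 1) hϖ.ne_zero) ?_⟩
    linear_combination hk₁
  · refine (u₆.isUnit.pow w).dvd_mul_right.1 ⟨m + ϖ * k₂, mul_left_cancel₀ (pow_ne_zero w hϖ.ne_zero) ?_⟩
    linear_combination hk₂

theorem pow_sup_eq_span {R : Type u} [CommRing R] (S : Type u) [CommRing S] [Algebra R S]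
    (x y : S) (ϖ a₁ a₆ : R) (u₁ u₆ : Rˣ) (w : ℕ) (ha₁ : a₁ = u₁ * ϖ ^ (w + 1)) (ha₆ : a₆ = u₆ * ϖ) (h3 : IsUnit (3 : R))
    (hunit : IsUnit (algebraMap R S (3 * (u₆ : R)) - algebraMap R S (2 * (u₁ : R) * ϖ ^ w) * (x * y)))
    (I M : Ideal S)
    (hf : y ^ 2 + a₁ • (x * y) - x ^ 3 - algebraMap R S a₆ ∈ I) (hg : 3 * x ^ 2 - a₁ • y ∈ I)
    (hM : M = Ideal.span {algebraMap R S ϖ, x, y}) (i : ℕ) :
    M ^ (i + 1) ⊔ I = Ideal.span {y ^ (i + 1), x * y ^ i} ⊔ I := by
  let q := Ideal.Quotient.mk I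
  suffices H : (M ^ (i + 1)).map q = (Ideal.span {y ^ (i + 1), x * y ^ i}).map q by
    have := congrArg (Ideal.comap q) H
    simpa only [Ideal.comap_map_of_surjective q Ideal.Quotient.mk_surjective, ← RingHom.ker_eq_comap_bot, q, Ideal.mk_ker] using this
  let X := q x
  let Y := q y
  let s : R →+* S ⧸ I := algebraMap R (S ⧸ I)
  have hf' : Y ^ 2 + s a₁ * (X * Y) - X ^ 3 - s a₆ = 0 := by
    have := Ideal.Quotient.eq_zero_iff_mem.2 hf
    simpa [Algebra.smul_def] using this
  have hg' : 3 * X ^ 2 - s a₁ * Y = 0 := by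
    have := Ideal.Quotient.eq_zero_iff_mem.2 hg
    simpa [Algebra.smul_def, map_ofNat] using this
  have key : s ϖ * (s (3 * (u₆ : R)) - s (2 * (u₁ : R) * ϖ ^ w) * (X * Y)) = 3 * Y ^ 2 := by
    simp only [ha₁, ha₆, map_mul, map_pow, map_ofNat] at hf' hg' ⊢
    linear_combination -3 * hf' - X * hg'
  obtain ⟨U, hU⟩ : ∃ U, (s (3 * (u₆ : R)) - s (2 * (u₁ : R) * ϖ ^ w) * (X * Y)) * U = 1 := by
    have := (hunit.map q).exists_right_inv
    rw [map_sub, map_mul q, map_mul q, Ideal.Quotient.mk_algebraMap, Ideal.Quotient.mk_algebraMap] at this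
    exact this
  have hπ : s ϖ = 3 * U * Y ^ 2 := by linear_combination U * key - s ϖ * hU
  obtain ⟨i3, hi3⟩ := h3.exists_right_inv
  have hi3' : (3 : S ⧸ I) * s i3 = 1 := by rw [← map_ofNat s 3, ← map_mul, hi3, map_one]
  have hxx : X * X = (s i3 * s (u₁ : R) * s ϖ ^ w * (3 * U)) * (Y * (Y * Y)) := by
    simp only [ha₁, map_mul, map_pow] at hg'
    linear_combination s i3 * hg' - X * X * hi3' + s i3 * s (u₁ : R) * s ϖ ^ w * Y * hπ
  rw [Ideal.map_pow, hM, Ideal.map_span, Ideal.map_span]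
  simp only [Set.image_insert_eq, Set.image_singleton, map_mul, map_pow]
  show Ideal.span {s ϖ, X, Y} ^ (i + 1) = Ideal.span {Y ^ (i + 1), X * Y ^ i}
  have h0 : Ideal.span {s ϖ, X, Y} = Ideal.span ({Y, X} : Set (S ⧸ I)) := by
    refine le_antisymm ?_ (Ideal.span_mono (by rintro z (rfl | rfl) <;> simp))
    rw [Ideal.span_le]
    rintro z (rfl | rfl | rfl)
    · show s ϖ ∈ _
      rw [hπ, sq, ← mul_assoc]; exact Ideal.mul_mem_left _ _ (Ideal.subset_span (Or.inl rfl))
    · exact Ideal.subset_span (Or.inr rfl)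
    · exact Ideal.subset_span (Or.inl rfl)
  rw [h0]
  induction i with
  | zero => simp
  | succ i ih =>
    rw [pow_succ, ih, Ideal.span_mul_span']
    refine le_antisymm ?_ ?_
    · rw [Ideal.span_le]
      rintro _ ⟨p, hp, p', hp', rfl⟩
      rcases hp with rfl | rfl <;> rcases hp' with rfl | rfl
      · exact Ideal.subset_span (Or.inl (pow_succ _ _).symm)
      · show Y ^ (i + 1) * X ∈ _
        rw [mul_comm]; exact Ideal.subset_span (Or.inr rfl)
      · show X * Y ^ i * Y ∈ _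
        rw [mul_assoc, ← pow_succ]; exact Ideal.subset_span (Or.inr rfl)
      · show X * Y ^ i * X ∈ _
        have e : X * Y ^ i * X = (s i3 * s (u₁ : R) * s ϖ ^ w * (3 * U) * Y) * Y ^ (i + 1 + 1) := by
          linear_combination Y ^ i * hxx
        rw [e]
        exact Ideal.mul_mem_left _ _ (Ideal.subset_span (Or.inl rfl))
    · rw [Ideal.span_le]
      rintro z (rfl | rfl)
      · exact Ideal.subset_span ⟨Y ^ (i + 1), Or.inl rfl, Y, Or.inl rfl, (pow_succ _ _).symm⟩
      · exact Ideal.subset_span ⟨X * Y ^ i, Or.inr rfl, Y, Or.inl rfl, by show X * Y ^ i * Y = _; rw [mul_assoc, ← pow_succ]⟩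

end Groth.NeronArea.CharTwo
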