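import Groth.Agent.NeronArea.SmoothAtBasics
import Mathlib.Algebra.MvPolynomial.Basic
import Mathlib.RingTheory.Smooth.Basic
import Mathlib.RingTheory.Polynomial.Basic
import Mathlib.RingTheory.FinitePresentation

/-! Adjoining parameters whose powers lie in the singular ideal. -/

open MvPolynomial Smoothing

set_option linter.style.haveILetI false

namespace Groth.NeronArea.Cover

universe u

theorem exists_cover {k A : Type u} [CommRing k] [IsNoetherianRing k] [CommRing A] [Algebra k A]
    [Algebra.FinitePresentation k A] {s : ℕ} (a : Fin s → A) (ha : ∀ j, a j ∈ singularIdeal k A) (n d : ℕ) :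
    ∃ (B : Type u) (_ : CommRing B) (_ : Algebra k B) (_ : Algebra (MvPolynomial (Fin d) k) B)
      (_ : IsScalarTower k (MvPolynomial (Fin d) k) B), Algebra.FinitePresentation (MvPolynomial (Fin d) k) B ∧
      ∃ α : A →ₐ[k] B,
        (∀ j, α (a j) ∈ singularIdeal (MvPolynomial (Fin d) k) B) ∧
        (∀ i, algebraMap (MvPolynomial (Fin d) k) B (X i) ∈ singularIdeal (MvPolynomial (Fin d) k) B) ∧
        ∀ {Λ : Type u} [CommRing Λ] [Algebra k Λ] (φ : A →ₐ[k] Λ) (π : Fin d → Λ),
          (∀ i, π i ^ n ∈ Ideal.span (Set.range fun j => φ (a j))) →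
          ∃ β : B →ₐ[k] Λ, β.comp α = φ ∧ ∀ i, β (algebraMap (MvPolynomial (Fin d) k) B (X i)) = π i := by
  classical
  let σ := Fin d ⊕ Fin d × Fin s
  let rel : Fin d → MvPolynomial (Fin d ⊕ Fin d × Fin s) A := fun i =>
    X (Sum.inl i) ^ n - ∑ j, X (Sum.inr (i, j)) * C (a j)
  let J : Ideal (MvPolynomial (Fin d ⊕ Fin d × Fin s) A) := Ideal.span (Set.range rel)
  let B := MvPolynomial (Fin d ⊕ Fin d × Fin s) A ⧸ J
  have : Algebra.FinitePresentation A B :=
    Algebra.FinitePresentation.quotient (Submodule.fg_span (Set.finite_range _))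
  have hkB : Algebra.FinitePresentation k B := Algebra.FinitePresentation.trans k A B
  let xB : Fin d → B := fun i => Ideal.Quotient.mk J (X (Sum.inl i))
  let zB : Fin d → Fin s → B := fun i j => Ideal.Quotient.mk J (X (Sum.inr (i, j)))
  have hrel : ∀ i, xB i ^ n = ∑ j, zB i j * algebraMap A B (a j) := fun i => by
    have h : Ideal.Quotient.mk J (rel i) = 0 := Ideal.Quotient.eq_zero_iff_mem.2 (Ideal.subset_span ⟨i, rfl⟩)
    rw [map_sub, map_pow, map_sum, sub_eq_zero] at h
    rw [h]
    exact Finset.sum_congr rfl fun j _ => map_mul _ _ _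
  letI : Algebra (MvPolynomial (Fin d) k) B := (aeval (R := k) xB).toRingHom.toAlgebra
  have htow : IsScalarTower k (MvPolynomial (Fin d) k) B :=
    IsScalarTower.of_algebraMap_eq fun r => ((aeval (R := k) xB).commutes r).symm
  have hX : ∀ i, algebraMap (MvPolynomial (Fin d) k) B (X i) = xB i := fun i => aeval_X _ i
  have hfp : Algebra.FinitePresentation (MvPolynomial (Fin d) k) B :=
    Algebra.FinitePresentation.of_restrict_scalars_finitePresentation k (MvPolynomial (Fin d) k) B
  let α : A →ₐ[k] B := IsScalarTower.toAlgHom k A B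
  have hsmooth : ∀ (Q : Ideal B) [Q.IsPrime] (j : Fin s), algebraMap A B (a j) ∉ Q →
      Algebra.IsSmoothAt (MvPolynomial (Fin d) k) Q := by
    intro Q hQ j hjQ
    let BQ := Localization.AtPrime Q
    let L := Localization.Away (a j)
    have hL : Algebra.Smooth k L := SmoothAtBasics.mem_singularIdeal_iff_smooth.1 (ha j)
    have : Algebra.FormallySmooth k L := hL.formallySmooth
    have hu : IsUnit (algebraMap A BQ (a j)) := by
      rw [IsScalarTower.algebraMap_apply A B BQ]
      exact IsLocalization.map_units BQ (⟨_, hjQ⟩ : Q.primeCompl)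
    let ι : L →ₐ[k] BQ := IsLocalization.liftAlgHom (S := L) (M := Submonoid.powers (a j))
      (f := IsScalarTower.toAlgHom k A BQ) fun x => by
        obtain ⟨e, he⟩ := x.2
        rw [← he, map_pow]; exact hu.pow e
    refine Algebra.FormallySmooth.of_comp_surjective fun W _ _ I hI F => ?_
    letI : Algebra k W := ((algebraMap (MvPolynomial (Fin d) k) W).comp (algebraMap k (MvPolynomial (Fin d) k))).toAlgebra
    have : IsScalarTower k (MvPolynomial (Fin d) k) W := IsScalarTower.of_algebraMap_eq' rfl
    obtain ⟨l, hl⟩ := Algebra.FormallySmooth.exists_lift (R := k) (A := L) I ⟨2, hI⟩ ((F.restrictScalars k).comp ι)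
    let lA : A →ₐ[k] W := l.comp (IsScalarTower.toAlgHom k A L)
    letI : Algebra A W := lA.toRingHom.toAlgebra
    have : IsScalarTower k A W := IsScalarTower.of_algebraMap_eq fun x => (lA.commutes x).symm
    obtain ⟨au, hau⟩ : IsUnit (algebraMap A W (a j)) := (IsLocalization.Away.algebraMap_isUnit (S := L) (a j)).map l
    choose ζ hζ using fun (i : Fin d) (l' : Fin s) => Ideal.Quotient.mk_surjective (F (algebraMap B BQ (zB i l')))
    let xW : Fin d → W := fun i => algebraMap (MvPolynomial (Fin d) k) W (X i)
    let zW : Fin d × Fin s → W := fun p => if p.2 = j then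
      ↑au⁻¹ * (xW p.1 ^ n - ∑ l' ∈ Finset.univ.erase j, ζ p.1 l' * algebraMap A W (a l')) else ζ p.1 p.2
    have hkW : J ≤ RingHom.ker (aeval (R := A) (Sum.elim xW zW)) := by
      refine Ideal.span_le.2 ?_
      rintro _ ⟨i, rfl⟩
      show aeval _ (rel i) = 0
      simp only [rel, map_sub, map_pow, map_sum, map_mul, aeval_X, aeval_C, Sum.elim_inl, Sum.elim_inr]
      rw [← Finset.add_sum_erase _ _ (Finset.mem_univ j)]
      rw [show zW (i, j) = ↑au⁻¹ * (xW i ^ n - ∑ l' ∈ Finset.univ.erase j, ζ i l' * algebraMap A W (a l')) from if_pos rfl,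
        mul_right_comm, ← hau, Units.inv_mul, one_mul,
        Finset.sum_congr rfl fun l' hl' => show zW (i, l') * algebraMap A W (a l') = ζ i l' * algebraMap A W (a l') by
          rw [show zW (i, l') = ζ i l' from if_neg (Finset.ne_of_mem_erase hl')]]
      ring
    let m0 : B →ₐ[A] W := Ideal.Quotient.liftₐ J _ fun x hx => hkW hx
    have hmx : ∀ i, m0 (xB i) = xW i := fun i => aeval_X _ (Sum.inl i)
    let m : B →ₐ[MvPolynomial (Fin d) k] W :=
      { m0.toRingHom with
        commutes' := fun r => by
          refine RingHom.congr_fun (f := m0.toRingHom.comp (algebraMap (MvPolynomial (Fin d) k) B))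
            (g := algebraMap (MvPolynomial (Fin d) k) W) (MvPolynomial.ringHom_ext (fun c => ?_) fun i => ?_) r
          · show m0 (aeval xB (C c)) = _
            rw [aeval_C, IsScalarTower.algebraMap_apply k A B, AlgHom.commutes, ← IsScalarTower.algebraMap_apply]
            rfl
          · show m0 (aeval xB (X i)) = _
            rw [aeval_X, hmx] }
    have hl0 : ∀ x : A, Ideal.Quotient.mk I (algebraMap A W x) = F (algebraMap A BQ x) := fun x =>
      (AlgHom.congr_fun hl (algebraMap A L x)).trans (congrArg F (IsLocalization.lift_eq _ x))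
    have hFx : ∀ i, F (algebraMap B BQ (xB i)) = Ideal.Quotient.mk I (xW i) := fun i => by
      rw [← hX, ← IsScalarTower.algebraMap_apply, F.commutes]; rfl
    have hm0 : (Ideal.Quotient.mk I).comp m0.toRingHom = F.toRingHom.comp (algebraMap B BQ) := by
      refine Ideal.Quotient.ringHom_ext (MvPolynomial.ringHom_ext (fun x => ?_) ?_)
      · show Ideal.Quotient.mk I (m0 (algebraMap A B x)) = F (algebraMap B BQ (algebraMap A B x))
        rw [m0.commutes, ← IsScalarTower.algebraMap_apply]
        exact hl0 x
      rintro (i | ⟨i, l'⟩)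
      · show Ideal.Quotient.mk I (m0 (xB i)) = F (algebraMap B BQ (xB i))
        rw [hmx, hFx]
      · show Ideal.Quotient.mk I (m0 (zB i l')) = F (algebraMap B BQ (zB i l'))
        rw [show m0 (zB i l') = zW (i, l') from aeval_X _ (Sum.inr (i, l'))]
        by_cases hlj : l' = j
        · subst hlj
          refine ((Units.isUnit au).map (Ideal.Quotient.mk I)).mul_left_cancel ?_
          rw [show zW (i, l') = _ from if_pos rfl, ← map_mul, Units.mul_inv_cancel_left, map_sub, map_pow, ← hFx,
            map_sum, hau, hl0]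
          have h := congrArg (fun z => F (algebraMap B BQ z)) (hrel i)
          simp only [map_pow, map_sum, map_mul, ← IsScalarTower.algebraMap_apply] at h
          rw [h, ← Finset.add_sum_erase _ _ (Finset.mem_univ l')]
          have he : ∀ l'' ∈ Finset.univ.erase l', Ideal.Quotient.mk I (ζ i l'' * algebraMap A W (a l'')) =
              F (algebraMap B BQ (zB i l'')) * F (algebraMap A BQ (a l'')) := fun l'' _ => by
            rw [map_mul, hζ, hl0]
          rw [Finset.sum_congr rfl he]
          ring
        · rw [show zW (i, l') = ζ i l' from if_neg hlj, hζ]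
    let mQ : BQ →ₐ[MvPolynomial (Fin d) k] W := IsLocalization.liftAlgHom (S := BQ) (M := Q.primeCompl) (f := m) fun x => by
      refine (IsNilpotent.isUnit_quotient_mk_iff ⟨2, hI⟩).1 ?_
      rw [show Ideal.Quotient.mk I (m x) = F (algebraMap B BQ x) from RingHom.congr_fun hm0 x]
      exact (IsLocalization.map_units BQ x).map F
    refine ⟨mQ, IsLocalization.algHom_ext Q.primeCompl (AlgHom.ext fun x => ?_)⟩
    show Ideal.Quotient.mk I (mQ (algebraMap B BQ x)) = _
    rw [show mQ (algebraMap B BQ x) = m x from IsLocalization.lift_eq _ _]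
    exact RingHom.congr_fun hm0 x
  refine ⟨B, inferInstance, inferInstance, inferInstance, htow, hfp, α, fun j => ?_, fun i => ?_, ?_⟩
  · rw [SmoothAtBasics.mem_singularIdeal_iff]
    exact fun Q hQ h => hsmooth Q j h
  · rw [SmoothAtBasics.mem_singularIdeal_iff, hX]
    intro Q hQ h
    by_cases hall : ∀ j, algebraMap A B (a j) ∈ Q
    · refine absurd (hQ.mem_of_pow_mem n ?_) h
      rw [hrel]
      exact Ideal.sum_mem _ fun j _ => Ideal.mul_mem_left _ _ (hall j)
    · push Not at hall
      obtain ⟨j, hj⟩ := hall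
      exact hsmooth Q j hj
  · intro Λ _ _ φ π hπ
    choose w hw using fun i => Ideal.mem_span_range_iff_exists_fun.1 (hπ i)
    letI : Algebra A Λ := φ.toRingHom.toAlgebra
    have : IsScalarTower k A Λ := IsScalarTower.of_algebraMap_eq fun x => (φ.commutes x).symm
    have hk : J ≤ RingHom.ker (aeval (R := A) (Sum.elim π fun p => w p.1 p.2)) := by
      refine Ideal.span_le.2 ?_
      rintro _ ⟨i, rfl⟩
      show aeval _ (rel i) = 0
      simp only [rel, map_sub, map_pow, map_sum, map_mul, aeval_X, aeval_C, Sum.elim_inl, Sum.elim_inr]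
      rw [sub_eq_zero]; exact (hw i).symm
    let βA : B →ₐ[A] Λ := Ideal.Quotient.liftₐ J _ fun x hx => hk hx
    refine ⟨βA.restrictScalars k, AlgHom.ext fun x => βA.commutes x, fun i => ?_⟩
    rw [hX]
    exact aeval_X _ (Sum.inl i)

end Groth.NeronArea.Cover
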