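import Groth.Agent.NeronArea.LocalisationNMP
import Groth.Agent.SmoothSlice.EqvSlice
import Mathlib.AlgebraicGeometry.Morphisms.Separated
import Mathlib.AlgebraicGeometry.Morphisms.Smooth

/-!
# The descent relation on a Néron model over a smooth cover

`q : N ⟶ S'` has the Néron mapping property for `g ⁻¹ᵁ U`, and its part over `g ⁻¹ᵁ U` is the pullback
of `a : A ⟶ U`. Extending the identity of `A` gives a smooth equivalence relation `R = N ×_S S'` on `N`.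
-/

set_option autoImplicit false
set_option backward.isDefEq.respectTransparency false
set_option linter.style.haveILetI false

universe u

open CategoryTheory CategoryTheory.Limits AlgebraicGeometry

namespace Groth.NeronArea.Descent

/-- Descent data: a smooth cover, a Néron model over it, and the identification over the open. -/
structure Datum (S S' N A : Scheme.{u}) where
  g : S' ⟶ S
  U : S.Opens
  q : N ⟶ S'
  a : A ⟶ U
  κ : ↑(q ⁻¹ᵁ (g ⁻¹ᵁ U)) ⟶ A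
  smooth_g : Smooth g
  smooth_q : Smooth q
  sq : IsPullback κ (q ∣_ (g ⁻¹ᵁ U)) a (g ∣_ U)
  nmp : HasOpenNMP (g ⁻¹ᵁ U) q

namespace Datum

variable {S S' N A : Scheme.{u}} (D : Datum S S' N A)

/-- The part of `N` over the open. -/
abbrev NU : N.Opens := D.q ⁻¹ᵁ (D.g ⁻¹ᵁ D.U)

theorem κ_w : D.κ ≫ D.a ≫ D.U.ι = D.NU.ι ≫ D.q ≫ D.g := by
  rw [reassoc_of% D.sq.w, morphismRestrict_ι, morphismRestrict_ι_assoc]

/-- Maps into the part over the open are determined by their images in `A` and in `S'`. -/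
theorem ext_part {Z : Scheme.{u}} (x y : Z ⟶ (D.NU : Scheme.{u})) (h₁ : x ≫ D.κ = y ≫ D.κ)
    (h₂ : x ≫ D.NU.ι ≫ D.q = y ≫ D.NU.ι ≫ D.q) : x = y := by
  refine D.sq.hom_ext h₁ ?_
  rw [← cancel_mono (D.g ⁻¹ᵁ D.U).ι]
  simpa only [Category.assoc, morphismRestrict_ι] using h₂

/-- The lift to the part over the open of a map landing in it. -/
noncomputable def lift {Z : Scheme.{u}} (x : Z ⟶ N) (h : ∀ z, D.g (D.q (x z)) ∈ D.U) : Z ⟶ (D.NU : Scheme.{u}) :=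
  IsOpenImmersion.lift D.NU.ι x (by rw [Scheme.Opens.range_ι]; rintro _ ⟨z, rfl⟩; exact h z)

@[reassoc (attr := simp)]
theorem lift_ι {Z : Scheme.{u}} (x : Z ⟶ N) (h : ∀ z, D.g (D.q (x z)) ∈ D.U) : D.lift x h ≫ D.NU.ι = x :=
  IsOpenImmersion.lift_fac _ _ _

/-- Two maps to `N` have the same image in `A` wherever they land in the part over the open. -/
def Rel {Z : Scheme.{u}} (x y : Z ⟶ N) : Prop :=
  ∀ ⦃W : Scheme.{u}⦄ (i : W ⟶ Z) (x₀ y₀ : W ⟶ (D.NU : Scheme.{u})),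
    x₀ ≫ D.NU.ι = i ≫ x → y₀ ≫ D.NU.ι = i ≫ y → x₀ ≫ D.κ = y₀ ≫ D.κ

variable {D}

theorem Rel.refl {Z : Scheme.{u}} (x : Z ⟶ N) : D.Rel x x := fun W i x₀ y₀ hx hy => by
  rw [(cancel_mono D.NU.ι).1 (hx.trans hy.symm)]

theorem Rel.symm {Z : Scheme.{u}} {x y : Z ⟶ N} (h : D.Rel x y) : D.Rel y x :=
  fun _ i x₀ y₀ hx hy => (h i y₀ x₀ hy hx).symm

theorem Rel.trans {Z : Scheme.{u}} {x y z : Z ⟶ N} (h : D.Rel x y) (h' : D.Rel y z)
    (hxy : x ≫ D.q ≫ D.g = y ≫ D.q ≫ D.g) : D.Rel x z := fun W i x₀ z₀ hx hz => by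
  have hy : ∀ w, D.g (D.q ((i ≫ y) w)) ∈ D.U := fun w => by
    have h1 : (i ≫ y) ≫ D.q ≫ D.g = x₀ ≫ D.NU.ι ≫ D.q ≫ D.g := by
      rw [reassoc_of% hx, Category.assoc, hxy]
    rw [← Scheme.Hom.comp_apply, ← Scheme.Hom.comp_apply, ← Category.assoc (i ≫ y), Category.assoc (i ≫ y), h1]
    exact (x₀ w).2
  exact (h i x₀ _ hx (D.lift_ι _ hy)).trans (h' i _ z₀ (D.lift_ι _ hy) hz)

theorem Rel.precomp {Z Z' : Scheme.{u}} {x y : Z ⟶ N} (h : D.Rel x y) (j : Z' ⟶ Z) :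
    D.Rel (j ≫ x) (j ≫ y) := fun _ i x₀ y₀ hx hy =>
  h (i ≫ j) x₀ y₀ (hx.trans (Category.assoc _ _ _).symm) (hy.trans (Category.assoc _ _ _).symm)

/-- Related maps over the same smooth base map are equal. -/
theorem Rel.eq {Y : Scheme.{u}} {x y : Y ⟶ N} (h : D.Rel x y) (pY : Y ⟶ S') [Smooth pY]
    (hx : x ≫ D.q = pY) (hy : y ≫ D.q = pY) : x = y := by
  refine (D.nmp pY inferInstance).1 x y hx hy ?_
  have hu : ∀ (z : Y ⟶ N), z ≫ D.q = pY → ∀ w : ↑(pY ⁻¹ᵁ (D.g ⁻¹ᵁ D.U)),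
      D.g (D.q (((pY ⁻¹ᵁ (D.g ⁻¹ᵁ D.U)).ι ≫ z) w)) ∈ D.U := fun z hz w => by
    rw [Scheme.Hom.comp_apply, ← Scheme.Hom.comp_apply z, hz]
    exact w.2
  rw [← D.lift_ι _ (hu x hx), ← D.lift_ι _ (hu y hy)]
  refine congrArg (· ≫ D.NU.ι) (D.ext_part _ _ (h _ _ _ (D.lift_ι _ _) (D.lift_ι _ _)) ?_)
  rw [lift_ι_assoc, lift_ι_assoc, Category.assoc, Category.assoc, hx, hy]

variable (D)

/-- Extension from the open. -/
theorem exists_extend {Y : Scheme.{u}} (pY : Y ⟶ S') [Smooth pY] (h : ↑(pY ⁻¹ᵁ (D.g ⁻¹ᵁ D.U)) ⟶ A)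
    (hh : h ≫ D.a ≫ D.U.ι = (pY ⁻¹ᵁ (D.g ⁻¹ᵁ D.U)).ι ≫ pY ≫ D.g) :
    ∃ f : Y ⟶ N, f ≫ D.q = pY ∧
      ∀ ⦃W : Scheme.{u}⦄ (i : W ⟶ Y) (x₀ : W ⟶ (D.NU : Scheme.{u})) (w : W ⟶ ↑(pY ⁻¹ᵁ (D.g ⁻¹ᵁ D.U))),
        x₀ ≫ D.NU.ι = i ≫ f → w ≫ (pY ⁻¹ᵁ (D.g ⁻¹ᵁ D.U)).ι = i → x₀ ≫ D.κ = w ≫ h := by
  let V := pY ⁻¹ᵁ (D.g ⁻¹ᵁ D.U)
  let u : (V : Scheme.{u}) ⟶ (D.NU : Scheme.{u}) := D.sq.lift h (pY ∣_ (D.g ⁻¹ᵁ D.U)) (by
    rw [← cancel_mono D.U.ι]
    simp only [Category.assoc, morphismRestrict_ι, hh, morphismRestrict_ι_assoc, V])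
  have hu1 : u ≫ D.κ = h := D.sq.lift_fst _ _ _
  have hu2 : u ≫ D.NU.ι ≫ D.q = V.ι ≫ pY := by
    rw [← morphismRestrict_ι, ← Category.assoc, D.sq.lift_snd, morphismRestrict_ι]
  obtain ⟨f, hf, hfu⟩ := (D.nmp pY inferInstance).2 (u ≫ D.NU.ι) (by rw [Category.assoc, hu2])
  refine ⟨f, hf, fun W i x₀ w hx₀ hw => ?_⟩
  have : x₀ = w ≫ u := by
    rw [← cancel_mono D.NU.ι, hx₀, Category.assoc, ← hfu, reassoc_of% hw]
  rw [this, Category.assoc, hu1]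

/-- The relation. -/
noncomputable abbrev R : Scheme.{u} := pullback (D.q ≫ D.g) D.g

/-- The first projection. -/
noncomputable abbrev s : D.R ⟶ N := pullback.fst _ _

/-- The projection to the cover. -/
noncomputable abbrev π₂ : D.R ⟶ S' := pullback.snd _ _

theorem smooth_π₂ : Smooth D.π₂ := by
  haveI := D.smooth_g
  haveI := D.smooth_q
  infer_instance

theorem smooth_s : Smooth D.s := by
  haveI := D.smooth_g
  infer_instance

theorem exists_t : ∃ t : D.R ⟶ N, t ≫ D.q = D.π₂ ∧ D.Rel D.s t := by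
  haveI := D.smooth_π₂
  let V := D.π₂ ⁻¹ᵁ (D.g ⁻¹ᵁ D.U)
  have hV : ∀ v : V, D.g (D.q ((V.ι ≫ D.s) v)) ∈ D.U := fun v => by
    rw [← Scheme.Hom.comp_apply, ← Scheme.Hom.comp_apply, Category.assoc, pullback.condition]
    exact v.2
  obtain ⟨t, ht, htV⟩ := D.exists_extend D.π₂ (D.lift _ hV ≫ D.κ) (by
    rw [Category.assoc, D.κ_w, lift_ι_assoc, Category.assoc, pullback.condition])
  refine ⟨t, ht, fun W i x₀ y₀ hx hy => ?_⟩
  have hw : ∀ w : W, D.g (D.π₂ (i w)) ∈ D.U := fun w => by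
    rw [← Scheme.Hom.comp_apply, ← Scheme.Hom.comp_apply, ← pullback.condition, ← reassoc_of% hx]
    exact (x₀ w).2
  let w : W ⟶ (V : Scheme.{u}) := IsOpenImmersion.lift V.ι i (by
    rw [Scheme.Opens.range_ι]; rintro _ ⟨z, rfl⟩; exact hw z)
  have hwi : w ≫ V.ι = i := IsOpenImmersion.lift_fac _ _ _
  rw [htV i y₀ w hy hwi, ← Category.assoc w]
  refine congrArg (· ≫ D.κ) ((cancel_mono D.NU.ι).1 ?_)
  rw [hx, Category.assoc, lift_ι, reassoc_of% hwi]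

/-- The second projection: the extension of the identity of `A`. -/
noncomputable def t : D.R ⟶ N := D.exists_t.choose

@[reassoc (attr := simp)]
theorem t_q : D.t ≫ D.q = D.π₂ := D.exists_t.choose_spec.1

theorem rel_t : D.Rel D.s D.t := D.exists_t.choose_spec.2

@[reassoc]
theorem t_g : D.t ≫ D.q ≫ D.g = D.s ≫ D.q ≫ D.g := by
  rw [t_q_assoc, pullback.condition]

/-- The inversion. -/
noncomputable def σ : D.R ⟶ D.R := pullback.lift D.t (D.s ≫ D.q) (by rw [D.t_g, Category.assoc])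

@[reassoc (attr := simp)]
theorem σ_s : D.σ ≫ D.s = D.t := pullback.lift_fst _ _ _

@[reassoc (attr := simp)]
theorem σ_π₂ : D.σ ≫ D.π₂ = D.s ≫ D.q := pullback.lift_snd _ _ _

@[reassoc (attr := simp)]
theorem σ_t : D.σ ≫ D.t = D.s := by
  haveI := D.smooth_q
  haveI := D.smooth_s
  have h : D.Rel D.t (D.σ ≫ D.t) := D.σ_s ▸ D.rel_t.precomp D.σ
  refine ((D.rel_t.trans h (by rw [D.t_g])).eq (D.s ≫ D.q) rfl ?_).symm
  rw [Category.assoc, t_q, σ_π₂]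

theorem σ_σ : D.σ ≫ D.σ = 𝟙 _ := by
  apply pullback.hom_ext
  · rw [Category.assoc, σ_s, σ_t, Category.id_comp]
  · rw [Category.assoc, σ_π₂, σ_s_assoc, t_q, Category.id_comp]

theorem smooth_t : Smooth D.t := by
  haveI := D.smooth_s
  haveI : IsIso D.σ := ⟨D.σ, D.σ_σ, D.σ_σ⟩
  rw [← D.σ_s]
  infer_instance

/-- The unit. -/
theorem exists_unit : ∃ e : N ⟶ D.R, e ≫ D.s = 𝟙 N ∧ e ≫ D.t = 𝟙 N := by
  haveI := D.smooth_q
  let e : N ⟶ D.R := pullback.lift (𝟙 N) D.q (by rw [Category.id_comp])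
  have he : e ≫ D.s = 𝟙 N := pullback.lift_fst _ _ _
  refine ⟨e, he, ?_⟩
  have h := he ▸ D.rel_t.precomp e
  exact (h.eq D.q (Category.id_comp _) (by rw [Category.assoc, t_q, pullback.lift_snd])).symm

/-- Transitivity. -/
theorem exists_comp {Z : Scheme.{u}} (x m : Z ⟶ D.R) (h : x ≫ D.t = m ≫ D.s) :
    ∃ y : Z ⟶ D.R, y ≫ D.s = x ≫ D.s ∧ y ≫ D.t = m ≫ D.t := by
  haveI := D.smooth_π₂
  haveI := D.smooth_t
  let R₂ := pullback D.t D.s
  let p₁ : R₂ ⟶ D.R := pullback.fst _ _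
  let p₂ : R₂ ⟶ D.R := pullback.snd _ _
  have hp : p₁ ≫ D.t = p₂ ≫ D.s := pullback.condition
  let y : R₂ ⟶ D.R := pullback.lift (p₁ ≫ D.s) (p₂ ≫ D.π₂) (by
    rw [Category.assoc, Category.assoc, ← D.t_g, reassoc_of% hp, pullback.condition])
  have hys : y ≫ D.s = p₁ ≫ D.s := pullback.lift_fst _ _ _
  have hyπ : y ≫ D.π₂ = p₂ ≫ D.π₂ := pullback.lift_snd _ _ _
  have hyt : y ≫ D.t = p₂ ≫ D.t := by
    have e₁ : D.Rel (p₁ ≫ D.s) (y ≫ D.t) := hys ▸ D.rel_t.precomp y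
    have e₂ : D.Rel (p₁ ≫ D.s) (p₂ ≫ D.t) := by
      refine (D.rel_t.precomp p₁).trans ?_ (by rw [Category.assoc, Category.assoc, D.t_g])
      rw [hp]
      exact D.rel_t.precomp p₂
    haveI : Smooth p₂ := inferInstanceAs (Smooth (pullback.snd D.t D.s))
    refine (e₁.symm.trans e₂ ?_).eq (p₂ ≫ D.π₂) ?_ (by rw [Category.assoc, t_q])
    · simp only [Category.assoc, D.t_g, reassoc_of% hys]
    · rw [Category.assoc, t_q, hyπ]
  refine ⟨pullback.lift x m h ≫ y, ?_, ?_⟩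
  · rw [Category.assoc, hys, pullback.lift_fst_assoc]
  · rw [Category.assoc, hyt, pullback.lift_snd_assoc]

/-- The relation is a smooth equivalence relation. -/
theorem smoothRel : Groth.SmoothSlice.SmoothRel D.s D.t where
  smooth_s := D.smooth_s
  smooth_t := D.smooth_t
  mono x y hs ht := by
    apply pullback.hom_ext hs
    simpa using ht =≫ D.q
  unit := D.exists_unit
  div x y h := by
    obtain ⟨m, h₁, h₂⟩ := D.exists_comp (x ≫ D.σ) y (by rw [Category.assoc, σ_t, h])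
    exact ⟨m, by rw [h₁, Category.assoc, σ_s], h₂⟩
  act x m h := D.exists_comp x m h

/-- Related points over the open with the same image in the cover coincide. -/
theorem exists_r_of_κ_eq {Z : Scheme.{u}} (x y : Z ⟶ (D.NU : Scheme.{u})) (h : x ≫ D.κ = y ≫ D.κ) :
    ∃ r : Z ⟶ D.R, r ≫ D.s = x ≫ D.NU.ι ∧ r ≫ D.t = y ≫ D.NU.ι := by
  have hxy : x ≫ D.NU.ι ≫ D.q ≫ D.g = y ≫ D.NU.ι ≫ D.q ≫ D.g := by
    rw [← D.κ_w, reassoc_of% h]
  let r : Z ⟶ D.R := pullback.lift (x ≫ D.NU.ι) (y ≫ D.NU.ι ≫ D.q) (by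
    simp only [Category.assoc]; exact hxy)
  have hrs : r ≫ D.s = x ≫ D.NU.ι := pullback.lift_fst _ _ _
  refine ⟨r, hrs, ?_⟩
  have hz : ∀ z, D.g (D.q ((r ≫ D.t) z)) ∈ D.U := fun z => by
    rw [← Scheme.Hom.comp_apply, ← Scheme.Hom.comp_apply, Category.assoc, D.t_g, reassoc_of% hrs]
    exact (x z).2
  rw [← D.lift_ι (r ≫ D.t) hz]
  refine congrArg (· ≫ D.NU.ι) (D.ext_part _ _ ?_ ?_)
  · rw [← h]
    exact (D.rel_t r x _ hrs.symm (D.lift_ι _ _)).symm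
  · rw [lift_ι_assoc, Category.assoc, t_q, pullback.lift_snd]

/-- Related points over the open have the same image in `A`. -/
theorem κ_eq_of_r {Z : Scheme.{u}} (r : Z ⟶ D.R) (x y : Z ⟶ (D.NU : Scheme.{u})) (hs : x ≫ D.NU.ι = r ≫ D.s)
    (ht : y ≫ D.NU.ι = r ≫ D.t) : x ≫ D.κ = y ≫ D.κ :=
  D.rel_t r x y hs ht

end Datum

end Groth.NeronArea.Descent
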