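import Groth.Agent.NeronArea.DescentRel
import Groth.Agent.AlgSpBasic.Quotient
import Groth.Agent.AlgSpBasic.SepLocal
import Groth.Agent.AlgSpBasic.LocPInst
import Groth.Agent.AlgSp2.SelfPullbackField
import Groth.Agent.AlgSp2.SmoothDescent
import Groth.Prelude.Def_AlgSp4

/-!
# Descent of Néron models along smooth covers as algebraic spaces
-/

set_option autoImplicit false
set_option backward.isDefEq.respectTransparency.types false
set_option linter.style.haveILetI false

universe u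

open CategoryTheory CategoryTheory.Limits AlgebraicGeometry AlgSp Opposite

namespace Groth.NeronArea.Descent

noncomputable section

namespace Datum

variable {S S' N A : Scheme.{u}} (D : Datum S S' N A)

/-- The model over the cover, over `S`. -/
abbrev Nov : Over S := Over.mk (D.q ≫ D.g)

/-- The relation, over `S`. -/
abbrev Rov : Over S := Over.mk (D.s ≫ D.q ≫ D.g)

/-- The first projection, over `S`. -/
abbrev so : D.Rov ⟶ D.Nov := Over.homMk D.s

/-- The second projection, over `S`. -/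
abbrev tro : D.Rov ⟶ D.Nov := Over.homMk D.t D.t_g

/-- Lifts to the relation over `S`. -/
theorem exists_rov {T : Over S} (x y : T ⟶ D.Nov) (r : T.left ⟶ D.R) (hs : r ≫ D.s = x.left)
    (ht : r ≫ D.t = y.left) : ∃ r' : T ⟶ D.Rov, r' ≫ D.so = x ∧ r' ≫ D.tro = y :=
  ⟨Over.homMk r (by show r ≫ D.s ≫ D.q ≫ D.g = T.hom; rw [reassoc_of% hs]; exact Over.w x),
    Over.OverMorphism.ext hs, Over.OverMorphism.ext ht⟩

theorem isEqvRel : AlgSp.IsEqvRel D.so D.tro where
  injective T r r' ht hs := Over.OverMorphism.ext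
    (D.smoothRel.mono _ _ (congrArg CommaMorphism.left hs) (congrArg CommaMorphism.left ht))
  equivalence T :=
    { refl := fun a => by
        obtain ⟨e, he₁, he₂⟩ := D.exists_unit
        obtain ⟨r, h₁, h₂⟩ := D.exists_rov a a (a.left ≫ e)
          ((Category.assoc _ _ _).trans (by rw [he₁]; exact Category.comp_id _))
          ((Category.assoc _ _ _).trans (by rw [he₂]; exact Category.comp_id _))
        exact ⟨r, h₂, h₁⟩
      symm := fun {x y} ⟨r, h₁, h₂⟩ => by
        obtain ⟨r', e₁, e₂⟩ := D.exists_rov x y (r.left ≫ D.σ)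
          ((Category.assoc _ _ _).trans (by rw [σ_s]; exact congrArg CommaMorphism.left h₁))
          ((Category.assoc _ _ _).trans (by rw [σ_t]; exact congrArg CommaMorphism.left h₂))
        exact ⟨r', e₂, e₁⟩
      trans := fun {x y z} ⟨r₁, h₁, h₂⟩ ⟨r₂, h₃, h₄⟩ => by
        obtain ⟨m, hm₁, hm₂⟩ := D.exists_comp r₂.left r₁.left
          ((congrArg CommaMorphism.left h₃).trans (congrArg CommaMorphism.left h₂).symm)
        obtain ⟨r', e₁, e₂⟩ := D.exists_rov z x m (hm₁.trans (congrArg CommaMorphism.left h₄))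
          (hm₂.trans (congrArg CommaMorphism.left h₁))
        exact ⟨r', e₂, e₁⟩ }

/-- The quotient sheaf. -/
def Q : Sp S := QuotSh.quot Scheme.fppfPrecoverage D.so D.tro

/-- The quotient map. -/
def p : (yon S).obj D.Nov ⟶ D.Q := Groth.AlgSpBasic.yonQuotπ D.so D.tro

theorem isPullback_p : IsPullback ((yon S).map D.tro) ((yon S).map D.so) D.p D.p :=
  Groth.AlgSpBasic.isPullback_yonQuot D.isEqvRel

theorem p_eq_iff {T : Over S} (x y : T ⟶ D.Nov) :
    (yon S).map x ≫ D.p = (yon S).map y ≫ D.p ↔ ∃ r : T.left ⟶ D.R, r ≫ D.s = x.left ∧ r ≫ D.t = y.left := by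
  constructor
  · intro h
    obtain ⟨r, hr⟩ := (yon S).map_surjective (D.isPullback_p.lift ((yon S).map y) ((yon S).map x) h.symm)
    have hs : r ≫ D.so = x := (yon S).map_injective (by rw [Functor.map_comp, hr, IsPullback.lift_snd])
    have ht : r ≫ D.tro = y := (yon S).map_injective (by rw [Functor.map_comp, hr, IsPullback.lift_fst])
    exact ⟨r.left, congrArg CommaMorphism.left hs, congrArg CommaMorphism.left ht⟩
  · rintro ⟨r, hs, ht⟩
    obtain ⟨r', e₁, e₂⟩ := D.exists_rov x y r hs ht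
    rw [← e₁, ← e₂, Functor.map_comp, Functor.map_comp, Category.assoc, Category.assoc, D.isPullback_p.w]

instance : Sheaf.IsLocallySurjective D.p := Groth.AlgSpBasic.isLocallySurjective_yonQuotπ _ _

/-- An étale atlas of the quotient, through the cover. -/
theorem exists_atlas :
    IsAlgSpace D.Q ∧ ∃ (W : Over S) (γ : W ⟶ D.Nov), RepWith @Etale ((yon S).map γ ≫ D.p) ∧
      RepWith @Surjective ((yon S).map γ ≫ D.p) ∧ Smooth W.hom := by
  obtain ⟨W₀, g₀, hE, hSurj⟩ := Groth.SmoothSlice.exists_slice_surjective D.smoothRel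
  let W : Over S := Over.mk (g₀ ≫ D.q ≫ D.g)
  let γ : W ⟶ D.Nov := Over.homMk g₀
  let X : Over S := Over.mk (pullback.snd g₀ D.t ≫ D.s ≫ D.q ≫ D.g)
  let xr : X ⟶ D.Rov := Over.homMk (pullback.snd g₀ D.t)
  let xw : X ⟶ W := Over.homMk (pullback.fst g₀ D.t) (by
    show pullback.fst g₀ D.t ≫ g₀ ≫ D.q ≫ D.g = _
    rw [pullback.condition_assoc, D.t_g]; rfl)
  let σ : X ⟶ D.Nov := xr ≫ D.so
  have hσE : Etale σ.left := hE
  have hσS : Surjective σ.left := hSurj
  let R' : Over S := Over.mk (pullback.snd σ.left g₀ ≫ W.hom)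
  let rw' : R' ⟶ W := Over.homMk (pullback.snd σ.left g₀)
  let rx : R' ⟶ X := Over.homMk (pullback.fst σ.left g₀) (by
    show pullback.fst σ.left g₀ ≫ X.hom = pullback.snd σ.left g₀ ≫ g₀ ≫ D.q ≫ D.g
    rw [← Over.w σ, pullback.condition_assoc]; rfl)
  have sq₁ : IsPullback ((yon S).map xw) ((yon S).map xr) ((yon S).map γ) ((yon S).map D.tro) := by
    refine IsPullback.map (yon S) (IsPullback.of_map (Over.forget S) ?_ ?_)
    · exact Over.OverMorphism.ext pullback.condition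
    · exact IsPullback.of_hasPullback g₀ D.t
  have sq₂ : IsPullback ((yon S).map rx) ((yon S).map rw') ((yon S).map σ) ((yon S).map γ) := by
    refine IsPullback.map (yon S) (IsPullback.of_map (Over.forget S) ?_ ?_)
    · exact Over.OverMorphism.ext pullback.condition
    · exact IsPullback.of_hasPullback σ.left g₀
  have sqX : IsPullback ((yon S).map xw) ((yon S).map σ) ((yon S).map γ ≫ D.p) D.p := by
    have := sq₁.paste_vert D.isPullback_p
    rwa [← Functor.map_comp] at this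
  have sqR' : IsPullback ((yon S).map (rx ≫ xw)) ((yon S).map rw') ((yon S).map γ ≫ D.p) ((yon S).map γ ≫ D.p) := by
    have := sq₂.paste_horiz sqX
    rwa [← Functor.map_comp] at this
  have hs' : Etale rw'.left := inferInstanceAs (Etale (pullback.snd σ.left g₀))
  have ht' : Etale (rx ≫ xw).left := by
    let sw : (yon S).obj R' ≅ (yon S).obj R' := sqR'.isoIsPullback _ _ sqR'.flip
    obtain ⟨ι, hι⟩ := (yon S).map_surjective sw.hom
    have e1 : ι ≫ rw' = rx ≫ xw := (yon S).map_injective (by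
      rw [Functor.map_comp, hι]; exact sqR'.isoIsPullback_hom_fst _ _ sqR'.flip)
    have : IsIso ((yon S).map ι) := by rw [hι]; infer_instance
    have : IsIso ι := isIso_of_fully_faithful (yon S) ι
    have : IsIso ι.left := inferInstanceAs (IsIso ((Over.forget S).map ι))
    rw [← e1, Over.comp_left]
    infer_instance
  haveI hls : Sheaf.IsLocallySurjective ((yon S).map γ ≫ D.p) := by
    have hσl : Sheaf.IsLocallySurjective ((yon S).map σ) :=
      Groth.AlgSpBasic.isLocallySurjective_of_etale _ ((repWith_yon_map_iff _ σ).2 hσE)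
        ((repWith_yon_map_iff _ σ).2 hσS)
    have : Epi ((yon S).map xw ≫ (yon S).map γ ≫ D.p) := by
      rw [sqX.w]
      infer_instance
    rw [Sheaf.isLocallySurjective_iff_epi]
    exact epi_of_epi ((yon S).map xw) _
  obtain ⟨hQ, hWe, hWs⟩ := Groth.AlgSpBasic.isAlgSpace_of_kernelPair sqR'
  refine ⟨hQ, W, γ, hWe, hWs, ?_⟩
  haveI := D.smooth_g
  haveI := D.smooth_q
  haveI := D.smooth_t
  haveI : Surjective D.t := by
    obtain ⟨e, -, he⟩ := D.exists_unit
    refine ⟨fun x => ⟨e x, ?_⟩⟩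
    rw [← Scheme.Hom.comp_apply, he]; rfl
  haveI : Smooth D.Nov.hom := inferInstanceAs (Smooth (D.q ≫ D.g))
  haveI : Surjective xw.left := inferInstanceAs (Surjective (pullback.fst g₀ D.t))
  haveI : Smooth (xw.left ≫ W.hom) := by
    rw [Over.w xw, ← Over.w σ]
    infer_instance
  haveI : Smooth xw.left := inferInstanceAs (Smooth (pullback.fst g₀ D.t))
  exact Groth.AlgSp2.smooth_of_comp_surjective_smooth xw.left W.hom

theorem isAlgSpace : IsAlgSpace D.Q := D.exists_atlas.1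

/-- The structure map of the quotient. -/
theorem exists_structure : ∃ π : D.Q ⟶ (yon S).obj (Over.mk (𝟙 S)),
    D.p ≫ π = (yon S).map (Over.homMk (D.q ≫ D.g)) := by
  obtain ⟨π, hπ⟩ := Cofork.IsColimit.desc' (Groth.AlgSpBasic.isColimitYonQuot D.so D.tro)
    ((yon S).map (Over.homMk (D.q ≫ D.g) : D.Nov ⟶ Over.mk (𝟙 S))) (by
      rw [← Functor.map_comp, ← Functor.map_comp]
      congr 1
      apply Over.OverMorphism.ext
      exact D.t_g)
  exact ⟨π, hπ⟩

/-- The structure map. -/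
def π : D.Q ⟶ (yon S).obj (Over.mk (𝟙 S)) := D.exists_structure.choose

theorem p_π : D.p ≫ D.π = (yon S).map (Over.homMk (D.q ≫ D.g)) := D.exists_structure.choose_spec

theorem smooth_π : LocP @Smooth D.π := by
  obtain ⟨hQ, W, γ, hWe, hWs, hW⟩ := D.exists_atlas
  refine Groth.AlgSpBasic.locP_of_source_cover hQ (IsAlgSpace.yon_obj _) hWe hWs ?_
  rw [Category.assoc, D.p_π, ← Functor.map_comp]
  refine Groth.AlgSpBasic.locP_of_repWith ((repWith_yon_map_iff _ _).2 ?_)
  show Smooth (γ.left ≫ D.q ≫ D.g)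
  rw [show γ.left ≫ D.q ≫ D.g = W.hom from Over.w γ]
  exact hW

theorem isSeparatedMor_π [IsSeparated D.q] : IsSeparatedMor D.π := by
  refine Groth.AlgSpBasic.repWith_diagonal_of_repWith_diag ?_ _
  have hcl : IsClosedImmersion (prod.lift D.tro D.so).left := by
    let P : Over S := D.Nov ⨯ D.Nov
    have sqP : IsPullback (prod.snd : P ⟶ D.Nov).left (prod.fst : P ⟶ D.Nov).left (D.q ≫ D.g) (D.q ≫ D.g) :=
      ((Groth.AlgSpBasic.isPullback_prod_left D.Nov D.Nov)).flip
    let ψ : P.left ⟶ D.R := pullback.lift (prod.snd : P ⟶ D.Nov).left ((prod.fst : P ⟶ D.Nov).left ≫ D.q)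
      (by rw [Category.assoc]; exact sqP.w)
    have hψ : IsPullback ψ (prod.fst : P ⟶ D.Nov).left D.π₂ D.q := by
      refine IsPullback.of_right ?_ (pullback.lift_snd _ _ _) (IsPullback.of_hasPullback (D.q ≫ D.g) D.g)
      rw [pullback.lift_fst]
      exact sqP
    haveI : IsSeparated ψ := MorphismProperty.of_isPullback (P := @IsSeparated) hψ.flip ‹IsSeparated D.q›
    have e₁ : (prod.lift D.tro D.so).left ≫ (prod.fst : P ⟶ D.Nov).left = D.t := Groth.AlgSpBasic.lift_left_fst D.tro D.so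
    have e₂ : (prod.lift D.tro D.so).left ≫ (prod.snd : P ⟶ D.Nov).left = D.s := Groth.AlgSpBasic.lift_left_snd D.tro D.so
    have hid : (prod.lift D.tro D.so).left ≫ ψ = 𝟙 D.R := by
      apply pullback.hom_ext
      · rw [Category.assoc, pullback.lift_fst, e₂]; exact (Category.id_comp _).symm
      · rw [Category.assoc, pullback.lift_snd, reassoc_of% e₁, t_q]; exact (Category.id_comp _).symm
    haveI : IsClosedImmersion ((prod.lift D.tro D.so).left ≫ ψ) := by
      rw [hid]; exact inferInstanceAs (IsClosedImmersion (𝟙 (pullback (D.q ≫ D.g) D.g)))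
    exact IsClosedImmersion.of_comp _ ψ
  haveI := Groth.AlgSpBasic.isLocallySurjective_prod_map (π := D.p)
  exact Groth.AlgSpBasic.repWith_of_isLocallySurjective _ D.isAlgSpace.diag
    (prodComparison (yon S) D.Nov D.Nov ≫ prod.map D.p D.p) _ _
    (Groth.AlgSpBasic.isPullback_diag_yon D.isPullback_p) ((repWith_yon_map_iff _ _).2 hcl)

/-- Étale local lifts of maps into the quotient. -/
theorem exists_lift {T : Over S} (φ : (yon S).obj T ⟶ D.Q) :
    ∃ (V : Over S) (c : V ⟶ T) (α : V ⟶ D.Nov), Etale c.left ∧ Surjective c.left ∧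
      (yon S).map c ≫ φ = (yon S).map α ≫ D.p := by
  obtain ⟨-, W, γ, hWe, hWs, -⟩ := D.exists_atlas
  obtain ⟨V, c, fst, sq⟩ := hWe.rep φ
  obtain ⟨α, rfl⟩ := (yon S).map_surjective fst
  refine ⟨V, c, α ≫ γ, hWe.property _ _ c sq, hWs.property _ _ c sq, ?_⟩
  rw [Functor.map_comp, Category.assoc]
  exact sq.w.symm

/-- The open, over `S`. -/
abbrev Uov : Over S := Over.mk D.U.ι

/-- The part over the open. -/
abbrev NUov : Over S := Over.mk (D.NU.ι ≫ D.q ≫ D.g)

/-- The inclusion. -/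
abbrev jN : D.NUov ⟶ D.Nov := Over.homMk D.NU.ι

/-- The generic model, over `S`. -/
abbrev Aov : Over S := Over.mk (D.a ≫ D.U.ι)

/-- Its structure map. -/
abbrev ao : D.Aov ⟶ D.Uov := Over.homMk D.a rfl

/-- The projection to the generic model. -/
abbrev κo : D.NUov ⟶ D.Aov := Over.homMk D.κ D.κ_w

theorem smooth_κ : Smooth D.κ := by
  haveI := D.smooth_g
  exact MorphismProperty.of_isPullback D.sq.flip (IsZariskiLocalAtTarget.restrict D.smooth_g D.U)

theorem surjective_κ [Surjective D.g] : Surjective D.κ :=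
  MorphismProperty.of_isPullback D.sq.flip (IsZariskiLocalAtTarget.restrict (P := @Surjective) inferInstance D.U)

/-- Images in `A` determine points of the quotient over the open, and conversely. -/
theorem p_eq_iff_κ {T : Over S} (x y : T ⟶ D.NUov) :
    (yon S).map x ≫ (yon S).map D.jN ≫ D.p = (yon S).map y ≫ (yon S).map D.jN ≫ D.p ↔ x ≫ D.κo = y ≫ D.κo := by
  rw [← Category.assoc, ← Category.assoc, ← Functor.map_comp, ← Functor.map_comp, D.p_eq_iff]
  constructor
  · rintro ⟨r, hs, ht⟩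
    exact Over.OverMorphism.ext (D.κ_eq_of_r r x.left y.left hs.symm ht.symm)
  · intro h
    exact D.exists_r_of_κ_eq x.left y.left (congrArg CommaMorphism.left h)

theorem exists_qA [Surjective D.g] : ∃ qA : (yon S).obj D.Aov ⟶ D.Q,
    (yon S).map D.κo ≫ qA = (yon S).map D.jN ≫ D.p := by
  haveI := D.smooth_κ
  haveI := D.surjective_κ
  haveI : Flat D.κo.left := inferInstanceAs (Flat D.κ)
  haveI : Surjective D.κo.left := inferInstanceAs (Surjective D.κ)
  haveI : LocallyOfFinitePresentation D.κo.left := inferInstanceAs (LocallyOfFinitePresentation D.κ)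
  exact Groth.AlgSp2.exists_desc_of_cover D.κo _ fun Z g₁ g₂ h => (D.p_eq_iff_κ g₁ g₂).2 h

variable [Surjective D.g]

/-- The map from the generic model to the quotient. -/
def qA : (yon S).obj D.Aov ⟶ D.Q := D.exists_qA.choose

theorem κo_qA : (yon S).map D.κo ≫ D.qA = (yon S).map D.jN ≫ D.p := D.exists_qA.choose_spec

/-- A map of `T` into the cover landing over the open factors through the part over the open. -/
theorem exists_factor {T : Over S} (x : T ⟶ D.Nov) (u : T ⟶ D.Uov) :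
    ∃ x₀ : T ⟶ D.NUov, x₀ ≫ D.jN = x ∧ x₀ ≫ D.κo ≫ D.ao = u := by
  have hx : ∀ z, D.g (D.q (x.left z)) ∈ D.U := fun z => by
    rw [← Scheme.Hom.comp_apply, ← Scheme.Hom.comp_apply, show x.left ≫ D.q ≫ D.g = T.hom from Over.w x,
      ← show u.left ≫ D.U.ι = T.hom from Over.w u]
    exact (u.left z).2
  refine ⟨Over.homMk (D.lift x.left hx) (by
    show D.lift x.left hx ≫ D.NU.ι ≫ D.q ≫ D.g = T.hom
    rw [lift_ι_assoc]; exact Over.w x), Over.OverMorphism.ext (D.lift_ι x.left hx), Over.OverMorphism.ext ?_⟩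
  rw [← cancel_mono D.U.ι]
  show ((D.lift x.left hx) ≫ D.κ ≫ D.a) ≫ D.U.ι = u.left ≫ D.U.ι
  rw [Category.assoc, Category.assoc, D.κ_w, lift_ι_assoc]
  exact (Over.w x).trans (Over.w u).symm

/-- The comparison over the open. -/
def Ψ : (yon S).obj D.Aov ⟶ D.Q ⨯ (yon S).obj D.Uov := prod.lift D.qA ((yon S).map D.ao)

theorem mono_Ψ : Mono D.Ψ := by
  haveI := D.smooth_κ
  haveI := D.surjective_κ
  refine Groth.AlgSp2.mono_of_injective D.Ψ fun W a b hab => ?_
  have hq : (yon S).map a ≫ D.qA = (yon S).map b ≫ D.qA := by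
    have := hab =≫ prod.fst
    rwa [Category.assoc, Category.assoc, Ψ, prod.lift_fst] at this
  let W' : Over S := Over.mk (pullback.fst (pullback.fst a.left D.κ ≫ b.left) D.κ ≫ pullback.fst a.left D.κ ≫ W.hom)
  let c : W' ⟶ W := Over.homMk (pullback.fst (pullback.fst a.left D.κ ≫ b.left) D.κ ≫ pullback.fst a.left D.κ)
    (Category.assoc _ _ _)
  let x : W' ⟶ D.NUov := Over.homMk (pullback.fst (pullback.fst a.left D.κ ≫ b.left) D.κ ≫ pullback.snd a.left D.κ) (by
    show (_ ≫ _) ≫ D.NU.ι ≫ D.q ≫ D.g = _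
    rw [← D.κ_w, Category.assoc, ← pullback.condition_assoc]
    exact congrArg (_ ≫ ·) (congrArg (_ ≫ ·) (Over.w a)))
  let y : W' ⟶ D.NUov := Over.homMk (pullback.snd (pullback.fst a.left D.κ ≫ b.left) D.κ) (by
    show _ ≫ D.NU.ι ≫ D.q ≫ D.g = _
    rw [← D.κ_w, ← pullback.condition_assoc, Category.assoc]
    exact congrArg (_ ≫ ·) (congrArg (_ ≫ ·) (Over.w b)))
  have hx : x ≫ D.κo = c ≫ a := Over.OverMorphism.ext (by
    show (_ ≫ _) ≫ D.κ = (_ ≫ _) ≫ a.left
    rw [Category.assoc, Category.assoc, pullback.condition])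
  have hy : y ≫ D.κo = c ≫ b := Over.OverMorphism.ext (by
    show _ ≫ D.κ = (_ ≫ _) ≫ b.left
    rw [Category.assoc, pullback.condition]
    rfl)
  have hp : (yon S).map x ≫ (yon S).map D.jN ≫ D.p = (yon S).map y ≫ (yon S).map D.jN ≫ D.p := by
    rw [← D.κo_qA, ← Category.assoc, ← Category.assoc ((yon S).map y), ← Functor.map_comp, ← Functor.map_comp,
      hx, hy, Functor.map_comp, Functor.map_comp, Category.assoc, Category.assoc, hq]
  have hc := (D.p_eq_iff_κ x y).1 hp
  rw [hx, hy] at hc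
  have h' := congrArg CommaMorphism.left hc
  haveI : Flat c.left := inferInstanceAs (Flat (_ ≫ _))
  haveI : Surjective c.left := inferInstanceAs (Surjective (_ ≫ _))
  haveI : LocallyOfFinitePresentation c.left := inferInstanceAs (LocallyOfFinitePresentation (_ ≫ _))
  haveI : Epi c.left := Flat.epi_of_flat_of_surjective c.left
  exact Over.OverMorphism.ext ((cancel_epi c.left).1 h')

theorem epi_Ψ : Epi D.Ψ := by
  rw [← Sheaf.isLocallySurjective_iff_epi]
  constructor
  intro T ξ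
  let φ : (yon S).obj T ⟶ D.Q ⨯ (yon S).obj D.Uov := Groth.AlgSpBasic.yEquiv.symm ξ
  obtain ⟨V, c, α, hc, hcs, hα⟩ := D.exists_lift (φ ≫ prod.fst)
  obtain ⟨u, hu⟩ := (yon S).map_surjective (φ ≫ prod.snd)
  obtain ⟨x₀, hx₀, hx₀u⟩ := D.exists_factor α (c ≫ u)
  have e : (yon S).map (x₀ ≫ D.κo) ≫ D.Ψ = (yon S).map c ≫ φ := by
    apply prod.hom_ext
    · rw [Category.assoc, Category.assoc, Ψ, prod.lift_fst, Functor.map_comp, Category.assoc, D.κo_qA,
        ← Category.assoc, ← Functor.map_comp, hx₀, hα]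
    · rw [Category.assoc, Category.assoc, Ψ, prod.lift_snd, ← Functor.map_comp, Category.assoc, hx₀u,
        Functor.map_comp, hu]
  refine Groth.AlgSpBasic.mem_of_fppf c ⟨Groth.AlgSpBasic.yEquiv ((yon S).map (x₀ ≫ D.κo)), ?_⟩
  have hξ : ξ = Groth.AlgSpBasic.yEquiv φ := (Equiv.apply_symm_apply _ _).symm
  rw [hξ]
  refine Eq.trans ?_ ((J S).uliftYonedaEquiv_naturality φ c).symm
  rw [← e]
  exact ((J S).uliftYonedaEquiv_comp ((yon S).map (x₀ ≫ D.κo)) D.Ψ).symm

theorem isIso_Ψ : IsIso D.Ψ := by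
  haveI := D.mono_Ψ
  haveI := D.epi_Ψ
  exact isIso_of_mono_of_epi _

/-- The identification of the quotient over the open. -/
def e : D.Q ⨯ (yon S).obj D.Uov ≅ (yon S).obj D.Aov :=
  haveI := D.isIso_Ψ
  (asIso D.Ψ).symm

theorem e_hom_ao : D.e.hom ≫ (yon S).map D.ao = prod.snd := by
  haveI := D.isIso_Ψ
  rw [e, Iso.symm_hom, asIso_inv, IsIso.inv_comp_eq, Ψ, prod.lift_snd]

/-- Uniqueness of extensions to the quotient. -/
theorem hom_ext {T : Over S} [Smooth T.hom] (φ₁ φ₂ : (yon S).obj T ⟶ D.Q)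
    (h : prod.map φ₁ (𝟙 ((yon S).obj D.Uov)) = prod.map φ₂ (𝟙 ((yon S).obj D.Uov))) : φ₁ = φ₂ := by
  haveI := D.smooth_g
  obtain ⟨V₁, c₁, α₁, hc₁, hc₁s, hα₁⟩ := D.exists_lift φ₁
  obtain ⟨V, c₂, α₂, hc₂, hc₂s, hα₂⟩ := D.exists_lift ((yon S).map c₁ ≫ φ₂)
  let c : V ⟶ T := c₂ ≫ c₁
  let α : V ⟶ D.Nov := c₂ ≫ α₁
  have hα : (yon S).map c ≫ φ₁ = (yon S).map α ≫ D.p := by
    rw [Functor.map_comp, Functor.map_comp, Category.assoc, Category.assoc, hα₁]
  have hα' : (yon S).map c ≫ φ₂ = (yon S).map α₂ ≫ D.p := by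
    rw [Functor.map_comp, Category.assoc, hα₂]
  haveI : Etale c.left := by rw [Over.comp_left]; infer_instance
  haveI : Surjective c.left := by rw [Over.comp_left]; infer_instance
  haveI : Smooth V.hom := by rw [← Over.w c]; infer_instance
  let W : Over S := Over.mk (pullback.fst V.hom D.g ≫ V.hom)
  let pr : W ⟶ V := Over.homMk (pullback.fst V.hom D.g)
  let pS : W.left ⟶ S' := pullback.snd V.hom D.g
  haveI : Smooth pS := inferInstanceAs (Smooth (pullback.snd V.hom D.g))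
  have mk : ∀ (β : V ⟶ D.Nov), ∃ r : W.left ⟶ D.R, r ≫ D.s = pr.left ≫ β.left ∧ r ≫ D.π₂ = pS := fun β => by
    refine ⟨pullback.lift (pr.left ≫ β.left) pS ?_, pullback.lift_fst _ _ _, pullback.lift_snd _ _ _⟩
    rw [Category.assoc, show β.left ≫ D.q ≫ D.g = V.hom from Over.w β]
    exact pullback.condition
  obtain ⟨r₁, hr₁s, hr₁π⟩ := mk α
  obtain ⟨r₂, hr₂s, hr₂π⟩ := mk α₂
  have hw : ∀ r : W.left ⟶ D.R, r ≫ D.π₂ = pS → ∀ β : V ⟶ D.Nov, r ≫ D.s = pr.left ≫ β.left →
      ∃ x : W ⟶ D.Nov, x.left = r ≫ D.t ∧ (yon S).map x ≫ D.p = (yon S).map (pr ≫ β) ≫ D.p := by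
    intro r hrπ β hrs
    obtain ⟨r', e₁, e₂⟩ : ∃ r' : W ⟶ D.Rov, r' ≫ D.so = pr ≫ β ∧ r'.left = r :=
      ⟨Over.homMk r (by
        show r ≫ D.s ≫ D.q ≫ D.g = W.hom
        rw [reassoc_of% hrs, show β.left ≫ D.q ≫ D.g = V.hom from Over.w β]
        rfl), Over.OverMorphism.ext hrs, rfl⟩
    refine ⟨r' ≫ D.tro, by rw [Over.comp_left, e₂]; rfl, ?_⟩
    rw [← e₁, Functor.map_comp, Functor.map_comp, Category.assoc, Category.assoc, D.isPullback_p.w]
  obtain ⟨x₁, hx₁, hx₁p⟩ := hw r₁ hr₁π α hr₁s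
  obtain ⟨x₂, hx₂, hx₂p⟩ := hw r₂ hr₂π α₂ hr₂s
  have hx : x₁ = x₂ := by
    apply Over.OverMorphism.ext
    refine Rel.eq (D := D) ?_ pS (by rw [hx₁, Category.assoc, t_q, hr₁π]) (by rw [hx₂, Category.assoc, t_q, hr₂π])
    intro Z i z₁ z₂ hz₁ hz₂
    let Zo : Over S := Over.mk (i ≫ W.hom)
    let io : Zo ⟶ W := Over.homMk i
    let z₁' : Zo ⟶ D.NUov := Over.homMk z₁ (by
      show z₁ ≫ D.NU.ι ≫ D.q ≫ D.g = i ≫ W.hom
      rw [reassoc_of% hz₁, show x₁.left ≫ D.q ≫ D.g = W.hom from Over.w x₁])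
    let z₂' : Zo ⟶ D.NUov := Over.homMk z₂ (by
      show z₂ ≫ D.NU.ι ≫ D.q ≫ D.g = i ≫ W.hom
      rw [reassoc_of% hz₂, show x₂.left ≫ D.q ≫ D.g = W.hom from Over.w x₂])
    have e₁ : z₁' ≫ D.jN = io ≫ x₁ := Over.OverMorphism.ext hz₁
    have e₂ : z₂' ≫ D.jN = io ≫ x₂ := Over.OverMorphism.ext hz₂
    refine congrArg CommaMorphism.left ((D.p_eq_iff_κ z₁' z₂').1 ?_)
    rw [← Category.assoc, ← Category.assoc ((yon S).map z₂'), ← Functor.map_comp, ← Functor.map_comp, e₁, e₂,
      Functor.map_comp, Functor.map_comp, Category.assoc, Category.assoc, hx₁p, hx₂p, Functor.map_comp (yon S) pr α,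
      Functor.map_comp (yon S) pr α₂, Category.assoc, Category.assoc, ← hα, ← hα']
    let u : Zo ⟶ D.Uov := z₁' ≫ D.κo ≫ D.ao
    have := prod.lift ((yon S).map (io ≫ pr ≫ c)) ((yon S).map u) ≫= congrArg (· ≫ prod.fst) h
    simp only [prod.map_fst, prod.lift_fst_assoc] at this
    simpa only [Functor.map_comp, Category.assoc] using this
  have hfin : (yon S).map (pr ≫ c) ≫ φ₁ = (yon S).map (pr ≫ c) ≫ φ₂ := by
    rw [Functor.map_comp, Category.assoc, Category.assoc, hα, hα', ← Category.assoc, ← Category.assoc,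
      ← Functor.map_comp, ← Functor.map_comp, ← hx₁p, ← hx₂p, hx]
  haveI : Smooth pr.left := inferInstanceAs (Smooth (pullback.fst V.hom D.g))
  haveI : Surjective pr.left := inferInstanceAs (Surjective (pullback.fst V.hom D.g))
  haveI : Smooth (pr ≫ c).left := by rw [Over.comp_left]; infer_instance
  haveI : Surjective (pr ≫ c).left := by rw [Over.comp_left]; infer_instance
  haveI : Sheaf.IsLocallySurjective ((yon S).map (pr ≫ c)) := Groth.AlgSpBasic.isLocallySurjective_of_repWith _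
    ((repWith_yon_map_iff _ _).2 inferInstance) ((repWith_yon_map_iff _ _).2 inferInstance)
    ((repWith_yon_map_iff _ _).2 inferInstance)
  haveI : Epi ((yon S).map (pr ≫ c)) := (Sheaf.isLocallySurjective_iff_epi _).1 inferInstance
  exact (cancel_epi _).1 hfin

/-- Existence of extensions to the quotient. -/
theorem exists_hom {T : Over S} [Smooth T.hom] (γ : (yon S).obj T ⨯ (yon S).obj D.Uov ⟶ (yon S).obj D.Aov)
    (hγ : γ ≫ (yon S).map D.ao = prod.snd) :
    ∃ φ : (yon S).obj T ⟶ D.Q, prod.map φ (𝟙 ((yon S).obj D.Uov)) ≫ D.e.hom = γ := by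
  haveI := D.smooth_g
  haveI := D.isIso_Ψ
  obtain ⟨γ₀, hγ₀⟩ := (yon S).map_surjective (prodComparison (yon S) T D.Uov ≫ γ)
  have hγ₀a : γ₀ ≫ D.ao = prod.snd := (yon S).map_injective (by
    rw [Functor.map_comp, hγ₀, Category.assoc, hγ, prodComparison_snd])
  let T' : Over S := Over.mk (pullback.fst T.hom D.g ≫ T.hom)
  let pr : T' ⟶ T := Over.homMk (pullback.fst T.hom D.g)
  let pS : T'.left ⟶ S' := pullback.snd T.hom D.g
  haveI : Smooth pS := inferInstanceAs (Smooth (pullback.snd T.hom D.g))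
  let V := pS ⁻¹ᵁ (D.g ⁻¹ᵁ D.U)
  let uV : (V : Scheme.{u}) ⟶ D.U := (pS ∣_ (D.g ⁻¹ᵁ D.U)) ≫ (D.g ∣_ D.U)
  have huV : uV ≫ D.U.ι = V.ι ≫ pr.left ≫ T.hom := by
    rw [Category.assoc, morphismRestrict_ι, morphismRestrict_ι_assoc, ← pullback.condition]
    rfl
  let Vo : Over S := Over.mk (V.ι ≫ pr.left ≫ T.hom)
  let tV : Vo ⟶ T := Over.homMk (V.ι ≫ pr.left) (Category.assoc _ _ _)
  let uVo : Vo ⟶ D.Uov := Over.homMk uV huV
  let h₀ : Vo ⟶ D.Aov := prod.lift tV uVo ≫ γ₀
  obtain ⟨f, hf, hfV⟩ := D.exists_extend pS h₀.left (by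
    rw [show h₀.left ≫ D.a ≫ D.U.ι = Vo.hom from Over.w h₀]
    show V.ι ≫ pullback.fst T.hom D.g ≫ T.hom = _
    rw [pullback.condition])
  let fo : T' ⟶ D.Nov := Over.homMk f (by
    show f ≫ D.q ≫ D.g = T'.hom
    rw [reassoc_of% hf]; exact pullback.condition.symm)
  -- images in `A` of the extension
  have key : ∀ {Z : Over S} (i : Z ⟶ T') (z : Z ⟶ D.NUov), z ≫ D.jN = i ≫ fo →
      z ≫ D.κo = prod.lift (i ≫ pr) (z ≫ D.κo ≫ D.ao) ≫ γ₀ := by
    intro Z i z hz
    have hw : ∀ w, D.g (pS (i.left w)) ∈ D.U := fun w => by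
      have hz' : z.left ≫ D.NU.ι = i.left ≫ f := congrArg CommaMorphism.left hz
      have h1 : i.left ≫ pS ≫ D.g = z.left ≫ D.NU.ι ≫ D.q ≫ D.g := by
        rw [reassoc_of% hz', reassoc_of% hf]
      rw [← Scheme.Hom.comp_apply, ← Scheme.Hom.comp_apply, h1]
      exact (z.left w).2
    let w : Z.left ⟶ (V : Scheme.{u}) := IsOpenImmersion.lift V.ι i.left (by
      rw [Scheme.Opens.range_ι]; rintro _ ⟨x, rfl⟩; exact hw x)
    have hwi : w ≫ V.ι = i.left := IsOpenImmersion.lift_fac _ _ _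
    let wo : Z ⟶ Vo := Over.homMk w (by
      show w ≫ V.ι ≫ pr.left ≫ T.hom = Z.hom
      rw [reassoc_of% hwi]; exact (congrArg (i.left ≫ ·) (Over.w pr)).trans (Over.w i))
    have e : z ≫ D.κo = wo ≫ h₀ := Over.OverMorphism.ext
      (hfV i.left z.left w (congrArg CommaMorphism.left hz) hwi)
    rw [e, ← Category.assoc]
    refine congrArg (· ≫ γ₀) (prod.hom_ext ?_ ?_)
    · rw [Category.assoc, prod.lift_fst, prod.lift_fst]
      exact Over.OverMorphism.ext ((reassoc_of% hwi) pr.left)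
    · rw [Category.assoc, prod.lift_snd, prod.lift_snd, ← Category.assoc, e, Category.assoc, Category.assoc,
        hγ₀a, prod.lift_snd]
  haveI : Smooth pr.left := inferInstanceAs (Smooth (pullback.fst T.hom D.g))
  haveI : Surjective pr.left := inferInstanceAs (Surjective (pullback.fst T.hom D.g))
  obtain ⟨φ, hφ⟩ := Groth.AlgSp2.exists_desc_of_cover pr ((yon S).map fo ≫ D.p) (by
    intro Z g₁ g₂ h
    let P : Over S := Over.mk (pullback.fst pr.left pr.left ≫ T'.hom)
    let P₁ : P ⟶ T' := Over.homMk (pullback.fst pr.left pr.left)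
    let P₂ : P ⟶ T' := Over.homMk (pullback.snd pr.left pr.left) (by
      show pullback.snd pr.left pr.left ≫ T'.hom = pullback.fst pr.left pr.left ≫ T'.hom
      rw [← Over.w pr, pullback.condition_assoc])
    have hP : P₁ ≫ pr = P₂ ≫ pr := Over.OverMorphism.ext pullback.condition
    suffices H : (yon S).map (P₁ ≫ fo) ≫ D.p = (yon S).map (P₂ ≫ fo) ≫ D.p by
      let l : Z ⟶ P := Over.homMk (pullback.lift g₁.left g₂.left (congrArg CommaMorphism.left h)) (by
        show _ ≫ pullback.fst pr.left pr.left ≫ T'.hom = Z.hom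
        rw [pullback.lift_fst_assoc]; exact Over.w g₁)
      have h1 : l ≫ P₁ = g₁ := Over.OverMorphism.ext (pullback.lift_fst _ _ _)
      have h2 : l ≫ P₂ = g₂ := Over.OverMorphism.ext (pullback.lift_snd _ _ _)
      have := (yon S).map l ≫= H
      simp only [← Category.assoc, ← Functor.map_comp, h1, h2] at this
      simpa only [Functor.map_comp, Category.assoc] using this
    rw [D.p_eq_iff]
    let r : P.left ⟶ D.R := pullback.lift (P₁.left ≫ f) (P₂.left ≫ pS) (by
      rw [Category.assoc, reassoc_of% hf, Category.assoc]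
      have h2 := (congrArg CommaMorphism.left hP : P₁.left ≫ pr.left = P₂.left ≫ pr.left) =≫ T.hom
      rw [show pS ≫ D.g = pr.left ≫ T.hom from pullback.condition.symm]
      simpa only [Over.comp_left, Category.assoc] using h2)
    have hrs : r ≫ D.s = (P₁ ≫ fo).left := pullback.lift_fst _ _ _
    refine ⟨r, hrs, ?_⟩
    haveI : Smooth (P₂.left ≫ pS) := by
      show Smooth (pullback.snd pr.left pr.left ≫ pS)
      infer_instance
    refine Rel.eq (D := D) ?_ (P₂.left ≫ pS) (by rw [Category.assoc, t_q, pullback.lift_snd])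
      (by show (P₂.left ≫ f) ≫ D.q = _; rw [Category.assoc, hf])
    refine (Rel.trans ((D.rel_t.precomp r).symm) ?_ (by simp only [Category.assoc, D.t_g]))
    intro Z' i z₁ z₂ hz₁ hz₂
    let Zo : Over S := Over.mk (i ≫ P.hom)
    let io : Zo ⟶ P := Over.homMk i
    let z₁' : Zo ⟶ D.NUov := Over.homMk z₁ (by
      show z₁ ≫ D.NU.ι ≫ D.q ≫ D.g = i ≫ P.hom
      rw [reassoc_of% hz₁, reassoc_of% hrs]
      exact congrArg (i ≫ ·) (Over.w (P₁ ≫ fo)))
    let z₂' : Zo ⟶ D.NUov := Over.homMk z₂ (by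
      show z₂ ≫ D.NU.ι ≫ D.q ≫ D.g = i ≫ P.hom
      rw [reassoc_of% hz₂]
      exact congrArg (i ≫ ·) (Over.w (P₂ ≫ fo)))
    have e₁ : z₁' ≫ D.jN = (io ≫ P₁) ≫ fo := Over.OverMorphism.ext (by
      show z₁ ≫ D.NU.ι = (i ≫ P₁.left) ≫ f
      rw [hz₁, hrs, Category.assoc]; rfl)
    have e₂ : z₂' ≫ D.jN = (io ≫ P₂) ≫ fo := Over.OverMorphism.ext (by
      show z₂ ≫ D.NU.ι = (i ≫ P₂.left) ≫ f
      rw [hz₂, Category.assoc]; rfl)
    have hu : z₁' ≫ D.κo ≫ D.ao = z₂' ≫ D.κo ≫ D.ao := by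
      apply Over.OverMorphism.ext
      rw [← cancel_mono D.U.ι]
      exact (Over.w (z₁' ≫ D.κo ≫ D.ao)).trans (Over.w (z₂' ≫ D.κo ≫ D.ao)).symm
    refine congrArg CommaMorphism.left (show z₁' ≫ D.κo = z₂' ≫ D.κo from ?_)
    rw [key _ z₁' e₁, key _ z₂' e₂, hu, Category.assoc, Category.assoc, hP])
  refine ⟨φ, ?_⟩
  rw [e, Iso.symm_hom, asIso_inv, IsIso.comp_inv_eq]
  -- a cover of `T ⨯ U` by the part of `T'` over the open
  let c : Vo ⟶ T ⨯ D.Uov := prod.lift tV uVo
  haveI : Sheaf.IsLocallySurjective ((yon S).map c) := by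
    have sq₀ : IsPullback (prod.fst : T ⨯ D.Uov ⟶ T).left (prod.snd : T ⨯ D.Uov ⟶ D.Uov).left T.hom D.U.ι :=
      Groth.AlgSpBasic.isPullback_prod_left T D.Uov
    have e₁ : c.left ≫ (prod.fst : T ⨯ D.Uov ⟶ T).left = V.ι ≫ pr.left := Groth.AlgSpBasic.lift_left_fst tV uVo
    have e₂ : c.left ≫ (prod.snd : T ⨯ D.Uov ⟶ D.Uov).left = uV := Groth.AlgSpBasic.lift_left_snd tV uVo
    have sq : IsPullback V.ι c.left pr.left (prod.fst : T ⨯ D.Uov ⟶ T).left := by
      refine IsPullback.of_bot ?_ e₁.symm sq₀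
      rw [e₂, show pr.left ≫ T.hom = pS ≫ D.g from pullback.condition]
      exact (isPullback_morphismRestrict pS (D.g ⁻¹ᵁ D.U)).flip.paste_vert (isPullback_morphismRestrict D.g D.U).flip
    haveI : Smooth c.left := MorphismProperty.of_isPullback sq inferInstance
    haveI : Surjective c.left := MorphismProperty.of_isPullback sq inferInstance
    exact Groth.AlgSpBasic.isLocallySurjective_of_repWith _
      ((repWith_yon_map_iff _ _).2 inferInstance) ((repWith_yon_map_iff _ _).2 inferInstance)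
      ((repWith_yon_map_iff _ _).2 inferInstance)
  haveI : Epi ((yon S).map c) := (Sheaf.isLocallySurjective_iff_epi _).1 inferInstance
  rw [← cancel_epi (prodComparison (yon S) T D.Uov), ← cancel_epi ((yon S).map c)]
  obtain ⟨x₀, hx₀, hx₀u⟩ := D.exists_factor (Over.homMk (V.ι ≫ f) (by
    show (V.ι ≫ f) ≫ D.q ≫ D.g = Vo.hom
    rw [Category.assoc, reassoc_of% hf]
    show _ = V.ι ≫ pullback.fst T.hom D.g ≫ T.hom
    rw [pullback.condition]) : Vo ⟶ D.Nov) uVo
  let iV : Vo ⟶ T' := Over.homMk V.ι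
  have hxi : x₀ ≫ D.jN = iV ≫ fo := hx₀.trans (Over.OverMorphism.ext rfl)
  have hxκ : x₀ ≫ D.κo = c ≫ γ₀ := by
    rw [key iV x₀ hxi, hx₀u]
    exact congrArg (fun t => prod.lift t uVo ≫ γ₀) (Over.OverMorphism.ext rfl)
  apply prod.hom_ext
  · have h1 : (yon S).map c ≫ (yon S).map γ₀ ≫ D.qA = (yon S).map (iV ≫ fo) ≫ D.p := by
      rw [← Category.assoc, ← Functor.map_comp, ← hxκ, Functor.map_comp, Category.assoc, D.κo_qA,
        ← Category.assoc, ← Functor.map_comp, hxi]
    simp only [Ψ, Category.assoc, prod.map_fst, prod.lift_fst]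
    rw [← Category.assoc (prodComparison (yon S) T D.Uov) γ, ← hγ₀, h1, prodComparison_fst_assoc,
      ← Category.assoc, ← Functor.map_comp, prod.lift_fst, Functor.map_comp, Category.assoc, ← hφ,
      ← Category.assoc, ← Functor.map_comp]
    congr 2
  · simp only [Ψ, Category.assoc, prod.map_snd, prod.lift_snd, Category.comp_id, hγ]

end Datum

end

end Groth.NeronArea.Descent
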