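import Groth.Agent.NeronArea.SmoothLocusNMP
import Groth.Agent.NeronArea.FiniteEtaleClosure
import Groth.Agent.PropsBasic.NagataNormalization
import Groth.Agent.PropsBasic.NormalizationNormal
import Groth.Agent.Curves1.Node.Family
import Groth.Agent.ZetaAn.Constructible
import Groth.Agent.S4997
import Mathlib.AlgebraicGeometry.ZariskisMainTheorem

/-!
# Néron models of étale schemes over normal schemes
-/

set_option autoImplicit false
set_option backward.isDefEq.respectTransparency false

universe u

open CategoryTheory CategoryTheory.Limits AlgebraicGeometry TopologicalSpace Topology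

namespace Groth.NeronArea

/-- The quotient of a normal ring by a minimal prime is integrally closed. -/
theorem isIntegrallyClosed_quotient_minimal (A : Type u) [CommRing A] (hA : EGA4.IsNormalRing A)
    (p : Ideal A) [p.IsPrime] (hmin : ∀ q : Ideal A, q.IsPrime → q ≤ p → p ≤ q) :
    IsIntegrallyClosed (A ⧸ p) := by
  refine IsIntegrallyClosed.of_localization_maximal fun m hm0 hm => ?_
  let q := m.comap (Ideal.Quotient.mk p)
  have : q.IsPrime := Ideal.IsPrime.comap _
  obtain ⟨h1, h2⟩ := hA q
  have := h1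
  have hpq : p ≤ q := by
    intro a ha
    show Ideal.Quotient.mk p a ∈ m
    rw [Ideal.Quotient.eq_zero_iff_mem.2 ha]
    exact m.zero_mem
  let P := RingHom.ker (algebraMap A (Localization.AtPrime q))
  have hPp : P ≤ p := fun a ha => by
    obtain ⟨s, hs⟩ := (IsLocalization.map_eq_zero_iff q.primeCompl _ a).1 ha
    have : (s : A) * a ∈ p := hs ▸ p.zero_mem
    exact (‹p.IsPrime›.mem_or_mem this).resolve_left fun h => s.2 (hpq h)
  have hpP : p ≤ P := hmin P (RingHom.ker_isPrime _) hPp
  let g : A ⧸ p →+* Localization.AtPrime q :=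
    Ideal.Quotient.lift p (algebraMap A (Localization.AtPrime q)) fun a ha => hpP ha
  let := g.toAlgebra
  have hg : ∀ a, algebraMap (A ⧸ p) (Localization.AtPrime q) (Ideal.Quotient.mk p a) =
      algebraMap A (Localization.AtPrime q) a := fun a => rfl
  have : IsLocalization m.primeCompl (Localization.AtPrime q) := by
    refine (isLocalization_iff _ _).2 ⟨?_, fun z => ?_, fun {x y} h => ?_⟩
    · rintro ⟨x, hx⟩
      obtain ⟨a, rfl⟩ := Ideal.Quotient.mk_surjective x
      show IsUnit (algebraMap A (Localization.AtPrime q) a)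
      exact IsLocalization.map_units (Localization.AtPrime q) (⟨a, hx⟩ : q.primeCompl)
    · obtain ⟨⟨a, s⟩, h⟩ := IsLocalization.surj q.primeCompl z
      exact ⟨(Ideal.Quotient.mk p a, ⟨Ideal.Quotient.mk p s, s.2⟩), h⟩
    · obtain ⟨a, rfl⟩ := Ideal.Quotient.mk_surjective x
      obtain ⟨b, rfl⟩ := Ideal.Quotient.mk_surjective y
      refine ⟨1, ?_⟩
      rw [Submonoid.coe_one, one_mul, one_mul, Ideal.Quotient.eq]
      apply hPp
      rw [RingHom.mem_ker, map_sub, sub_eq_zero]
      exact h
  exact @IsIntegrallyClosed.of_equiv _ _ _ _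
    (IsLocalization.algEquiv m.primeCompl (Localization.AtPrime q) (Localization.AtPrime m)).toRingEquiv h2

/-- The normalization of a normal Noetherian scheme in a quasi-compact étale scheme is finite. -/
theorem isFinite_fromNormalization_of_etale {X S : Scheme.{u}} [IsNoetherian S] (hS : Pi1.IsNormalScheme S)
    (g : X ⟶ S) [Etale g] [QuasiCompact g] [QuasiSeparated g] : IsFinite g.fromNormalization := by
  refine Groth.PropsBasic.isFinite_fromNormalization g fun U => ?_
  let := (g.app U.1).hom.toAlgebra
  have : IsNoetherianRing Γ(S, U.1) := IsLocallyNoetherian.component_noetherian U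
  have hXn : Pi1.IsNormalScheme X := isNormalScheme_of_smooth g hS
  have := isReduced_of_normal hXn
  have : IsLocallyNoetherian X := LocallyOfFiniteType.isLocallyNoetherian g
  have : CompactSpace X := QuasiCompact.compactSpace_of_compactSpace g
  have : IsNoetherian X := {}
  let G := Groth.PropsBasic.NormalizationNormal.Gen (g ⁻¹ᵁ U.1)
  have : Finite G := by
    have := (TopologicalSpace.NoetherianSpace.finite_irreducibleComponents (α := X)).to_subtype
    refine Finite.of_injective (fun x : G => (⟨closure {x.1}, x.2.2⟩ : irreducibleComponents ↥X))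
      fun x y h => ?_
    have hcl : closure {x.1} = closure ({y.1} : Set X) := congrArg Subtype.val h
    exact Subtype.ext (isGenericPoint_closure.eq (hcl ▸ isGenericPoint_closure))
  let : ∀ x : G, Algebra Γ(S, U.1) (X.residueField x.1) := fun x =>
    ((X.evaluation (g ⁻¹ᵁ U.1) x.1 x.2.1).hom.comp (g.app U.1).hom).toAlgebra
  refine Groth.PropsBasic.finite_integralClosure_of_jointlyInjective
    (fun x : G => (X.residueField x.1 : Type u))
    (fun x => { (X.evaluation (g ⁻¹ᵁ U.1) x.1 x.2.1).hom with commutes' := fun r => rfl }) ?_ fun x => ?_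
  · intro a b hab
    rw [← sub_eq_zero]
    refine Groth.PropsBasic.NormalizationNormal.eq_zero_of_gen (a - b) fun η => ?_
    rw [map_sub, sub_eq_zero]
    exact hab η
  · obtain ⟨η, hηU, hη⟩ := x
    let : Algebra Γ(S, U.1) (X.residueField η) :=
      ((X.evaluation (g ⁻¹ᵁ U.1) η hηU).hom.comp (g.app U.1).hom).toAlgebra
    -- the image is a maximal point of the base
    let A := Γ(S, U.1)
    let pt := U.2.primeIdealOf ⟨g η, hηU⟩
    have hmin : ∀ q : Ideal A, q.IsPrime → q ≤ pt.asIdeal → pt.asIdeal ≤ q := by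
      intro q hq hle
      have h1 : (⟨q, hq⟩ : PrimeSpectrum A) ⤳ pt := (PrimeSpectrum.le_iff_specializes _ _).1 hle
      have h2 := h1.map U.2.fromSpec.continuous
      rw [U.2.fromSpec_primeIdealOf] at h2
      obtain ⟨η', hη', hgη'⟩ := Flat.generalizingMap g h2
      have h3 : η' = η := (Groth.PropsBasic2.closure_mem_irreducibleComponents_iff η).mp hη η' hη'
      subst h3
      have h4 : (⟨q, hq⟩ : PrimeSpectrum A) = pt := U.2.fromSpec.isOpenEmbedding.injective
        (hgη'.symm.trans (U.2.fromSpec_primeIdealOf ⟨g η', hηU⟩).symm)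
      exact (congrArg PrimeSpectrum.asIdeal h4).ge
    let ev := (S.evaluation U.1 (g η) hηU).hom
    let := ev.toAlgebra
    let := (g.residueFieldMap η).hom.toAlgebra
    have : IsScalarTower A (S.residueField (g η)) (X.residueField η) := by
      refine IsScalarTower.of_algebraMap_eq' ?_
      show _ = (g.residueFieldMap η).hom.comp ev
      rw [← CommRingCat.hom_comp, Scheme.evaluation_naturality]
      rfl
    have hker : ∀ a : A, ev a = 0 ↔ a ∈ pt.asIdeal := fun a => by
      rw [Scheme.evaluation_eq_zero_iff_notMem_basicOpen]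
      have h1 : pt ∈ PrimeSpectrum.basicOpen a ↔ g η ∈ S.basicOpen a := by
        rw [← U.2.fromSpec_preimage_basicOpen]
        have h2 : U.2.fromSpec pt = g η := U.2.fromSpec_primeIdealOf ⟨g η, hηU⟩
        constructor
        · intro h; exact h2 ▸ h
        · intro h; exact (h2.symm ▸ h : U.2.fromSpec pt ∈ S.basicOpen a)
      rw [← h1, PrimeSpectrum.mem_basicOpen, not_not]
    let p := pt.asIdeal
    let g' : A ⧸ p →+* S.residueField (g η) := Ideal.Quotient.lift p ev fun a ha => (hker a).2 ha
    let := g'.toAlgebra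
    have : IsScalarTower A (A ⧸ p) (S.residueField (g η)) := IsScalarTower.of_algebraMap_eq fun _ => rfl
    have hinj : Function.Injective g' := by
      rw [injective_iff_map_eq_zero]
      intro z hz
      obtain ⟨a, rfl⟩ := Ideal.Quotient.mk_surjective z
      exact Ideal.Quotient.eq_zero_iff_mem.2 ((hker a).1 hz)
    have : FaithfulSMul (A ⧸ p) (S.residueField (g η)) := (faithfulSMul_iff_algebraMap_injective _ _).2 hinj
    have : IsFractionRing (A ⧸ p) (S.residueField (g η)) := by
      refine IsFractionRing.of_field _ _ fun z => ?_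
      obtain ⟨t, rfl⟩ := S.residue_surjective (g η) z
      let := TopCat.Presheaf.algebra_section_stalk S.presheaf (⟨g η, hηU⟩ : U.1)
      have := U.2.isLocalization_stalk ⟨g η, hηU⟩
      obtain ⟨⟨a, s⟩, h⟩ := IsLocalization.surj pt.asIdeal.primeCompl t
      refine ⟨Ideal.Quotient.mk p a, Ideal.Quotient.mk p s, ?_⟩
      have h' : S.residue (g η) t * ev s = ev a := by
        have := congrArg (S.residue (g η)) h
        rwa [map_mul] at this
      have hs : ev s ≠ 0 := fun h0 => s.2 ((hker _).1 h0)
      show _ = ev a / ev s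
      rw [eq_div_iff hs, h']
    let : Algebra (A ⧸ p) (X.residueField η) :=
      ((algebraMap (S.residueField (g η)) (X.residueField η)).comp g').toAlgebra
    have : IsScalarTower (A ⧸ p) (S.residueField (g η)) (X.residueField η) :=
      IsScalarTower.of_algebraMap_eq fun _ => rfl
    have : IsScalarTower A (A ⧸ p) (X.residueField η) := IsScalarTower.of_algebraMap_eq fun a => by
      rw [IsScalarTower.algebraMap_apply A (S.residueField (g η)) (X.residueField η)]
      rfl
    have : Module.Finite (S.residueField (g η)) (X.residueField η) :=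
      Groth.Curves1.Node.finite_residueFieldMap g η
    have : Algebra.IsSeparable (S.residueField (g η)) (X.residueField η) :=
      Groth.Curves1.Node.isSeparable_residueFieldMap g η
    have hnA : EGA4.IsNormalRing A := fun q _ => by
      let y : U.1 := ⟨U.2.fromSpec ⟨q, inferInstance⟩, U.2.range_fromSpec.le ⟨_, rfl⟩⟩
      let := TopCat.Presheaf.algebra_section_stalk S.presheaf y
      have := U.2.isLocalization_stalk' ⟨q, inferInstance⟩ y.2
      let e := (IsLocalization.algEquiv q.primeCompl (S.presheaf.stalk y.1)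
        (Localization.AtPrime q)).toRingEquiv
      exact ⟨e.toMulEquiv.isDomain_iff.mp (hS y.1).1, @IsIntegrallyClosed.of_equiv _ _ _ _ e (hS y.1).2⟩
    have : IsIntegrallyClosed (A ⧸ p) := isIntegrallyClosed_quotient_minimal A hnA p hmin
    have hf : Module.Finite (A ⧸ p) (integralClosure (A ⧸ p) (X.residueField η)) :=
      IsIntegralClosure.finite (A ⧸ p) (S.residueField (g η)) (X.residueField η) _
    let ψ : integralClosure (A ⧸ p) (X.residueField η) →ₗ[A] integralClosure A (X.residueField η) :=
      { toFun := fun z => ⟨z.1, isIntegral_trans (A := A ⧸ p) z.1 z.2⟩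
        map_add' := fun _ _ => rfl
        map_smul' := fun _ _ => rfl }
    have : Module.Finite A (integralClosure (A ⧸ p) (X.residueField η)) := Module.Finite.trans (A ⧸ p) _
    exact Module.Finite.of_surjective ψ fun z =>
      ⟨⟨z.1, z.2.tower_top⟩, rfl⟩

/-- Extension of a quasi-compact separated étale scheme from a dense open of a normal Noetherian scheme. -/
theorem exists_etale_neronModel {S : Scheme.{u}} [IsNoetherian S] (hS : Pi1.IsNormalScheme S)
    (S₀ : S.Opens) (hd : Dense (S₀ : Set S)) (N₀ : Over (S₀ : Scheme.{u}))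
    [Etale N₀.hom] [IsSeparated N₀.hom] [QuasiCompact N₀.hom] :
    ∃ (N : Over S) (_ : (Over.pullback S₀.ι).obj N ≅ N₀), Smooth N.hom ∧ LocallyQuasiFinite N.hom ∧
      IsSeparated N.hom ∧ QuasiCompact N.hom ∧
      ∀ Z : Over S, Smooth Z.hom → Function.Bijective (fun g : Z ⟶ N => (Over.pullback S₀.ι).map g) := by
  let g := N₀.hom ≫ S₀.ι
  have := isFinite_fromNormalization_of_etale hS g
  have : LocallyQuasiFinite g := Groth.AlgSp2.locallyQuasiFinite_of_etale g
  let π := g.fromNormalization
  let j := g.toNormalization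
  have : IsOpenImmersion j := inferInstanceAs (IsOpenImmersion g.toNormalization)
  have hgπ : j ≫ π = g := g.toNormalization_fromNormalization
  have : LocallyOfFinitePresentation π := by
    have : IsLocallyNoetherian g.normalization := LocallyOfFiniteType.isLocallyNoetherian π
    infer_instance
  have : IsLocallyNoetherian g.normalization := LocallyOfFiniteType.isLocallyNoetherian π
  have : CompactSpace g.normalization := QuasiCompact.compactSpace_of_compactSpace π
  have : IsNoetherian g.normalization := {}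
  have hXn : Pi1.IsNormalScheme N₀.left := isNormalScheme_of_smooth g hS
  have : IsLocallyNoetherian N₀.left := LocallyOfFiniteType.isLocallyNoetherian g
  have : CompactSpace N₀.left := QuasiCompact.compactSpace_of_compactSpace g
  have : IsNoetherian N₀.left := {}
  have hT : Pi1.IsNormalScheme g.normalization := fun z => by
    obtain ⟨_, ⟨U, hU, rfl⟩, hzU, -⟩ :=
      S.isBasis_affineOpens.exists_subset_of_mem_open (Set.mem_univ (π z)) isOpen_univ
    have : Finite (Groth.PropsBasic.NormalizationNormal.Gen (g ⁻¹ᵁ U)) :=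
      Groth.PropsBasic.NormalizationNormal.finite_gen
        (@locallyFinite_of_finite _ _ _ (TopologicalSpace.NoetherianSpace.finite_irreducibleComponents (α := N₀.left)).to_subtype _)
        (NoetherianSpace.isCompact _)
    exact (Groth.PropsBasic.NormalizationNormal.local_structure g hXn hU).1 z hzU
  have hj : j.opensRange ≤ π.smoothLocus := by
    rintro _ ⟨x, rfl⟩
    show x ∈ j ⁻¹ᵁ π.smoothLocus
    rw [Scheme.Hom.preimage_smoothLocus_eq]
    have : Smooth (j ≫ π) := by rw [hgπ]; infer_instance
    rw [Scheme.Hom.smoothLocus_eq_top]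
    trivial
  let C : Set g.normalization := (π ⁻¹ᵁ S₀ : Set g.normalization) \ (j.opensRange : Set g.normalization)
  let V : g.normalization.Opens := π.smoothLocus ⊓ ⟨(closure C)ᶜ, isClosed_closure.isOpen_compl⟩
  have hVle : V ≤ π.smoothLocus := inf_le_left
  have hjS : ∀ x, π (j x) ∈ S₀ := fun x => by
    rw [← Scheme.Hom.comp_apply, hgπ]
    exact (N₀.hom x).2
  have hjV : j.opensRange ≤ V := by
    refine le_inf hj fun z hz h => ?_
    obtain ⟨w, hw, hwC⟩ := mem_closure_iff.1 h _ j.opensRange.isOpen hz
    exact hwC.2 hw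
  let N : Over S := Over.mk (V.ι ≫ π)
  let jV : N₀.left ⟶ V := IsOpenImmersion.lift V.ι j (by
    rw [Scheme.Opens.range_ι]; rintro _ ⟨x, rfl⟩; exact hjV ⟨x, rfl⟩)
  have hjV' : jV ≫ V.ι = j := IsOpenImmersion.lift_fac _ _ _
  have sq : IsPullback jV N₀.hom (V.ι ≫ π) S₀.ι := by
    refine IsPullback.of_iso_pullback ⟨by rw [← Category.assoc, hjV', hgπ]⟩ ?_ ?_ ?_
    · exact IsOpenImmersion.isoOfRangeEq jV (pullback.fst (V.ι ≫ π) S₀.ι) (by
        rw [Scheme.Pullback.range_fst, Scheme.Opens.range_ι]
        ext v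
        constructor
        · rintro ⟨x, rfl⟩
          show π (V.ι (jV x)) ∈ S₀
          rw [← Scheme.Hom.comp_apply jV V.ι, hjV']
          exact hjS x
        · intro hv
          have hr : V.ι v ∈ j.opensRange := by
            by_contra hn
            exact v.2.2 (subset_closure ⟨hv, hn⟩)
          obtain ⟨x, hx⟩ := hr
          refine ⟨x, V.ι.isOpenEmbedding.injective ?_⟩
          rw [← Scheme.Hom.comp_apply, hjV', hx])
    · exact IsOpenImmersion.isoOfRangeEq_hom_fac _ _ _
    · rw [← cancel_mono S₀.ι, Category.assoc, ← pullback.condition, ← Category.assoc,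
        IsOpenImmersion.isoOfRangeEq_hom_fac, ← Category.assoc, hjV', hgπ]
  let e : (Over.pullback S₀.ι).obj N ≅ N₀ := Over.isoMk sq.isoPullback.symm sq.isoPullback_inv_snd
  have hsm : Smooth N.hom := by
    show Smooth (V.ι ≫ π)
    rw [← Scheme.Hom.smoothLocus_eq_top_iff, ← Scheme.Hom.preimage_smoothLocus_eq]
    exact top_le_iff.mp fun x _ => hVle x.2
  refine ⟨N, e, hsm, inferInstanceAs (LocallyQuasiFinite (V.ι ≫ π)), inferInstanceAs (IsSeparated (V.ι ≫ π)),
    inferInstanceAs (QuasiCompact (V.ι ≫ π)), fun Z hZ => ?_⟩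
  let N' : Over S := Over.mk (π.smoothLocus.ι ≫ π)
  let k : N ⟶ N' := Over.homMk (g.normalization.homOfLE hVle) (by
    show g.normalization.homOfLE hVle ≫ π.smoothLocus.ι ≫ π = V.ι ≫ π
    rw [Scheme.homOfLE_ι_assoc])
  have hι : Dense (S₀.ι.opensRange : Set S) := by rwa [Scheme.Opens.opensRange_ι]
  have hb := bijective_map_smoothLocus hS S₀.ι hι π hT Z
  have := isReduced_of_normal hS
  have : IsDominant S₀.ι := ⟨by rw [DenseRange, Scheme.Opens.range_ι]; exact hd⟩
  have : IsSchemeTheoreticallyDominant S₀.ι := .of_isDominant _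
  have : IsSeparated N.hom := inferInstanceAs (IsSeparated (V.ι ≫ π))
  refine ⟨map_injective_of_flat S₀.ι Z N, fun φ => ?_⟩
  obtain ⟨h, hh⟩ := hb.2 (φ ≫ (Over.pullback S₀.ι).map k)
  have hh' := congrArg CommaMorphism.left ((congrArg (rstEquiv S₀.ι Z N') hh.symm).trans (rstEquiv_map S₀.ι Z N' h))
  let f := h.left ≫ π.smoothLocus.ι
  have hfπ : f ≫ π = Z.hom := by
    show (h.left ≫ π.smoothLocus.ι) ≫ π = Z.hom
    rw [Category.assoc]; exact Over.w h
  have : Smooth f := by
    have : Smooth (h.left ≫ N'.hom) := by rw [Over.w h]; exact hZ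
    have : Smooth N'.hom := by
      show Smooth (π.smoothLocus.ι ≫ π)
      rw [← Scheme.Hom.smoothLocus_eq_top_iff, ← Scheme.Hom.preimage_smoothLocus_eq]
      exact top_le_iff.mp fun x _ => x.2
    have : LocallyQuasiFinite N'.hom := inferInstanceAs (LocallyQuasiFinite (π.smoothLocus.ι ≫ π))
    have : Etale N'.hom := (Groth.Agent.S4997.result N'.hom).2 ⟨‹_›, ‹_›⟩
    have : Smooth h.left := MorphismProperty.of_postcomp (W := @Smooth) (W' := @Etale) h.left N'.hom
      ‹_› ‹_›
    infer_instance
  have hfV : ∀ z, f z ∈ V := by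
    intro z
    refine ⟨(h.left z).2, fun hcl => ?_⟩
    have hC : IsConstructible C := by
      refine IsConstructible.sdiff ?_ ?_
      · exact (NoetherianSpace.isCompact _).isConstructible (π ⁻¹ᵁ S₀).isOpen
      · exact (NoetherianSpace.isCompact _).isConstructible j.opensRange.isOpen
    obtain ⟨c, hc, hcf⟩ := Groth.ZetaAn.exists_specializes_of_mem_closure hC hcl
    obtain ⟨z', -, hz'c⟩ := Flat.generalizingMap f hcf
    have hz'S : Z.hom z' ∈ S₀ := by
      rw [← hfπ, Scheme.Hom.comp_apply, hz'c]; exact hc.1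
    obtain ⟨w, hw⟩ : z' ∈ Set.range (pullback.fst Z.hom S₀.ι) := by
      rw [Scheme.Pullback.range_fst, Scheme.Opens.range_ι]; exact hz'S
    apply hc.2
    rw [← hz'c, ← hw, ← Scheme.Hom.comp_apply]
    have e1 : pullback.fst Z.hom S₀.ι ≫ f = φ.left ≫ sq.isoPullback.inv ≫ j := by
      have e2 : φ.left ≫ pullback.fst (V.ι ≫ π) S₀.ι ≫ V.ι = φ.left ≫ sq.isoPullback.inv ≫ j := by
        rw [← hjV', ← sq.isoPullback_inv_fst_assoc]
      rw [← e2]
      show pullback.fst Z.hom S₀.ι ≫ h.left ≫ π.smoothLocus.ι = _
      rw [← Category.assoc]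
      refine (congrArg (· ≫ π.smoothLocus.ι) hh'.symm).trans ?_
      show ((φ ≫ (Over.pullback S₀.ι).map k).left ≫ pullback.fst _ _) ≫ π.smoothLocus.ι = _
      rw [Over.comp_left, Category.assoc, Category.assoc]
      simp [k, N, N']
    rw [e1]
    exact ⟨_, (Scheme.Hom.comp_apply (φ.left ≫ sq.isoPullback.inv) j w).symm⟩
  let f' : Z.left ⟶ V := IsOpenImmersion.lift V.ι f (by
    rw [Scheme.Opens.range_ι]; rintro _ ⟨z, rfl⟩; exact hfV z)
  have hf' : f' ≫ V.ι = f := IsOpenImmersion.lift_fac _ _ _
  refine ⟨Over.homMk f' (by show f' ≫ V.ι ≫ π = Z.hom; rw [← Category.assoc, hf', hfπ]), ?_⟩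
  have hm : Mono ((Over.pullback S₀.ι).map k) := by
    have : Mono k := Over.mono_of_mono_left k
    infer_instance
  rw [← cancel_mono ((Over.pullback S₀.ι).map k)]
  refine Eq.trans ?_ hh
  rw [← Functor.map_comp]
  congr 1
  ext : 1
  rw [← cancel_mono π.smoothLocus.ι]
  show (f' ≫ g.normalization.homOfLE hVle) ≫ π.smoothLocus.ι = f
  rw [Category.assoc, Scheme.homOfLE_ι, hf']

end Groth.NeronArea
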