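import Groth.Agent.GrpschAbsch.FibreFlat
import Mathlib.AlgebraicGeometry.Morphisms.FlatDescent

/-! Flatness of maps of flat schemes checked on field-valued points of the base. -/

universe u

open CategoryTheory CategoryTheory.Limits AlgebraicGeometry

namespace Groth.NeronArea

/-- A map of flat finitely presented `S`-schemes is flat as soon as for every point of `S` it is flat
after pulling back to some field-valued point above it. -/
theorem flat_of_flat_points {S : Scheme.{u}} {G H : Over S} (f : G ⟶ H)
    [LocallyOfFinitePresentation G.hom] [Flat G.hom] [LocallyOfFiniteType H.hom]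
    (h : ∀ s : S, ∃ (F : Type u) (_ : Field F) (j : Spec (CommRingCat.of F) ⟶ S),
      s ∈ Set.range j ∧ Flat ((Over.pullback j).map f).left) :
    Flat f.left := by
  have : LocallyOfFinitePresentation (f.left ≫ H.hom) := by rw [Over.w]; infer_instance
  have : Flat (f.left ≫ H.hom) := by rw [Over.w]; infer_instance
  refine (Groth.FlatMor2.FibCrit.flat_of_flat_fibres f.left H.hom fun s => ?_).1
  rw [Groth.FlatMor2.FibCrit.of_fiberMap_iff f.left H.hom @Flat s,
    ← Groth.GrpschAbsch.FibreFlat.of_map_iff @Flat f s]
  obtain ⟨F, _, j, ⟨z, hz⟩, hflat⟩ := h s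
  obtain rfl : z = IsLocalRing.closedPoint F := Subsingleton.elim (α := ↥(Spec (CommRingCat.of F))) _ _
  subst hz
  let t := S.fromSpecResidueField (j (IsLocalRing.closedPoint F))
  let w : Spec (CommRingCat.of F) ⟶ Spec (S.residueField (j (IsLocalRing.closedPoint F))) :=
    Spec.map (Scheme.descResidueField (K := F) (Scheme.stalkClosedPointTo j))
  have hw : w ≫ t = j := Scheme.descResidueField_stalkClosedPointTo_fromSpecResidueField F S j
  have hFw : Flat w := inferInstance
  have hSw : Surjective w := ⟨fun q => ⟨IsLocalRing.closedPoint F, Subsingleton.elim _ _⟩⟩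
  have hG : ∀ X : Over S, ∃ q : pullback X.hom j ⟶ pullback X.hom t,
      IsPullback q (pullback.snd X.hom j) (pullback.snd X.hom t) w ∧ q ≫ pullback.fst X.hom t = pullback.fst X.hom j := by
    intro X
    let q : pullback X.hom j ⟶ pullback X.hom t := pullback.lift (pullback.fst _ _) (pullback.snd _ _ ≫ w)
      (by rw [Category.assoc, hw]; exact pullback.condition)
    refine ⟨q, ?_, pullback.lift_fst _ _ _⟩
    have hbig : IsPullback (q ≫ pullback.fst X.hom t) (pullback.snd X.hom j) X.hom (w ≫ t) := by
      rw [pullback.lift_fst, hw]; exact IsPullback.of_hasPullback _ _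
    exact hbig.of_right (pullback.lift_snd _ _ _) (IsPullback.of_hasPullback X.hom t)
  obtain ⟨qG, hGsq, hG1⟩ := hG G
  obtain ⟨qH, hH, hH1⟩ := hG H
  have hbig : IsPullback (qG ≫ pullback.fst G.hom t) ((Over.pullback j).map f).left f.left
      (qH ≫ pullback.fst H.hom t) := by
    rw [hG1, hH1]; exact Groth.GrpschAbsch.FibreFlat.isPullback_map j f
  have hsq : IsPullback qG ((Over.pullback j).map f).left ((Over.pullback t).map f).left qH := by
    refine hbig.of_right ?_ (Groth.GrpschAbsch.FibreFlat.isPullback_map t f)
    apply pullback.hom_ext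
    · have e1 : ((Over.pullback t).map f).left ≫ pullback.fst H.hom t = pullback.fst G.hom t ≫ f.left := pullback.lift_fst _ _ _
      have e2 : ((Over.pullback j).map f).left ≫ pullback.fst H.hom j = pullback.fst G.hom j ≫ f.left := pullback.lift_fst _ _ _
      rw [Category.assoc, e1, ← Category.assoc, hG1, Category.assoc, hH1, e2]
    · have e1 : ((Over.pullback t).map f).left ≫ pullback.snd H.hom t = pullback.snd G.hom t := Over.w ((Over.pullback t).map f)
      have e2 : ((Over.pullback j).map f).left ≫ pullback.snd H.hom j = pullback.snd G.hom j := Over.w ((Over.pullback j).map f)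
      rw [Category.assoc, e1, Category.assoc, hH.w, reassoc_of% e2]
      exact hGsq.w
  have hQ : (@Surjective ⊓ @Flat ⊓ @QuasiCompact : MorphismProperty Scheme.{u}) qH :=
    ⟨⟨MorphismProperty.of_isPullback hH.flip hSw, MorphismProperty.of_isPullback hH.flip hFw⟩,
      MorphismProperty.of_isPullback hH.flip (inferInstanceAs (QuasiCompact w))⟩
  exact MorphismProperty.of_isPullback_of_descendsAlong (P := @Flat) hsq.flip hQ hflat

end Groth.NeronArea
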