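import Mathlib.FieldTheory.IsAlgClosed.Basic
import Mathlib.RingTheory.DiscreteValuationRing.Basic
import Mathlib.RingTheory.Localization.FractionRing
import Mathlib.RingTheory.Localization.Integral
import Mathlib.RingTheory.Localization.Submodule
import Mathlib.RingTheory.Localization.AtPrime.Basic
import Mathlib.RingTheory.LocalRing.ResidueField.Basic

/-! Coordinates of rings sandwiched in a polynomial ring over a discrete valuation ring: algebra. -/

set_option autoImplicit false
set_option linter.style.haveILetI false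

universe u

open Polynomial

namespace Groth.NeronArea.GaFactor

/-- At a rational point where the ring is locally a domain, a function vanishing at the point
without being locally zero is transcendental. -/
theorem exists_field {k B : Type u} [Field k] [IsAlgClosed k] [CommRing B] (cs : k →+* B) (vl : B →+* k)
    (hvl : ∀ c, vl (cs c) = c)
    (hloc : ∀ b₁ b₂, b₁ * b₂ = 0 → ∃ v, vl v ≠ 0 ∧ (v * b₁ = 0 ∨ v * b₂ = 0))
    (x u : B) (hu : vl u ≠ 0) (hx0 : vl x = 0) (hx : ∀ v, vl v ≠ 0 → v * x ≠ 0) :
    ∃ (F : Type u) (_ : Field F) (θ : B →+* F),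
      θ u ≠ 0 ∧ Function.Injective (eval₂RingHom (θ.comp cs) (θ x / θ u)) := by
  let N : Ideal B :=
    { carrier := {b | ∃ v, vl v ≠ 0 ∧ v * b = 0}
      zero_mem' := ⟨1, by simp, by simp⟩
      add_mem' := by
        rintro a b ⟨v, hv, ha⟩ ⟨w, hw, hb⟩
        refine ⟨v * w, by rw [map_mul]; exact mul_ne_zero hv hw, ?_⟩
        linear_combination w * ha + v * hb
      smul_mem' := by
        rintro c b ⟨v, hv, hb⟩
        exact ⟨v, hv, by rw [smul_eq_mul]; linear_combination c * hb⟩ }
  have hN : N.IsPrime := by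
    refine ⟨?_, fun {a b} h => ?_⟩
    · rw [Ne, Ideal.eq_top_iff_one]
      rintro ⟨v, hv, h1⟩
      rw [mul_one] at h1
      exact hv (by rw [h1, map_zero])
    · obtain ⟨v, hv, hab⟩ := h
      rw [← mul_assoc] at hab
      obtain ⟨w, hw, hwa | hwb⟩ := hloc _ _ hab
      · left
        exact ⟨w * v, by rw [map_mul]; exact mul_ne_zero hw hv, by rw [mul_assoc]; exact hwa⟩
      · exact Or.inr ⟨w, hw, hwb⟩
  have hval : ∀ b ∈ N, vl b = 0 := by
    rintro b ⟨v, hv, hb⟩
    have h1 := congrArg vl hb
    rw [map_mul, map_zero] at h1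
    exact (mul_eq_zero.1 h1).resolve_left hv
  let F := FractionRing (B ⧸ N)
  let θ : B →+* F := (algebraMap (B ⧸ N) F).comp (Ideal.Quotient.mk N)
  have hθ : ∀ b, θ b = 0 ↔ b ∈ N := fun b => by
    show algebraMap (B ⧸ N) F (Ideal.Quotient.mk N b) = 0 ↔ _
    rw [map_eq_zero_iff _ (IsFractionRing.injective (B ⧸ N) F), Ideal.Quotient.eq_zero_iff_mem]
  have hθu : θ u ≠ 0 := fun h => hu (hval _ ((hθ u).1 h))
  refine ⟨F, inferInstance, θ, hθu, ?_⟩
  rw [injective_iff_map_eq_zero]
  intro P hP
  by_contra hP0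
  letI : Algebra k F := (θ.comp cs).toAlgebra
  have hint : IsIntegral k (θ x / θ u) := IsAlgebraic.isIntegral ⟨P, hP0, hP⟩
  obtain ⟨c, hc⟩ := minpoly.degree_eq_one_iff.1
    (IsAlgClosed.degree_eq_one_of_irreducible k (minpoly.irreducible hint))
  have hc' : θ (x - cs c * u) = 0 := by
    rw [map_sub, map_mul, show θ (cs c) = θ x / θ u from hc, div_mul_cancel₀ _ hθu, sub_self]
  have h1 := hval _ ((hθ _).1 hc')
  rw [map_sub, map_mul, hvl, hx0, zero_sub, neg_eq_zero, mul_eq_zero] at h1
  obtain rfl := h1.resolve_right hu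
  rw [map_zero, zero_mul, sub_zero, hθ] at hc'
  obtain ⟨v, hv, hvx⟩ := hc'
  exact hx v hv hvx

/-- Maximal power of an element in the localisation at a prime. -/
theorem exists_max_power {A : Type u} [CommRing A] [IsDomain A] [IsNoetherianRing A] (m : Ideal A)
    [m.IsPrime] {π a : A} (hπ : π ∈ m) (ha : a ≠ 0) :
    ∃ (n : ℕ) (x u : A), u ∉ m ∧ u * a = π ^ n * x ∧ ∀ v, v ∉ m → ¬ π ∣ v * x := by
  let L := Localization.AtPrime m
  haveI : IsDomain L := IsLocalization.isDomain_of_atPrime L m
  haveI : IsNoetherianRing L := IsLocalization.isNoetherianRing m.primeCompl L inferInstance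
  have hinj : Function.Injective (algebraMap A L) :=
    IsLocalization.injective L m.primeCompl_le_nonZeroDivisors
  obtain ⟨n, z, hz, hza⟩ := WfDvdMonoid.max_power_factor' ((map_ne_zero_iff _ hinj).2 ha)
    (fun h => (IsLocalization.AtPrime.isUnit_to_map_iff L m π).1 h hπ :
      ¬ IsUnit (algebraMap A L π))
  obtain ⟨⟨x, u⟩, hxu⟩ := IsLocalization.surj m.primeCompl z
  refine ⟨n, x, u, u.2, hinj ?_, fun v hv hdvd => hz ?_⟩
  · rw [map_mul, map_mul, map_pow, hza, ← hxu]
    ring
  · have h1 := map_dvd (algebraMap A L) hdvd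
    rw [map_mul, show algebraMap A L x = z * algebraMap A L u from hxu.symm] at h1
    exact (((IsLocalization.AtPrime.isUnit_to_map_iff L m v).2 hv).dvd_mul_left.trans
      ((IsLocalization.AtPrime.isUnit_to_map_iff L m u).2 u.2).dvd_mul_right).1 h1

/-- A ring whose generic fibre is a polynomial ring lands in the integral polynomial ring, provided
the coordinate reduces to a transcendental fraction. -/
theorem exists_factor {R K : Type u} [CommRing R] [IsDomain R] [IsDiscreteValuationRing R] [Field K]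
    [Algebra R K] [IsFractionRing R K] {A B : Type u} [CommRing A] [CommRing B]
    (cA : R →+* A) (cK : K →+* B) (i : A →+* B) (hcomp : ∀ r, i (cA r) = cK (algebraMap R K r))
    (s : B) (hs : Function.Bijective (eval₂RingHom cK s))
    {F : Type u} [Field F] (θ : A →+* F) (cF : IsLocalRing.ResidueField R →+* F)
    (hθc : ∀ r, θ (cA r) = cF (IsLocalRing.residue R r))
    (x u : A) (hxu : i x = i u * s) (hi : Function.Injective i) (hu : θ u ≠ 0)
    (htr : Function.Injective (eval₂RingHom cF (θ x / θ u))) :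
    ∃ φ : A →+* R[X], ∀ a, i a = eval₂ (cK.comp (algebraMap R K)) s (φ a) := by
  let ψ : R[X] →+* B := eval₂RingHom (cK.comp (algebraMap R K)) s
  have hψ : ∀ P, ψ P = eval₂RingHom cK s (P.map (algebraMap R K)) := fun P =>
    (eval₂_map (algebraMap R K) cK s).symm
  have hψinj : Function.Injective ψ := fun P Q h => by
    rw [hψ, hψ] at h
    exact Polynomial.map_injective _ (IsFractionRing.injective R K) (hs.1 h)
  have hom : ∀ P : R[X], ∃ (D : ℕ) (h : A), i h = i u ^ D * ψ P ∧
      θ h = θ u ^ D * eval₂RingHom cF (θ x / θ u) (P.map (IsLocalRing.residue R)) := by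
    intro P
    induction P using Polynomial.induction_on' with
    | add P Q hP hQ =>
      obtain ⟨D, h, h1, h2⟩ := hP
      obtain ⟨E, g, g1, g2⟩ := hQ
      refine ⟨D + E, h * u ^ E + g * u ^ D, ?_, ?_⟩
      · rw [map_add, map_mul, map_mul, map_pow, map_pow, h1, g1, map_add, pow_add]
        ring
      · rw [map_add, map_mul, map_mul, map_pow, map_pow, h2, g2, Polynomial.map_add, map_add, pow_add]
        ring
    | monomial n r =>
      refine ⟨n, cA r * x ^ n, ?_, ?_⟩
      · rw [map_mul, map_pow, hxu, hcomp, show ψ (monomial n r) = _ from eval₂_monomial _ _]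
        simp only [RingHom.comp_apply]
        ring
      · rw [map_mul, map_pow, hθc, Polynomial.map_monomial, coe_eval₂RingHom, eval₂_monomial, div_pow]
        field_simp
  obtain ⟨π, hπ⟩ := IsDiscreteValuationRing.exists_irreducible R
  have hres : IsLocalRing.residue R π = 0 := (IsLocalRing.residue_eq_zero_iff π).2
    (by rw [hπ.maximalIdeal_eq]; exact Ideal.mem_span_singleton_self π)
  have hπ0 : cK (algebraMap R K π) ≠ 0 ∧ IsDomain B := by
    haveI : IsDomain B := (RingEquiv.ofBijective _ hs).toMulEquiv.isDomain_iff.1 inferInstance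
    exact ⟨(map_ne_zero_iff _ cK.injective).2
      ((map_ne_zero_iff _ (IsFractionRing.injective R K)).2 hπ.ne_zero), ‹_›⟩
  haveI : IsDomain B := hπ0.2
  have key : ∀ (N : ℕ) (a : A), (∃ P, ψ P = cK (algebraMap R K π) ^ N * i a) → ∃ P, ψ P = i a := by
    intro N
    induction N with
    | zero => intro a ⟨P, hP⟩; exact ⟨P, by rw [hP, pow_zero, one_mul]⟩
    | succ N ih =>
      intro a ⟨P, hP⟩
      refine ih a ?_
      obtain ⟨D, h, h1, h2⟩ := hom P
      have hh : h = u ^ D * cA π ^ (N + 1) * a := hi (by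
        rw [h1, hP, map_mul, map_mul, map_pow, map_pow, hcomp]
        ring)
      have h0 : P.map (IsLocalRing.residue R) = 0 := by
        refine htr (mul_left_cancel₀ (pow_ne_zero D hu) ?_)
        rw [← h2, hh, map_mul, map_mul, map_pow, map_pow, hθc, hres, map_zero, zero_pow N.succ_ne_zero,
          mul_zero, zero_mul, map_zero, mul_zero]
      obtain ⟨P', rfl⟩ : C π ∣ P := by
        rw [C_dvd_iff_dvd_coeff]
        intro j
        rw [← Ideal.mem_span_singleton, ← hπ.maximalIdeal_eq, ← IsLocalRing.residue_eq_zero_iff,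
          ← coeff_map, h0, coeff_zero]
      refine ⟨P', mul_left_cancel₀ hπ0.1 ?_⟩
      rw [map_mul, show ψ (C π) = _ from eval₂_C _ _, RingHom.comp_apply] at hP
      rw [hP]
      ring
  have hex : ∀ a, ∃ P, ψ P = i a := fun a => by
    obtain ⟨Q, hQ⟩ := hs.2 (i a)
    obtain ⟨d, hd, hdP⟩ := IsLocalization.integerNormalization_spec (nonZeroDivisors R) Q
    obtain ⟨N, w, rfl⟩ :=
      IsDiscreteValuationRing.eq_unit_mul_pow_irreducible (nonZeroDivisors.ne_zero hd) hπ
    refine key N a ⟨C ((w⁻¹ : Rˣ) : R) * IsLocalization.integerNormalization (nonZeroDivisors R) Q, ?_⟩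
    rw [hψ, Polynomial.map_mul, hdP, ← IsScalarTower.algebraMap_smul K, smul_eq_C_mul, Polynomial.map_C,
      ← mul_assoc, ← C_mul, ← map_mul, ← mul_assoc, Units.inv_mul, one_mul, map_mul, hQ,
      coe_eval₂RingHom, eval₂_C, map_pow, map_pow]
  choose φ hφ using hex
  refine ⟨{ toFun := φ
            map_one' := hψinj (by rw [hφ, map_one, map_one])
            map_zero' := hψinj (by rw [hφ, map_zero, map_zero])
            map_add' := fun a b => hψinj (by rw [hφ, map_add, map_add, hφ, hφ])
            map_mul' := fun a b => hψinj (by rw [hφ, map_mul, map_mul, hφ, hφ]) }, fun a => (hφ a).symm⟩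

end Groth.NeronArea.GaFactor
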