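import Groth.Agent.SGA7.TorsionRigid
import Groth.Agent.SGA7.ComponentGroup
import Groth.Agent.GrpschAbsch.GrpEtaleRel
import Groth.Agent.S5038

/-! Torsion sections of group schemes over henselian local rings; density of sections. -/

set_option autoImplicit false
set_option linter.style.haveILetI false

universe u

open CategoryTheory CategoryTheory.Limits MonoidalCategory CartesianMonoidalCategory MonObj GrpObj AlgebraicGeometry

namespace Groth.NeronArea.TorsionSections

variable {R : Type u} [CommRing R]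

section
variable [IsLocalRing R]

/-- The residue point, as an object over the base. -/
noncomputable abbrev resPt (R : Type u) [CommRing R] [IsLocalRing R] : Over (Spec (CommRingCat.of R)) :=
  Over.mk (Spec.map (CommRingCat.ofHom (IsLocalRing.residue R)))

/-- The restriction to the residue point. -/
noncomputable abbrev resMap (R : Type u) [CommRing R] [IsLocalRing R] :
    resPt R ⟶ Over.mk (𝟙 (Spec (CommRingCat.of R))) :=
  Over.homMk (Spec.map (CommRingCat.ofHom (IsLocalRing.residue R))) (Category.comp_id _)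

/-- A section killed by `n` invertible and trivial at the residue point is trivial. -/
theorem eq_one (G : Over (Spec (CommRingCat.of R))) [GrpObj G] [LocallyOfFiniteType G.hom]
    (n : ℕ) (hn : IsUnit (n : R)) (x : Over.mk (𝟙 (Spec (CommRingCat.of R))) ⟶ G) (hx : x ^ n = 1)
    (hres : resMap R ≫ x = 1) : x = 1 := by
  have h0 : Spec.map (CommRingCat.ofHom (algebraMap R R)) = 𝟙 (Spec (CommRingCat.of R)) := Spec.map_id _
  let i : Groth.SGA7.TorsionRigid.tS R R ⟶ Over.mk (𝟙 (Spec (CommRingCat.of R))) :=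
    Over.homMk (𝟙 (Spec (CommRingCat.of R))) ((Category.id_comp _).trans h0.symm)
  let j : Over.mk (𝟙 (Spec (CommRingCat.of R))) ⟶ Groth.SGA7.TorsionRigid.tS R R :=
    Over.homMk (𝟙 (Spec (CommRingCat.of R))) ((Category.id_comp _).trans h0)
  let k : Groth.SGA7.TorsionRigid.tS R (IsLocalRing.ResidueField R) ⟶ resPt R :=
    Over.homMk (𝟙 (Spec (CommRingCat.of (IsLocalRing.ResidueField R))))
      (by
        show 𝟙 _ ≫ Spec.map _ = Spec.map _
        rw [Category.id_comp, IsLocalRing.ResidueField.algebraMap_eq])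
  have hk : Groth.SGA7.TorsionRigid.sm (IsScalarTower.toAlgHom R R (IsLocalRing.ResidueField R)) ≫ i =
      k ≫ resMap R := by
    apply Over.OverMorphism.ext
    show Spec.map (CommRingCat.ofHom (IsScalarTower.toAlgHom R R (IsLocalRing.ResidueField R)).toRingHom) ≫
      𝟙 (Spec (CommRingCat.of R)) =
      𝟙 (Spec (CommRingCat.of (IsLocalRing.ResidueField R))) ≫ Spec.map (CommRingCat.ofHom (IsLocalRing.residue R))
    rw [Category.comp_id, Category.id_comp,
      show (IsScalarTower.toAlgHom R R (IsLocalRing.ResidueField R)).toRingHom = IsLocalRing.residue R from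
        RingHom.ext fun z => (IsScalarTower.toAlgHom_apply R R (IsLocalRing.ResidueField R) z).trans
          (RingHom.congr_fun (IsLocalRing.ResidueField.algebraMap_eq R) z)]
  have h := Groth.SGA7.TorsionRigid.eq_one_of_pow_eq_one (R := R) (W := R) n hn (i ≫ x)
    (by rw [← MonObj.comp_pow, hx, MonObj.comp_one])
    (by rw [← Category.assoc, hk, Category.assoc, hres, MonObj.comp_one])
  have hji : j ≫ i = 𝟙 _ := by
    apply Over.OverMorphism.ext
    exact Category.comp_id _
  rw [← Category.id_comp x, ← hji, Category.assoc, h, MonObj.comp_one]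

/-- Sections through the same closed point have the same residue point. -/
theorem resMap_comp_eq {G : Over (Spec (CommRingCat.of R))} (x y : Over.mk (𝟙 (Spec (CommRingCat.of R))) ⟶ G)
    (h : x.left.base (IsLocalRing.closedPoint R) = y.left.base (IsLocalRing.closedPoint R)) :
    resMap R ≫ x = resMap R ≫ y := by
  obtain ⟨U, hU, hxU, -⟩ := exists_isAffineOpen_mem_and_subset (x := x.left.base (IsLocalRing.closedPoint R)) (U := ⊤) trivial
  let ψ := Spec.preimage (hU.fromSpec ≫ G.hom)
  letI : Algebra R Γ(G.left, U) := ψ.hom.toAlgebra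
  let p : Groth.SGA7.TorsionRigid.tS R Γ(G.left, U) ⟶ G := Over.homMk hU.fromSpec (Spec.map_preimage _).symm
  have : IsOpenImmersion p.left := inferInstanceAs (IsOpenImmersion hU.fromSpec)
  have h0 : Spec.map (CommRingCat.ofHom (algebraMap R R)) = 𝟙 (Spec (CommRingCat.of R)) := Spec.map_id _
  let i : Groth.SGA7.TorsionRigid.tS R R ⟶ Over.mk (𝟙 (Spec (CommRingCat.of R))) :=
    Over.homMk (𝟙 (Spec (CommRingCat.of R))) ((Category.id_comp _).trans h0.symm)
  have hrange : ∀ z : Over.mk (𝟙 (Spec (CommRingCat.of R))) ⟶ G, z.left.base (IsLocalRing.closedPoint R) ∈ U →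
      Set.range (i ≫ z).left.base ⊆ Set.range p.left.base := by
    rintro z hz _ ⟨q, rfl⟩
    show (𝟙 _ ≫ z.left).base q ∈ Set.range hU.fromSpec.base
    rw [hU.range_fromSpec, Category.id_comp]
    have hq : q ⤳ IsLocalRing.closedPoint R :=
      (PrimeSpectrum.le_iff_specializes (R := R) _ _).mp (IsLocalRing.le_maximalIdeal q.isPrime.ne_top)
    exact (hq.map z.left.continuous).mem_open U.2 hz
  obtain ⟨a, ha⟩ := Groth.SGA7.TorsionRigid.exists_factor p (i ≫ x) (hrange x hxU)
  obtain ⟨b, hb⟩ := Groth.SGA7.TorsionRigid.exists_factor p (i ≫ y) (hrange y (h ▸ hxU))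
  have ha' : x.left = Spec.map (CommRingCat.ofHom a.toRingHom) ≫ hU.fromSpec := by
    refine Eq.trans ?_ (congrArg CommaMorphism.left ha).symm
    exact (Category.id_comp _).symm
  have hb' : y.left = Spec.map (CommRingCat.ofHom b.toRingHom) ≫ hU.fromSpec := by
    refine Eq.trans ?_ (congrArg CommaMorphism.left hb).symm
    exact (Category.id_comp _).symm
  have hker : (IsLocalRing.maximalIdeal R).comap a.toRingHom = (IsLocalRing.maximalIdeal R).comap b.toRingHom := by
    have h1 : Spec.map (CommRingCat.ofHom a.toRingHom) (IsLocalRing.closedPoint R) =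
        Spec.map (CommRingCat.ofHom b.toRingHom) (IsLocalRing.closedPoint R) := by
      apply hU.fromSpec.isOpenEmbedding.injective
      rw [← Scheme.Hom.comp_apply, ← Scheme.Hom.comp_apply, ← ha', ← hb']
      exact h
    exact congrArg PrimeSpectrum.asIdeal h1
  have hab : (IsLocalRing.residue R).comp a.toRingHom = (IsLocalRing.residue R).comp b.toRingHom := by
    refine RingHom.ext fun c => ?_
    have h1 : c - algebraMap R Γ(G.left, U) (a c) ∈ (IsLocalRing.maximalIdeal R).comap a.toRingHom := by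
      rw [Ideal.mem_comap]
      show a (c - algebraMap R Γ(G.left, U) (a c)) ∈ IsLocalRing.maximalIdeal R
      rw [map_sub, AlgHom.commutes, Algebra.algebraMap_self, RingHom.id_apply, sub_self]
      exact Submodule.zero_mem _
    rw [hker, Ideal.mem_comap] at h1
    have h3 : b (c - algebraMap R Γ(G.left, U) (a c)) ∈ IsLocalRing.maximalIdeal R := h1
    rw [map_sub, AlgHom.commutes, Algebra.algebraMap_self, RingHom.id_apply,
      ← IsLocalRing.residue_eq_zero_iff, map_sub, sub_eq_zero] at h3
    exact h3.symm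
  apply Over.OverMorphism.ext
  show Spec.map (CommRingCat.ofHom (IsLocalRing.residue R)) ≫ x.left =
    Spec.map (CommRingCat.ofHom (IsLocalRing.residue R)) ≫ y.left
  rw [ha', hb', ← Spec.map_comp_assoc, ← Spec.map_comp_assoc, ← CommRingCat.ofHom_comp, ← CommRingCat.ofHom_comp, hab]

end

/-- Sections of a smooth scheme over a henselian ring with separably closed residue field are dense
in the closed fibre. -/
theorem mem_closure_sections [HenselianLocalRing R] [IsSepClosed (IsLocalRing.ResidueField R)]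
    {X : Scheme.{u}} (p : X ⟶ Spec (CommRingCat.of R)) [Smooth p] (z : X)
    (hz : p z = IsLocalRing.closedPoint R) :
    z ∈ closure {y : X | ∃ s : Spec (CommRingCat.of R) ⟶ X, s ≫ p = 𝟙 _ ∧
      s (IsLocalRing.closedPoint R) = y} := by
  rw [mem_closure_iff]
  intro O hO hzO
  let ρ : Spec (CommRingCat.of (IsLocalRing.ResidueField R)) ⟶ Spec (CommRingCat.of R) :=
    Spec.map (CommRingCat.ofHom (IsLocalRing.residue R))
  have hρ : ∀ q, ρ.base q = IsLocalRing.closedPoint R := fun q => by
    rw [Subsingleton.elim (α := PrimeSpectrum (IsLocalRing.ResidueField R)) q (IsLocalRing.closedPoint _)]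
    exact IsLocalRing.comap_closedPoint (IsLocalRing.residue R)
  let N₀ : Over (Spec (CommRingCat.of (IsLocalRing.ResidueField R))) := Over.mk (pullback.snd p ρ)
  have : Smooth N₀.hom := inferInstanceAs (Smooth (pullback.snd p ρ))
  have : GeometricallyReduced N₀.hom := Groth.AlgGrp1.geometricallyReduced_of_smooth_hom N₀
  have hne : (((pullback.fst p ρ) ⁻¹ᵁ ⟨O, hO⟩ : (pullback p ρ).Opens) : Set ↥(pullback p ρ)).Nonempty := by
    have : z ∈ Set.range (pullback.fst p ρ) := by
      rw [Scheme.Pullback.range_fst]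
      exact ⟨IsLocalRing.closedPoint _, (hρ _).trans hz.symm⟩
    obtain ⟨w, rfl⟩ := this
    exact ⟨w, hzO⟩
  obtain ⟨s, hs⟩ := Groth.AlgGrp1.exists_point_mem N₀ _ hne
  let u₀ : Spec (CommRingCat.of (IsLocalRing.ResidueField R)) ⟶ X := s.left ≫ pullback.fst p ρ
  have hu₀ : u₀ ≫ p = ρ := by
    rw [Category.assoc, pullback.condition, ← Category.assoc]
    exact (congrArg (· ≫ ρ) (Over.w s)).trans (Category.id_comp _)
  obtain ⟨v, hv, hv₀⟩ := Groth.Agent.S5038.result R p u₀ hu₀
  refine ⟨v (IsLocalRing.closedPoint R), ?_, v, hv, rfl⟩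
  have hx0 : v (IsLocalRing.closedPoint R) = u₀ (IsLocalRing.closedPoint _) := by
    rw [← hv₀, Scheme.Hom.comp_apply]
    exact congrArg v (hρ (IsLocalRing.closedPoint (IsLocalRing.ResidueField R))).symm
  exact hx0 ▸ hs

/-- Torsion points of invertible order lift uniquely. -/
theorem existsUnique_torsion_lift [HenselianLocalRing R] (G : Over (Spec (CommRingCat.of R))) [GrpObj G]
    [IsCommMonObj G] [Smooth G.hom] (N : ℕ) (hN : IsUnit (N : R)) (τ : resPt R ⟶ G) (hτ : τ ^ N = 1) :
    ∃! σ : Over.mk (𝟙 (Spec (CommRingCat.of R))) ⟶ G, σ ^ N = 1 ∧ resMap R ≫ σ = τ := by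
  have hc : ∀ s : Spec (CommRingCat.of R),
      letI : GrpObj ((Over.pullback ((Spec (CommRingCat.of R)).fromSpecResidueField s)).obj G) := Functor.grpObjObj
      IsCommMonObj ((Over.pullback ((Spec (CommRingCat.of R)).fromSpecResidueField s)).obj G) := fun s =>
    inferInstance
  have hNΓ : IsUnit (((N : ℤ) : Γ(Spec (CommRingCat.of R), ⊤))) := by
    have := hN.map (Scheme.ΓSpecIso (CommRingCat.of R)).inv.hom
    simpa using this
  have het : Etale (𝟙 G ^ (N : ℤ)).left := Groth.GrpschAbsch.etale_zpow_of_smooth G hc N hNΓ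
  have hpow : ∀ {T : Over (Spec (CommRingCat.of R))} (a : T ⟶ G), a ≫ (𝟙 G ^ (N : ℤ)) = a ^ N := fun a => by
    rw [zpow_natCast, MonObj.comp_pow, Category.comp_id]
  let e : 𝟙_ (Over (Spec (CommRingCat.of R))) ⟶ G := η[G]
  let K := pullback (𝟙 G ^ (N : ℤ)).left e.left
  let pK : K ⟶ Spec (CommRingCat.of R) := pullback.snd _ _
  haveI : Smooth pK := inferInstance
  obtain ⟨v, hv, hv₀⟩ := Groth.Agent.S5038.result R pK
    (pullback.lift τ.left (Spec.map (CommRingCat.ofHom (IsLocalRing.residue R))) (by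
      have := congrArg CommaMorphism.left ((hpow τ).trans (hτ.trans Hom.one_def))
      exact this.trans (by rfl))) (pullback.lift_snd _ _ _)
  let σ : Over.mk (𝟙 (Spec (CommRingCat.of R))) ⟶ G := Over.homMk (v ≫ pullback.fst _ _) (by
    have h2 : pullback.fst (𝟙 G ^ (N : ℤ)).left e.left ≫ G.hom = pK := by
      conv_lhs => rw [← Over.w (𝟙 G ^ (N : ℤ))]
      rw [pullback.condition_assoc]
      exact (congrArg (pK ≫ ·) (Over.w e)).trans (Category.comp_id _)
    show (v ≫ pullback.fst _ _) ≫ G.hom = 𝟙 _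
    rw [Category.assoc, h2, hv])
  have hσ : σ ^ N = 1 := by
    rw [← hpow, Hom.one_def]
    apply Over.OverMorphism.ext
    show (v ≫ pullback.fst _ _) ≫ (𝟙 G ^ (N : ℤ)).left = _ ≫ e.left
    rw [Category.assoc, pullback.condition, ← Category.assoc, hv]
    rfl
  have hστ : resMap R ≫ σ = τ := by
    apply Over.OverMorphism.ext
    show Spec.map (CommRingCat.ofHom (IsLocalRing.residue R)) ≫ v ≫ pullback.fst _ _ = τ.left
    rw [reassoc_of% hv₀, pullback.lift_fst]
  refine ⟨σ, ⟨hσ, hστ⟩, fun σ' hσ' => ?_⟩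
  refine mul_inv_eq_one.1 (eq_one G N hN (σ' * σ⁻¹) ?_ ?_)
  · rw [mul_pow, inv_pow, hσ'.1, hσ, inv_one, _root_.mul_one]
  · rw [MonObj.comp_mul, GrpObj.comp_inv, hσ'.2, hστ, mul_inv_cancel]

end Groth.NeronArea.TorsionSections
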