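import Mathlib.RingTheory.IntegralDomain
import Mathlib.RingTheory.Henselian
import Mathlib.RingTheory.RootsOfUnity.Basic
import Groth.Agent.NeronArea.FieldComponents
import Groth.Agent.NeronArea.TorsionSections
import Groth.Agent.NeronArea.GenericDense
import Groth.Agent.Reductive.MultGa
import Groth.Agent.Reductive.Points

/-! Component groups of smooth models: prime-to-residue-characteristic parts lift to torsion
sections. -/

set_option autoImplicit false
set_option linter.style.haveILetI false

universe u

open CategoryTheory CategoryTheory.Limits MonoidalCategory CartesianMonoidalCategory MonObj GrpObj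
  AlgebraicGeometry

open scoped CategoryTheory.Obj

namespace Groth.NeronArea.ModelTorsion

open Groth.NeronArea.TorsionSections Groth.NeronArea.FieldComponents

theorem henselian_of_complete (R : Type u) [CommRing R] [IsLocalRing R]
    [IsAdicComplete (IsLocalRing.maximalIdeal R) R] : HenselianLocalRing R where
  is_henselian f hf a₀ h₁ h₂ :=
    HenselianRing.is_henselian (R := R) (I := IsLocalRing.maximalIdeal R) f hf a₀ h₁
      (h₂.map (Ideal.Quotient.mk _))

variable {R : Type u} [CommRing R]

/-- The base as an object over itself. -/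
noncomputable abbrev TT (R : Type u) [CommRing R] : Over (Spec (CommRingCat.of R)) :=
  Over.mk (𝟙 (Spec (CommRingCat.of R)))

/-- A commutative group of sections from commutativity on the generic fibre. -/
theorem isCommMonObj_of_fibre {K : Type u} [CommRing K] [Algebra R K] [IsReduced R]
    (hinj : Function.Injective (algebraMap R K))
    (A : Over (Spec (CommRingCat.of R))) [GrpObj A] [Flat A.hom] [IsSeparated A.hom]
    [IsCommMonObj (Red.bc (Spec.map (CommRingCat.ofHom (algebraMap R K))) A)] : IsCommMonObj A := by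
  let f := Spec.map (CommRingCat.ofHom (algebraMap R K))
  haveI := Groth.NeronArea.isSchemeTheoreticallyDominant_specMap (algebraMap R K) hinj
  have : Flat (A ⊗ A).hom := inferInstanceAs (Flat (pullback.fst A.hom A.hom ≫ A.hom))
  constructor
  rw [MonObj.mul_eq_mul, MonObj.comp_mul, braiding_hom_fst, braiding_hom_snd]
  apply Groth.NeronArea.map_injective_of_flat f (A ⊗ A) A
  show (Over.pullback f).homMonoidHom (snd A A * fst A A) =
    (Over.pullback f).homMonoidHom (fst A A * snd A A)
  rw [map_mul, map_mul]
  exact mul_comm _ _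

/-- A group object with a monomorphic homomorphism into a commutative one is commutative. -/
theorem isCommMonObj_of_mono {S : Scheme.{u}} {A B : Over S} [GrpObj A] [GrpObj B] [IsCommMonObj B]
    (φ : A ⟶ B) [IsMonHom φ] [Mono φ] : IsCommMonObj A := by
  constructor
  rw [MonObj.mul_eq_mul, MonObj.comp_mul, braiding_hom_fst, braiding_hom_snd, ← cancel_mono φ,
    MonObj.mul_comp, MonObj.mul_comp]
  exact mul_comm _ _

section Red

variable [IsLocalRing R] (G : Over (Spec (CommRingCat.of R))) [GrpObj G]

/-- Residue-valued points as points of the closed fibre. -/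
noncomputable def resEquiv : (resPt R ⟶ G) ≃*
    (𝟙_ (Over (Spec (CommRingCat.of (IsLocalRing.ResidueField R)))) ⟶
      Red.bc (Spec.map (CommRingCat.ofHom (IsLocalRing.residue R))) G) :=
  let ιso : (Over.map (Spec.map (CommRingCat.ofHom (IsLocalRing.residue R)))).obj
      (𝟙_ (Over (Spec (CommRingCat.of (IsLocalRing.ResidueField R))))) ≅ resPt R :=
    Over.isoMk (Iso.refl _) rfl
  let m : (resPt R ⟶ G) ≃* ((Over.map (Spec.map (CommRingCat.ofHom (IsLocalRing.residue R)))).obj
      (𝟙_ (Over (Spec (CommRingCat.of (IsLocalRing.ResidueField R))))) ⟶ G) :=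
    { toEquiv := (ιso.homCongr (Iso.refl G)).symm
      map_mul' := fun a b => by
        show ιso.hom ≫ (a * b) ≫ 𝟙 G = (ιso.hom ≫ a ≫ 𝟙 G) * (ιso.hom ≫ b ≫ 𝟙 G)
        simp only [Category.comp_id, MonObj.comp_mul] }
  m.trans (Groth.Reductive.bcPointEquiv _ G _).symm

/-- Reduction of sections. -/
noncomputable def redSec : (TT R ⟶ G) →*
    (𝟙_ (Over (Spec (CommRingCat.of (IsLocalRing.ResidueField R)))) ⟶
      Red.bc (Spec.map (CommRingCat.ofHom (IsLocalRing.residue R))) G) :=
  (resEquiv G).toMonoidHom.comp
    { toFun := fun σ => resMap R ≫ σ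
      map_one' := MonObj.comp_one _
      map_mul' := fun a b => MonObj.comp_mul _ a b }

end Red

section Main

variable [HenselianLocalRing R] [IsAlgClosed (IsLocalRing.ResidueField R)]
  (G : Over (Spec (CommRingCat.of R))) [GrpObj G] [IsCommMonObj G] [Smooth G.hom] [QuasiCompact G.hom]

/-- The components of order dividing `b`, invertible, are the components of torsion sections. -/
theorem exists_torsion_section (b : ℕ) (hb : (b : IsLocalRing.ResidueField R) ≠ 0)
    (x : 𝟙_ (Over (Spec (CommRingCat.of (IsLocalRing.ResidueField R)))) ⟶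
      Red.bc (Spec.map (CommRingCat.ofHom (IsLocalRing.residue R))) G)
    (hx : x ^ b ∈ neutral _) :
    ∃ σ : TT R ⟶ G, σ ^ b = 1 ∧ Rel (redSec G σ) x := by
  let f := Spec.map (CommRingCat.ofHom (IsLocalRing.residue R))
  haveI : Smooth (Red.bc f G).hom := inferInstanceAs (Smooth (Limits.pullback.snd G.hom f))
  haveI : QuasiCompact (Red.bc f G).hom := inferInstanceAs (QuasiCompact (Limits.pullback.snd G.hom f))
  obtain ⟨z, hz, hzb⟩ := exists_root b hb hx
  have hbR : IsUnit (b : R) := by
    rw [← IsLocalRing.notMem_maximalIdeal, ← IsLocalRing.residue_eq_zero_iff, map_natCast]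
    exact hb
  obtain ⟨σ, ⟨hσ, hres⟩, -⟩ := existsUnique_torsion_lift G b hbR ((resEquiv G).symm (x * z⁻¹)) (by
    rw [← map_pow, mul_pow, inv_pow, hzb, mul_inv_cancel, map_one])
  refine ⟨σ, hσ, ?_⟩
  have h : redSec G σ = x * z⁻¹ := by
    show resEquiv G (resMap R ≫ σ) = _
    rw [hres, MulEquiv.apply_symm_apply]
  rw [h, rel_iff, _root_.mul_inv_rev, _root_.inv_inv, mul_comm x, _root_.mul_assoc, inv_mul_cancel,
    _root_.mul_one]
  exact hz

open scoped Classical in
/-- If the group of sections embeds in a field multiplicatively, the `b`-part of the component group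
is cyclic. -/
theorem exists_cyclic_generator {F : Type u} [Field F] (Φ : (TT R ⟶ G) →* F) (hΦ : Function.Injective Φ)
    (b : ℕ) (hb : (b : IsLocalRing.ResidueField R) ≠ 0) :
    ∃ x₀ : 𝟙_ (Over (Spec (CommRingCat.of (IsLocalRing.ResidueField R)))) ⟶
      Red.bc (Spec.map (CommRingCat.ofHom (IsLocalRing.residue R))) G,
      ∀ x, x ^ b ∈ neutral _ → ∃ m : ℕ, Rel (x₀ ^ m) x := by
  have hb0 : b ≠ 0 := fun h => hb (by rw [h, Nat.cast_zero])
  let T : Subgroup (TT R ⟶ G) := (powMonoidHom b).ker
  have hmem : ∀ σ : T, Φ σ ∈ (Polynomial.nthRoots b (1 : F)).toFinset := fun σ => by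
    rw [Multiset.mem_toFinset, Polynomial.mem_nthRoots (Nat.pos_of_ne_zero hb0), ← map_pow,
      show (σ : TT R ⟶ G) ^ b = 1 from σ.2, map_one]
  haveI : Finite T := Finite.of_injective (fun σ => (⟨Φ σ, hmem σ⟩ : (Polynomial.nthRoots b (1 : F)).toFinset))
    fun a c h => Subtype.ext (hΦ (congrArg (fun t : {y // y ∈ (Polynomial.nthRoots b (1 : F)).toFinset} => t.1) h))
  haveI : IsCyclic T := isCyclic_of_injective_ringHom (Φ.comp T.subtype) (hΦ.comp Subtype.val_injective)
  obtain ⟨g, hg⟩ := IsCyclic.exists_monoid_generator (α := T)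
  refine ⟨redSec G g, fun x hx => ?_⟩
  obtain ⟨σ, hσ, hrel⟩ := exists_torsion_section G b hb x hx
  obtain ⟨m, hm⟩ := hg ⟨σ, hσ⟩
  refine ⟨m, ?_⟩
  rw [← map_pow]
  have hm' : (g : TT R ⟶ G) ^ m = σ := by simpa using congrArg Subtype.val hm
  rwa [hm']

/-- A common exponent of the component group. -/
theorem exists_exponent :
    ∃ N : ℕ, 0 < N ∧ ∀ x : 𝟙_ (Over (Spec (CommRingCat.of (IsLocalRing.ResidueField R)))) ⟶
      Red.bc (Spec.map (CommRingCat.ofHom (IsLocalRing.residue R))) G, x ^ N ∈ neutral _ := by
  let f := Spec.map (CommRingCat.ofHom (IsLocalRing.residue R))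
  haveI : LocallyOfFiniteType (Red.bc f G).hom :=
    inferInstanceAs (LocallyOfFiniteType (Limits.pullback.snd G.hom f))
  haveI : QuasiCompact (Red.bc f G).hom := inferInstanceAs (QuasiCompact (Limits.pullback.snd G.hom f))
  haveI := Groth.SGA7.ComponentGroup.noetherianSpace (Red.bc f G)
  let P := neutral (Red.bc f G)
  have hfin := Groth.SGA7.ComponentGroup.finite_components (Set.univ : Set (Red.bc f G).left)
  haveI : Finite ((𝟙_ (Over (Spec (CommRingCat.of (IsLocalRing.ResidueField R)))) ⟶ Red.bc f G) ⧸ P) := by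
    haveI := hfin.to_subtype
    refine Finite.of_injective (β := connectedComponentIn (Set.univ : Set (Red.bc f G).left) '' Set.univ)
      (fun c => ⟨_, Set.mem_image_of_mem _ (Set.mem_univ (pp c.out))⟩) fun a c h => ?_
    rw [← a.out_eq', ← c.out_eq', QuotientGroup.eq]
    have h' := congrArg Subtype.val h
    simp only [connectedComponentIn_univ] at h'
    have hr : Rel a.out c.out := by
      show pp c.out ∈ connectedComponent (pp a.out)
      rw [h']
      exact mem_connectedComponent
    have h1 := (rel_iff _ _).1 hr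
    rwa [mul_comm] at h1
  refine ⟨Nat.card ((𝟙_ (Over (Spec (CommRingCat.of (IsLocalRing.ResidueField R)))) ⟶ Red.bc f G) ⧸ P),
    Nat.card_pos, fun x => ?_⟩
  rw [← QuotientGroup.eq_one_iff (N := P), QuotientGroup.mk_pow]
  exact pow_card_eq_one'

end Main

section Gm

variable [IsDomain R] {K : Type u} [Field K] [Algebra R K] [IsFractionRing R K]
  (G : Over (Spec (CommRingCat.of R))) [GrpObj G] [IsSeparated G.hom]

/-- Sections of a model of the multiplicative group embed in the field. -/
theorem exists_embedding (e : Red.bc (Spec.map (CommRingCat.ofHom (algebraMap R K))) G ≅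
    Red.Gm (Spec (CommRingCat.of K))) [IsMonHom e.hom] :
    ∃ Φ : (TT R ⟶ G) →* K, Function.Injective Φ := by
  let f := Spec.map (CommRingCat.ofHom (algebraMap R K))
  haveI := Groth.NeronArea.isSchemeTheoreticallyDominant_specMap (algebraMap R K)
    (IsFractionRing.injective R K)
  let ψ : (TT R ⟶ G) →* ((Over.pullback f).obj (TT R) ⟶ Red.Gm (Spec (CommRingCat.of K))) :=
    { toFun := fun σ => (Over.pullback f).homMonoidHom σ ≫ e.hom
      map_one' := by rw [map_one]; exact one_comp _
      map_mul' := fun a b => by rw [map_mul]; exact mul_comp _ _ _ }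
  let j := asIso (pullback.snd (𝟙 (Spec (CommRingCat.of R))) f)
  let χ : Γ(((Over.pullback f).obj (TT R)).left, ⊤) →+* K :=
    (Scheme.ΓSpecIso (CommRingCat.of K)).hom.hom.comp j.inv.appTop.hom
  have hχ : Function.Injective χ := by
    haveI : IsIso j.inv.appTop := inferInstanceAs (IsIso (Scheme.Γ.map j.inv.op))
    exact (ConcreteCategory.bijective_of_isIso (Scheme.ΓSpecIso (CommRingCat.of K)).hom).1.comp
      (ConcreteCategory.bijective_of_isIso j.inv.appTop).1
  refine ⟨{ toFun := fun σ => χ (Red.gmFn (ψ σ))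
            map_one' := by rw [map_one, Groth.Reductive.gmFn_one]; exact map_one χ
            map_mul' := fun a b => by rw [map_mul, Groth.Reductive.gmFn_mul]; exact map_mul χ _ _ }, ?_⟩
  intro a b h
  have h1 : ψ a = ψ b := Groth.Reductive.gmFn_injective
    (hχ h)
  have h2 := (cancel_mono e.hom).1 h1
  haveI : Flat (TT R).hom := inferInstanceAs (Flat (𝟙 _))
  exact Groth.NeronArea.map_injective_of_flat f (TT R) G h2

end Gm

end Groth.NeronArea.ModelTorsion
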