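import Mathlib.RingTheory.Filtration
import Mathlib.RingTheory.DiscreteValuationRing.Basic
import Mathlib.RingTheory.Localization.Integral
import Mathlib.AlgebraicGeometry.Noetherian
import Mathlib.Algebra.Polynomial.Roots
import Groth.Agent.Agf.SmoothRed
import Groth.Agent.NeronArea.GaCoord
import Groth.Agent.NeronArea.ModelTorsion

/-! Affine smooth models of the additive group: normalised coordinate. -/

set_option autoImplicit false
set_option linter.style.haveILetI false

universe u

open CategoryTheory CategoryTheory.Limits MonoidalCategory CartesianMonoidalCategory MonObj GrpObj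
  AlgebraicGeometry Groth.Reductive

open scoped CategoryTheory.Obj

namespace Groth.NeronArea.GaModel

open Groth.NeronArea.GaCoord Groth.NeronArea.FieldComponents Groth.NeronArea.ModelTorsion

section Field

variable {k : Type u} [Field k] {X : Over (Spec (CommRingCat.of k))}

/-- The value at a rational point of a function. -/
noncomputable def val (x : 𝟙_ (Over (Spec (CommRingCat.of k))) ⟶ X) : Γ(X.left, ⊤) →+* k :=
  ((Scheme.ΓSpecIso (CommRingCat.of k)).hom.hom :
    Γ(Spec (CommRingCat.of k), ⊤) →+* k).comp x.left.appTop.hom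

theorem exists_pt [IsAlgClosed k] [LocallyOfFiniteType X.hom] (z : X.left) (hz : IsClosed {z}) :
    ∃ x : 𝟙_ (Over (Spec (CommRingCat.of k))) ⟶ X, x.left (IsLocalRing.closedPoint k) = z :=
  ⟨Over.homMk (pointOfClosedPoint X.hom z hz) (pointOfClosedPoint_comp X.hom z hz),
    pointOfClosedPoint_apply X.hom z hz _⟩

theorem val_eq_zero_iff (x : 𝟙_ (Over (Spec (CommRingCat.of k))) ⟶ X) (f : Γ(X.left, ⊤)) :
    val x f = 0 ↔ x.left.appTop f = 0 :=
  map_eq_zero_iff _ (ConcreteCategory.bijective_of_isIso (Scheme.ΓSpecIso (CommRingCat.of k)).hom).1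

theorem val_cst (x : 𝟙_ (Over (Spec (CommRingCat.of k))) ⟶ X) (c : k) : val x (cst X c) = c := by
  have h := cst_comp x c
  show (Scheme.ΓSpecIso (CommRingCat.of k)).hom (x.left.appTop (cst X c)) = c
  rw [h]
  show (Scheme.ΓSpecIso (CommRingCat.of k)).hom (Scheme.Hom.appTop (𝟙 (Spec (CommRingCat.of k)))
    ((Scheme.ΓSpecIso (CommRingCat.of k)).inv c)) = c
  rw [Scheme.Hom.id_appTop, CommRingCat.id_apply, ← CommRingCat.comp_apply, Iso.inv_hom_id]
  rfl

theorem val_ev (x : 𝟙_ (Over (Spec (CommRingCat.of k))) ⟶ X) (f : Γ(X.left, ⊤)) (P : Polynomial k) :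
    val x (ev X f P) = P.eval (val x f) := by
  show val x (Polynomial.eval₂ (cst X) f P) = _
  rw [Polynomial.hom_eval₂, Polynomial.eval]
  congr 1
  exact RingHom.ext (val_cst x)

/-- A nonzero function on a reduced scheme of finite type over an algebraically closed field has a
nonzero value. -/
theorem exists_val_ne_zero [IsAlgClosed k] [LocallyOfFiniteType X.hom] [IsReduced X.left]
    (f : Γ(X.left, ⊤)) (hf : f ≠ 0) : ∃ x : 𝟙_ (Over (Spec (CommRingCat.of k))) ⟶ X, val x f ≠ 0 := by
  haveI : JacobsonSpace X.left := LocallyOfFiniteType.jacobsonSpace X.hom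
  have hne : (X.left.basicOpen f : Set X.left).Nonempty := by
    by_contra hcon
    refine hf ((basicOpen_eq_bot_iff f).1 ?_)
    ext1
    simpa [Set.not_nonempty_iff_eq_empty] using hcon
  obtain ⟨z, hz, hzc⟩ := nonempty_inter_closedPoints hne (X.left.basicOpen f).isOpen.isLocallyClosed
  obtain ⟨x, hx⟩ := exists_pt z hzc
  refine ⟨x, fun h0 => ?_⟩
  have h1 : IsLocalRing.closedPoint k ∈ x.left ⁻¹ᵁ X.left.basicOpen f := by
    show x.left (IsLocalRing.closedPoint k) ∈ X.left.basicOpen f
    rw [hx]
    exact hz
  rw [Scheme.preimage_basicOpen_top, (val_eq_zero_iff x f).1 h0, Scheme.basicOpen_zero] at h1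
  exact h1

/-- A nonzero additive function on a group over a field of characteristic zero is transcendental. -/
theorem injective_ev [CharZero k] [GrpObj X] (f : Γ(X.left, ⊤))
    (hadd : ∀ {Y : Over (Spec (CommRingCat.of k))} (a b : Y ⟶ X),
      (a * b).left.appTop f = a.left.appTop f + b.left.appTop f)
    (x : 𝟙_ (Over (Spec (CommRingCat.of k))) ⟶ X) (hx : val x f ≠ 0) :
    Function.Injective (ev X f) := by
  have hpow : ∀ n : ℕ, val (x ^ (n + 1)) f = (n + 1 : ℕ) * val x f := by
    intro n
    induction n with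
    | zero => simp
    | succ n ih =>
      rw [pow_succ _ (n + 1), Nat.cast_succ, add_mul, _root_.one_mul, ← ih]
      show _ = (Scheme.ΓSpecIso (CommRingCat.of k)).hom _ + (Scheme.ΓSpecIso (CommRingCat.of k)).hom _
      rw [← map_add, ← hadd]
      rfl
  rw [injective_iff_map_eq_zero]
  intro P hP
  refine Polynomial.eq_zero_of_infinite_isRoot P (Set.infinite_of_injective_forall_mem
    (f := fun n : ℕ => ((n + 1 : ℕ) : k) * val x f) (fun a b h => ?_) fun n => ?_)
  · exact Nat.succ_injective (Nat.cast_injective (mul_right_cancel₀ hx h))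
  · show P.eval _ = 0
    rw [← hpow, ← val_ev, hP, map_zero]

/-- A scheme all whose closed points are in one component is connected. -/
theorem connectedSpace_of_neutral [IsAlgClosed k] [GrpObj X] [LocallyOfFiniteType X.hom]
    (h : ∀ x : 𝟙_ (Over (Spec (CommRingCat.of k))) ⟶ X, x ∈ neutral X) : ConnectedSpace X.left := by
  haveI : JacobsonSpace X.left := LocallyOfFiniteType.jacobsonSpace X.hom
  have hsub : closedPoints X.left ⊆ connectedComponent (η[X].left (IsLocalRing.closedPoint k)) := by
    intro z hz
    obtain ⟨x, rfl⟩ := exists_pt z hz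
    exact (mem_neutral_iff x).1 (h x)
  have huniv : connectedComponent (η[X].left (IsLocalRing.closedPoint k)) = Set.univ := by
    rw [← Set.univ_subset_iff, ← closure_closedPoints (X := X.left)]
    exact closure_minimal hsub isClosed_connectedComponent
  haveI : Nonempty X.left := ⟨η[X].left (IsLocalRing.closedPoint k)⟩
  haveI : PreconnectedSpace X.left := ⟨huniv ▸ isPreconnected_connectedComponent⟩
  exact ⟨inferInstance⟩

end Field

variable {R : Type u} [CommRing R] [IsDomain R] [IsDiscreteValuationRing R]
  {K : Type u} [Field K] [Algebra R K] [IsFractionRing R K]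
  (G : Over (Spec (CommRingCat.of R))) [GrpObj G] [Flat G.hom] [IsAffine G.left]

omit [IsDiscreteValuationRing R] [GrpObj G] [IsAffine G.left] in
theorem injective_fst :
    Function.Injective (pullback.fst G.hom (Spec.map (CommRingCat.ofHom (algebraMap R K)))).appTop := by
  haveI := Groth.NeronArea.isSchemeTheoreticallyDominant_specMap (algebraMap R K)
    (IsFractionRing.injective R K)
  exact appTop_fst_injective _ G

theorem cst_ne_zero {L : Type u} [Field L] (X : Over (Spec (CommRingCat.of L))) [GrpObj X] {c : L}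
    (hc : c ≠ 0) : cst X c ≠ 0 := fun h => hc (by
  have h1 := congrArg (val η[X]) h
  rwa [val_cst, map_zero] at h1)

/-- A function on the generic fibre can be scaled to a function with non-zero reduction. -/
theorem exists_normalised [LocallyOfFiniteType G.hom]
    [IsDomain Γ((Red.bc (Spec.map (CommRingCat.ofHom (algebraMap R K))) G).left, ⊤)]
    (b : Γ((Red.bc (Spec.map (CommRingCat.ofHom (algebraMap R K))) G).left, ⊤)) (hb : b ≠ 0) :
    ∃ (c : K) (T : Γ(G.left, ⊤)), c ≠ 0 ∧
      (pullback.fst G.hom (Spec.map (CommRingCat.ofHom (algebraMap R K)))).appTop T =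
        cst (Red.bc (Spec.map (CommRingCat.ofHom (algebraMap R K))) G) c * b ∧
      (pullback.fst G.hom (Spec.map (CommRingCat.ofHom (IsLocalRing.residue R)))).appTop T ≠ 0 := by
  let GK := Red.bc (Spec.map (CommRingCat.ofHom (algebraMap R K))) G
  let iK : Γ(G.left, ⊤) →+* Γ(GK.left, ⊤) :=
    (pullback.fst G.hom (Spec.map (CommRingCat.ofHom (algebraMap R K)))).appTop.hom
  have hiK : Function.Injective iK := injective_fst G
  haveI : IsDomain Γ(G.left, ⊤) := hiK.isDomain iK
  haveI : IsLocallyNoetherian G.left := LocallyOfFiniteType.isLocallyNoetherian G.hom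
  haveI : IsNoetherianRing Γ(G.left, ⊤) :=
    IsLocallyNoetherian.component_noetherian ⟨⊤, isAffineOpen_top G.left⟩
  obtain ⟨π, hπ⟩ := IsDiscreteValuationRing.exists_irreducible R
  have hI : Ideal.span {cst G π} ≠ ⊤ := by
    rw [Ne, Ideal.span_singleton_eq_top]
    intro hu
    have h1 := (hu.map (pullback.fst G.hom
      (Spec.map (CommRingCat.ofHom (IsLocalRing.residue R)))).appTop.hom).map
      (val η[Red.bc (Spec.map (CommRingCat.ofHom (IsLocalRing.residue R))) G])
    have h2 := cst_pullback (IsLocalRing.residue R) G π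
    erw [h2, val_cst, (IsLocalRing.residue_eq_zero_iff π).2
      (by rw [hπ.maximalIdeal_eq]; exact Ideal.mem_span_singleton_self π)] at h1
    exact not_isUnit_zero h1
  obtain ⟨m, a, ha⟩ := exists_fst_eq G (nonZeroDivisors R) b
  have ha' : iK a = cst GK (algebraMap R K m) * b := by
    rw [← cst_pullback (algebraMap R K) G]
    exact ha
  have hm : algebraMap R K m ≠ 0 := IsFractionRing.to_map_ne_zero_of_mem_nonZeroDivisors m.2
  have ha0 : a ≠ 0 := fun h => by
    rw [h, map_zero] at ha'
    exact mul_ne_zero (cst_ne_zero GK hm) hb ha'.symm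
  obtain ⟨n, T, hT, rfl⟩ := WfDvdMonoid.max_power_factor' ha0 fun h => hI (Ideal.span_singleton_eq_top.2 h)
  refine ⟨algebraMap R K m / algebraMap R K π ^ n, T,
    div_ne_zero hm (pow_ne_zero _ ?_), ?_, fun h => hT ?_⟩
  · exact fun h => hπ.ne_zero (IsFractionRing.injective R K (h.trans (map_zero _).symm))
  · have hp : algebraMap R K π ^ n ≠ 0 :=
      pow_ne_zero _ fun h => hπ.ne_zero (IsFractionRing.injective R K (h.trans (map_zero _).symm))
    refine (mul_right_injective₀ (M₀ := Γ((Red.bc (Spec.map (CommRingCat.ofHom (algebraMap R K))) G).left, ⊤))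
      (cst_ne_zero GK hp)) ?_
    show cst GK (algebraMap R K π ^ n) * iK T = cst GK (algebraMap R K π ^ n) * (cst GK _ * b)
    rw [← _root_.mul_assoc, ← map_mul (cst GK), mul_div_cancel₀ _ hp, ← ha', map_mul iK, map_pow,
      map_pow]
    congr 2
    exact (cst_pullback (algebraMap R K) G π).symm
  · rw [← Ideal.mem_span_singleton]
    letI : Algebra R (IsLocalRing.ResidueField R) := (IsLocalRing.residue R).toAlgebra
    have h1 := ker_appTop_fst G (R' := IsLocalRing.ResidueField R) IsLocalRing.residue_surjective T h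
    erw [IsLocalRing.ker_residue, hπ.maximalIdeal_eq, Ideal.map_span, Set.image_singleton] at h1
    exact h1

/-- An additive function with transcendental reduction, proportional to a coordinate of the generic
fibre, is a coordinate. -/
theorem bijective_ev (t : Γ((Red.bc (Spec.map (CommRingCat.ofHom (algebraMap R K))) G).left, ⊤))
    (ht : Function.Bijective (ev (Red.bc (Spec.map (CommRingCat.ofHom (algebraMap R K))) G) t))
    (c : K) (hc : c ≠ 0) (T : Γ(G.left, ⊤))
    (hT : (pullback.fst G.hom (Spec.map (CommRingCat.ofHom (algebraMap R K)))).appTop T =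
      cst (Red.bc (Spec.map (CommRingCat.ofHom (algebraMap R K))) G) c * t)
    (hbar : Function.Injective (ev (Red.bc (Spec.map (CommRingCat.ofHom (IsLocalRing.residue R))) G)
      ((pullback.fst G.hom (Spec.map (CommRingCat.ofHom (IsLocalRing.residue R)))).appTop T))) :
    Function.Bijective (ev G T) := by
  let GK := Red.bc (Spec.map (CommRingCat.ofHom (algebraMap R K))) G
  let iK : Γ(G.left, ⊤) →+* Γ(GK.left, ⊤) :=
    (pullback.fst G.hom (Spec.map (CommRingCat.ofHom (algebraMap R K)))).appTop.hom
  have hiK : Function.Injective iK := injective_fst G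
  haveI : IsDomain Γ(GK.left, ⊤) := (RingEquiv.ofBijective _ ht).toMulEquiv.isDomain_iff.1 inferInstance
  haveI : IsDomain Γ(G.left, ⊤) := hiK.isDomain iK
  have hev : ∀ P : Polynomial R, iK (ev G T P) =
      ev GK t ((P.map (algebraMap R K)).comp (Polynomial.C c * Polynomial.X)) := fun P => by
    show (pullback.fst G.hom (Spec.map (CommRingCat.ofHom (algebraMap R K)))).appTop (ev G T P) = _
    rw [ev_pullback, hT]
    show Polynomial.eval₂ (cst GK) (cst GK c * t) _ = Polynomial.eval₂ (cst GK) t _
    rw [Polynomial.eval₂_comp, Polynomial.eval₂_mul, Polynomial.eval₂_C, Polynomial.eval₂_X]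
  have hsub : ∀ Q : Polynomial K, (Q.comp (Polynomial.C c⁻¹ * Polynomial.X)).comp
      (Polynomial.C c * Polynomial.X) = Q := fun Q => by
    rw [Polynomial.comp_assoc, Polynomial.mul_comp, Polynomial.C_comp, Polynomial.X_comp,
      ← _root_.mul_assoc, ← map_mul, inv_mul_cancel₀ hc, map_one, _root_.one_mul, Polynomial.comp_X]
  have hsub' : ∀ Q : Polynomial K, (Q.comp (Polynomial.C c * Polynomial.X)).comp
      (Polynomial.C c⁻¹ * Polynomial.X) = Q := fun Q => by
    rw [Polynomial.comp_assoc, Polynomial.mul_comp, Polynomial.C_comp, Polynomial.X_comp,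
      ← _root_.mul_assoc, ← map_mul, mul_inv_cancel₀ hc, map_one, _root_.one_mul, Polynomial.comp_X]
  have hinj : Function.Injective (ev G T) := fun P Q h => by
    have h1 := congrArg iK h
    rw [hev, hev] at h1
    have h2 := congrArg (fun p : Polynomial K => p.comp (Polynomial.C c⁻¹ * Polynomial.X)) (ht.1 h1)
    simp only [hsub'] at h2
    exact Polynomial.map_injective _ (IsFractionRing.injective R K) h2
  have hgen : ∀ a, ∃ d : R, d ≠ 0 ∧ ∃ P, ev G T P = cst G d * a := fun a => by
    obtain ⟨Q, hQ⟩ := ht.2 (iK a)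
    obtain ⟨d, hd, hdP⟩ := IsLocalization.integerNormalization_spec (nonZeroDivisors R)
      (Q.comp (Polynomial.C c⁻¹ * Polynomial.X))
    refine ⟨d, nonZeroDivisors.ne_zero hd, IsLocalization.integerNormalization (nonZeroDivisors R)
      (Q.comp (Polynomial.C c⁻¹ * Polynomial.X)), hiK ?_⟩
    rw [hev, hdP, map_mul iK, ← IsScalarTower.algebraMap_smul K d, Polynomial.smul_eq_C_mul,
      Polynomial.mul_comp, Polynomial.C_comp, hsub, map_mul, ev_C, hQ]
    congr 1
    exact (cst_pullback (algebraMap R K) G d).symm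
  obtain ⟨π, hπ⟩ := IsDiscreteValuationRing.exists_irreducible R
  refine ⟨hinj, fun a => ?_⟩
  obtain ⟨d, hd, P, hP⟩ := hgen a
  obtain ⟨N, w, rfl⟩ := IsDiscreteValuationRing.eq_unit_mul_pow_irreducible hd hπ
  have key : ∀ (N : ℕ) (a : Γ(G.left, ⊤)), (∃ P, ev G T P = cst G π ^ N * a) → ∃ P, ev G T P = a := by
    intro N
    induction N with
    | zero => intro a ⟨P, hP⟩; exact ⟨P, by rw [hP, pow_zero, _root_.one_mul]⟩
    | succ N ih =>
      intro a ⟨P, hP⟩
      refine ih a ?_
      have hres : IsLocalRing.residue R π = 0 := (IsLocalRing.residue_eq_zero_iff π).2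
        (by rw [hπ.maximalIdeal_eq]; exact Ideal.mem_span_singleton_self π)
      have h0 : P.map (IsLocalRing.residue R) = 0 := by
        refine hbar ?_
        rw [← ev_pullback, hP, map_mul, map_pow, cst_pullback, hres, map_zero, zero_pow N.succ_ne_zero,
          zero_mul, map_zero]
      obtain ⟨P', rfl⟩ : Polynomial.C π ∣ P := by
        rw [Polynomial.C_dvd_iff_dvd_coeff]
        intro i
        rw [← Ideal.mem_span_singleton, ← hπ.maximalIdeal_eq, ← IsLocalRing.residue_eq_zero_iff,
          ← Polynomial.coeff_map, h0, Polynomial.coeff_zero]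
      refine ⟨P', mul_left_cancel₀ (a := cst G π) ?_ ?_⟩
      · intro h
        have h1 := congrArg iK h
        rw [map_zero] at h1
        refine cst_ne_zero GK (c := algebraMap R K π)
          (fun h => hπ.ne_zero (IsFractionRing.injective R K (h.trans (map_zero _).symm))) ?_
        exact (cst_pullback (algebraMap R K) G π).symm.trans h1
      · rw [map_mul, ev_C] at hP
        rw [hP]
        ring
  refine key N a ⟨Polynomial.C ((w⁻¹ : Rˣ) : R) * P, ?_⟩
  rw [map_mul, ev_C, hP, map_mul, map_pow, ← _root_.mul_assoc, ← _root_.mul_assoc, ← map_mul,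
    Units.inv_mul, map_one, _root_.one_mul]

/-- The sections of a model of the additive group embed additively in the fraction field. -/
theorem exists_embedding_ga (e : Red.bc (Spec.map (CommRingCat.ofHom (algebraMap R K))) G ≅
    Red.Ga (Spec (CommRingCat.of K))) [IsMonHom e.hom] [IsSeparated G.hom] :
    ∃ Φ : (TT R ⟶ G) →* Multiplicative K, Function.Injective Φ := by
  let f := Spec.map (CommRingCat.ofHom (algebraMap R K))
  haveI := Groth.NeronArea.isSchemeTheoreticallyDominant_specMap (algebraMap R K)
    (IsFractionRing.injective R K)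
  let ψ : (TT R ⟶ G) →* ((Over.pullback f).obj (TT R) ⟶ Red.Ga (Spec (CommRingCat.of K))) :=
    { toFun := fun σ => (Over.pullback f).homMonoidHom σ ≫ e.hom
      map_one' := by rw [map_one]; exact one_comp _
      map_mul' := fun a b => by rw [map_mul]; exact mul_comp _ _ _ }
  let j := asIso (pullback.snd (𝟙 (Spec (CommRingCat.of R))) f)
  let χ : Γ(((Over.pullback f).obj (TT R)).left, ⊤) →+* K :=
    (Scheme.ΓSpecIso (CommRingCat.of K)).hom.hom.comp j.inv.appTop.hom
  have hχ : Function.Injective χ := by
    haveI : IsIso j.inv.appTop := inferInstanceAs (IsIso (Scheme.Γ.map j.inv.op))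
    exact (ConcreteCategory.bijective_of_isIso (Scheme.ΓSpecIso (CommRingCat.of K)).hom).1.comp
      (ConcreteCategory.bijective_of_isIso j.inv.appTop).1
  refine ⟨{ toFun := fun σ => Multiplicative.ofAdd (χ (Red.gaFn (ψ σ)))
            map_one' := by rw [map_one, Groth.Reductive.gaFn_one, ofAdd_eq_one]; exact map_zero χ
            map_mul' := fun a b => by
              rw [map_mul, Groth.Reductive.gaFn_mul, ← ofAdd_add]
              exact congrArg _ (map_add χ _ _) }, ?_⟩
  intro a b h
  have h1 : ψ a = ψ b := Groth.Reductive.gaFn_injective (hχ (Multiplicative.ofAdd.injective h))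
  have h2 := (cancel_mono e.hom).1 h1
  haveI : Flat (TT R).hom := inferInstanceAs (Flat (𝟙 _))
  exact Groth.NeronArea.map_injective_of_flat f (TT R) G h2

end Groth.NeronArea.GaModel
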