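import Groth.Agent.GrpschAbsch.IdComp
import Groth.Agent.LocImm.Birational
import Groth.Agent.NeronArea.GaModel
import Groth.Agent.NeronArea.GaFactor
import Groth.Agent.NeronArea.SmoothLocusNMP
import Groth.Agent.NeronArea.FiniteEtaleClosure

/-! The identity component of a smooth affine model of the additive group. -/

set_option autoImplicit false
set_option linter.style.haveILetI false

universe u

open CategoryTheory CategoryTheory.Limits MonoidalCategory CartesianMonoidalCategory MonObj GrpObj
  AlgebraicGeometry Groth.Reductive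

open scoped CategoryTheory.Obj

namespace Groth.NeronArea.GaOpen

open Groth.NeronArea.GaCoord Groth.NeronArea.GaModel Groth.NeronArea.GaFactor

section Field

variable {k : Type u} [Field k] [IsAlgClosed k] (X : Over (Spec (CommRingCat.of k))) [GrpObj X]
  [LocallyOfFiniteType X.hom] [IsReduced X.left] [IsAffine X.left]

/-- Near a rational point of a reduced group over an algebraically closed field the functions form a
domain. -/
theorem exists_local_factor (b₁ b₂ : Γ(X.left, ⊤)) (h : b₁ * b₂ = 0) :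
    ∃ v, val η[X] v ≠ 0 ∧ (v * b₁ = 0 ∨ v * b₂ = 0) := by
  let e := η[X].left (IsLocalRing.closedPoint k)
  obtain ⟨v, hvle, hev⟩ := (isAffineOpen_top X.left).exists_basicOpen_le
    (V := ⟨connectedComponent e, Groth.GrpschAbsch.isOpen_connectedComponent' X e⟩)
    ⟨e, mem_connectedComponent⟩ trivial
  refine ⟨v, fun h0 => ?_, ?_⟩
  · have h1 : IsLocalRing.closedPoint k ∈ η[X].left ⁻¹ᵁ X.left.basicOpen v := hev
    rw [Scheme.preimage_basicOpen_top, (val_eq_zero_iff η[X] v).1 h0, Scheme.basicOpen_zero] at h1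
    exact h1
  by_contra hcon
  push Not at hcon
  have hne : ∀ b : Γ(X.left, ⊤), v * b ≠ 0 →
      (connectedComponent e ∩ X.left.basicOpen b).Nonempty := fun b hb => by
    by_contra hempty
    refine hb ((basicOpen_eq_bot_iff _).1 ?_)
    rw [eq_bot_iff, Scheme.basicOpen_mul]
    rintro z ⟨hzv, hzb⟩
    exact hempty ⟨z, hvle hzv, hzb⟩
  obtain ⟨z, -, hz₁, hz₂⟩ := (Groth.GrpschAbsch.isIrreducible_connectedComponent X e).isPreirreducible
    _ _ (X.left.basicOpen b₁).isOpen (X.left.basicOpen b₂).isOpen (hne _ hcon.1) (hne _ hcon.2)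
  have h2 : z ∈ X.left.basicOpen (b₁ * b₂) := by
    rw [Scheme.basicOpen_mul]
    exact ⟨hz₁, hz₂⟩
  rw [h, Scheme.basicOpen_zero] at h2
  exact h2

end Field

variable {R : Type u} [CommRing R]

/-- The value of a function along the identity section. -/
noncomputable def sec (G : Over (Spec (CommRingCat.of R))) [GrpObj G] : Γ(G.left, ⊤) →+* R :=
  ((Scheme.ΓSpecIso (CommRingCat.of R)).hom.hom :
    Γ(Spec (CommRingCat.of R), ⊤) →+* R).comp η[G].left.appTop.hom

theorem sec_cst (G : Over (Spec (CommRingCat.of R))) [GrpObj G] (r : R) : sec G (cst G r) = r := by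
  show (Scheme.ΓSpecIso (CommRingCat.of R)).hom (η[G].left.appTop (cst G r)) = r
  rw [cst_comp]
  show (Scheme.ΓSpecIso (CommRingCat.of R)).hom (Scheme.Hom.appTop (𝟙 (Spec (CommRingCat.of R)))
    ((Scheme.ΓSpecIso (CommRingCat.of R)).inv r)) = r
  rw [Scheme.Hom.id_appTop, CommRingCat.id_apply, ← CommRingCat.comp_apply, Iso.inv_hom_id]
  rfl

theorem val_fst {L : Type u} [Field L] (g : R →+* L) (G : Over (Spec (CommRingCat.of R))) [GrpObj G]
    (a : Γ(G.left, ⊤)) :
    val η[Red.bc (Spec.map (CommRingCat.ofHom g)) G]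
      ((pullback.fst G.hom (Spec.map (CommRingCat.ofHom g))).appTop a) = g (sec G a) := by
  let f := Spec.map (CommRingCat.ofHom g)
  have h1 : η[Red.bc f G].left ≫ pullback.fst G.hom f = f ≫ η[G].left := by
    have h2 := congrArg CommaMorphism.left (map_one (bcPointEquiv f G (𝟙_ _)))
    rw [← Groth.NeronArea.FieldComponents.one_eq]
    refine Eq.trans h2 ?_
    rw [Hom.one_def]
    exact congrArg (· ≫ η[G].left) (Category.id_comp f)
  have h3 : η[Red.bc f G].left.appTop ((pullback.fst G.hom f).appTop a) =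
      f.appTop (η[G].left.appTop a) := by
    rw [← CommRingCat.comp_apply, ← Scheme.Hom.comp_appTop, h1, Scheme.Hom.comp_appTop,
      CommRingCat.comp_apply]
  refine (congrArg (Scheme.ΓSpecIso (CommRingCat.of L)).hom h3).trans ?_
  exact congrArg (fun m => m (η[G].left.appTop a)) (Scheme.ΓSpecIso_naturality (CommRingCat.ofHom g))

/-- A morphism proportional to an additive coordinate is multiplicative. -/
theorem mul_comp_of_coordinate {L : Type u} [CommRing L] {Z H W : Over (Spec (CommRingCat.of L))}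
    [GrpObj Z] [GrpObj H] (J : Z ⟶ H) (ψ : H ⟶ Red.Ga (Spec (CommRingCat.of L))) [IsMonHom ψ] [Mono ψ]
    (c : L) (y : Γ(Z.left, ⊤)) (hJ : J.left.appTop (Red.gaFn ψ) = cst Z c * y) (a b : W ⟶ Z)
    (hy : (a * b).left.appTop y = a.left.appTop y + b.left.appTop y) :
    (a * b) ≫ J = (a ≫ J) * (b ≫ J) := by
  rw [← cancel_mono ψ, MonObj.mul_comp _ _ ψ]
  apply gaFn_injective
  rw [gaFn_mul]
  simp only [Category.assoc, Groth.Reductive.gaFn_comp, hJ, map_mul, cst_comp]
  rw [hy, mul_add]

theorem flat_Ga : Flat (Red.Ga (Spec (CommRingCat.of R))).hom := by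
  haveI : Flat (line R).hom := (HasRingHomProperty.Spec_iff (P := @Flat)).2
    (RingHom.flat_algebraMap_iff.2 (inferInstanceAs (Module.Flat R (Polynomial R))) :
      (algebraMap R (Polynomial R)).Flat)
  let Ga := Red.Ga (Spec (CommRingCat.of R))
  let ιso : Ga ≅ line R :=
    { hom := toLine Ga (Red.gaFn (𝟙 Ga))
      inv := gaMk (line R) (lineX R)
      hom_inv_id := by rw [toLine_comp_gaMk, gaMk_gaFn]
      inv_hom_id := by
        apply Over.OverMorphism.ext
        refine hom_ext_Spec _ _ fun P => ?_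
        rw [← ev_line P, Over.comp_left, Scheme.Hom.comp_appTop, CommRingCat.comp_apply, comp_ev,
          toLine_appTop, comp_ev, ← Groth.Reductive.gaFn_comp, Category.comp_id, gaFn_gaMk]
        exact (comp_ev (𝟙 (line R)) (lineX R) P).symm.trans (by rfl) }
  haveI : IsIso ιso.hom := ιso.isIso_hom
  haveI : IsIso ιso.hom.left := inferInstanceAs (IsIso ((Over.forget _).map ιso.hom))
  rw [← Over.w ιso.hom]
  infer_instance

/-- A morphism of flat groups, proportional on the generic fibre to an additive coordinate, is a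
homomorphism. -/
theorem isMonHom_of_coordinate {L : Type u} [CommRing L] (g : R →+* L)
    {P G : Over (Spec (CommRingCat.of R))} [GrpObj P] [GrpObj G] [Flat P.hom] [IsSeparated G.hom]
    [IsSchemeTheoreticallyDominant (Spec.map (CommRingCat.ofHom g))] (j : P ⟶ G)
    (ψ : Red.bc (Spec.map (CommRingCat.ofHom g)) G ⟶ Red.Ga (Spec (CommRingCat.of L)))
    [IsMonHom ψ] [Mono ψ] (x₀ : Γ(P.left, ⊤))
    (hx₀ : ∀ {Y : Over (Spec (CommRingCat.of R))} (a b : Y ⟶ P),
      (a * b).left.appTop x₀ = a.left.appTop x₀ + b.left.appTop x₀) (c : L)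
    (hJ : ((Over.pullback (Spec.map (CommRingCat.ofHom g))).map j).left.appTop (Red.gaFn ψ) =
      cst (Red.bc (Spec.map (CommRingCat.ofHom g)) P) c *
        (show Γ((Red.bc (Spec.map (CommRingCat.ofHom g)) P).left, ⊤) from
          (pullback.fst P.hom (Spec.map (CommRingCat.ofHom g))).appTop x₀)) : IsMonHom j := by
  let f := Spec.map (CommRingCat.ofHom g)
  have hmul : ∀ {Y : Over (Spec (CommRingCat.of R))} [Flat Y.hom] (a b : Y ⟶ P),
      (a * b) ≫ j = (a ≫ j) * (b ≫ j) := fun {Y} _ a b => by
    apply Groth.NeronArea.map_injective_of_flat f Y G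
    show (Over.pullback f).map ((a * b) ≫ j) = (Over.pullback f).homMonoidHom ((a ≫ j) * (b ≫ j))
    rw [map_mul, Functor.map_comp]
    show (Over.pullback f).homMonoidHom (a * b) ≫ (Over.pullback f).map j =
      ((Over.pullback f).map (a ≫ j)) * ((Over.pullback f).map (b ≫ j))
    rw [map_mul, (Over.pullback f).map_comp a j, (Over.pullback f).map_comp b j]
    exact mul_comp_of_coordinate ((Over.pullback f).map j) ψ c _ hJ
      ((Over.pullback f).homMonoidHom a) ((Over.pullback f).homMonoidHom b)
      (add_pullback g P x₀ hx₀ _ _)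
  refine ⟨?_, ?_⟩
  · haveI : Flat (𝟙_ (Over (Spec (CommRingCat.of R)))).hom := inferInstanceAs (Flat (𝟙 _))
    have h1 := hmul (1 : 𝟙_ (Over (Spec (CommRingCat.of R))) ⟶ P) 1
    rw [_root_.mul_one] at h1
    have h2 := mul_eq_left.1 h1.symm
    rwa [Hom.one_def, Hom.one_def, toUnit_unique (toUnit _) (𝟙 _), Category.id_comp,
      Category.id_comp] at h2
  · haveI : Flat (P ⊗ P).hom := inferInstanceAs (Flat (pullback.fst P.hom P.hom ≫ P.hom))
    have h1 := hmul (fst P P) (snd P P)
    rw [← MonObj.mul_eq_mul, Hom.mul_def (fst P P ≫ j)] at h1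
    rw [h1]
    congr 1
    all_goals (ext <;> simp)

variable [IsDomain R] [IsDiscreteValuationRing R]
  {K : Type u} [Field K] [Algebra R K] [IsFractionRing R K] [IsAlgClosed (IsLocalRing.ResidueField R)]

/-- Smooth affine models of the additive group have a coordinate ring contained in polynomials. -/
theorem exists_coordinate (G : Over (Spec (CommRingCat.of R))) [GrpObj G] [Smooth G.hom]
    [IsAffine G.left] [LocallyOfFiniteType G.hom]
    (t : Γ((Red.bc (Spec.map (CommRingCat.ofHom (algebraMap R K))) G).left, ⊤))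
    (ht : Function.Bijective (ev (Red.bc (Spec.map (CommRingCat.ofHom (algebraMap R K))) G) t))
    (ht0 : val η[Red.bc (Spec.map (CommRingCat.ofHom (algebraMap R K))) G] t = 0) :
    ∃ (c : K) (φ : Γ(G.left, ⊤) →+* Polynomial R), c ≠ 0 ∧
      (∀ a, (pullback.fst G.hom (Spec.map (CommRingCat.ofHom (algebraMap R K)))).appTop a =
        ev (Red.bc (Spec.map (CommRingCat.ofHom (algebraMap R K))) G)
          (cst (Red.bc (Spec.map (CommRingCat.ofHom (algebraMap R K))) G) c * t)
          ((φ a).map (algebraMap R K))) ∧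
      ∃ a, ((φ a).map (IsLocalRing.residue R)).natDegree ≠ 0 := by
  let GK := Red.bc (Spec.map (CommRingCat.ofHom (algebraMap R K))) G
  let Gk := Red.bc (Spec.map (CommRingCat.ofHom (IsLocalRing.residue R))) G
  haveI : Flat G.hom := inferInstance
  haveI : Smooth Gk.hom := inferInstanceAs (Smooth (pullback.snd G.hom _))
  haveI : LocallyOfFiniteType Gk.hom := inferInstanceAs (LocallyOfFiniteType (pullback.snd G.hom _))
  haveI : IsReduced Gk.left := Groth.Agf.isReduced_of_smooth Gk.hom
  haveI : IsClosedImmersion (Spec.map (CommRingCat.ofHom (IsLocalRing.residue R))) :=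
    IsClosedImmersion.spec_of_surjective _ IsLocalRing.residue_surjective
  haveI : IsAffineHom G.hom := isAffineHom_of_isAffine _
  haveI : IsAffine Gk.left := isAffine_of_isAffineHom (pullback.fst G.hom
    (Spec.map (CommRingCat.ofHom (IsLocalRing.residue R))))
  let iK : Γ(G.left, ⊤) →+* Γ(GK.left, ⊤) :=
    (pullback.fst G.hom (Spec.map (CommRingCat.ofHom (algebraMap R K)))).appTop.hom
  let ik : Γ(G.left, ⊤) →+* Γ(Gk.left, ⊤) :=
    (pullback.fst G.hom (Spec.map (CommRingCat.ofHom (IsLocalRing.residue R)))).appTop.hom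
  have hiK : Function.Injective iK := injective_fst G
  have hik : Function.Surjective ik :=
    (IsClosedImmersion.isAffine_surjective_of_isAffine
      (pullback.fst G.hom (Spec.map (CommRingCat.ofHom (IsLocalRing.residue R))))).2
  have hvK : ∀ a, val η[GK] (iK a) = algebraMap R K (sec G a) := val_fst _ G
  have hvk : ∀ a, val η[Gk] (ik a) = IsLocalRing.residue R (sec G a) := val_fst _ G
  haveI : IsDomain Γ(GK.left, ⊤) :=
    (RingEquiv.ofBijective _ ht).toMulEquiv.isDomain_iff.1 inferInstance
  haveI : IsDomain Γ(G.left, ⊤) := hiK.isDomain iK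
  haveI : IsLocallyNoetherian G.left := LocallyOfFiniteType.isLocallyNoetherian G.hom
  haveI : IsNoetherianRing Γ(G.left, ⊤) :=
    IsLocallyNoetherian.component_noetherian ⟨⊤, isAffineOpen_top G.left⟩
  obtain ⟨π, hπ⟩ := IsDiscreteValuationRing.exists_irreducible R
  have hres : IsLocalRing.residue R π = 0 := (IsLocalRing.residue_eq_zero_iff π).2
    (by rw [hπ.maximalIdeal_eq]; exact Ideal.mem_span_singleton_self π)
  have hπK : algebraMap R K π ≠ 0 :=
    fun h => hπ.ne_zero (IsFractionRing.injective R K (h.trans (map_zero _).symm))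
  have ht' : t ≠ 0 := fun h => Polynomial.X_ne_zero (ht.1 (a₂ := (0 : Polynomial K))
    (by rw [ev_X, map_zero]; exact h))
  obtain ⟨c₀, T, hc₀, hT, -⟩ := exists_normalised G t ht'
  have hT0 : T ≠ 0 := fun h => by
    rw [h, map_zero] at hT
    exact mul_ne_zero (cst_ne_zero GK hc₀) ht' hT.symm
  let vl : Γ(G.left, ⊤) →+* IsLocalRing.ResidueField R := (IsLocalRing.residue R).comp (sec G)
  haveI : (RingHom.ker vl).IsPrime := RingHom.ker_isPrime vl
  obtain ⟨n, x, u, hu, hux, hmax⟩ := exists_max_power (RingHom.ker vl) (π := cst G π) (a := T)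
    (show IsLocalRing.residue R (sec G (cst G π)) = 0 by rw [sec_cst, hres]) hT0
  let c := c₀ / algebraMap R K π ^ n
  have hc : c ≠ 0 := div_ne_zero hc₀ (pow_ne_zero _ hπK)
  have hcn : c₀ = algebraMap R K π ^ n * c := (mul_div_cancel₀ c₀ (pow_ne_zero n hπK)).symm
  have hcp : ∀ r, iK (cst G r) = cst GK (algebraMap R K r) := cst_pullback (algebraMap R K) G
  have hxu : iK x = iK u * (cst GK c * t) := by
    have h1 := congrArg iK hux
    rw [map_mul, map_mul, map_pow, hcp, show iK T = _ from hT, hcn, map_mul, map_pow] at h1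
    refine mul_left_cancel₀ (pow_ne_zero n (cst_ne_zero GK hπK)) ?_
    linear_combination -h1
  have hx0 : val η[Gk] (ik x) = 0 := by
    have h1 := hvK x
    rw [hxu, map_mul, map_mul, ht0, mul_zero, mul_zero] at h1
    rw [hvk, IsFractionRing.injective R K (h1.symm.trans (map_zero _).symm), map_zero]
  have hu0 : val η[Gk] (ik u) ≠ 0 := by rw [hvk]; exact hu
  have hx : ∀ v, val η[Gk] v ≠ 0 → v * ik x ≠ 0 := fun v hv hvx => by
    obtain ⟨v, rfl⟩ := hik v
    rw [hvk] at hv
    refine hmax v hv ?_
    rw [← map_mul ik] at hvx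
    letI : Algebra R (IsLocalRing.ResidueField R) := (IsLocalRing.residue R).toAlgebra
    have h1 := ker_appTop_fst G (R' := IsLocalRing.ResidueField R) IsLocalRing.residue_surjective _ hvx
    erw [IsLocalRing.ker_residue, hπ.maximalIdeal_eq, Ideal.map_span, Set.image_singleton] at h1
    exact Ideal.mem_span_singleton.1 h1
  obtain ⟨F, hF, θ, hθu, htr⟩ := exists_field (cst Gk) (val η[Gk]) (val_cst _)
    (exists_local_factor Gk) (ik x) (ik u) hu0 hx0 hx
  have hs : Function.Bijective (ev GK (cst GK c * t)) := by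
    have h1 : (ev GK (cst GK c * t) : Polynomial K → _) =
        ev GK t ∘ fun P => P.comp (Polynomial.C c * Polynomial.X) := funext fun P => by
      show Polynomial.eval₂ (cst GK) (cst GK c * t) P = Polynomial.eval₂ (cst GK) t _
      rw [Polynomial.eval₂_comp, Polynomial.eval₂_mul, Polynomial.eval₂_C, Polynomial.eval₂_X]
    rw [h1]
    refine ht.comp (Function.bijective_iff_has_inverse.2
      ⟨fun P => P.comp (Polynomial.C c⁻¹ * Polynomial.X), fun P => ?_, fun P => ?_⟩)
    · simp only
      rw [Polynomial.comp_assoc, Polynomial.mul_comp, Polynomial.C_comp, Polynomial.X_comp,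
        ← _root_.mul_assoc, ← map_mul, mul_inv_cancel₀ hc, map_one, _root_.one_mul, Polynomial.comp_X]
    · simp only
      rw [Polynomial.comp_assoc, Polynomial.mul_comp, Polynomial.C_comp, Polynomial.X_comp,
        ← _root_.mul_assoc, ← map_mul, inv_mul_cancel₀ hc, map_one, _root_.one_mul, Polynomial.comp_X]
  obtain ⟨φ, hφ⟩ := exists_factor (cst G) (cst GK) iK hcp (cst GK c * t) hs (θ.comp ik)
    (θ.comp (cst Gk)) (fun r => congrArg θ (cst_pullback (IsLocalRing.residue R) G r)) x u hxu hiK hθu htr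
  have hφ' : ∀ a, iK a = ev GK (cst GK c * t) ((φ a).map (algebraMap R K)) := fun a => by
    rw [hφ]
    exact (Polynomial.eval₂_map _ _ _).symm
  refine ⟨c, φ, hc, hφ', x, ?_⟩
  have hφx : φ x = φ u * Polynomial.X := by
    refine Polynomial.map_injective _ (IsFractionRing.injective R K) (hs.1 ?_)
    rw [← hφ', Polynomial.map_mul, map_mul, ← hφ', Polynomial.map_X, ev_X, hxu]
  have hne : (φ u).map (IsLocalRing.residue R) ≠ 0 := fun h0 => by
    have h1 := congrArg (val η[GK]) (hφ' u)
    rw [hvK, val_ev, map_mul, ht0, mul_zero, ← Polynomial.coeff_zero_eq_eval_zero,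
      Polynomial.coeff_map] at h1
    refine hu ?_
    show IsLocalRing.residue R (sec G u) = 0
    rw [IsFractionRing.injective R K h1, ← Polynomial.coeff_map, h0, Polynomial.coeff_zero]
  rw [hφx, Polynomial.map_mul, Polynomial.map_X, Polynomial.natDegree_mul_X hne]
  exact Nat.succ_ne_zero _

/-- Ring maps to the polynomial ring, iso on the generic fibre and non-constant on the special one,
define quasi-finite morphisms. -/
theorem finite_preimage {A : Type u} [CommRing A] (cA : R →+* A) (φ : A →+* Polynomial R)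
    (hC : ∀ r, φ (cA r) = Polynomial.C r)
    (hgen : ∀ P, ∃ d : R, d ≠ 0 ∧ ∃ a, φ a = Polynomial.C d * P)
    (a₀ : A) (ha₀ : ((φ a₀).map (IsLocalRing.residue R)).natDegree ≠ 0) (q : PrimeSpectrum A) :
    ((PrimeSpectrum.comap φ) ⁻¹' {q}).Finite := by
  classical
  obtain ⟨π, hπ⟩ := IsDiscreteValuationRing.exists_irreducible R
  have hres : IsLocalRing.residue R π = 0 := (IsLocalRing.residue_eq_zero_iff π).2
    (by rw [hπ.maximalIdeal_eq]; exact Ideal.mem_span_singleton_self π)
  let k := IsLocalRing.ResidueField R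
  let M : Polynomial R →+* Polynomial k := Polynomial.mapRingHom (IsLocalRing.residue R)
  let evl : k → (Polynomial R →+* k) := fun l => Polynomial.eval₂RingHom (IsLocalRing.residue R) l
  have hM : Function.Surjective M := Polynomial.map_surjective _ IsLocalRing.residue_surjective
  let h := (φ a₀).map (IsLocalRing.residue R)
  let S : Set (PrimeSpectrum (Polynomial R)) := (PrimeSpectrum.comap φ) ⁻¹' {q}
  have hS1 : (S ∩ {P | Polynomial.C π ∉ P.asIdeal}).Subsingleton := by
    suffices hle : ∀ P ∈ S ∩ {P | Polynomial.C π ∉ P.asIdeal}, ∀ Q ∈ S ∩ {P | Polynomial.C π ∉ P.asIdeal},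
        P.asIdeal ≤ Q.asIdeal from fun P hP Q hQ =>
      PrimeSpectrum.ext (le_antisymm (hle P hP Q hQ) (hle Q hQ P hP))
    intro P hP Q hQ p hp
    obtain ⟨d, hd, a, ha⟩ := hgen p
    have haP : a ∈ (PrimeSpectrum.comap φ P).asIdeal := by
      show φ a ∈ P.asIdeal
      rw [ha]
      exact Ideal.mul_mem_left _ _ hp
    rw [show PrimeSpectrum.comap φ P = PrimeSpectrum.comap φ Q from hP.1.trans hQ.1.symm] at haP
    have haQ : φ a ∈ Q.asIdeal := haP
    rw [ha] at haQ
    refine (Q.isPrime.mem_or_mem haQ).resolve_left fun hdQ => hQ.2 ?_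
    obtain ⟨N, w, rfl⟩ := IsDiscreteValuationRing.eq_unit_mul_pow_irreducible hd hπ
    rw [map_mul, map_pow] at hdQ
    refine Q.isPrime.mem_of_pow_mem N ((Q.isPrime.mem_or_mem hdQ).resolve_left fun hw => ?_)
    exact Q.isPrime.ne_top (Ideal.eq_top_of_isUnit_mem _ hw (Polynomial.isUnit_C.2 w.isUnit))
  have hclass : ∀ P : PrimeSpectrum (Polynomial R), Polynomial.C π ∈ P.asIdeal →
      P.asIdeal = RingHom.ker M ∨ ∃ l, P.asIdeal = RingHom.ker (evl l) := by
    intro P hP
    have hker : RingHom.ker M ≤ P.asIdeal := fun p hp => by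
      have h1 : Polynomial.C π ∣ p := by
        rw [Polynomial.C_dvd_iff_dvd_coeff]
        intro j
        rw [← Ideal.mem_span_singleton, ← hπ.maximalIdeal_eq, ← IsLocalRing.residue_eq_zero_iff,
          ← Polynomial.coeff_map, show p.map (IsLocalRing.residue R) = 0 from hp, Polynomial.coeff_zero]
      exact P.asIdeal.mem_of_dvd h1 hP
    haveI := Ideal.map_isPrime_of_surjective hM hker
    have hcomap : (P.asIdeal.map M).comap M = P.asIdeal := by
      rw [Ideal.comap_map_of_surjective _ hM, ← RingHom.ker_eq_comap_bot, sup_eq_left.2 hker]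
    by_cases h0 : P.asIdeal.map M = ⊥
    · left
      rw [← hcomap, h0, ← RingHom.ker_eq_comap_bot]
    · right
      obtain ⟨g, hg⟩ := (IsPrincipalIdealRing.principal (P.asIdeal.map M)).principal
      have hg1 : ¬ IsUnit g := fun hu => Ideal.IsPrime.ne_top ‹_›
        (hg.trans (Ideal.span_singleton_eq_top.2 hu))
      have hg0 : g.degree ≠ 0 := fun hd => hg1 (Polynomial.isUnit_iff_degree_eq_zero.2 hd)
      obtain ⟨l, hl⟩ := IsAlgClosed.exists_root g hg0
      refine ⟨l, ?_⟩
      have h1 : P.asIdeal.map M = RingHom.ker (Polynomial.evalRingHom l) := by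
        refine (Ideal.IsPrime.isMaximal ‹_› h0).eq_of_le (RingHom.ker_ne_top _) ?_
        rw [hg, Ideal.submodule_span_eq, Ideal.span_singleton_le_iff_mem]
        exact hl
      rw [← hcomap, h1]
      ext p
      show (p.map (IsLocalRing.residue R)).eval l = 0 ↔ p.eval₂ (IsLocalRing.residue R) l = 0
      rw [Polynomial.eval_map]
  have hS2 : (S ∩ {P | Polynomial.C π ∈ P.asIdeal}).Finite := by
    by_cases hl : ∃ P ∈ S, ∃ l, P.asIdeal = RingHom.ker (evl l)
    · obtain ⟨P₁, hP₁, l₁, hl₁⟩ := hl
      have hne : h - Polynomial.C (h.eval l₁) ≠ 0 := fun he => ha₀ (by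
        show h.natDegree = 0
        rw [sub_eq_zero.1 he, Polynomial.natDegree_C])
      refine Set.Finite.subset (Set.Finite.preimage (fun P _ Q _ h => PrimeSpectrum.ext h)
        (((Polynomial.finite_setOfPred_isRoot hne).image fun l => RingHom.ker (evl l)).insert
          (RingHom.ker M))) ?_
      rintro P ⟨hP, hπP⟩
      rcases hclass P hπP with hc | ⟨l, hc⟩
      · exact Or.inl hc
      refine Or.inr ⟨l, ?_, hc.symm⟩
      obtain ⟨mu, hmu⟩ := IsLocalRing.residue_surjective (h.eval l₁)
      have hev : ∀ l', evl l' (φ (a₀ - cA mu)) = h.eval l' - h.eval l₁ := fun l' => by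
        rw [map_sub φ, hC, map_sub]
        simp only [evl, Polynomial.coe_eval₂RingHom, Polynomial.eval₂_C, hmu]
        show _ = ((φ a₀).map (IsLocalRing.residue R)).eval l' - ((φ a₀).map (IsLocalRing.residue R)).eval l₁
        rw [Polynomial.eval_map, Polynomial.eval_map]
      have hmem : a₀ - cA mu ∈ (PrimeSpectrum.comap φ P₁).asIdeal := by
        show φ (a₀ - cA mu) ∈ P₁.asIdeal
        rw [hl₁, RingHom.mem_ker, hev, sub_self]
      rw [show PrimeSpectrum.comap φ P₁ = PrimeSpectrum.comap φ P from hP₁.trans hP.symm] at hmem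
      have hmem' : φ (a₀ - cA mu) ∈ P.asIdeal := hmem
      rw [hc, RingHom.mem_ker, hev] at hmem'
      show (h - Polynomial.C (h.eval l₁)).eval l = 0
      rw [Polynomial.eval_sub, Polynomial.eval_C]
      exact hmem'
    · push Not at hl
      refine Set.Finite.subset (Set.Finite.preimage (fun P _ Q _ h => PrimeSpectrum.ext h)
        (Set.finite_singleton (RingHom.ker M))) ?_
      rintro P ⟨hP, hπP⟩
      exact (hclass P hπP).resolve_right fun ⟨l, hc⟩ => hl P hP l hc
  refine Set.Finite.subset (hS1.finite.union hS2) fun P hP => ?_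
  by_cases hc : Polynomial.C π ∈ P.asIdeal
  · exact Or.inr ⟨hP, hc⟩
  · exact Or.inl ⟨hP, hc⟩

/-- The morphism from the affine line of such a map is an open immersion, for a normal domain. -/
theorem isOpenImmersion_specMap {A : Type u} [CommRing A] [IsDomain A]
    (hN : ∀ y : Spec (CommRingCat.of A), IsIntegrallyClosed ((Spec (CommRingCat.of A)).presheaf.stalk y))
    (cA : R →+* A) (φ : A →+* Polynomial R) (hC : ∀ r, φ (cA r) = Polynomial.C r)
    (hinj : Function.Injective φ)
    (hgen : ∀ P, ∃ d : R, d ≠ 0 ∧ ∃ a, φ a = Polynomial.C d * P)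
    (a₀ : A) (ha₀ : ((φ a₀).map (IsLocalRing.residue R)).natDegree ≠ 0) :
    IsOpenImmersion (Spec.map (CommRingCat.ofHom φ)) := by
  let f := Spec.map (CommRingCat.ofHom φ)
  haveI : IsDomain (CommRingCat.of A) := inferInstanceAs (IsDomain A)
  haveI : LocallyOfFiniteType (f ≫ Spec.map (CommRingCat.ofHom cA)) := by
    rw [← Spec.map_comp, ← CommRingCat.ofHom_comp, show φ.comp cA = Polynomial.C from RingHom.ext hC]
    exact (HasRingHomProperty.Spec_iff (P := @LocallyOfFiniteType)).2
      (RingHom.finiteType_algebraMap.2 (inferInstanceAs (Algebra.FiniteType R (Polynomial R))) :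
        (algebraMap R (Polynomial R)).FiniteType)
  haveI : LocallyOfFiniteType f := locallyOfFiniteType_of_comp f (Spec.map (CommRingCat.ofHom cA))
  haveI : LocallyQuasiFinite f := LocallyQuasiFinite.of_finite_preimage_singleton f
    fun q => finite_preimage cA φ hC hgen a₀ ha₀ q
  have hgp : f (genericPoint (Spec (CommRingCat.of (Polynomial R)))) =
      genericPoint (Spec (CommRingCat.of A)) := by
    rw [genericPoint_eq_bot_of_affine, genericPoint_eq_bot_of_affine]
    exact PrimeSpectrum.ext ((RingHom.ker_eq_comap_bot φ).symm.trans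
      ((RingHom.injective_iff_ker_eq_bot φ).1 hinj))
  refine Groth.LocImmersion.BirationalNormal.isOpenImmersion_of_isSeparated hN f hgp ?_
  let p := genericPoint (Spec (CommRingCat.of (Polynomial R)))
  have hp : p.asIdeal = ⊥ := by
    show (genericPoint (Spec (CommRingCat.of (Polynomial R)))).asIdeal = ⊥
    rw [genericPoint_eq_bot_of_affine]
    rfl
  have hbij : Function.Bijective (Localization.localRingHom (p.comap φ).asIdeal p.asIdeal φ rfl) := by
    have hne : ∀ {a : A}, a ≠ 0 → a ∈ (p.comap φ).asIdeal.primeCompl := fun {a} ha hmem => by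
      have h1 : φ a ∈ p.asIdeal := hmem
      rw [hp, Submodule.mem_bot] at h1
      exact ha (hinj (h1.trans (map_zero φ).symm))
    refine ⟨?_, fun z => ?_⟩
    · rw [injective_iff_map_eq_zero]
      intro z hz
      obtain ⟨a, s, rfl⟩ := IsLocalization.exists_mk'_eq (p.comap φ).asIdeal.primeCompl z
      rw [Localization.localRingHom_mk', IsLocalization.mk'_eq_zero_iff] at hz
      obtain ⟨w, hw⟩ := hz
      have hw0 : (w : Polynomial R) ≠ 0 := fun h => w.2 (h ▸ Submodule.zero_mem _)
      have : a = 0 := hinj (((mul_eq_zero.1 hw).resolve_left hw0).trans (map_zero φ).symm)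
      rw [this, IsLocalization.mk'_zero]
    · obtain ⟨P, Q, rfl⟩ := IsLocalization.exists_mk'_eq p.asIdeal.primeCompl z
      obtain ⟨d, hd, a, ha⟩ := hgen P
      obtain ⟨d', hd', b, hb⟩ := hgen Q
      have hQ : (Q : Polynomial R) ≠ 0 := fun h => Q.2 (h ▸ Submodule.zero_mem _)
      have hCd : Polynomial.C d ≠ 0 := Polynomial.C_ne_zero.2 hd
      have hb' : cA d * b ≠ 0 := fun h => by
        have h1 := congrArg φ h
        rw [map_mul, hC, hb, map_zero, mul_eq_zero, mul_eq_zero] at h1
        rcases h1 with h1 | h1 | h1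
        exacts [hCd h1, Polynomial.C_ne_zero.2 hd' h1, hQ h1]
      refine ⟨IsLocalization.mk' _ (cA d' * a) ⟨cA d * b, hne hb'⟩, ?_⟩
      rw [Localization.localRingHom_mk']
      refine IsLocalization.mk'_eq_of_eq ?_
      show φ (cA d * b) * P = (Q : Polynomial R) * φ (cA d' * a)
      rw [map_mul, map_mul, hC, hC, ha, hb]
      ring
  exact ((MorphismProperty.isomorphisms CommRingCat).arrow_mk_iso_iff
    (Scheme.arrowStalkMapSpecIso (CommRingCat.ofHom φ) p)).2
    ((ConcreteCategory.isIso_iff_bijective _).2 hbij)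

/-- A smooth affine model of the additive group contains the additive group as an open subgroup. -/
theorem exists_openImmersion (G : Over (Spec (CommRingCat.of R))) [GrpObj G] [Smooth G.hom]
    [IsAffine G.left] [LocallyOfFiniteType G.hom]
    (e : Red.bc (Spec.map (CommRingCat.ofHom (algebraMap R K))) G ≅ Red.Ga (Spec (CommRingCat.of K)))
    [IsMonHom e.hom] :
    ∃ j : Red.Ga (Spec (CommRingCat.of R)) ⟶ G, IsMonHom j ∧ IsOpenImmersion j.left := by
  let fK := Spec.map (CommRingCat.ofHom (algebraMap R K))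
  let GK := Red.bc fK G
  let Ga := Red.Ga (Spec (CommRingCat.of R))
  let t : Γ(GK.left, ⊤) := Red.gaFn e.hom
  have ht : Function.Bijective (ev GK t) := bijective_ev_of_iso e
  have ht0 : val η[GK] t = 0 := by
    rw [val_eq_zero_iff, ← Groth.Reductive.gaFn_comp, IsMonHom.one_hom]
    have h := gaFn_one (S := Spec (CommRingCat.of K)) (X := 𝟙_ (Over (Spec (CommRingCat.of K))))
    rw [Hom.one_def, toUnit_unique (toUnit _) (𝟙 _), Category.id_comp] at h
    exact h
  obtain ⟨c, φ, hc, hφ, a₀, ha₀⟩ := exists_coordinate G t ht ht0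
  have hs : Function.Injective (ev GK (cst GK c * t)) := fun P Q h => by
    have h1 : ∀ P : Polynomial K, ev GK (cst GK c * t) P =
        ev GK t (P.comp (Polynomial.C c * Polynomial.X)) := fun P => by
      show Polynomial.eval₂ (cst GK) (cst GK c * t) P = Polynomial.eval₂ (cst GK) t _
      rw [Polynomial.eval₂_comp, Polynomial.eval₂_mul, Polynomial.eval₂_C, Polynomial.eval₂_X]
    rw [h1, h1] at h
    have h2 := congrArg (fun p : Polynomial K => p.comp (Polynomial.C c⁻¹ * Polynomial.X)) (ht.1 h)
    simpa only [Polynomial.comp_assoc, Polynomial.mul_comp, Polynomial.C_comp, Polynomial.X_comp,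
      ← _root_.mul_assoc, ← map_mul, mul_inv_cancel₀ hc, map_one, _root_.one_mul,
      Polynomial.comp_X] using h2
  let iK : Γ(G.left, ⊤) →+* Γ(GK.left, ⊤) := (pullback.fst G.hom fK).appTop.hom
  have hiK : Function.Injective iK := injective_fst G
  have hφ_eq : ∀ a P, iK a = ev GK (cst GK c * t) ((P : Polynomial R).map (algebraMap R K)) → φ a = P :=
    fun a P h => Polynomial.map_injective _ (IsFractionRing.injective R K) (hs ((hφ a).symm.trans h))
  have hφinj : Function.Injective φ := fun a b h => hiK (by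
    show (pullback.fst G.hom fK).appTop a = (pullback.fst G.hom fK).appTop b
    rw [hφ, hφ, h])
  have hC : ∀ r, φ (cst G r) = Polynomial.C r := fun r => hφ_eq _ _ (by
    rw [Polynomial.map_C, ev_C]
    exact cst_pullback (algebraMap R K) G r)
  have hgen : ∀ P, ∃ d : R, d ≠ 0 ∧ ∃ a, φ a = Polynomial.C d * P := fun P => by
    obtain ⟨m, a, ha⟩ := exists_fst_eq G (nonZeroDivisors R)
      (ev GK (cst GK c * t) (P.map (algebraMap R K)))
    refine ⟨m, nonZeroDivisors.ne_zero m.2, a, hφ_eq _ _ ?_⟩
    refine ha.trans ?_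
    rw [Polynomial.map_mul, Polynomial.map_C, map_mul, ev_C]
    congr 1
    exact cst_pullback (algebraMap R K) G m
  haveI : IsDomain Γ(GK.left, ⊤) :=
    (RingEquiv.ofBijective _ ht).toMulEquiv.isDomain_iff.1 inferInstance
  haveI : IsDomain Γ(G.left, ⊤) := hiK.isDomain iK
  haveI : Smooth (G.left.isoSpec.inv ≫ G.hom) := inferInstance
  have hN := isNormalScheme_of_smooth (G.left.isoSpec.inv ≫ G.hom)
    (isNormalScheme_Spec (isNormalRing_of_isIntegrallyClosed R))
  haveI := isOpenImmersion_specMap (A := Γ(G.left, ⊤)) (fun y => (hN y).2) (cst G) φ hC hφinj hgen a₀ ha₀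
  have hinv : ∀ a, G.left.isoSpec.inv.appTop a = (Scheme.ΓSpecIso Γ(G.left, ⊤)).inv a := fun a => by
    have h2 : a = G.left.toSpecΓ.appTop ((Scheme.ΓSpecIso Γ(G.left, ⊤)).inv a) := by
      rw [Scheme.toSpecΓ_appTop, ← CommRingCat.comp_apply, Iso.inv_hom_id]
      rfl
    conv_lhs => rw [h2]
    rw [← CommRingCat.comp_apply, ← Scheme.Hom.comp_appTop, Scheme.isoSpec_inv_toSpecΓ]
    rfl
  have hl : ∀ a, (Spec.map (CommRingCat.ofHom φ) ≫ G.left.isoSpec.inv).appTop a =
      (Scheme.ΓSpecIso (CommRingCat.of (Polynomial R))).inv (φ a) := fun a => by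
    rw [Scheme.Hom.comp_appTop, CommRingCat.comp_apply, hinv]
    exact (congrArg (fun m => m a) (Scheme.ΓSpecIso_inv_naturality (CommRingCat.ofHom φ))).symm
  let jl : line R ⟶ G := Over.homMk (Spec.map (CommRingCat.ofHom φ) ≫ G.left.isoSpec.inv) (by
    refine hom_ext_Spec _ _ fun r => ?_
    rw [Scheme.Hom.comp_appTop, CommRingCat.comp_apply]
    refine (hl _).trans ?_
    rw [show φ (G.hom.appTop _) = Polynomial.C r from hC r, ← ev_line, ev_C]
    rfl)
  let x₀ : Γ(Ga.left, ⊤) := Red.gaFn (𝟙 Ga)
  haveI : IsIso (toLine Ga x₀) := by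
    refine ⟨⟨gaMk (line R) (lineX R), by rw [toLine_comp_gaMk, gaMk_gaFn], ?_⟩⟩
    apply Over.OverMorphism.ext
    refine hom_ext_Spec _ _ fun P => ?_
    rw [← ev_line P, Over.comp_left, Scheme.Hom.comp_appTop, CommRingCat.comp_apply, comp_ev,
      toLine_appTop, comp_ev, ← Groth.Reductive.gaFn_comp, Category.comp_id, gaFn_gaMk]
    exact (comp_ev (𝟙 (line R)) (lineX R) P).symm.trans (by rfl)
  let j : Ga ⟶ G := toLine Ga x₀ ≫ jl
  have hj : ∀ a, j.left.appTop a = ev Ga x₀ (φ a) := fun a => by
    show (toLine Ga x₀ ≫ jl).left.appTop a = _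
    rw [Over.comp_left, Scheme.Hom.comp_appTop, CommRingCat.comp_apply,
      show jl.left.appTop a = _ from hl a, ← ev_line, comp_ev, toLine_appTop]
  refine ⟨j, ?_, ?_⟩
  swap
  · haveI : IsOpenImmersion jl.left :=
      inferInstanceAs (IsOpenImmersion (Spec.map (CommRingCat.ofHom φ) ≫ G.left.isoSpec.inv))
    haveI : IsIso (toLine Ga x₀).left := inferInstanceAs (IsIso ((Over.forget _).map (toLine Ga x₀)))
    exact inferInstanceAs (IsOpenImmersion ((toLine Ga x₀).left ≫ jl.left))
  let ZK := Red.bc fK Ga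
  let y : Γ(ZK.left, ⊤) := (pullback.fst Ga.hom fK).appTop x₀
  let J : ZK ⟶ GK := (Over.pullback fK).map j
  have hJ : ∀ a, J.left.appTop (iK a) = ev ZK y ((φ a).map (algebraMap R K)) := fun a => by
    show J.left.appTop ((pullback.fst G.hom fK).appTop a) = _
    rw [← CommRingCat.comp_apply, ← Scheme.Hom.comp_appTop,
      show J.left ≫ pullback.fst G.hom fK = pullback.fst Ga.hom fK ≫ j.left from pullback.lift_fst _ _ _,
      Scheme.Hom.comp_appTop, CommRingCat.comp_apply, hj]
    exact ev_pullback _ Ga x₀ _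
  have hJt : J.left.appTop t = cst ZK c⁻¹ * y := by
    obtain ⟨m, a, ha⟩ := exists_fst_eq G (nonZeroDivisors R) (cst GK c * t)
    have ha' : φ a = Polynomial.C (m : R) * Polynomial.X := hφ_eq _ _ (ha.trans (by
      rw [Polynomial.map_mul, Polynomial.map_C, Polynomial.map_X, map_mul, ev_C, ev_X]
      congr 1
      exact cst_pullback (algebraMap R K) G m))
    have hm : algebraMap R K m ≠ 0 := IsFractionRing.to_map_ne_zero_of_mem_nonZeroDivisors m.2
    have h1 : cst ZK (algebraMap R K m) * (cst ZK c * J.left.appTop t) = cst ZK (algebraMap R K m) * y := by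
      rw [← cst_comp J, ← cst_comp J, ← map_mul, ← map_mul]
      refine (congrArg _ ?_).trans ((hJ a).trans ?_)
      · exact (congrArg (fun z => z * (cst GK c * t))
          (cst_pullback (algebraMap R K) G m)).symm.trans ha.symm
      · rw [ha', Polynomial.map_mul, Polynomial.map_C, Polynomial.map_X, map_mul, ev_C, ev_X, cst_comp J]
    have h2 := congrArg (fun z => cst ZK ((algebraMap R K m)⁻¹ * c⁻¹) * z) h1
    simp only [← _root_.mul_assoc, ← map_mul] at h2
    rw [show (algebraMap R K m)⁻¹ * c⁻¹ * algebraMap R K m * c = 1 by field_simp,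
      show (algebraMap R K m)⁻¹ * c⁻¹ * algebraMap R K m = c⁻¹ by field_simp, map_one,
      _root_.one_mul] at h2
    exact h2
  haveI := flat_Ga (R := R)
  haveI : Flat G.hom := inferInstance
  haveI : IsAffineHom G.hom := isAffineHom_of_isAffine _
  haveI := Groth.NeronArea.isSchemeTheoreticallyDominant_specMap (algebraMap R K)
    (IsFractionRing.injective R K)
  exact isMonHom_of_coordinate (algebraMap R K) j e.hom x₀
    (fun {Y} a b => add_of_isMonHom Ga (𝟙 Ga) a b) c⁻¹ hJt

end Groth.NeronArea.GaOpen
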