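import Groth.Agent.NeronArea.SmoothLocusNMP
import Groth.Agent.Ega4Algebra2.NormalRingBasic
import Mathlib.AlgebraicGeometry.Normalization
import Mathlib.RingTheory.Localization.BaseChange

/-!
# Extension from the generic fibre into integral schemes
-/

set_option autoImplicit false
set_option backward.isDefEq.respectTransparency false

universe u

open CategoryTheory CategoryTheory.Limits AlgebraicGeometry TopologicalSpace

namespace Groth.NeronArea

variable (R : Type u) [CommRing R] [IsDomain R]

/-- A normal flat scheme over a domain is integrally closed in its generic fibre. -/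
theorem isIso_fromNormalization_genericFibre {Y : Scheme.{u}} (p : Y ⟶ Spec (CommRingCat.of R)) [Flat p]
    (hY : Pi1.IsNormalScheme Y) : IsIso (pullback.fst p (Neron.genPt R)).fromNormalization := by
  set q := pullback.fst p (Neron.genPt R)
  refine (IsZariskiLocalAtTarget.iff_of_iSup_eq_top (P := MorphismProperty.isomorphisms Scheme.{u}) _
    (iSup_affineOpens_eq_top Y)).mpr fun U => ?_
  show IsIso (q.fromNormalization ∣_ U.1)
  have : IsAffine (U.1 : Scheme.{u}) := U.2
  have : IsAffine (q.fromNormalization ⁻¹ᵁ U.1 : Scheme.{u}) := U.2.preimage _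
  have hbij : IsIso (q.fromNormalization.app U.1) := by
    let := (q.app U.1).hom.toAlgebra
    rw [Scheme.Hom.fromNormalization_app q U.2]
    have hb : Function.Bijective (algebraMap Γ(Y, U.1) (integralClosure Γ(Y, U.1) Γ(pullback p (Neron.genPt R), q ⁻¹ᵁ U.1))) := by
      refine ⟨fun a b h => q.app_injective U.1 (congrArg Subtype.val h), fun x => ?_⟩
      -- the generic fibre of an affine open is a localisation
      let V : (Spec (CommRingCat.of R)).Opens := ⊤
      let W : (Spec (CommRingCat.of (FractionRing R))).Opens := ⊤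
      have hV : IsAffineOpen V := isAffineOpen_top _
      have hW : IsAffineOpen W := isAffineOpen_top _
      have eU : U.1 ≤ p ⁻¹ᵁ V := le_top
      have eW : W ≤ Neron.genPt R ⁻¹ᵁ V := le_top
      have hq : q ⁻¹ᵁ U.1 = q ⁻¹ᵁ U.1 ⊓ pullback.snd p (Neron.genPt R) ⁻¹ᵁ W := by simp [W]
      have hpo := (isIso_pushoutSection_iff (IsPullback.of_hasPullback p (Neron.genPt R)) eW eU hq).mp
        (isIso_pushoutSection_of_isAffineOpen (IsPullback.of_hasPullback p (Neron.genPt R)) eW eU hq hV hW U.2)
      let A := Γ(Spec (CommRingCat.of R), V)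
      let K := Γ(Spec (CommRingCat.of (FractionRing R)), W)
      let B := Γ(Y, U.1)
      let C := Γ(pullback p (Neron.genPt R), q ⁻¹ᵁ U.1)
      let eA : CommRingCat.of R ≅ A := (Scheme.ΓSpecIso (CommRingCat.of R)).symm
      let eK : CommRingCat.of (FractionRing R) ≅ K := (Scheme.ΓSpecIso (CommRingCat.of (FractionRing R))).symm
      let f₁ : CommRingCat.of R ⟶ B := eA.hom ≫ p.appLE V U.1 eU
      let g₁ : CommRingCat.of (FractionRing R) ⟶ C :=
        eK.hom ≫ (pullback.snd p (Neron.genPt R)).appLE W (q ⁻¹ᵁ U.1) (hq.le.trans inf_le_right)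
      have hpo' : IsPushout f₁ (CommRingCat.ofHom (algebraMap R (FractionRing R)))
          (q.appLE U.1 (q ⁻¹ᵁ U.1) le_rfl) g₁ := by
        refine hpo.of_iso eA.symm (Iso.refl _) eK.symm (Iso.refl _) ?_ ?_ ?_ ?_ <;> [skip; skip; (simp only [Iso.refl_hom, Category.comp_id, Category.id_comp]; rfl); skip]
        · simp [f₁]
        · show (Neron.genPt R).appLE V W eW ≫ eK.inv = eA.inv ≫ _
          simp [eA, eK, Scheme.Hom.appLE, V, W, Neron.genPt]
        · simp [g₁]
      algebraize [f₁.hom, g₁.hom, (algebraMap B C).comp f₁.hom]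
      have : IsScalarTower R B C := IsScalarTower.of_algebraMap_eq fun _ => rfl
      have : IsScalarTower R (FractionRing R) C := IsScalarTower.of_algebraMap_eq fun r => by
        have := congr($(hpo'.w) r)
        exact (congrArg (fun φ : B ⟶ C => φ.hom (f₁ r)) (q.app_eq_appLE)).trans this
      have hBC : (q.appLE U.1 (q ⁻¹ᵁ U.1) le_rfl).hom = algebraMap B C := by
        rw [← Scheme.Hom.app_eq_appLE]; rfl
      have : Algebra.IsPushout R B (FractionRing R) C := by
        rw [← CommRingCat.isPushout_iff_isPushout]
        have e : CommRingCat.ofHom (algebraMap B C) = q.appLE U.1 (q ⁻¹ᵁ U.1) le_rfl :=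
          CommRingCat.hom_ext hBC.symm
        rw [← e] at hpo'
        exact hpo' 
      have : IsLocalization (Algebra.algebraMapSubmonoid B (nonZeroDivisors R)) C :=
        (Algebra.isLocalization_iff_isPushout (nonZeroDivisors R) (A := FractionRing R)).mpr ‹_›
      have hB : EGA4.IsNormalRing B := fun P _ => by
        let y : U.1 := ⟨U.2.fromSpec ⟨P, inferInstance⟩, U.2.range_fromSpec.le ⟨_, rfl⟩⟩
        let := TopCat.Presheaf.algebra_section_stalk Y.presheaf y
        have := U.2.isLocalization_stalk' ⟨P, inferInstance⟩ y.2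
        let e := (IsLocalization.algEquiv P.primeCompl (Y.presheaf.stalk y.1)
          (Localization.AtPrime P)).toRingEquiv
        exact ⟨e.toMulEquiv.isDomain_iff.mp (hY y.1).1, @IsIntegrallyClosed.of_equiv _ _ _ _ e (hY y.1).2⟩
      have hM : Algebra.algebraMapSubmonoid B (nonZeroDivisors R) ≤ nonZeroDivisors B := by
        have hf : Module.Flat R B := by
          rw [← RingHom.flat_algebraMap_iff]
          exact RingHom.Flat.comp (RingHom.Flat.of_bijective (ConcreteCategory.bijective_of_isIso eA.hom))
            (p.flat_appLE hV U.2 eU)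
        rintro _ ⟨r, hr, rfl⟩
        rw [mem_nonZeroDivisors_iff_right]
        intro b hb
        apply (Module.Flat.isSMulRegular_of_nonZeroDivisors hr : IsSMulRegular B r)
        show r • b = r • 0
        rw [smul_zero, Algebra.smul_def, mul_comm]
        exact hb
      obtain ⟨b, hb⟩ := Groth.Ega4b.mem_range_of_isIntegral_of_isNormalRing hB _ hM C x.2
      exact ⟨b, Subtype.ext hb⟩
    have : IsIso (CommRingCat.ofHom (algebraMap Γ(Y, U.1)
        (integralClosure Γ(Y, U.1) Γ(pullback p (Neron.genPt R), q ⁻¹ᵁ U.1)))) :=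
      (ConcreteCategory.isIso_iff_bijective _).mpr hb
    infer_instance
  exact (isIso_morphismRestrict_iff_isIso_app _ U.2).mpr hbij

/-- Morphisms from the generic fibre of a normal flat scheme into an integral scheme extend. -/
theorem exists_extension_generic {Y T : Scheme.{u}} (p : Y ⟶ Spec (CommRingCat.of R)) [Flat p]
    (hY : Pi1.IsNormalScheme Y) (π : T ⟶ Spec (CommRingCat.of R)) [IsIntegralHom π]
    (φ : pullback p (Neron.genPt R) ⟶ T) (hφ : φ ≫ π = pullback.fst p (Neron.genPt R) ≫ p) :
    ∃ f : Y ⟶ T, pullback.fst p (Neron.genPt R) ≫ f = φ ∧ f ≫ π = p := by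
  set q := pullback.fst p (Neron.genPt R)
  have := isIso_fromNormalization_genericFibre R p hY
  let d := q.normalizationDesc (pullback.lift φ q hφ) (pullback.snd π p) (pullback.lift_snd _ _ _).symm
  refine ⟨inv q.fromNormalization ≫ d ≫ pullback.fst π p, ?_, ?_⟩
  · have h : q ≫ inv q.fromNormalization = q.toNormalization := by
      rw [IsIso.comp_inv_eq, q.toNormalization_fromNormalization]
    rw [reassoc_of% h, q.toNormalization_normalizationDesc_assoc, pullback.lift_fst]
  · rw [Category.assoc, Category.assoc, pullback.condition, q.normalizationDesc_comp_assoc,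
      IsIso.inv_hom_id_assoc]

end Groth.NeronArea
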