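import Mathlib.Algebra.Polynomial.Laurent
import Groth.Agent.NeronArea.GaCoord

/-! The multiplicative group as the spectrum of Laurent polynomials. -/

set_option autoImplicit false
set_option linter.style.haveILetI false

universe u

open CategoryTheory CategoryTheory.Limits MonoidalCategory CartesianMonoidalCategory MonObj GrpObj
  AlgebraicGeometry Groth.Reductive

open scoped CategoryTheory.Obj LaurentPolynomial

namespace Groth.NeronArea.GmCoord

open Groth.NeronArea.GaCoord

variable {R : Type u} [CommRing R]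

/-- Evaluation of a Laurent polynomial at an invertible function. -/
noncomputable def evM (X : Over (Spec (CommRingCat.of R))) (u : Γ(X.left, ⊤)ˣ) :
    R[T;T⁻¹] →+* Γ(X.left, ⊤) :=
  LaurentPolynomial.eval₂ (cst X) u

theorem evM_C (X : Over (Spec (CommRingCat.of R))) (u : Γ(X.left, ⊤)ˣ) (r : R) :
    evM X u (LaurentPolynomial.C r) = cst X r :=
  LaurentPolynomial.eval₂_C _ _ _

theorem evM_T (X : Over (Spec (CommRingCat.of R))) (u : Γ(X.left, ⊤)ˣ) :
    evM X u (LaurentPolynomial.T 1) = u := by
  simp [evM]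

theorem evM_toLaurent (X : Over (Spec (CommRingCat.of R))) (u : Γ(X.left, ⊤)ˣ) (P : Polynomial R) :
    evM X u (Polynomial.toLaurent P) = ev X u P :=
  LaurentPolynomial.eval₂_toLaurent _ _ _

theorem laurentHom_ext {S : Type u} [CommRing S] {f g : R[T;T⁻¹] →+* S}
    (hC : ∀ r, f (LaurentPolynomial.C r) = g (LaurentPolynomial.C r))
    (hT : f (LaurentPolynomial.T 1) = g (LaurentPolynomial.T 1)) : f = g := by
  refine IsLocalization.ringHom_ext (Submonoid.powers (Polynomial.X : Polynomial R))
    (Polynomial.ringHom_ext (fun r => ?_) ?_)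
  · simpa [LaurentPolynomial.algebraMap_eq_toLaurent] using hC r
  · simpa [LaurentPolynomial.algebraMap_eq_toLaurent] using hT

theorem comp_evM {X Y : Over (Spec (CommRingCat.of R))} (g : X ⟶ Y) (u : Γ(Y.left, ⊤)ˣ)
    (v : Γ(X.left, ⊤)ˣ) (huv : g.left.appTop (u : Γ(Y.left, ⊤)) = v) (P : R[T;T⁻¹]) :
    g.left.appTop (evM Y u P) = evM X v P := by
  refine RingHom.congr_fun (f := g.left.appTop.hom.comp (evM Y u)) (laurentHom_ext (fun r => ?_) ?_) P
  · show g.left.appTop (evM Y u _) = _
    rw [evM_C, evM_C, cst_comp]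
  · show g.left.appTop (evM Y u _) = _
    rw [evM_T, evM_T, huv]

variable (R) in
/-- The punctured line as the spectrum of the Laurent polynomial ring. -/
noncomputable abbrev lineM : Over (Spec (CommRingCat.of R)) :=
  Over.mk (Spec.map (CommRingCat.ofHom (LaurentPolynomial.C : R →+* R[T;T⁻¹])))

variable (R) in
/-- The coordinate of the punctured line. -/
noncomputable def lineT : Γ((lineM R).left, ⊤)ˣ :=
  Units.map (Scheme.ΓSpecIso (CommRingCat.of R[T;T⁻¹])).inv.hom.toMonoidHom
    (LaurentPolynomial.isUnit_T (R := R) 1).unit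

theorem evM_lineM (P : R[T;T⁻¹]) :
    evM (lineM R) (lineT R) P = (Scheme.ΓSpecIso (CommRingCat.of R[T;T⁻¹])).inv P := by
  refine RingHom.congr_fun (laurentHom_ext
    (g := (Scheme.ΓSpecIso (CommRingCat.of R[T;T⁻¹])).inv.hom) (fun r => ?_) ?_) P
  · rw [evM_C]
    show (Spec.map _).appTop ((Scheme.ΓSpecIso (CommRingCat.of R)).inv r) = _
    rw [← CommRingCat.comp_apply, ← Scheme.ΓSpecIso_inv_naturality, CommRingCat.comp_apply]
    rfl
  · rw [evM_T]
    rfl

/-- The morphism to the punctured line given by an invertible function. -/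
noncomputable def toLineM (X : Over (Spec (CommRingCat.of R))) (u : Γ(X.left, ⊤)ˣ) : X ⟶ lineM R :=
  Over.homMk (X.left.toSpecΓ ≫ Spec.map (CommRingCat.ofHom (evM X u))) (by
    refine hom_ext_Spec _ _ fun r => ?_
    rw [Scheme.Hom.comp_appTop, CommRingCat.comp_apply]
    show (X.left.toSpecΓ ≫ Spec.map (CommRingCat.ofHom (evM X u))).appTop
      ((Spec.map (CommRingCat.ofHom (LaurentPolynomial.C : R →+* R[T;T⁻¹]))).appTop
        ((Scheme.ΓSpecIso (CommRingCat.of R)).inv r)) = cst X r
    rw [← CommRingCat.comp_apply (Scheme.ΓSpecIso (CommRingCat.of R)).inv,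
      ← Scheme.ΓSpecIso_inv_naturality, CommRingCat.comp_apply]
    exact (toSpecΓ_specMap_appTop _ _ _).trans (evM_C X u r))

theorem toLineM_appTop (X : Over (Spec (CommRingCat.of R))) (u : Γ(X.left, ⊤)ˣ) :
    (toLineM X u).left.appTop (lineT R : Γ((lineM R).left, ⊤)) = u :=
  (toSpecΓ_specMap_appTop _ _ _).trans (evM_T X u)

variable (R) in
/-- The coordinate of the multiplicative group. -/
noncomputable def gmT : Γ((Red.Gm (Spec (CommRingCat.of R))).left, ⊤)ˣ :=
  (isUnit_gmFn (𝟙 (Red.Gm (Spec (CommRingCat.of R))))).unit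

variable (R) in
/-- The multiplicative group is the spectrum of Laurent polynomials. -/
noncomputable def gmLine : Red.Gm (Spec (CommRingCat.of R)) ≅ lineM R where
  hom := toLineM _ (gmT R)
  inv := gmMk (lineM R) (lineT R)
  hom_inv_id := by
    apply gmFn_injective
    rw [Groth.Reductive.gmFn_comp, gmFn_gmMk, toLineM_appTop]
    rfl
  inv_hom_id := by
    apply Over.OverMorphism.ext
    refine hom_ext_Spec _ _ fun P => ?_
    rw [← evM_lineM P, Over.comp_left, Scheme.Hom.comp_appTop, CommRingCat.comp_apply,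
      comp_evM _ _ _ (toLineM_appTop _ _), comp_evM _ _ (lineT R) (by
        rw [show (gmT R : Γ((Red.Gm (Spec (CommRingCat.of R))).left, ⊤)) = Red.gmFn (𝟙 _) from rfl,
          ← Groth.Reductive.gmFn_comp, Category.comp_id, gmFn_gmMk])]
    exact (comp_evM (𝟙 (lineM R)) (lineT R) (lineT R) (by rfl) P).symm.trans (by rfl)

/-- The functions on an object isomorphic to the multiplicative group are Laurent polynomials in
its coordinate. -/
theorem bijective_evM_of_iso {X : Over (Spec (CommRingCat.of R))}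
    (e : X ≅ Red.Gm (Spec (CommRingCat.of R))) :
    Function.Bijective (evM X (isUnit_gmFn e.hom).unit) := by
  let f := (e ≪≫ gmLine R).hom
  haveI : IsIso f.left := inferInstanceAs (IsIso ((Over.forget _).map f))
  haveI : IsIso f.left.appTop := inferInstanceAs (IsIso (Scheme.Γ.map f.left.op))
  have hf : ∀ P, evM X (isUnit_gmFn e.hom).unit P =
      f.left.appTop ((Scheme.ΓSpecIso (CommRingCat.of R[T;T⁻¹])).inv P) := fun P => by
    rw [← evM_lineM P]
    refine (comp_evM f (lineT R) _ ?_ P).symm
    show (e.hom ≫ toLineM _ (gmT R)).left.appTop _ = _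
    rw [Over.comp_left, Scheme.Hom.comp_appTop, CommRingCat.comp_apply, toLineM_appTop, IsUnit.unit_spec]
    show e.hom.left.appTop (Red.gmFn (𝟙 _)) = _
    rw [← Groth.Reductive.gmFn_comp, Category.comp_id]
  have h : Function.Bijective (fun P => f.left.appTop ((Scheme.ΓSpecIso (CommRingCat.of R[T;T⁻¹])).inv P)) :=
    (ConcreteCategory.bijective_of_isIso f.left.appTop).comp
      (ConcreteCategory.bijective_of_isIso (Scheme.ΓSpecIso (CommRingCat.of R[T;T⁻¹])).inv)
  rwa [← funext hf] at h

theorem flat_Gm : Flat (Red.Gm (Spec (CommRingCat.of R))).hom := by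
  haveI : Flat (lineM R).hom := (HasRingHomProperty.Spec_iff (P := @Flat)).2 (by
    haveI h : Module.Flat R R[T;T⁻¹] := inferInstance
    exact (RingHom.flat_algebraMap_iff.2 h : (algebraMap R R[T;T⁻¹]).Flat))
  haveI : IsIso (gmLine R).hom.left :=
    inferInstanceAs (IsIso ((Over.forget _).map (gmLine R).hom))
  rw [← Over.w (gmLine R).hom]
  infer_instance

/-- Mapping coefficients of Laurent polynomials. -/
noncomputable def mapL {R' : Type u} [CommRing R'] (g : R →+* R') : R[T;T⁻¹] →+* R'[T;T⁻¹] :=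
  LaurentPolynomial.eval₂ (LaurentPolynomial.C.comp g)
    (LaurentPolynomial.isUnit_T (R := R') 1).unit

theorem mapL_C {R' : Type u} [CommRing R'] (g : R →+* R') (r : R) :
    mapL g (LaurentPolynomial.C r) = LaurentPolynomial.C (g r) :=
  LaurentPolynomial.eval₂_C _ _ _

theorem mapL_T {R' : Type u} [CommRing R'] (g : R →+* R') :
    mapL g (LaurentPolynomial.T 1) = LaurentPolynomial.T 1 := by
  simp [mapL]

theorem mapL_toLaurent {R' : Type u} [CommRing R'] (g : R →+* R') (P : Polynomial R) :
    mapL g (Polynomial.toLaurent P) = Polynomial.toLaurent (P.map g) := by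
  refine RingHom.congr_fun (f := (mapL g).comp (Polynomial.toLaurent : Polynomial R →+* R[T;T⁻¹]))
    (g := (Polynomial.toLaurent : Polynomial R' →+* R'[T;T⁻¹]).comp (Polynomial.mapRingHom g))
    (Polynomial.ringHom_ext (fun r => ?_) ?_) P
  · simp [mapL]
  · simp [mapL]

theorem evM_pullback {R' : Type u} [CommRing R'] (g : R →+* R')
    (G : Over (Spec (CommRingCat.of R))) (u : Γ(G.left, ⊤)ˣ)
    (v : Γ((Red.bc (Spec.map (CommRingCat.ofHom g)) G).left, ⊤)ˣ)
    (huv : (pullback.fst G.hom (Spec.map (CommRingCat.ofHom g))).appTop (u : Γ(G.left, ⊤)) =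
      (v : Γ((Red.bc (Spec.map (CommRingCat.ofHom g)) G).left, ⊤)))
    (P : R[T;T⁻¹]) :
    (pullback.fst G.hom (Spec.map (CommRingCat.ofHom g))).appTop (evM G u P) =
      evM (Red.bc (Spec.map (CommRingCat.ofHom g)) G) v (mapL g P) := by
  let f := Spec.map (CommRingCat.ofHom g)
  refine RingHom.congr_fun (f := ((pullback.fst G.hom f).appTop.hom.comp (evM G u)))
    (g := (evM (Red.bc f G) v).comp (mapL g)) (laurentHom_ext (fun r => ?_) ?_) P
  · simp only [RingHom.comp_apply, evM_C, mapL_C]
    show (pullback.fst G.hom f).appTop (G.hom.appTop _) = (pullback.snd G.hom f).appTop _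
    rw [← CommRingCat.comp_apply, ← Scheme.Hom.comp_appTop, pullback.condition, Scheme.Hom.comp_appTop,
      CommRingCat.comp_apply, ← CommRingCat.comp_apply (Scheme.ΓSpecIso (CommRingCat.of R)).inv,
      ← Scheme.ΓSpecIso_inv_naturality, CommRingCat.comp_apply]
    rfl
  · simp only [RingHom.comp_apply, evM_T, mapL_T]
    exact huv

end Groth.NeronArea.GmCoord
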