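import Mathlib.Algebra.Polynomial.Laurent
import Groth.Agent.LocImm.Birational
import Groth.Agent.NeronArea.GaFactor
import Groth.Agent.NeronArea.GmCoord

/-! Coordinates of rings sandwiched in a Laurent polynomial ring over a discrete valuation ring. -/

set_option autoImplicit false
set_option linter.style.haveILetI false

universe u

open CategoryTheory CategoryTheory.Limits AlgebraicGeometry Polynomial

open scoped LaurentPolynomial

namespace Groth.NeronArea.GmFactor

open Groth.NeronArea.GmCoord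

variable {R : Type u} [CommRing R] [IsDomain R] [IsDiscreteValuationRing R]

/-- A ring whose generic fibre is a Laurent polynomial ring lands in the integral Laurent polynomial
ring, provided the coordinate reduces to a transcendental fraction. -/
theorem exists_factor {K : Type u} [Field K] [Algebra R K] [IsFractionRing R K] {A B : Type u}
    [CommRing A] [CommRing B] [IsDomain B]
    (cA : R →+* A) (cK : K →+* B) (i : A →+* B) (hcomp : ∀ r, i (cA r) = cK (algebraMap R K r))
    (s : Bˣ) (hs : Function.Bijective (LaurentPolynomial.eval₂ cK s))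
    {F : Type u} [Field F] (θ : A →+* F) (cF : IsLocalRing.ResidueField R →+* F)
    (hθc : ∀ r, θ (cA r) = cF (IsLocalRing.residue R r))
    (x u : A) (hxu : i x = i u * s) (hi : Function.Injective i) (hx : θ x ≠ 0) (hu : θ u ≠ 0)
    (htr : Function.Injective (eval₂RingHom cF (θ x / θ u))) :
    ∃ φ : A →+* R[T;T⁻¹], ∀ a, i a = LaurentPolynomial.eval₂ cK s (mapL (algebraMap R K) (φ a)) := by
  let ψ : R[X] →+* B := eval₂RingHom (cK.comp (algebraMap R K)) (s : B)
  have hψ : ∀ P, ψ P = LaurentPolynomial.eval₂ cK s (mapL (algebraMap R K) (toLaurent P)) := fun P => by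
    rw [mapL_toLaurent, LaurentPolynomial.eval₂_toLaurent]
    exact (eval₂_map (algebraMap R K) cK (s : B)).symm
  have hom : ∀ P : R[X], ∃ (D : ℕ) (h : A), i h = i u ^ D * ψ P ∧
      θ h = θ u ^ D * eval₂RingHom cF (θ x / θ u) (P.map (IsLocalRing.residue R)) := by
    intro P
    induction P using Polynomial.induction_on' with
    | add P Q hP hQ =>
      obtain ⟨D, h, h1, h2⟩ := hP
      obtain ⟨E, g, g1, g2⟩ := hQ
      refine ⟨D + E, h * u ^ E + g * u ^ D, ?_, ?_⟩
      · rw [map_add, map_mul, map_mul, map_pow, map_pow, h1, g1, map_add, pow_add]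
        ring
      · rw [map_add, map_mul, map_mul, map_pow, map_pow, h2, g2, Polynomial.map_add, map_add, pow_add]
        ring
    | monomial n r =>
      refine ⟨n, cA r * x ^ n, ?_, ?_⟩
      · rw [map_mul, map_pow, hxu, hcomp, show ψ (monomial n r) = _ from eval₂_monomial _ _]
        simp only [RingHom.comp_apply]
        ring
      · rw [map_mul, map_pow, hθc, Polynomial.map_monomial, coe_eval₂RingHom, eval₂_monomial, div_pow]
        field_simp
  obtain ⟨π, hπ⟩ := IsDiscreteValuationRing.exists_irreducible R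
  have hres : IsLocalRing.residue R π = 0 := (IsLocalRing.residue_eq_zero_iff π).2
    (by rw [hπ.maximalIdeal_eq]; exact Ideal.mem_span_singleton_self π)
  have hπ0 : cK (algebraMap R K π) ≠ 0 := (map_ne_zero_iff _ cK.injective).2
    ((map_ne_zero_iff _ (IsFractionRing.injective R K)).2 hπ.ne_zero)
  have key : ∀ (N M : ℕ) (a : A), (∃ P, ψ P = cK (algebraMap R K π) ^ N * i a * (s : B) ^ M) →
      ∃ P, ψ P = i a * (s : B) ^ M := by
    intro N M
    induction N with
    | zero => intro a ⟨P, hP⟩; exact ⟨P, by rw [hP, pow_zero, one_mul]⟩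
    | succ N ih =>
      intro a ⟨P, hP⟩
      refine ih a ?_
      obtain ⟨D, h, h1, h2⟩ := hom P
      have hh : h * u ^ M = u ^ D * cA π ^ (N + 1) * a * x ^ M := hi (by
        rw [map_mul, map_mul, map_mul, map_mul, map_pow, map_pow, map_pow, map_pow, hcomp, h1, hP, hxu]
        ring)
      have h0 : P.map (IsLocalRing.residue R) = 0 := by
        refine htr (mul_left_cancel₀ (pow_ne_zero D hu) (mul_right_cancel₀ (pow_ne_zero M hu) ?_))
        rw [← h2, ← map_pow θ u M, ← map_mul, hh, map_mul, map_mul, map_mul, map_pow, map_pow, hθc,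
          hres, map_zero, zero_pow N.succ_ne_zero, mul_zero, zero_mul, zero_mul, map_zero, mul_zero,
          zero_mul]
      obtain ⟨P', rfl⟩ : C π ∣ P := by
        rw [C_dvd_iff_dvd_coeff]
        intro j
        rw [← Ideal.mem_span_singleton, ← hπ.maximalIdeal_eq, ← IsLocalRing.residue_eq_zero_iff,
          ← coeff_map, h0, coeff_zero]
      refine ⟨P', mul_left_cancel₀ hπ0 ?_⟩
      rw [map_mul, show ψ (C π) = _ from eval₂_C _ _, RingHom.comp_apply] at hP
      rw [hP]
      ring
  have hex : ∀ a, ∃ P : R[T;T⁻¹], LaurentPolynomial.eval₂ cK s (mapL (algebraMap R K) P) = i a := fun a => by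
    obtain ⟨Q, hQ⟩ := hs.2 (i a)
    obtain ⟨M, Q₀, hQ₀⟩ := LaurentPolynomial.exists_T_pow Q
    have hQs : Polynomial.eval₂ cK (s : B) Q₀ = i a * (s : B) ^ M := by
      rw [← LaurentPolynomial.eval₂_toLaurent cK s, hQ₀, map_mul, hQ, LaurentPolynomial.eval₂_T_n]
    obtain ⟨d, hd, hdP⟩ := IsLocalization.integerNormalization_spec (nonZeroDivisors R) Q₀
    obtain ⟨N, w, rfl⟩ :=
      IsDiscreteValuationRing.eq_unit_mul_pow_irreducible (nonZeroDivisors.ne_zero hd) hπ
    obtain ⟨P, hP⟩ := key N M a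
      ⟨C ((w⁻¹ : Rˣ) : R) * IsLocalization.integerNormalization (nonZeroDivisors R) Q₀, by
        show Polynomial.eval₂ (cK.comp (algebraMap R K)) (s : B) _ = _
        rw [← eval₂_map (algebraMap R K) cK, Polynomial.map_mul, hdP,
          ← IsScalarTower.algebraMap_smul K, smul_eq_C_mul, Polynomial.map_C,
          ← mul_assoc, ← C_mul, ← map_mul, ← mul_assoc, Units.inv_mul, one_mul, eval₂_mul, eval₂_C,
          hQs, map_pow, map_pow, mul_assoc]⟩
    refine ⟨toLaurent P * LaurentPolynomial.T (-(M : ℤ)), ?_⟩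
    have hT : mapL (algebraMap R K) (LaurentPolynomial.T (-(M : ℤ))) = LaurentPolynomial.T (-(M : ℤ)) := by
      have h1 : mapL (algebraMap R K) (LaurentPolynomial.T (M : ℤ)) = LaurentPolynomial.T (M : ℤ) := by
        rw [← toLaurent_X_pow, mapL_toLaurent, Polynomial.map_pow, Polynomial.map_X, toLaurent_X_pow]
      refine (LaurentPolynomial.isUnit_T (R := K) (M : ℤ)).mul_left_cancel ?_
      conv_lhs => rw [← h1]
      rw [← map_mul, ← LaurentPolynomial.T_add, ← LaurentPolynomial.T_add, add_neg_cancel,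
        LaurentPolynomial.T_zero, LaurentPolynomial.T_zero, map_one]
    rw [map_mul, map_mul, ← hψ, hP, hT, LaurentPolynomial.eval₂_T_neg_n, mul_assoc, ← mul_pow,
      Units.mul_inv, one_pow, mul_one]
  have hinj : Function.Injective
      fun P : R[T;T⁻¹] => LaurentPolynomial.eval₂ cK s (mapL (algebraMap R K) P) := by
    refine hs.1.comp ((injective_iff_map_eq_zero _).2 fun P hP => ?_)
    obtain ⟨M, P₀, hP₀⟩ := LaurentPolynomial.exists_T_pow P
    have h1 := congrArg (mapL (algebraMap R K)) hP₀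
    rw [map_mul, hP, zero_mul, mapL_toLaurent, toLaurent_eq_zero,
      Polynomial.map_eq_zero_iff (IsFractionRing.injective R K)] at h1
    rw [h1, map_zero] at hP₀
    exact (LaurentPolynomial.isUnit_T (M : ℤ)).mul_left_eq_zero.1 hP₀.symm
  choose φ hφ using hex
  refine ⟨{ toFun := φ
            map_one' := hinj (by simp only [hφ, map_one])
            map_zero' := hinj (by simp only [hφ, map_zero])
            map_add' := fun a b => hinj (by simp only [hφ, map_add])
            map_mul' := fun a b => hinj (by simp only [hφ, map_mul]) }, fun a => (hφ a).symm⟩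

/-- Ring maps to the Laurent polynomial ring, iso on the generic fibre and non-constant on the
special one, define quasi-finite morphisms. -/
theorem finite_preimage [IsAlgClosed (IsLocalRing.ResidueField R)] {A : Type u} [CommRing A]
    (cA : R →+* A) (φ : A →+* R[T;T⁻¹]) (hC : ∀ r, φ (cA r) = LaurentPolynomial.C r)
    (hgen : ∀ P, ∃ d : R, d ≠ 0 ∧ ∃ a, φ a = LaurentPolynomial.C d * P)
    (a₀ : A) (ha₀ : ∀ c, mapL (IsLocalRing.residue R) (φ a₀) ≠ LaurentPolynomial.C c)
    (q : PrimeSpectrum A) : ((PrimeSpectrum.comap φ) ⁻¹' {q}).Finite := by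
  classical
  obtain ⟨π, hπ⟩ := IsDiscreteValuationRing.exists_irreducible R
  let k := IsLocalRing.ResidueField R
  let M : R[X] →+* k[X] := Polynomial.mapRingHom (IsLocalRing.residue R)
  let evl : k → (R[X] →+* k) := fun l => eval₂RingHom (IsLocalRing.residue R) l
  have hM : Function.Surjective M := Polynomial.map_surjective _ IsLocalRing.residue_surjective
  obtain ⟨N, P₀, hP₀⟩ := LaurentPolynomial.exists_T_pow (φ a₀)
  let h : k[X] := P₀.map (IsLocalRing.residue R)
  have hne : ∀ c : k, h - C c * X ^ N ≠ 0 := fun c hc => ha₀ c (by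
    have h1 := congrArg (mapL (IsLocalRing.residue R)) hP₀
    rw [mapL_toLaurent, show P₀.map (IsLocalRing.residue R) = C c * X ^ N from sub_eq_zero.1 hc,
      map_mul (mapL (IsLocalRing.residue R)), ← toLaurent_X_pow, mapL_toLaurent, Polynomial.map_pow,
      Polynomial.map_X, map_mul, toLaurent_C] at h1
    rw [toLaurent_X_pow] at h1
    exact ((LaurentPolynomial.isUnit_T (R := k) (N : ℤ)).mul_right_cancel h1).symm)
  let ρ : PrimeSpectrum R[T;T⁻¹] → PrimeSpectrum R[X] :=
    PrimeSpectrum.comap (Polynomial.toLaurent : R[X] →+* R[T;T⁻¹])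
  have hρ : Function.Injective ρ :=
    PrimeSpectrum.localization_comap_injective (S := R[T;T⁻¹]) (Submonoid.powers (X : R[X]))
  let S : Set (PrimeSpectrum R[T;T⁻¹]) := (PrimeSpectrum.comap φ) ⁻¹' {q}
  have hS1 : (S ∩ {P | LaurentPolynomial.C π ∉ P.asIdeal}).Subsingleton := by
    suffices hle : ∀ P ∈ S ∩ {P | LaurentPolynomial.C π ∉ P.asIdeal},
        ∀ Q ∈ S ∩ {P | LaurentPolynomial.C π ∉ P.asIdeal}, P.asIdeal ≤ Q.asIdeal from fun P hP Q hQ =>
      PrimeSpectrum.ext (le_antisymm (hle P hP Q hQ) (hle Q hQ P hP))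
    intro P hP Q hQ p hp
    obtain ⟨d, hd, a, ha⟩ := hgen p
    have haP : a ∈ (PrimeSpectrum.comap φ P).asIdeal := by
      show φ a ∈ P.asIdeal
      rw [ha]
      exact Ideal.mul_mem_left _ _ hp
    rw [show PrimeSpectrum.comap φ P = PrimeSpectrum.comap φ Q from hP.1.trans hQ.1.symm] at haP
    have haQ : φ a ∈ Q.asIdeal := haP
    rw [ha] at haQ
    refine (Q.isPrime.mem_or_mem haQ).resolve_left fun hdQ => hQ.2 ?_
    obtain ⟨n, w, rfl⟩ := IsDiscreteValuationRing.eq_unit_mul_pow_irreducible hd hπ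
    rw [map_mul, map_pow] at hdQ
    refine Q.isPrime.mem_of_pow_mem n ((Q.isPrime.mem_or_mem hdQ).resolve_left fun hw => ?_)
    exact Q.isPrime.ne_top (Ideal.eq_top_of_isUnit_mem _ hw
      (w.isUnit.map (LaurentPolynomial.C : R →+* R[T;T⁻¹])))
  have hclass : ∀ P : PrimeSpectrum R[X], C π ∈ P.asIdeal →
      P.asIdeal = RingHom.ker M ∨ ∃ l, P.asIdeal = RingHom.ker (evl l) := by
    intro P hP
    have hker : RingHom.ker M ≤ P.asIdeal := fun p hp => by
      have h1 : C π ∣ p := by
        rw [C_dvd_iff_dvd_coeff]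
        intro j
        rw [← Ideal.mem_span_singleton, ← hπ.maximalIdeal_eq, ← IsLocalRing.residue_eq_zero_iff,
          ← coeff_map, show p.map (IsLocalRing.residue R) = 0 from hp, coeff_zero]
      exact P.asIdeal.mem_of_dvd h1 hP
    haveI := Ideal.map_isPrime_of_surjective hM hker
    have hcomap : (P.asIdeal.map M).comap M = P.asIdeal := by
      rw [Ideal.comap_map_of_surjective _ hM, ← RingHom.ker_eq_comap_bot, sup_eq_left.2 hker]
    by_cases h0 : P.asIdeal.map M = ⊥
    · left
      rw [← hcomap, h0, ← RingHom.ker_eq_comap_bot]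
    · right
      obtain ⟨g, hg⟩ := (IsPrincipalIdealRing.principal (P.asIdeal.map M)).principal
      have hg1 : ¬ IsUnit g := fun hu => Ideal.IsPrime.ne_top ‹_›
        (hg.trans (Ideal.span_singleton_eq_top.2 hu))
      have hg0 : g.degree ≠ 0 := fun hd => hg1 (Polynomial.isUnit_iff_degree_eq_zero.2 hd)
      obtain ⟨l, hl⟩ := IsAlgClosed.exists_root g hg0
      refine ⟨l, ?_⟩
      have h1 : P.asIdeal.map M = RingHom.ker (Polynomial.evalRingHom l) := by
        refine (Ideal.IsPrime.isMaximal ‹_› h0).eq_of_le (RingHom.ker_ne_top _) ?_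
        rw [hg, Ideal.submodule_span_eq, Ideal.span_singleton_le_iff_mem]
        exact hl
      rw [← hcomap, h1]
      ext p
      show (p.map (IsLocalRing.residue R)).eval l = 0 ↔ p.eval₂ (IsLocalRing.residue R) l = 0
      rw [Polynomial.eval_map]
  have hmemρ : ∀ (P : PrimeSpectrum R[T;T⁻¹]) (p : R[X]), p ∈ (ρ P).asIdeal ↔ toLaurent p ∈ P.asIdeal :=
    fun P p => Iff.rfl
  have hπρ : ∀ P : PrimeSpectrum R[T;T⁻¹], LaurentPolynomial.C π ∈ P.asIdeal → C π ∈ (ρ P).asIdeal :=
    fun P hP => by rw [hmemρ, toLaurent_C]; exact hP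
  have hl0 : ∀ (P : PrimeSpectrum R[T;T⁻¹]) (l : k), (ρ P).asIdeal = RingHom.ker (evl l) → l ≠ 0 := by
    rintro P l hPl rfl
    have h1 : X ∈ (ρ P).asIdeal := by
      rw [hPl, RingHom.mem_ker]
      exact eval₂_X _ _
    rw [hmemρ, toLaurent_X] at h1
    exact P.isPrime.ne_top (Ideal.eq_top_of_isUnit_mem _ h1 (LaurentPolynomial.isUnit_T 1))
  have hS2 : (ρ '' (S ∩ {P | LaurentPolynomial.C π ∈ P.asIdeal})).Finite := by
    by_cases hl : ∃ P ∈ S, ∃ l, (ρ P).asIdeal = RingHom.ker (evl l)
    · obtain ⟨P₁, hP₁, l₁, hl₁⟩ := hl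
      let c := h.eval l₁ / l₁ ^ N
      refine Set.Finite.subset (Set.Finite.preimage (fun P _ Q _ h => PrimeSpectrum.ext h)
        (((Polynomial.finite_setOfPred_isRoot (hne c)).image fun l => RingHom.ker (evl l)).insert
          (RingHom.ker M))) ?_
      rintro _ ⟨P, ⟨hP, hπP⟩, rfl⟩
      rcases hclass (ρ P) (hπρ P hπP) with hc | ⟨l, hc⟩
      · exact Or.inl hc
      refine Or.inr ⟨l, ?_, hc.symm⟩
      obtain ⟨mu, hmu⟩ := IsLocalRing.residue_surjective c
      have hmemN : ∀ P' : PrimeSpectrum R[T;T⁻¹],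
          a₀ - cA mu ∈ (PrimeSpectrum.comap φ P').asIdeal ↔ P₀ - C mu * X ^ N ∈ (ρ P').asIdeal := fun P' => by
        rw [hmemρ]
        show φ (a₀ - cA mu) ∈ P'.asIdeal ↔ _
        rw [map_sub φ, hC, map_sub, map_mul, toLaurent_C, toLaurent_X_pow, hP₀, ← sub_mul]
        exact (Ideal.unit_mul_mem_iff_mem _ (LaurentPolynomial.isUnit_T (N : ℤ))).symm.trans
          (by rw [mul_comm])
      have hev : ∀ l', evl l' (P₀ - C mu * X ^ N) = h.eval l' - c * l' ^ N := fun l' => by
        show eval₂ _ l' _ = _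
        rw [eval₂_sub, eval₂_mul, eval₂_C, eval₂_X_pow, hmu]
        show _ = (P₀.map (IsLocalRing.residue R)).eval l' - _
        rw [Polynomial.eval_map]
      have hmem : a₀ - cA mu ∈ (PrimeSpectrum.comap φ P₁).asIdeal := by
        rw [hmemN, hl₁, RingHom.mem_ker, hev,
          div_mul_cancel₀ _ (pow_ne_zero N (hl0 P₁ l₁ hl₁)), sub_self]
      rw [show PrimeSpectrum.comap φ P₁ = PrimeSpectrum.comap φ P from hP₁.trans hP.symm, hmemN,
        hc, RingHom.mem_ker, hev] at hmem
      show (h - C c * X ^ N).eval l = 0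
      rw [eval_sub, eval_mul, eval_C, eval_pow, eval_X]
      exact hmem
    · push Not at hl
      refine Set.Finite.subset (Set.Finite.preimage (fun P _ Q _ h => PrimeSpectrum.ext h)
        (Set.finite_singleton (RingHom.ker M))) ?_
      rintro _ ⟨P, ⟨hP, hπP⟩, rfl⟩
      exact (hclass (ρ P) (hπρ P hπP)).resolve_right fun ⟨l, hc⟩ => hl P hP l hc
  refine Set.Finite.subset (hS1.finite.union (hS2.of_finite_image hρ.injOn)) fun P hP => ?_
  by_cases hc : LaurentPolynomial.C π ∈ P.asIdeal
  · exact Or.inr ⟨hP, hc⟩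
  · exact Or.inl ⟨hP, hc⟩

/-- A quasi-finite map iso on the generic fibre from a domain of finite type to a normal domain
gives an open immersion. -/
theorem isOpenImmersion_specMap {A L : Type u} [CommRing A] [IsDomain A] [CommRing L] [IsDomain L]
    (hN : ∀ y : Spec (CommRingCat.of A), IsIntegrallyClosed ((Spec (CommRingCat.of A)).presheaf.stalk y))
    (cA : R →+* A) (cL : R →+* L) (hfin : cL.FiniteType) (hcL : Function.Injective cL)
    (φ : A →+* L) (hC : ∀ r, φ (cA r) = cL r) (hinj : Function.Injective φ)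
    (hgen : ∀ P, ∃ d : R, d ≠ 0 ∧ ∃ a, φ a = cL d * P)
    (hqf : ∀ q : PrimeSpectrum A, ((PrimeSpectrum.comap φ) ⁻¹' {q}).Finite) :
    IsOpenImmersion (Spec.map (CommRingCat.ofHom φ)) := by
  let f := Spec.map (CommRingCat.ofHom φ)
  haveI : IsDomain (CommRingCat.of A) := inferInstanceAs (IsDomain A)
  haveI : IsDomain (CommRingCat.of L) := inferInstanceAs (IsDomain L)
  haveI : LocallyOfFiniteType (f ≫ Spec.map (CommRingCat.ofHom cA)) := by
    rw [← Spec.map_comp, ← CommRingCat.ofHom_comp, show φ.comp cA = cL from RingHom.ext hC]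
    exact (HasRingHomProperty.Spec_iff (P := @LocallyOfFiniteType)).2 hfin
  haveI : LocallyOfFiniteType f := locallyOfFiniteType_of_comp f (Spec.map (CommRingCat.ofHom cA))
  haveI : LocallyQuasiFinite f := LocallyQuasiFinite.of_finite_preimage_singleton f hqf
  have hgp : f (genericPoint (Spec (CommRingCat.of L))) = genericPoint (Spec (CommRingCat.of A)) := by
    rw [genericPoint_eq_bot_of_affine, genericPoint_eq_bot_of_affine]
    exact PrimeSpectrum.ext ((RingHom.ker_eq_comap_bot φ).symm.trans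
      ((RingHom.injective_iff_ker_eq_bot φ).1 hinj))
  refine Groth.LocImmersion.BirationalNormal.isOpenImmersion_of_isSeparated hN f hgp ?_
  let p := genericPoint (Spec (CommRingCat.of L))
  have hp : p.asIdeal = ⊥ := by
    show (genericPoint (Spec (CommRingCat.of L))).asIdeal = ⊥
    rw [genericPoint_eq_bot_of_affine]
    rfl
  have hbij : Function.Bijective (Localization.localRingHom (p.comap φ).asIdeal p.asIdeal φ rfl) := by
    have hne : ∀ {a : A}, a ≠ 0 → a ∈ (p.comap φ).asIdeal.primeCompl := fun {a} ha hmem => by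
      have h1 : φ a ∈ p.asIdeal := hmem
      rw [hp, Submodule.mem_bot] at h1
      exact ha (hinj (h1.trans (map_zero φ).symm))
    refine ⟨?_, fun z => ?_⟩
    · rw [injective_iff_map_eq_zero]
      intro z hz
      obtain ⟨a, s, rfl⟩ := IsLocalization.exists_mk'_eq (p.comap φ).asIdeal.primeCompl z
      rw [Localization.localRingHom_mk', IsLocalization.mk'_eq_zero_iff] at hz
      obtain ⟨w, hw⟩ := hz
      have hw0 : (w : L) ≠ 0 := fun h => w.2 (h ▸ Submodule.zero_mem _)
      have : a = 0 := hinj (((mul_eq_zero.1 hw).resolve_left hw0).trans (map_zero φ).symm)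
      rw [this, IsLocalization.mk'_zero]
    · obtain ⟨P, Q, rfl⟩ := IsLocalization.exists_mk'_eq p.asIdeal.primeCompl z
      obtain ⟨d, hd, a, ha⟩ := hgen P
      obtain ⟨d', hd', b, hb⟩ := hgen Q
      have hQ : (Q : L) ≠ 0 := fun h => Q.2 (h ▸ Submodule.zero_mem _)
      have hb' : cA d * b ≠ 0 := fun h => by
        have h1 := congrArg φ h
        rw [map_mul, hC, hb, map_zero, mul_eq_zero, mul_eq_zero] at h1
        rcases h1 with h1 | h1 | h1
        exacts [hd (hcL (h1.trans (map_zero cL).symm)), hd' (hcL (h1.trans (map_zero cL).symm)), hQ h1]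
      refine ⟨IsLocalization.mk' _ (cA d' * a) ⟨cA d * b, hne hb'⟩, ?_⟩
      rw [Localization.localRingHom_mk']
      refine IsLocalization.mk'_eq_of_eq ?_
      show φ (cA d * b) * P = (Q : L) * φ (cA d' * a)
      rw [map_mul, map_mul, hC, hC, ha, hb]
      ring
  exact ((MorphismProperty.isomorphisms CommRingCat).arrow_mk_iso_iff
    (Scheme.arrowStalkMapSpecIso (CommRingCat.ofHom φ) p)).2
    ((ConcreteCategory.isIso_iff_bijective _).2 hbij)

end Groth.NeronArea.GmFactor
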