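import Mathlib.RingTheory.RootsOfUnity.AlgebraicallyClosed
import Mathlib.RingTheory.IntegralClosure.IntegrallyClosed
import Mathlib.Algebra.Ring.GeomSum
import Groth.Agent.NeronArea.GaOpen
import Groth.Agent.NeronArea.GmFactor
import Groth.Agent.NeronArea.ModelTorsion

/-! Affine smooth models of the multiplicative group whose special fibre has toric identity
component: the coordinate is a unit with transcendental reduction. -/

set_option autoImplicit false
set_option linter.style.haveILetI false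

universe u

open CategoryTheory CategoryTheory.Limits MonoidalCategory CartesianMonoidalCategory MonObj GrpObj
  AlgebraicGeometry Groth.Reductive

open scoped CategoryTheory.Obj LaurentPolynomial

namespace Groth.NeronArea.GmModel

open Groth.NeronArea.GaCoord Groth.NeronArea.GaModel Groth.NeronArea.GaOpen Groth.NeronArea.GmCoord
  Groth.NeronArea.ModelTorsion Groth.NeronArea.TorsionSections

section Points

variable {R : Type u} [CommRing R]

/-- The value of a function along a section. -/
noncomputable def secAt {G : Over (Spec (CommRingCat.of R))}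
    (σ : 𝟙_ (Over (Spec (CommRingCat.of R))) ⟶ G) : Γ(G.left, ⊤) →+* R :=
  ((Scheme.ΓSpecIso (CommRingCat.of R)).hom.hom :
    Γ(Spec (CommRingCat.of R), ⊤) →+* R).comp σ.left.appTop.hom

theorem secAt_cst {G : Over (Spec (CommRingCat.of R))} (σ : 𝟙_ (Over (Spec (CommRingCat.of R))) ⟶ G)
    (r : R) : secAt σ (cst G r) = r := by
  show (Scheme.ΓSpecIso (CommRingCat.of R)).hom (σ.left.appTop (cst G r)) = r
  rw [cst_comp]
  show (Scheme.ΓSpecIso (CommRingCat.of R)).hom (Scheme.Hom.appTop (𝟙 (Spec (CommRingCat.of R)))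
    ((Scheme.ΓSpecIso (CommRingCat.of R)).inv r)) = r
  rw [Scheme.Hom.id_appTop, CommRingCat.id_apply, ← CommRingCat.comp_apply, Iso.inv_hom_id]
  rfl

variable {L : Type u} [CommRing L] (g : R →+* L) (G : Over (Spec (CommRingCat.of R))) [GrpObj G]

/-- Sections as points of a base change. -/
noncomputable def ptK : (𝟙_ (Over (Spec (CommRingCat.of R))) ⟶ G) →*
    (𝟙_ (Over (Spec (CommRingCat.of L))) ⟶ Red.bc (Spec.map (CommRingCat.ofHom g)) G) :=
  (bcPointEquiv (Spec.map (CommRingCat.ofHom g)) G _).symm.toMonoidHom.comp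
    { toFun := fun σ => toUnit _ ≫ σ
      map_one' := MonObj.comp_one _
      map_mul' := fun a b => MonObj.comp_mul _ a b }

theorem ptK_fst (σ : 𝟙_ (Over (Spec (CommRingCat.of R))) ⟶ G) :
    (ptK g G σ).left ≫ pullback.fst G.hom (Spec.map (CommRingCat.ofHom g)) =
      Spec.map (CommRingCat.ofHom g) ≫ σ.left := by
  let f := Spec.map (CommRingCat.ofHom g)
  have h2 := congrArg CommaMorphism.left
    ((bcPointEquiv f G (𝟙_ _)).apply_symm_apply (toUnit _ ≫ σ))
  refine Eq.trans h2 ?_
  exact congrArg (· ≫ σ.left) (Category.id_comp f)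

theorem appTop_ptK (σ : 𝟙_ (Over (Spec (CommRingCat.of R))) ⟶ G) (a : Γ(G.left, ⊤)) :
    (Scheme.ΓSpecIso (CommRingCat.of L)).hom ((ptK g G σ).left.appTop
      ((pullback.fst G.hom (Spec.map (CommRingCat.ofHom g))).appTop a)) = g (secAt σ a) := by
  have h3 : (ptK g G σ).left.appTop ((pullback.fst G.hom (Spec.map (CommRingCat.ofHom g))).appTop a) =
      (Spec.map (CommRingCat.ofHom g)).appTop (σ.left.appTop a) := by
    rw [← CommRingCat.comp_apply, ← Scheme.Hom.comp_appTop, ptK_fst, Scheme.Hom.comp_appTop,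
      CommRingCat.comp_apply]
  refine (congrArg (Scheme.ΓSpecIso (CommRingCat.of L)).hom h3).trans ?_
  exact congrArg (fun m => m (σ.left.appTop a)) (Scheme.ΓSpecIso_naturality (CommRingCat.ofHom g))

theorem ptK_injective [IsAffine G.left] (hg : Function.Injective g) : Function.Injective (ptK g G) := by
  intro σ τ h
  apply Over.OverMorphism.ext
  apply ext_of_isAffine
  ext a
  apply (ConcreteCategory.bijective_of_isIso (Scheme.ΓSpecIso (CommRingCat.of R)).hom).1
  apply hg
  have h1 := appTop_ptK g G σ a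
  rw [h] at h1
  exact h1.symm.trans (appTop_ptK g G τ a)

theorem redSec_eq [IsLocalRing R] (σ : TT R ⟶ G) :
    redSec G σ = ptK (IsLocalRing.residue R) G σ := by
  refine congrArg (bcPointEquiv (Spec.map (CommRingCat.ofHom (IsLocalRing.residue R))) G _).symm ?_
  apply Over.OverMorphism.ext
  show 𝟙 _ ≫ (Spec.map (CommRingCat.ofHom (IsLocalRing.residue R)) ≫ σ.left) ≫ 𝟙 _ =
    (𝟙 _ ≫ Spec.map (CommRingCat.ofHom (IsLocalRing.residue R))) ≫ σ.left
  simp

end Points

theorem val_evM {k : Type u} [Field k] {X : Over (Spec (CommRingCat.of k))}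
    (x : 𝟙_ (Over (Spec (CommRingCat.of k))) ⟶ X) (u : Γ(X.left, ⊤)ˣ) (P : k[T;T⁻¹]) :
    val x (evM X u P) =
      LaurentPolynomial.eval₂ (RingHom.id k) (Units.map (val x).toMonoidHom u) P := by
  refine RingHom.congr_fun (f := (val x).comp (evM X u)) (laurentHom_ext (fun r => ?_) ?_) P
  · simp [evM_C, val_cst]
  · simp [evM_T]

/-- A Laurent polynomial with infinitely many roots vanishes. -/
theorem eq_zero_of_infinite {k : Type u} [Field k] (P : k[T;T⁻¹]) {S : Set kˣ} (hS : S.Infinite)
    (h : ∀ l ∈ S, LaurentPolynomial.eval₂ (RingHom.id k) l P = 0) : P = 0 := by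
  obtain ⟨N, P₀, hP₀⟩ := LaurentPolynomial.exists_T_pow P
  have h0 : P₀ = 0 := Polynomial.eq_zero_of_infinite_isRoot P₀
    (Set.Infinite.mono (s := (fun l : kˣ => (l : k)) '' S) (by
      rintro _ ⟨l, hl, rfl⟩
      show P₀.eval (l : k) = 0
      have h1 := congrArg (LaurentPolynomial.eval₂ (RingHom.id k) l) hP₀
      rw [map_mul, h l hl, zero_mul, LaurentPolynomial.eval₂_toLaurent] at h1
      exact h1) (hS.image Units.val_injective.injOn))
  rw [h0, map_zero] at hP₀
  exact (LaurentPolynomial.isUnit_T (N : ℤ)).mul_left_eq_zero.1 hP₀.symm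

/-- Post-composition with a homomorphism on points. -/
noncomputable def postHom {S : Scheme.{u}} {X G H : Over S} [GrpObj G] [GrpObj H] (φ : G ⟶ H)
    [IsMonHom φ] : (X ⟶ G) →* (X ⟶ H) where
  toFun x := x ≫ φ
  map_one' := one_comp _
  map_mul' a b := MonObj.mul_comp a b φ

theorem val_gmT {k : Type u} [Field k] (x : 𝟙_ (Over (Spec (CommRingCat.of k))) ⟶ Red.Gm (Spec (CommRingCat.of k))) :
    val x (gmT k : Γ((Red.Gm (Spec (CommRingCat.of k))).left, ⊤)) =
      (Scheme.ΓSpecIso (CommRingCat.of k)).hom (Red.gmFn x) := by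
  show (Scheme.ΓSpecIso (CommRingCat.of k)).hom (x.left.appTop (Red.gmFn (𝟙 _))) = _
  rw [← Groth.Reductive.gmFn_comp, Category.comp_id]

section Main

variable {R : Type u} [CommRing R] [IsDomain R] [IsDiscreteValuationRing R] [HenselianLocalRing R]
  {K : Type u} [Field K] [Algebra R K] [IsFractionRing R K] [IsAlgClosed (IsLocalRing.ResidueField R)]
  (G : Over (Spec (CommRingCat.of R))) [GrpObj G] [IsCommMonObj G] [Smooth G.hom] [IsAffine G.left]
  (e : Red.bc (Spec.map (CommRingCat.ofHom (algebraMap R K))) G ≅ Red.Gm (Spec (CommRingCat.of K)))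
  [IsMonHom e.hom]

/-- The value in the fraction field of a section of a model of the multiplicative group. -/
noncomputable def kap : (𝟙_ (Over (Spec (CommRingCat.of R))) ⟶ G) →* K where
  toFun σ := val (ptK (algebraMap R K) G σ) (Red.gmFn e.hom)
  map_one' := by
    show (Scheme.ΓSpecIso (CommRingCat.of K)).hom _ = 1
    rw [map_one, ← Groth.Reductive.gmFn_comp, one_comp, gmFn_one]
    exact map_one (Scheme.ΓSpecIso (CommRingCat.of K)).hom.hom
  map_mul' a b := by
    show (Scheme.ΓSpecIso (CommRingCat.of K)).hom _ =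
      (Scheme.ΓSpecIso (CommRingCat.of K)).hom _ * (Scheme.ΓSpecIso (CommRingCat.of K)).hom _
    rw [map_mul, ← Groth.Reductive.gmFn_comp, ← Groth.Reductive.gmFn_comp, ← Groth.Reductive.gmFn_comp,
      MonObj.mul_comp, gmFn_mul]
    exact map_mul (Scheme.ΓSpecIso (CommRingCat.of K)).hom.hom _ _

theorem kap_injective : Function.Injective (kap G e) := by
  intro σ τ h
  refine ptK_injective _ G (IsFractionRing.injective R K) ((cancel_mono e.hom).1 (gmFn_injective ?_))
  rw [Groth.Reductive.gmFn_comp, Groth.Reductive.gmFn_comp]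
  exact (ConcreteCategory.bijective_of_isIso (Scheme.ΓSpecIso (CommRingCat.of K)).hom).1 h

theorem eq_one_of_pow (q : ℕ) (hq : (q : IsLocalRing.ResidueField R) ≠ 0) (r : R) (hr : r ^ q = 1)
    (hres : IsLocalRing.residue R r = 1) : r = 1 := by
  have h1 : (∑ i ∈ Finset.range q, r ^ i) * (r - 1) = 0 := by rw [geom_sum_mul, hr, sub_self]
  refine sub_eq_zero.1 ((mul_eq_zero.1 h1).resolve_left fun h => hq ?_)
  have h2 := congrArg (IsLocalRing.residue R) h
  simpa [map_sum, hres] using h2

/-- A torsion point of the special fibre of order invertible in the residue field lifts to a section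
with value a root of unity. -/
theorem exists_lift_root (q : ℕ) (hq0 : 0 < q) (hq : (q : IsLocalRing.ResidueField R) ≠ 0)
    (z : 𝟙_ (Over (Spec (CommRingCat.of (IsLocalRing.ResidueField R)))) ⟶
      Red.bc (Spec.map (CommRingCat.ofHom (IsLocalRing.residue R))) G) (hz : z ^ q = 1) :
    ∃ (σ : 𝟙_ (Over (Spec (CommRingCat.of R))) ⟶ G) (r : R),
      ptK (IsLocalRing.residue R) G σ = z ∧ kap G e σ = algebraMap R K r ∧
        (IsLocalRing.residue R r = 1 → z = 1) := by
  have hqR : IsUnit (q : R) := by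
    rw [← IsLocalRing.notMem_maximalIdeal, ← IsLocalRing.residue_eq_zero_iff, map_natCast]
    exact hq
  obtain ⟨σ, ⟨hσ, hres⟩, -⟩ := existsUnique_torsion_lift G q hqR ((resEquiv G).symm z) (by
    rw [← map_pow, hz, map_one])
  have hred : ptK (IsLocalRing.residue R) G σ = z := by
    rw [← redSec_eq]
    show resEquiv G (resMap R ≫ σ) = z
    rw [hres, MulEquiv.apply_symm_apply]
  have hk : kap G e σ ^ q = 1 := by
    rw [← map_pow, ← map_one (kap G e)]
    exact congrArg _ hσ
  obtain ⟨r, hr⟩ := IsIntegrallyClosed.exists_algebraMap_eq_of_isIntegral_pow (R := R) (K := K)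
    hq0 (hk ▸ isIntegral_one)
  have hr1 : r ^ q = 1 := IsFractionRing.injective R K (by rw [map_pow, hr, hk, map_one])
  refine ⟨σ, r, hred, hr.symm, fun h1 => ?_⟩
  have h2 : σ = 1 := kap_injective G e (by
    rw [← hr, eq_one_of_pow q hq r hr1 h1, map_one, map_one])
  rw [← hred, h2, map_one]

/-- The coordinate of a model of the multiplicative group with toric identity component. -/
theorem exists_coordinate [LocallyOfFiniteType G.hom]
    (j₀ : Red.Gm (Spec (CommRingCat.of (IsLocalRing.ResidueField R))) ⟶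
      Red.bc (Spec.map (CommRingCat.ofHom (IsLocalRing.residue R))) G) [IsMonHom j₀] [Mono j₀] :
    ∃ φ : Γ(G.left, ⊤) →+* R[T;T⁻¹],
      (∀ a, (pullback.fst G.hom (Spec.map (CommRingCat.ofHom (algebraMap R K)))).appTop a =
        evM (Red.bc (Spec.map (CommRingCat.ofHom (algebraMap R K))) G) (isUnit_gmFn e.hom).unit
          (mapL (algebraMap R K) (φ a))) ∧
      ∃ a, ∀ c, mapL (IsLocalRing.residue R) (φ a) ≠ LaurentPolynomial.C c := by
  let k := IsLocalRing.ResidueField R
  let GK := Red.bc (Spec.map (CommRingCat.ofHom (algebraMap R K))) G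
  let Gk := Red.bc (Spec.map (CommRingCat.ofHom (IsLocalRing.residue R))) G
  haveI : Flat G.hom := inferInstance
  haveI : Smooth Gk.hom := inferInstanceAs (Smooth (pullback.snd G.hom _))
  haveI : LocallyOfFiniteType Gk.hom := inferInstanceAs (LocallyOfFiniteType (pullback.snd G.hom _))
  haveI : IsReduced Gk.left := Groth.Agf.isReduced_of_smooth Gk.hom
  haveI : IsClosedImmersion (Spec.map (CommRingCat.ofHom (IsLocalRing.residue R))) :=
    IsClosedImmersion.spec_of_surjective _ IsLocalRing.residue_surjective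
  haveI : IsAffineHom G.hom := isAffineHom_of_isAffine _
  haveI : IsAffine Gk.left := isAffine_of_isAffineHom (pullback.fst G.hom
    (Spec.map (CommRingCat.ofHom (IsLocalRing.residue R))))
  let iK : Γ(G.left, ⊤) →+* Γ(GK.left, ⊤) :=
    (pullback.fst G.hom (Spec.map (CommRingCat.ofHom (algebraMap R K)))).appTop.hom
  let ik : Γ(G.left, ⊤) →+* Γ(Gk.left, ⊤) :=
    (pullback.fst G.hom (Spec.map (CommRingCat.ofHom (IsLocalRing.residue R)))).appTop.hom
  have hiK : Function.Injective iK := injective_fst G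
  have hik : Function.Surjective ik :=
    (IsClosedImmersion.isAffine_surjective_of_isAffine
      (pullback.fst G.hom (Spec.map (CommRingCat.ofHom (IsLocalRing.residue R))))).2
  have hvK : ∀ σ a, val (ptK (algebraMap R K) G σ) (iK a) = algebraMap R K (secAt σ a) :=
    appTop_ptK (algebraMap R K) G
  have hvk : ∀ σ a, val (ptK (IsLocalRing.residue R) G σ) (ik a) = IsLocalRing.residue R (secAt σ a) :=
    appTop_ptK (IsLocalRing.residue R) G
  let tU : Γ(GK.left, ⊤)ˣ := (isUnit_gmFn e.hom).unit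
  have htU : Function.Bijective (evM GK tU) := bijective_evM_of_iso e
  haveI : IsDomain Γ(GK.left, ⊤) :=
    (RingEquiv.ofBijective _ htU).toMulEquiv.isDomain_iff.1 inferInstance
  haveI : IsDomain Γ(G.left, ⊤) := hiK.isDomain iK
  haveI : IsLocallyNoetherian G.left := LocallyOfFiniteType.isLocallyNoetherian G.hom
  haveI : IsNoetherianRing Γ(G.left, ⊤) :=
    IsLocallyNoetherian.component_noetherian ⟨⊤, isAffineOpen_top G.left⟩
  obtain ⟨π, hπ⟩ := IsDiscreteValuationRing.exists_irreducible R
  have hres : IsLocalRing.residue R π = 0 := (IsLocalRing.residue_eq_zero_iff π).2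
    (by rw [hπ.maximalIdeal_eq]; exact Ideal.mem_span_singleton_self π)
  have hπA : cst G π ≠ 0 := fun h => hπ.ne_zero (by
    have h1 := congrArg (secAt (1 : 𝟙_ (Over (Spec (CommRingCat.of R))) ⟶ G)) h
    rwa [secAt_cst, map_zero] at h1)
  let vl : Γ(G.left, ⊤) →+* k :=
    (IsLocalRing.residue R).comp (secAt (1 : 𝟙_ (Over (Spec (CommRingCat.of R))) ⟶ G))
  haveI : (RingHom.ker vl).IsPrime := RingHom.ker_isPrime vl
  have hvle : ∀ a, val η[Gk] (ik a) = vl a := fun a => by
    rw [← Groth.NeronArea.FieldComponents.one_eq, ← map_one (ptK (IsLocalRing.residue R) G), hvk]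
    rfl
  have hcp : ∀ r, iK (cst G r) = cst GK (algebraMap R K r) := cst_pullback (algebraMap R K) G
  have hone : ∀ r, vl (cst G r) = IsLocalRing.residue R r := fun r => by
    show IsLocalRing.residue R (secAt _ _) = _
    rw [secAt_cst]
  have hdvd : ∀ a, ik a = 0 → cst G π ∣ a := fun a ha => by
    letI : Algebra R (IsLocalRing.ResidueField R) := (IsLocalRing.residue R).toAlgebra
    have h1 := ker_appTop_fst G (R' := IsLocalRing.ResidueField R) IsLocalRing.residue_surjective _ ha
    erw [IsLocalRing.ker_residue, hπ.maximalIdeal_eq, Ideal.map_span, Set.image_singleton] at h1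
    exact Ideal.mem_span_singleton.1 h1
  have hπvl : cst G π ∈ RingHom.ker vl := by rw [RingHom.mem_ker, hone, hres]
  obtain ⟨m, a, ha⟩ := exists_fst_eq G (nonZeroDivisors R) (tU : Γ(GK.left, ⊤))
  obtain ⟨m', b, hb⟩ := exists_fst_eq G (nonZeroDivisors R) ((tU⁻¹ : Γ(GK.left, ⊤)ˣ) : Γ(GK.left, ⊤))
  have ha' : iK a = cst GK (algebraMap R K m) * tU :=
    ha.trans (congrArg (· * (tU : Γ(GK.left, ⊤))) (hcp m))
  have hb' : iK b = cst GK (algebraMap R K m') * ((tU⁻¹ : Γ(GK.left, ⊤)ˣ) : Γ(GK.left, ⊤)) :=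
    hb.trans (congrArg (· * ((tU⁻¹ : Γ(GK.left, ⊤)ˣ) : Γ(GK.left, ⊤))) (hcp m'))
  have hab : a * b = cst G (m * m') := hiK (by
    rw [map_mul, ha', hb', hcp, map_mul, map_mul (cst GK)]
    calc _ = cst GK (algebraMap R K m) * cst GK (algebraMap R K m') *
          ((tU : Γ(GK.left, ⊤)) * ((tU⁻¹ : Γ(GK.left, ⊤)ˣ) : Γ(GK.left, ⊤))) := by ring
      _ = _ := by rw [Units.mul_inv, _root_.mul_one])
  have hm : (m : R) ≠ 0 := nonZeroDivisors.ne_zero m.2
  have hmm : (m : R) * m' ≠ 0 := mul_ne_zero hm (nonZeroDivisors.ne_zero m'.2)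
  have hmA : cst G ((m : R) * m') ≠ 0 := fun h => hmm (by
    have h1 := congrArg (secAt (1 : 𝟙_ (Over (Spec (CommRingCat.of R))) ⟶ G)) h
    rwa [secAt_cst, map_zero] at h1)
  obtain ⟨n, x, u, hu, hux, hxmax⟩ := GaFactor.exists_max_power (RingHom.ker vl) hπvl
    (left_ne_zero_of_mul (hab ▸ hmA))
  obtain ⟨n', x', u', hu', hux', hxmax'⟩ := GaFactor.exists_max_power (RingHom.ker vl) hπvl
    (right_ne_zero_of_mul (hab ▸ hmA))
  obtain ⟨N, w, hw⟩ := IsDiscreteValuationRing.eq_unit_mul_pow_irreducible hmm hπ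
  have hwvl : vl (cst G (w : R)) ≠ 0 := by rw [hone]; exact (w.isUnit.map _).ne_zero
  have heq : cst G π ^ (n + n') * (x * x') = cst G π ^ N * (u * u' * cst G (w : R)) := by
    calc _ = (cst G π ^ n * x) * (cst G π ^ n' * x') := by ring
      _ = (u * a) * (u' * b) := by rw [hux, hux']
      _ = u * u' * (a * b) := by ring
      _ = _ := by rw [hab, hw, map_mul, map_pow]; ring
  have hux0 : vl x ≠ 0 := by
    rcases lt_trichotomy (n + n') N with hlt | heqN | hgt
    · exfalso
      obtain ⟨d, rfl⟩ := Nat.exists_eq_add_of_lt hlt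
      have h1 : x * x' = cst G π * (cst G π ^ d * (u * u' * cst G (w : R))) := by
        refine mul_left_cancel₀ (pow_ne_zero (n + n') hπA) ?_
        rw [heq, pow_succ, pow_add]
        ring
      have h2 : ik x * ik x' = 0 := by
        rw [← map_mul, h1, map_mul,
          show ik (cst G π) = cst Gk (IsLocalRing.residue R π) from cst_pullback (IsLocalRing.residue R) G π,
          hres, map_zero, zero_mul]
      obtain ⟨v, hv, hvx | hvx⟩ := exists_local_factor Gk _ _ h2
      · obtain ⟨v, rfl⟩ := hik v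
        rw [hvle] at hv
        rw [← map_mul] at hvx
        exact hxmax v hv (hdvd _ hvx)
      · obtain ⟨v, rfl⟩ := hik v
        rw [hvle] at hv
        rw [← map_mul] at hvx
        exact hxmax' v hv (hdvd _ hvx)
    · intro h0
      have h1 : x * x' = u * u' * cst G (w : R) := mul_left_cancel₀ (pow_ne_zero N hπA) (by
        rw [← heq, heqN])
      have h2 := congrArg vl h1
      rw [map_mul, h0, zero_mul, map_mul, map_mul] at h2
      exact mul_ne_zero (mul_ne_zero hu hu') hwvl h2.symm
    · exfalso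
      obtain ⟨d, hd⟩ := Nat.exists_eq_add_of_lt hgt
      have h1 : u * u' * cst G (w : R) = cst G π * (cst G π ^ d * (x * x')) := by
        refine mul_left_cancel₀ (pow_ne_zero N hπA) ?_
        rw [← heq, hd, pow_succ, pow_add]
        ring
      have h2 := congrArg vl h1
      rw [map_mul, map_mul, map_mul, show vl (cst G π) = 0 from hπvl, zero_mul] at h2
      exact mul_ne_zero (mul_ne_zero hu hu') hwvl h2
  have hπK : algebraMap R K π ≠ 0 :=
    fun h => hπ.ne_zero (IsFractionRing.injective R K (h.trans (map_zero _).symm))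
  let c := algebraMap R K m / algebraMap R K π ^ n
  have hcn : algebraMap R K m = algebraMap R K π ^ n * c :=
    (mul_div_cancel₀ _ (pow_ne_zero n hπK)).symm
  have hx1 : iK x = iK u * (cst GK c * tU) := by
    have h1 := congrArg iK hux
    rw [map_mul, map_mul, map_pow, hcp, ha', hcn, map_mul (cst GK), map_pow (cst GK)] at h1
    refine mul_left_cancel₀ (pow_ne_zero n (cst_ne_zero GK hπK)) ?_
    linear_combination -h1
  have hval1 : ∀ a, val η[GK] (iK a) =
      algebraMap R K (secAt (1 : 𝟙_ (Over (Spec (CommRingCat.of R))) ⟶ G) a) := fun a => by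
    rw [← Groth.NeronArea.FieldComponents.one_eq, ← map_one (ptK (algebraMap R K) G)]
    exact hvK _ a
  have ht1 : val η[GK] (tU : Γ(GK.left, ⊤)) = 1 := by
    rw [← Groth.NeronArea.FieldComponents.one_eq, ← map_one (ptK (algebraMap R K) G)]
    exact map_one (kap G e)
  obtain ⟨r, hr⟩ : ∃ r : R, algebraMap R K r = c ∧ IsUnit r := by
    have h1 := congrArg (val η[GK]) hx1
    rw [map_mul, map_mul, val_cst, ht1, _root_.mul_one, hval1, hval1] at h1
    obtain ⟨ux, hsx⟩ := IsLocalRing.notMem_maximalIdeal.1 (mt (IsLocalRing.residue_eq_zero_iff _).2 hux0)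
    obtain ⟨uu, hsu⟩ := IsLocalRing.notMem_maximalIdeal.1 (mt (IsLocalRing.residue_eq_zero_iff _).2 hu)
    refine ⟨((uu⁻¹ * ux : Rˣ) : R), ?_, (uu⁻¹ * ux).isUnit⟩
    rw [← hsx, ← hsu] at h1
    rw [Units.val_mul, map_mul, h1, ← _root_.mul_assoc, ← map_mul, Units.inv_mul, map_one,
      _root_.one_mul]
  let u₁ := u * cst G r
  have hu₁ : vl u₁ ≠ 0 := by
    rw [map_mul, hone]
    exact mul_ne_zero hu (hr.2.map _).ne_zero
  have hxu : iK x = iK u₁ * tU := by
    rw [hx1, map_mul iK u, hcp, hr.1]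
    ring
  have hx0 : val η[Gk] (ik x - ik u₁) = 0 := by
    have h1 := congrArg (val η[GK]) hxu
    rw [map_mul, ht1, _root_.mul_one, hval1, hval1] at h1
    rw [map_sub, hvle, hvle]
    show IsLocalRing.residue R (secAt _ x) - IsLocalRing.residue R (secAt _ u₁) = 0
    rw [IsFractionRing.injective R K h1, sub_self]
  have hhx : ∀ v, val η[Gk] v ≠ 0 → v * (ik x - ik u₁) ≠ 0 := by
    intro v hv hvx
    let Gm := Red.Gm (Spec (CommRingCat.of k))
    obtain ⟨P, hP⟩ := (bijective_evM_of_iso (Iso.refl Gm)).2 (j₀.left.appTop (v * ik u₁))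
    let qs : Set ℕ := {q | q.Prime ∧ (q : k) ≠ 0}
    have hqs : qs.Infinite := by
      refine Set.Infinite.mono (fun q hq => ⟨hq.1, fun h0 => hq.2 ?_⟩)
        (Nat.infinite_setOf_prime.sdiff (Set.finite_singleton (ringChar k)))
      exact ((Nat.prime_dvd_prime_iff_eq ((CharP.char_is_prime_or_zero k (ringChar k)).resolve_right
        fun h => hq.1.ne_zero (Nat.eq_zero_of_zero_dvd (h ▸ ringChar.dvd h0))) hq.1).1
          (ringChar.dvd h0)).symm
    have hprim : ∀ q : qs, ∃ l : kˣ, IsPrimitiveRoot l q.1 := fun q => by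
      haveI : NeZero (q.1 : k) := ⟨q.2.2⟩
      obtain ⟨ζ, hζ⟩ := HasEnoughRootsOfUnity.exists_primitiveRoot k q.1
      exact ⟨(hζ.isUnit q.2.1.ne_zero).unit, IsPrimitiveRoot.coe_units_iff.1 hζ⟩
    choose l hl using hprim
    have hlinj : Function.Injective l := fun q q' h => Subtype.ext (by
      rw [(hl q).eq_orderOf, h, ← (hl q').eq_orderOf])
    haveI := hqs.to_subtype
    have hroot : ∀ q : qs, LaurentPolynomial.eval₂ (RingHom.id k) (l q) P = 0 := fun q => by
      let lΓ : Γ((𝟙_ (Over (Spec (CommRingCat.of k)))).left, ⊤)ˣ :=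
        Units.map (Scheme.ΓSpecIso (CommRingCat.of k)).inv.hom.toMonoidHom (l q)
      let ψ : 𝟙_ (Over (Spec (CommRingCat.of k))) ⟶ Gm := gmMk _ lΓ
      have hψ : Units.map (val ψ).toMonoidHom (isUnit_gmFn (Iso.refl Gm).hom).unit = l q := by
        apply Units.ext
        show val ψ (gmT k : Γ(Gm.left, ⊤)) = _
        rw [val_gmT, gmFn_gmMk]
        show (Scheme.ΓSpecIso (CommRingCat.of k)).hom ((Scheme.ΓSpecIso (CommRingCat.of k)).inv (l q : k)) = _
        rw [← CommRingCat.comp_apply, Iso.inv_hom_id]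
        rfl
      have hψq : ψ ^ q.1 = 1 := by
        apply gmFn_injective
        rw [gmFn_pow, gmFn_gmMk, gmFn_one, ← Units.val_pow_eq_pow_val, ← map_pow, (hl q).pow_eq_one,
          map_one, Units.val_one]
      let z := postHom j₀ ψ
      obtain ⟨σ, r', hσz, hκ, hz1⟩ := exists_lift_root G e q.1 q.2.1.pos q.2.2 z
        (by rw [← map_pow, hψq, map_one])
      have heval : val z (v * ik u₁) = LaurentPolynomial.eval₂ (RingHom.id k) (l q) P := by
        rw [← hψ, ← val_evM, hP]
        show (Scheme.ΓSpecIso (CommRingCat.of k)).hom ((ψ ≫ j₀).left.appTop _) = _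
        rw [Over.comp_left, Scheme.Hom.comp_appTop, CommRingCat.comp_apply]
        rfl
      rw [← heval]
      have hr' : IsLocalRing.residue R r' ≠ 1 := fun h1 => by
        have h2 := hz1 h1
        have h3 : ψ = 1 := (cancel_mono j₀).1 (h2.trans (one_comp _).symm)
        have h4 := congrArg Red.gmFn h3
        rw [gmFn_gmMk, gmFn_one] at h4
        have h5 : lΓ = 1 := Units.ext h4
        have h6 : l q = 1 := (Units.map_injective (f := (Scheme.ΓSpecIso (CommRingCat.of k)).inv.hom.toMonoidHom)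
          (ConcreteCategory.bijective_of_isIso (Scheme.ΓSpecIso (CommRingCat.of k)).inv).1)
          (h5.trans (map_one _).symm)
        exact q.2.1.ne_one ((hl q).eq_orderOf.trans (by rw [h6, orderOf_one]))
      have h1 := congrArg (val (ptK (algebraMap R K) G σ)) hxu
      rw [map_mul, hvK, hvK, show val _ (tU : Γ(GK.left, ⊤)) = algebraMap R K r' from hκ, ← map_mul] at h1
      have h2 := congrArg (IsLocalRing.residue R) (IsFractionRing.injective R K h1)
      rw [map_mul, ← hvk, ← hvk, hσz] at h2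
      have h3 := congrArg (val z) hvx
      rw [map_mul, map_sub, h2, map_zero] at h3
      have h4 : (val z v * val z (ik u₁)) * (IsLocalRing.residue R r' - 1) = 0 := by
        linear_combination h3
      rw [map_mul]
      exact (mul_eq_zero.1 h4).resolve_right (sub_ne_zero.2 hr')
    have hP0 : P = 0 := eq_zero_of_infinite P (Set.infinite_range_of_injective hlinj)
      (by rintro _ ⟨q, rfl⟩; exact hroot q)
    rw [hP0, map_zero] at hP
    have h7 : val η[Gk] (v * ik u₁) = 0 := by
      rw [← IsMonHom.one_hom j₀]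
      show (Scheme.ΓSpecIso (CommRingCat.of k)).hom ((η[Gm] ≫ j₀).left.appTop _) = 0
      rw [Over.comp_left, Scheme.Hom.comp_appTop, CommRingCat.comp_apply, ← hP, map_zero]
      exact map_zero (Scheme.ΓSpecIso (CommRingCat.of k)).hom.hom
    rw [map_mul, hvle] at h7
    exact mul_ne_zero hv hu₁ h7
  obtain ⟨F, hF, θ, hθu, htr'⟩ := GaFactor.exists_field (cst Gk) (val η[Gk]) (val_cst _)
    (exists_local_factor Gk) (ik x - ik u₁) (ik u₁) (by rw [hvle]; exact hu₁) hx0 hhx
  have htr : Function.Injective (Polynomial.eval₂RingHom (θ.comp (cst Gk)) (θ (ik x) / θ (ik u₁))) := by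
    intro P Q h
    have h1 : ∀ P : Polynomial k, Polynomial.eval₂ (θ.comp (cst Gk)) (θ (ik x) / θ (ik u₁)) P =
        Polynomial.eval₂ (θ.comp (cst Gk)) (θ (ik x - ik u₁) / θ (ik u₁)) (P.comp (Polynomial.X + 1)) := fun P => by
      rw [Polynomial.eval₂_comp, Polynomial.eval₂_add, Polynomial.eval₂_X, Polynomial.eval₂_one, map_sub,
        sub_div, div_self hθu, sub_add_cancel]
    simp only [Polynomial.coe_eval₂RingHom, h1] at h
    have h2 := congrArg (fun p : Polynomial k => p.comp (Polynomial.X - 1)) (htr' h)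
    simpa [Polynomial.comp_assoc] using h2
  have hθx : θ (ik x) ≠ 0 := fun h => Polynomial.X_ne_zero (htr (a₂ := (0 : Polynomial k)) (by
    rw [Polynomial.coe_eval₂RingHom, Polynomial.eval₂_X, h, zero_div, Polynomial.eval₂_zero]))
  obtain ⟨φ, hφ⟩ := GmFactor.exists_factor (cst G) (cst GK) iK hcp tU htU (θ.comp ik)
    (θ.comp (cst Gk)) (fun r => congrArg θ (cst_pullback (IsLocalRing.residue R) G r)) x u₁ hxu hiK
    hθx hθu htr
  refine ⟨φ, hφ, ?_⟩
  have hφx : φ x = φ u₁ * LaurentPolynomial.T 1 := by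
    have hinj : Function.Injective (mapL (algebraMap R K)) := (injective_iff_map_eq_zero _).2 fun P hP => by
      obtain ⟨M, P₀, hP₀⟩ := LaurentPolynomial.exists_T_pow P
      have h1 := congrArg (mapL (algebraMap R K)) hP₀
      rw [map_mul, hP, zero_mul, mapL_toLaurent, Polynomial.toLaurent_eq_zero,
        Polynomial.map_eq_zero_iff (IsFractionRing.injective R K)] at h1
      rw [h1, map_zero] at hP₀
      exact (LaurentPolynomial.isUnit_T (M : ℤ)).mul_left_eq_zero.1 hP₀.symm
    refine hinj (htU.1 ?_)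
    rw [map_mul, map_mul, mapL_T, evM_T]
    show LaurentPolynomial.eval₂ (cst GK) tU _ = LaurentPolynomial.eval₂ (cst GK) tU _ * _
    rw [← hφ, ← hφ, hxu]
  have hev1 : IsLocalRing.residue R (secAt (1 : 𝟙_ (Over (Spec (CommRingCat.of R))) ⟶ G) u₁) =
      LaurentPolynomial.eval₂ (RingHom.id k) 1 (mapL (IsLocalRing.residue R) (φ u₁)) := by
    have h1 := hval1 u₁
    rw [show iK u₁ = evM GK tU (mapL (algebraMap R K) (φ u₁)) from hφ u₁, val_evM,
      show Units.map (val η[GK]).toMonoidHom tU = 1 from Units.ext ht1] at h1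
    have h2 : ∀ {L : Type u} [Field L] (g : R →+* L) (P : R[T;T⁻¹]),
        LaurentPolynomial.eval₂ (RingHom.id L) 1 (mapL g P) =
          g (LaurentPolynomial.eval₂ (RingHom.id R) 1 P) := fun {L} _ g P =>
      RingHom.congr_fun (f := (LaurentPolynomial.eval₂ (RingHom.id L) 1).comp (mapL g))
        (g := g.comp (LaurentPolynomial.eval₂ (RingHom.id R) 1))
        (laurentHom_ext (fun r => by simp [mapL_C]) (by simp [mapL_T])) P
    rw [h2] at h1 ⊢
    rw [IsFractionRing.injective R K h1]
  by_contra hcon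
  push Not at hcon
  obtain ⟨c1, hc1⟩ := hcon x
  obtain ⟨c2, hc2⟩ := hcon u₁
  rw [hφx, map_mul, mapL_T, hc2] at hc1
  classical
  obtain ⟨l, hl⟩ := Infinite.exists_notMem_finset ({0, 1} : Finset k)
  simp only [Finset.mem_insert, Finset.mem_singleton, not_or] at hl
  have h1 := congrArg (LaurentPolynomial.eval₂ (RingHom.id k) 1) hc1
  have h2 := congrArg (LaurentPolynomial.eval₂ (RingHom.id k) (Units.mk0 l hl.1)) hc1
  simp at h1 h2
  have hc20 : c2 = 0 := by
    have : c2 * (l - 1) = 0 := by rw [mul_sub, _root_.mul_one, h2, h1, sub_self]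
    exact (mul_eq_zero.1 this).resolve_right (sub_ne_zero.2 hl.2)
  rw [hc2, LaurentPolynomial.eval₂_C, hc20] at hev1
  exact hu₁ hev1

end Main

end Groth.NeronArea.GmModel
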