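import Groth.Agent.NeronArea.GmModel
import Groth.Agent.NeronArea.SmoothLocusNMP
import Groth.Agent.NeronArea.FiniteEtaleClosure

/-! The open immersion of the multiplicative group in a model with toric identity component. -/

set_option autoImplicit false
set_option linter.style.haveILetI false

universe u

open CategoryTheory CategoryTheory.Limits MonoidalCategory CartesianMonoidalCategory MonObj GrpObj
  AlgebraicGeometry Groth.Reductive

open scoped CategoryTheory.Obj LaurentPolynomial

namespace Groth.NeronArea.GmOpen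

open Groth.NeronArea.GaCoord Groth.NeronArea.GaModel Groth.NeronArea.GmCoord Groth.NeronArea.GmModel

section BaseChange

variable {R L : Type u} [CommRing R] [CommRing L] (g : R →+* L)

/-- The coordinate of the base change of the multiplicative group. -/
noncomputable def bcT :
    Γ((Red.bc (Spec.map (CommRingCat.ofHom g)) (Red.Gm (Spec (CommRingCat.of R)))).left, ⊤)ˣ :=
  Units.map (pullback.fst (Red.Gm (Spec (CommRingCat.of R))).hom
    (Spec.map (CommRingCat.ofHom g))).appTop.hom.toMonoidHom (gmT R)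

theorem gmFn_point {X : Over (Spec (CommRingCat.of L))}
    (x : X ⟶ Red.bc (Spec.map (CommRingCat.ofHom g)) (Red.Gm (Spec (CommRingCat.of R)))) :
    x.left.appTop (bcT g : Γ((Red.bc (Spec.map (CommRingCat.ofHom g)) (Red.Gm (Spec (CommRingCat.of R)))).left, ⊤)) =
      Red.gmFn (bcPointEquiv (Spec.map (CommRingCat.ofHom g)) (Red.Gm (Spec (CommRingCat.of R))) X x) := by
  have h := (Groth.Reductive.gmFn_comp (bcPointEquiv (Spec.map (CommRingCat.ofHom g))
    (Red.Gm (Spec (CommRingCat.of R))) X x) (𝟙 _))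
  rw [Category.comp_id] at h
  rw [h]
  show x.left.appTop ((pullback.fst (Red.Gm (Spec (CommRingCat.of R))).hom
    (Spec.map (CommRingCat.ofHom g))).appTop (Red.gmFn (𝟙 _))) = _
  rw [← CommRingCat.comp_apply, ← Scheme.Hom.comp_appTop]
  rfl

/-- The base change of the multiplicative group is the multiplicative group. -/
noncomputable def bcGm :
    Red.bc (Spec.map (CommRingCat.ofHom g)) (Red.Gm (Spec (CommRingCat.of R))) ≅
      Red.Gm (Spec (CommRingCat.of L)) where
  hom := gmMk _ (bcT g)
  inv := (bcPointEquiv (Spec.map (CommRingCat.ofHom g)) (Red.Gm (Spec (CommRingCat.of R))) _).symm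
    (gmMk ((Over.map (Spec.map (CommRingCat.ofHom g))).obj (Red.Gm (Spec (CommRingCat.of L)))) (gmT L))
  hom_inv_id := by
    apply (bcPointEquiv (Spec.map (CommRingCat.ofHom g)) (Red.Gm (Spec (CommRingCat.of R))) _).injective
    apply gmFn_injective
    rw [bcPointEquiv_comp, MulEquiv.apply_symm_apply, Groth.Reductive.gmFn_comp, gmFn_gmMk, ← gmFn_point,
      Over.id_left, Scheme.Hom.id_appTop]
    show (gmMk _ (bcT g)).left.appTop (Red.gmFn (𝟙 _)) = _
    rw [← Groth.Reductive.gmFn_comp, Category.comp_id, gmFn_gmMk]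
    rfl
  inv_hom_id := by
    apply gmFn_injective
    rw [Groth.Reductive.gmFn_comp, gmFn_gmMk, gmFn_point, MulEquiv.apply_symm_apply, gmFn_gmMk]
    rfl

theorem gmFn_bcGm {X : Over (Spec (CommRingCat.of L))}
    (x : X ⟶ Red.bc (Spec.map (CommRingCat.ofHom g)) (Red.Gm (Spec (CommRingCat.of R)))) :
    Red.gmFn (x ≫ (bcGm g).hom) =
      x.left.appTop (bcT g : Γ((Red.bc (Spec.map (CommRingCat.ofHom g)) (Red.Gm (Spec (CommRingCat.of R)))).left, ⊤)) := by
  show Red.gmFn (x ≫ gmMk _ (bcT g)) = _
  rw [Groth.Reductive.gmFn_comp, gmFn_gmMk]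

instance isMonHom_bcGm : IsMonHom (bcGm g).hom := by
  have hmul : ∀ {X : Over (Spec (CommRingCat.of L))}
      (a b : X ⟶ Red.bc (Spec.map (CommRingCat.ofHom g)) (Red.Gm (Spec (CommRingCat.of R)))),
      (a * b) ≫ (bcGm g).hom = (a ≫ (bcGm g).hom) * (b ≫ (bcGm g).hom) := fun {X} a b => by
    apply gmFn_injective
    rw [gmFn_mul, gmFn_bcGm, gmFn_bcGm, gmFn_bcGm, gmFn_point, gmFn_point, gmFn_point, map_mul, gmFn_mul]
  refine ⟨?_, ?_⟩
  · have h1 := hmul (1 : 𝟙_ (Over (Spec (CommRingCat.of L))) ⟶ _) 1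
    rw [_root_.mul_one] at h1
    have h2 : (1 : 𝟙_ (Over (Spec (CommRingCat.of L))) ⟶ _) ≫ (bcGm g).hom = 1 := by
      apply gmFn_injective
      rw [gmFn_one]
      have h3 := congrArg Red.gmFn h1
      rw [gmFn_mul] at h3
      exact (isUnit_gmFn _).mul_eq_left.1 h3.symm
    rw [Hom.one_def, Hom.one_def, toUnit_unique (toUnit _) (𝟙 _), Category.id_comp,
      Category.id_comp] at h2
    exact h2
  · have h1 := hmul (fst _ _) (snd _ _)
    rw [← MonObj.mul_eq_mul, Hom.mul_def (fst _ _ ≫ (bcGm g).hom)] at h1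
    rw [h1]
    congr 1
    all_goals (ext <;> simp)

theorem ptK_comp {P G : Over (Spec (CommRingCat.of R))} [GrpObj P] [GrpObj G] (j : P ⟶ G)
    (σ : 𝟙_ (Over (Spec (CommRingCat.of R))) ⟶ P) :
    ptK g G (σ ≫ j) = ptK g P σ ≫ (Over.pullback (Spec.map (CommRingCat.ofHom g))).map j := by
  apply Over.OverMorphism.ext
  apply pullback.hom_ext
  · rw [ptK_fst, Over.comp_left, Over.comp_left, Category.assoc,
      show ((Over.pullback (Spec.map (CommRingCat.ofHom g))).map j).left ≫
          pullback.fst G.hom (Spec.map (CommRingCat.ofHom g)) =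
        pullback.fst P.hom (Spec.map (CommRingCat.ofHom g)) ≫ j.left from pullback.lift_fst _ _ _,
      ← Category.assoc (ptK g P σ).left, ptK_fst, Category.assoc]
  · exact (Over.w (ptK g G (σ ≫ j))).trans
      (Over.w (ptK g P σ ≫ (Over.pullback (Spec.map (CommRingCat.ofHom g))).map j)).symm

end BaseChange

/-- A morphism of flat groups to a separated one which is a homomorphism on a scheme-theoretically
dense base change is a homomorphism. -/
theorem isMonHom_of_fibre {S U : Scheme.{u}} (f : U ⟶ S) [IsSchemeTheoreticallyDominant f]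
    [QuasiCompact f] (P G : Over S) [GrpObj P] [GrpObj G] [Flat P.hom] [IsSeparated G.hom] (j : P ⟶ G)
    (hJ : IsMonHom ((Over.pullback f).map j)) : IsMonHom j := by
  have hmul : ∀ {Y : Over S} [Flat Y.hom] (a b : Y ⟶ P), (a * b) ≫ j = (a ≫ j) * (b ≫ j) := fun {Y} _ a b => by
    apply Groth.NeronArea.map_injective_of_flat f Y G
    show (Over.pullback f).map ((a * b) ≫ j) = (Over.pullback f).homMonoidHom ((a ≫ j) * (b ≫ j))
    rw [map_mul, Functor.map_comp]
    show (Over.pullback f).homMonoidHom (a * b) ≫ (Over.pullback f).map j =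
      ((Over.pullback f).map (a ≫ j)) * ((Over.pullback f).map (b ≫ j))
    rw [map_mul, (Over.pullback f).map_comp a j, (Over.pullback f).map_comp b j]
    exact MonObj.mul_comp _ _ _
  refine ⟨?_, ?_⟩
  · haveI : Flat (𝟙_ (Over S)).hom := inferInstanceAs (Flat (𝟙 S))
    have h1 := hmul (1 : 𝟙_ (Over S) ⟶ P) 1
    rw [_root_.mul_one] at h1
    have h2 := mul_eq_left.1 h1.symm
    rwa [Hom.one_def, Hom.one_def, toUnit_unique (toUnit _) (𝟙 _), Category.id_comp,
      Category.id_comp] at h2
  · haveI : Flat (P ⊗ P).hom := inferInstanceAs (Flat (pullback.fst P.hom P.hom ≫ P.hom))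
    have h1 := hmul (fst P P) (snd P P)
    rw [← MonObj.mul_eq_mul, Hom.mul_def (fst P P ≫ j)] at h1
    rw [h1]
    congr 1
    all_goals (ext <;> simp)

variable {R : Type u} [CommRing R] [IsDomain R] [IsDiscreteValuationRing R] [HenselianLocalRing R]
  {K : Type u} [Field K] [Algebra R K] [IsFractionRing R K] [IsAlgClosed (IsLocalRing.ResidueField R)]

theorem isScalar_C (r : R) (n : R[T;T⁻¹]) : r • n = LaurentPolynomial.C r * n :=
  LaurentPolynomial.smul_eq_C_mul r n

/-- A model of the multiplicative group with toric identity component contains the multiplicative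
group as an open subgroup, compatibly with the coordinate. -/
theorem exists_openImmersion (G : Over (Spec (CommRingCat.of R))) [GrpObj G] [IsCommMonObj G]
    [Smooth G.hom] [IsAffine G.left] [LocallyOfFiniteType G.hom]
    (e : Red.bc (Spec.map (CommRingCat.ofHom (algebraMap R K))) G ≅ Red.Gm (Spec (CommRingCat.of K)))
    [IsMonHom e.hom]
    (j₀ : Red.Gm (Spec (CommRingCat.of (IsLocalRing.ResidueField R))) ⟶
      Red.bc (Spec.map (CommRingCat.ofHom (IsLocalRing.residue R))) G) [IsMonHom j₀] [Mono j₀] :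
    ∃ j : Red.Gm (Spec (CommRingCat.of R)) ⟶ G, IsMonHom j ∧ IsOpenImmersion j.left ∧
      (Over.pullback (Spec.map (CommRingCat.ofHom (algebraMap R K)))).map j ≫ e.hom =
        (bcGm (algebraMap R K)).hom := by
  let fK := Spec.map (CommRingCat.ofHom (algebraMap R K))
  let GK := Red.bc fK G
  let Gm := Red.Gm (Spec (CommRingCat.of R))
  let tU : Γ(GK.left, ⊤)ˣ := (isUnit_gmFn e.hom).unit
  have htU : Function.Bijective (evM GK tU) := bijective_evM_of_iso e
  obtain ⟨φ, hφ, a₀, ha₀⟩ := exists_coordinate G e j₀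
  let iK : Γ(G.left, ⊤) →+* Γ(GK.left, ⊤) := (pullback.fst G.hom fK).appTop.hom
  have hiK : Function.Injective iK := injective_fst G
  have hmapL : Function.Injective (mapL (algebraMap R K)) := (injective_iff_map_eq_zero _).2 fun P hP => by
    obtain ⟨M, P₀, hP₀⟩ := LaurentPolynomial.exists_T_pow P
    have h1 := congrArg (mapL (algebraMap R K)) hP₀
    rw [map_mul, hP, zero_mul, mapL_toLaurent, Polynomial.toLaurent_eq_zero,
      Polynomial.map_eq_zero_iff (IsFractionRing.injective R K)] at h1
    rw [h1, map_zero] at hP₀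
    exact (LaurentPolynomial.isUnit_T (M : ℤ)).mul_left_eq_zero.1 hP₀.symm
  have hφ_eq : ∀ a P, iK a = evM GK tU (mapL (algebraMap R K) P) → φ a = P :=
    fun a P h => hmapL (htU.1 ((hφ a).symm.trans h))
  have hφinj : Function.Injective φ := fun a b h => hiK (by
    show (pullback.fst G.hom fK).appTop a = (pullback.fst G.hom fK).appTop b
    rw [hφ, hφ, h])
  have hC : ∀ r, φ (cst G r) = LaurentPolynomial.C r := fun r => hφ_eq _ _ (by
    rw [mapL_C, evM_C]
    exact cst_pullback (algebraMap R K) G r)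
  have hgen : ∀ P, ∃ d : R, d ≠ 0 ∧ ∃ a, φ a = LaurentPolynomial.C d * P := fun P => by
    obtain ⟨m, a, ha⟩ := exists_fst_eq G (nonZeroDivisors R) (evM GK tU (mapL (algebraMap R K) P))
    refine ⟨m, nonZeroDivisors.ne_zero m.2, a, hφ_eq _ _ ?_⟩
    refine ha.trans ?_
    rw [map_mul (mapL _), mapL_C, map_mul, evM_C]
    congr 1
    exact cst_pullback (algebraMap R K) G m
  haveI : IsDomain Γ(GK.left, ⊤) :=
    (RingEquiv.ofBijective _ htU).toMulEquiv.isDomain_iff.1 inferInstance
  haveI : IsDomain Γ(G.left, ⊤) := hiK.isDomain iK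
  haveI : Smooth (G.left.isoSpec.inv ≫ G.hom) := inferInstance
  have hN := isNormalScheme_of_smooth (G.left.isoSpec.inv ≫ G.hom)
    (isNormalScheme_Spec (isNormalRing_of_isIntegrallyClosed R))
  haveI : Algebra.FiniteType R R[T;T⁻¹] := inferInstance
  haveI := GmFactor.isOpenImmersion_specMap (R := R) (A := Γ(G.left, ⊤)) (fun y => (hN y).2) (cst G)
    (LaurentPolynomial.C : R →+* R[T;T⁻¹])
    (RingHom.finiteType_algebraMap.2 (inferInstanceAs (Algebra.FiniteType R R[T;T⁻¹])) :
      (algebraMap R R[T;T⁻¹]).FiniteType)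
    (fun a b h => by
      have := congrArg (LaurentPolynomial.eval₂ (RingHom.id R) 1) h
      simpa using this)
    φ hC hφinj hgen (fun q => GmFactor.finite_preimage (cst G) φ hC hgen a₀ ha₀ q)
  have hinv : ∀ a, G.left.isoSpec.inv.appTop a = (Scheme.ΓSpecIso Γ(G.left, ⊤)).inv a := fun a => by
    have h2 : a = G.left.toSpecΓ.appTop ((Scheme.ΓSpecIso Γ(G.left, ⊤)).inv a) := by
      rw [Scheme.toSpecΓ_appTop, ← CommRingCat.comp_apply, Iso.inv_hom_id]
      rfl
    conv_lhs => rw [h2]
    rw [← CommRingCat.comp_apply, ← Scheme.Hom.comp_appTop, Scheme.isoSpec_inv_toSpecΓ]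
    rfl
  have hl : ∀ a, (Spec.map (CommRingCat.ofHom φ) ≫ G.left.isoSpec.inv).appTop a =
      (Scheme.ΓSpecIso (CommRingCat.of R[T;T⁻¹])).inv (φ a) := fun a => by
    rw [Scheme.Hom.comp_appTop, CommRingCat.comp_apply, hinv]
    exact (congrArg (fun m => m a) (Scheme.ΓSpecIso_inv_naturality (CommRingCat.ofHom φ))).symm
  let jl : lineM R ⟶ G := Over.homMk (Spec.map (CommRingCat.ofHom φ) ≫ G.left.isoSpec.inv) (by
    refine hom_ext_Spec _ _ fun r => ?_
    rw [Scheme.Hom.comp_appTop, CommRingCat.comp_apply]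
    refine (hl _).trans ?_
    rw [show φ (G.hom.appTop _) = LaurentPolynomial.C r from hC r, ← evM_lineM, evM_C]
    rfl)
  let j : Gm ⟶ G := (gmLine R).hom ≫ jl
  have hj : ∀ a, j.left.appTop a = evM Gm (gmT R) (φ a) := fun a => by
    show ((gmLine R).hom ≫ jl).left.appTop a = _
    rw [Over.comp_left, Scheme.Hom.comp_appTop, CommRingCat.comp_apply,
      show jl.left.appTop a = _ from hl a, ← evM_lineM]
    exact comp_evM _ _ _ (toLineM_appTop _ _) _
  haveI hopen : IsOpenImmersion j.left := by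
    haveI : IsOpenImmersion jl.left :=
      inferInstanceAs (IsOpenImmersion (Spec.map (CommRingCat.ofHom φ) ≫ G.left.isoSpec.inv))
    haveI : IsIso (gmLine R).hom.left := inferInstanceAs (IsIso ((Over.forget _).map (gmLine R).hom))
    exact inferInstanceAs (IsOpenImmersion ((gmLine R).hom.left ≫ jl.left))
  let ZK := Red.bc fK Gm
  let y : Γ(ZK.left, ⊤)ˣ := bcT (algebraMap R K)
  let J : ZK ⟶ GK := (Over.pullback fK).map j
  have hJ : ∀ a, J.left.appTop (iK a) = evM ZK y (mapL (algebraMap R K) (φ a)) := fun a => by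
    show J.left.appTop ((pullback.fst G.hom fK).appTop a) = _
    rw [← CommRingCat.comp_apply, ← Scheme.Hom.comp_appTop,
      show J.left ≫ pullback.fst G.hom fK = pullback.fst Gm.hom fK ≫ j.left from pullback.lift_fst _ _ _,
      Scheme.Hom.comp_appTop, CommRingCat.comp_apply, hj]
    exact evM_pullback _ Gm (gmT R) (bcT (algebraMap R K)) rfl _
  have hJt : J.left.appTop (tU : Γ(GK.left, ⊤)) = y := by
    obtain ⟨m, a, ha⟩ := exists_fst_eq G (nonZeroDivisors R) (tU : Γ(GK.left, ⊤))
    have ha' : φ a = LaurentPolynomial.C (m : R) * LaurentPolynomial.T 1 := hφ_eq _ _ (ha.trans (by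
      rw [map_mul (mapL _), mapL_C, mapL_T, map_mul, evM_C, evM_T]
      congr 1
      exact cst_pullback (algebraMap R K) G m))
    have hm : algebraMap R K m ≠ 0 := IsFractionRing.to_map_ne_zero_of_mem_nonZeroDivisors m.2
    have h1 : cst ZK (algebraMap R K m) * J.left.appTop (tU : Γ(GK.left, ⊤)) =
        cst ZK (algebraMap R K m) * y := by
      rw [← cst_comp J, ← map_mul]
      refine (congrArg _ ?_).trans ((hJ a).trans ?_)
      · exact (congrArg (fun z => z * (tU : Γ(GK.left, ⊤)))
          (cst_pullback (algebraMap R K) G m)).symm.trans ha.symm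
      · rw [ha', map_mul (mapL _), mapL_C, mapL_T, map_mul, evM_C, evM_T, cst_comp J]
    exact (IsUnit.map (cst ZK) (isUnit_iff_ne_zero.2 hm)).mul_left_cancel h1
  have hcomp : J ≫ e.hom = (bcGm (algebraMap R K)).hom := by
    apply gmFn_injective
    rw [Groth.Reductive.gmFn_comp]
    exact hJt.trans (gmFn_gmMk (bcT (algebraMap R K))).symm
  haveI : IsMonHom ((bcGm (algebraMap R K)).hom) := inferInstance
  haveI : Flat G.hom := inferInstance
  haveI : IsAffineHom G.hom := isAffineHom_of_isAffine _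
  haveI := flat_Gm (R := R)
  haveI := Groth.NeronArea.isSchemeTheoreticallyDominant_specMap (algebraMap R K)
    (IsFractionRing.injective R K)
  refine ⟨j, ?_, hopen, hcomp⟩
  refine isMonHom_of_fibre fK Gm G j ?_
  have hJe : J = (bcGm (algebraMap R K)).hom ≫ e.inv := by
    rw [← hcomp, Category.assoc, e.hom_inv_id, Category.comp_id]
  show IsMonHom J
  rw [hJe]
  infer_instance

end Groth.NeronArea.GmOpen
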