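import Mathlib.RingTheory.Etale.Basic
import Mathlib.RingTheory.Idempotents
import Mathlib.RingTheory.AdjoinRoot
import Mathlib.LinearAlgebra.Matrix.Charpoly.Coeff
import Mathlib.LinearAlgebra.Matrix.ToLinearEquiv
import Mathlib.RingTheory.FinitePresentation
import Mathlib.RingTheory.Nilpotent.Lemmas

/-! An idempotent matrix modulo an ideal lifts after an etale extension. -/

open Polynomial

namespace Groth.NeronArea.IdemMatrix

universe u

variable {Q : Type u} [CommRing Q] {m : ℕ}

noncomputable def poly (c : Fin m → Q) : Q[X] := ∑ k, C (c k) * X ^ (k : ℕ)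

lemma poly_map {Q' : Type u} [CommRing Q'] (f : Q →+* Q') (c : Fin m → Q) :
    (poly c).map f = poly (f ∘ c) := by
  simp [poly, Polynomial.map_sum]

lemma coeff_poly (c : Fin m → Q) (k : Fin m) : (poly c).coeff k = c k := by
  simp only [poly, finsetSum_coeff, coeff_C_mul_X_pow]
  rw [Finset.sum_eq_single k]
  · simp
  · intro b _ hb; simp [Fin.val_injective.ne hb.symm]
  · simp

lemma poly_sub (c d : Fin m → Q) : poly (c - d) = poly c - poly d := by
  simp [poly, sub_mul, Finset.sum_sub_distrib, Pi.sub_apply]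

lemma degree_poly_lt (c : Fin m → Q) : (poly c).degree < m := by
  refine (degree_sum_le _ _).trans_lt ((Finset.sup_lt_iff (WithBot.bot_lt_coe m)).2 fun k _ => ?_)
  exact (degree_C_mul_X_pow_le _ _).trans_lt (Nat.cast_lt.2 k.2)

lemma eq_poly_of_degree_lt (p : Q[X]) (h : p.degree < m) : p = poly fun k : Fin m => p.coeff k := by
  ext j
  by_cases hj : j < m
  · exact (coeff_poly (fun k : Fin m => p.coeff k) ⟨j, hj⟩).symm
  · rw [coeff_eq_zero_of_degree_lt (h.trans_le (by exact_mod_cast not_lt.1 hj)),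
      coeff_eq_zero_of_degree_lt ((degree_poly_lt _).trans_le (by exact_mod_cast not_lt.1 hj))]

variable (χ : Q[X])

/-- Coordinates of `e² - e` for the element `e` with coordinates `c` modulo `χ`. -/
noncomputable def rel (c : Fin m → Q) (k : Fin m) : Q := ((poly c * poly c - poly c) %ₘ χ).coeff k

lemma rel_map {Q' : Type u} [CommRing Q'] (f : Q →+* Q') (hχ : χ.Monic) (c : Fin m → Q) (k : Fin m) :
    f (rel χ c k) = rel (χ.map f) (f ∘ c) k := by
  rw [rel, rel, ← coeff_map, map_modByMonic _ hχ, Polynomial.map_sub, Polynomial.map_mul, poly_map]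

variable {χ} (hχ : χ.Monic) (hdeg : Nontrivial Q → χ.natDegree = m)
include hχ hdeg

lemma degree_modByMonic_lt' (p : Q[X]) : (p %ₘ χ).degree < m := by
  cases subsingleton_or_nontrivial Q
  · rw [Subsingleton.elim (p %ₘ χ) 0, degree_zero]; exact WithBot.bot_lt_coe m
  · refine (degree_modByMonic_lt p hχ).trans_le ?_
    rw [degree_eq_natDegree hχ.ne_zero, hdeg ‹_›]

lemma mk_eq_mk_poly (p : Q[X]) :
    ∃ c : Fin m → Q, AdjoinRoot.mk χ p = AdjoinRoot.mk χ (poly c) := by
  refine ⟨fun k => (p %ₘ χ).coeff k, ?_⟩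
  rw [← eq_poly_of_degree_lt _ (degree_modByMonic_lt' hχ hdeg p), AdjoinRoot.mk_eq_mk]
  exact ⟨p /ₘ χ, by linear_combination (modByMonic_add_div p χ).symm⟩

lemma poly_eq_zero_of_dvd {c : Fin m → Q} (h : χ ∣ poly c) : c = 0 := by
  cases subsingleton_or_nontrivial Q
  · exact Subsingleton.elim _ _
  have h0 : poly c %ₘ χ = 0 := (modByMonic_eq_zero_iff_dvd hχ).2 h
  rw [(modByMonic_eq_self_iff hχ).2 (by rw [degree_eq_natDegree hχ.ne_zero, hdeg ‹_›]; exact degree_poly_lt c)] at h0
  funext k; rw [← coeff_poly c k, h0]; simp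

lemma rel_eq_zero_iff (c : Fin m → Q) :
    (∀ k, rel χ c k = 0) ↔ IsIdempotentElem (AdjoinRoot.mk χ (poly c)) := by
  rw [IsIdempotentElem, ← map_mul, ← sub_eq_zero (a := AdjoinRoot.mk χ _), ← map_sub,
    AdjoinRoot.mk_eq_zero, ← modByMonic_eq_zero_iff_dvd hχ]
  constructor
  · intro h
    rw [eq_poly_of_degree_lt _ (degree_modByMonic_lt' hχ hdeg _)]
    rw [show (fun k : Fin m => ((poly c * poly c - poly c) %ₘ χ).coeff k) = 0 from funext h]
    simp [poly]
  · intro h k; simp [rel, h]

omit hdeg in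
lemma mk_eq_mk_map_mul {p q : Q[X]} {J : Ideal Q} (hJ : J ^ 2 = ⊥)
    (hp : ∀ k, (p %ₘ χ).coeff k ∈ J) (hq : ∀ k, (q %ₘ χ).coeff k ∈ J) :
    AdjoinRoot.mk χ p * AdjoinRoot.mk χ q = 0 := by
  have hm : ∀ p : Q[X], AdjoinRoot.mk χ p = AdjoinRoot.mk χ (p %ₘ χ) := fun p => by
    rw [AdjoinRoot.mk_eq_mk]
    exact ⟨p /ₘ χ, by linear_combination (modByMonic_add_div p χ).symm⟩
  rw [hm p, hm q, ← map_mul]
  refine (congrArg _ ?_).trans (map_zero _)
  have h1 : p %ₘ χ ∈ J.map C := Ideal.mem_map_C_iff.2 hp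
  have h2 : q %ₘ χ ∈ J.map C := Ideal.mem_map_C_iff.2 hq
  have := Ideal.mul_mem_mul h1 h2
  rwa [← sq, ← Ideal.map_pow, hJ, Ideal.map_bot, Ideal.mem_bot] at this

end Groth.NeronArea.IdemMatrix

namespace Groth.NeronArea.IdemMatrix

universe u

variable {A : Type u} [CommRing A] {m : ℕ} (χ : A[X])

noncomputable def relIdeal : Ideal (MvPolynomial (Fin m) A) :=
  Ideal.span (Set.range (rel (χ.map MvPolynomial.C) fun k : Fin m => MvPolynomial.X k))

/-- The scheme of idempotents of `A[T]/χ`. -/
abbrev IdemAlg : Type u := MvPolynomial (Fin m) A ⧸ relIdeal (m := m) χ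

noncomputable def gen (k : Fin m) : IdemAlg (m := m) χ := Ideal.Quotient.mk _ (MvPolynomial.X k)

variable {χ} (hχ : χ.Monic) (hdeg : Nontrivial A → χ.natDegree = m)
include hdeg in
lemma natDegree_map' (hχ : χ.Monic) {Q : Type u} [CommRing Q] [Algebra A Q] :
    Nontrivial Q → (χ.map (algebraMap A Q)).natDegree = m := fun _ => by
  rw [hχ.natDegree_map]; exact hdeg (algebraMap A Q).domain_nontrivial

include hχ in
lemma rel_gen (k : Fin m) : rel (χ.map (algebraMap A (IdemAlg (m := m) χ))) (gen χ) k = 0 := by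
  have h := rel_map (χ.map (MvPolynomial.C (σ := Fin m))) (Ideal.Quotient.mk (relIdeal (m := m) χ))
    (hχ.map _) (fun k => MvPolynomial.X k) k
  rw [Polynomial.map_map] at h
  refine (h.symm.trans ?_)
  exact Ideal.Quotient.eq_zero_iff_mem.2 (Ideal.subset_span ⟨k, rfl⟩)

noncomputable def point {Q : Type u} [CommRing Q] [Algebra A Q] (hχ : χ.Monic) (c : Fin m → Q)
    (hc : ∀ k, rel (χ.map (algebraMap A Q)) c k = 0) : IdemAlg (m := m) χ →ₐ[A] Q :=
  Ideal.Quotient.liftₐ _ (MvPolynomial.aeval c) fun p hp => by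
    induction hp using Submodule.span_induction with
    | mem x hx =>
      obtain ⟨k, rfl⟩ := hx
      have h := rel_map (χ.map MvPolynomial.C) (MvPolynomial.aeval c).toRingHom (hχ.map _)
        (fun k => MvPolynomial.X k) k
      rw [Polynomial.map_map] at h
      refine h.trans ?_
      convert hc k using 2
      · congr 1; exact RingHom.ext fun a => MvPolynomial.aeval_C c a
      · funext j; exact MvPolynomial.aeval_X c j
    | zero => simp
    | add x y _ _ hx hy => rw [map_add, hx, hy, add_zero]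
    | smul r x _ hx => rw [smul_eq_mul, map_mul, hx, mul_zero]

lemma point_gen {Q : Type u} [CommRing Q] [Algebra A Q] (c : Fin m → Q)
    (hc : ∀ k, rel (χ.map (algebraMap A Q)) c k = 0) (k : Fin m) : point hχ c hc (gen χ k) = c k :=
  MvPolynomial.aeval_X c k

lemma hom_ext {Q : Type u} [CommRing Q] [Algebra A Q] {f g : IdemAlg (m := m) χ →ₐ[A] Q}
    (h : ∀ k, f (gen χ k) = g (gen χ k)) : f = g :=
  Ideal.Quotient.algHom_ext _ (MvPolynomial.algHom_ext h)

lemma finitePresentation_idemAlg : Algebra.FinitePresentation A (IdemAlg (m := m) χ) :=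
  Algebra.FinitePresentation.quotient
    (Submodule.fg_span (Set.finite_range _))

include hχ hdeg in
theorem formallyEtale_idemAlg : Algebra.FormallyEtale A (IdemAlg (m := m) χ) := by
  rw [Algebra.FormallyEtale.iff_comp_bijective]
  intro Q _ _ J hJ
  let g := Ideal.Quotient.mk J
  have hd := natDegree_map' (Q := Q) hdeg hχ
  have hd0 := natDegree_map' (Q := Q ⧸ J) hdeg hχ
  let χQ := χ.map (algebraMap A Q)
  have hmap : χQ.map g = χ.map (algebraMap A (Q ⧸ J)) := by
    rw [Polynomial.map_map]; rfl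
  constructor
  · intro f₁ f₂ h
    refine hom_ext fun k => ?_
    let c₁ := fun k => f₁ (gen χ k)
    let c₂ := fun k => f₂ (gen χ k)
    have hid : ∀ f : IdemAlg (m := m) χ →ₐ[A] Q,
        IsIdempotentElem (AdjoinRoot.mk χQ (poly fun k => f (gen χ k))) := fun f =>
      (rel_eq_zero_iff (hχ.map _) hd _).1 fun k => by
        have := rel_map (χ.map (algebraMap A (IdemAlg (m := m) χ))) f.toRingHom (hχ.map _) (gen χ) k
        rw [rel_gen hχ, map_zero, Polynomial.map_map, show f.toRingHom.comp (algebraMap A _) =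
          algebraMap A Q from f.comp_algebraMap] at this
        exact this.symm
    have hmem : ∀ j, ((poly c₁ - poly c₂) %ₘ χQ).coeff j ∈ J := by
      intro j
      rw [← Ideal.Quotient.eq_zero_iff_mem, ← coeff_map, map_modByMonic _ (hχ.map _),
        Polynomial.map_sub, poly_map, poly_map]
      have : g ∘ c₁ = g ∘ c₂ := funext fun k => AlgHom.congr_fun h (gen χ k)
      rw [this, sub_self, zero_modByMonic, coeff_zero]
    have h2 : AdjoinRoot.mk χQ (poly c₁) = AdjoinRoot.mk χQ (poly c₂) :=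
      eq_of_isNilpotent_sub_of_isIdempotentElem (hid f₁) (hid f₂) ⟨2, by
        rw [pow_two, ← map_sub]; exact mk_eq_mk_map_mul (hχ.map _) hJ hmem hmem⟩
    rw [AdjoinRoot.mk_eq_mk] at h2
    have h3 := poly_eq_zero_of_dvd (hχ.map _) hd (c := c₁ - c₂) (by
      rw [poly_sub]; exact h2)
    exact sub_eq_zero.1 (congrFun h3 k)
  · intro f₀
    let c₀ := fun k => f₀ (gen χ k)
    have hc₀ : IsIdempotentElem (AdjoinRoot.mk (χ.map (algebraMap A (Q ⧸ J))) (poly c₀)) :=
      (rel_eq_zero_iff (hχ.map _) hd0 _).1 fun k => by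
        have := rel_map (χ.map (algebraMap A (IdemAlg (m := m) χ))) f₀.toRingHom (hχ.map _) (gen χ) k
        rw [rel_gen hχ, map_zero, Polynomial.map_map, show f₀.toRingHom.comp (algebraMap A _) =
          algebraMap A (Q ⧸ J) from f₀.comp_algebraMap] at this
        exact this.symm
    let G : AdjoinRoot χQ →+* AdjoinRoot (χ.map (algebraMap A (Q ⧸ J))) :=
      AdjoinRoot.map g χQ _ (by rw [hmap])
    have hG : ∀ p, G (AdjoinRoot.mk χQ p) = AdjoinRoot.mk _ (p.map g) := fun p => by
      simp only [G, AdjoinRoot.map, AdjoinRoot.lift_mk]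
      rw [← eval₂_map, ← AdjoinRoot.algebraMap_eq, ← aeval_def, AdjoinRoot.aeval_eq]
    choose c hc using fun k => Ideal.Quotient.mk_surjective (c₀ k)
    have hker : ∀ x ∈ RingHom.ker G, IsNilpotent x := fun x hx => by
      obtain ⟨p, rfl⟩ := AdjoinRoot.mk_surjective x
      rw [RingHom.mem_ker, hG, AdjoinRoot.mk_eq_zero, ← modByMonic_eq_zero_iff_dvd (hχ.map _),
        ← hmap, ← map_modByMonic _ (hχ.map _)] at hx
      have hp : ∀ j, (p %ₘ χQ).coeff j ∈ J := fun j => by
        rw [← Ideal.Quotient.eq_zero_iff_mem, ← coeff_map, hx]; simp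
      exact ⟨2, by rw [pow_two]; exact mk_eq_mk_map_mul (hχ.map _) hJ hp hp⟩
    obtain ⟨y, hy, hy'⟩ := exists_isIdempotentElem_eq_of_ker_isNilpotent G hker _
      ⟨AdjoinRoot.mk χQ (poly c), by rw [hG, poly_map, show g ∘ c = c₀ from funext hc]⟩ hc₀
    obtain ⟨p, rfl⟩ := AdjoinRoot.mk_surjective y
    obtain ⟨d, hd'⟩ := mk_eq_mk_poly (hχ.map (algebraMap A Q)) hd p
    rw [hd'] at hy hy'
    refine ⟨point hχ d ((rel_eq_zero_iff (hχ.map _) hd d).2 hy), hom_ext fun k => ?_⟩
    rw [hG, poly_map, AdjoinRoot.mk_eq_mk] at hy'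
    have h3 := poly_eq_zero_of_dvd (hχ.map _) hd0 (c := g ∘ d - c₀) (by
      rw [poly_sub]; exact hy')
    show g (point hχ d ((rel_eq_zero_iff (hχ.map _) hd d).2 hy) (gen χ k)) = c₀ k
    rw [point_gen]
    exact sub_eq_zero.1 (congrFun h3 k)

lemma eq_of_commute_idem {S : Type u} [Ring S] {a b : S} (ha : IsIdempotentElem a) (hb : IsIdempotentElem b)
    (hab : Commute a b) (h : IsNilpotent (a - b)) : a = b :=
  eq_of_isNilpotent_sub_of_isIdempotentElem_of_commute ha hb h hab

/-- For an idempotent matrix, a polynomial in it reproduces it and is idempotent modulo its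
characteristic polynomial. -/
theorem exists_idem_coords {B : Type u} [CommRing B] (E : Matrix (Fin m) (Fin m) B)
    (hE : IsIdempotentElem E) :
    ∃ c : Fin m → B, (∀ k, rel E.charpoly c k = 0) ∧ aeval E (poly c) = E := by
  have hm : Nontrivial B → E.charpoly.natDegree = m := fun _ => by
    simpa using E.charpoly_natDegree_eq_dim
  let z : AdjoinRoot E.charpoly := AdjoinRoot.mk _ (X ^ 2 - X)
  have hz : IsNilpotent z := by
    rw [nilpotent_iff_mem_prime]
    intro P hP
    let K := FractionRing (AdjoinRoot E.charpoly ⧸ P)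
    let f : AdjoinRoot E.charpoly →+* K := (algebraMap _ K).comp (Ideal.Quotient.mk P)
    let fb : B →+* K := f.comp (AdjoinRoot.of E.charpoly)
    let t := f (AdjoinRoot.root E.charpoly)
    have hev : ∀ p : B[X], f (AdjoinRoot.mk _ p) = (p.map fb).eval t := fun p => by
      have : (f.comp (AdjoinRoot.mk E.charpoly)) = eval₂RingHom fb t := ringHom_ext (by simp [fb]) (by simp [t])
      rw [eval_map]; exact RingHom.congr_fun this p
    have hroot : (E.map fb).charpoly.eval t = 0 := by
      rw [Matrix.charpoly_map, ← hev, AdjoinRoot.mk_self, map_zero]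
    rw [Matrix.eval_charpoly] at hroot
    obtain ⟨w, hw, hw'⟩ := Matrix.exists_mulVec_eq_zero_iff.2 hroot
    rw [Matrix.sub_mulVec, sub_eq_zero, Matrix.scalar_apply, ← Matrix.smul_one_eq_diagonal,
      Matrix.smul_mulVec, Matrix.one_mulVec] at hw'
    have hE' : (E.map fb) * (E.map fb) = E.map fb := by rw [← Matrix.map_mul, hE]
    have h2 : (t ^ 2 - t) • w = 0 := by
      have h : t • t • w = t • w :=
        calc t • t • w = t • (E.map fb).mulVec w := by rw [← hw']
          _ = (E.map fb).mulVec (t • w) := (Matrix.mulVec_smul _ _ _).symm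
          _ = (E.map fb).mulVec ((E.map fb).mulVec w) := by rw [hw']
          _ = (E.map fb).mulVec w := by rw [Matrix.mulVec_mulVec, hE']
          _ = t • w := hw'.symm
      rw [sub_smul, pow_two, mul_smul, h, sub_self]
    have h3 : t ^ 2 - t = 0 := (smul_eq_zero.1 h2).resolve_right hw
    have h4 : f z = 0 := by rw [hev]; simpa using h3
    have h5 : Ideal.Quotient.mk P z = 0 := IsFractionRing.injective _ K (h4.trans (map_zero _).symm)
    exact Ideal.Quotient.eq_zero_iff_mem.1 h5
  let I := Ideal.span {z}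
  have hI : ∀ x ∈ RingHom.ker (Ideal.Quotient.mk I), IsNilpotent x := fun x hx => by
    rw [Ideal.mk_ker, Ideal.mem_span_singleton'] at hx
    obtain ⟨a, rfl⟩ := hx
    exact (Commute.all a z).isNilpotent_mul_left hz
  let T := AdjoinRoot.root E.charpoly
  obtain ⟨y, hy, hy'⟩ := exists_isIdempotentElem_eq_of_ker_isNilpotent (Ideal.Quotient.mk I) hI
    (Ideal.Quotient.mk I T) ⟨T, rfl⟩ (by
      rw [IsIdempotentElem, ← map_mul, Ideal.Quotient.eq]
      exact Ideal.mem_span_singleton'.2 ⟨1, by simp [z, T, pow_two]⟩)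
  obtain ⟨p, rfl⟩ := AdjoinRoot.mk_surjective y
  obtain ⟨c, hc⟩ := mk_eq_mk_poly E.charpoly_monic hm p
  rw [hc] at hy hy'
  refine ⟨c, (rel_eq_zero_iff E.charpoly_monic hm c).2 hy, ?_⟩
  have hev0 : aeval E E.charpoly = 0 := Matrix.aeval_self_charpoly E
  have hev : ∀ p q : B[X], AdjoinRoot.mk E.charpoly p = AdjoinRoot.mk _ q → aeval E p = aeval E q := by
    intro p q h
    obtain ⟨r, hr⟩ := AdjoinRoot.mk_eq_mk.1 h
    rw [← sub_eq_zero, ← map_sub, hr, map_mul, hev0, zero_mul]
  have hidem : IsIdempotentElem (aeval E (poly c)) := by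
    have := hev (poly c * poly c) (poly c) (by rw [map_mul]; exact hy)
    rwa [map_mul] at this
  have hnil : IsNilpotent (aeval E (poly c) - E) := by
    obtain ⟨n, hn⟩ := hI (AdjoinRoot.mk _ (poly c) - T) (by
      rw [RingHom.mem_ker, map_sub, hy', sub_self])
    refine ⟨n, ?_⟩
    have := hev ((poly c - X) ^ n) 0 (by rw [map_pow, map_sub, map_zero]; exact hn)
    simpa using this
  have hc' : Commute (aeval E (poly c)) E := by
    have := (Commute.all (poly c) X).map (aeval E).toRingHom
    simpa using this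
  exact eq_of_commute_idem hidem hE hc' hnil

/-- An idempotent matrix modulo an ideal lifts to an idempotent matrix over an étale algebra. -/
theorem exists_etale_idempotent (A₀ : Type u) [CommRing A₀] [Algebra A A₀]
    (hsurj : Function.Surjective (algebraMap A A₀)) (F : Matrix (Fin m) (Fin m) A)
    (hF : IsIdempotentElem (F.map (algebraMap A A₀))) :
    ∃ (U : Type u) (_ : CommRing U) (_ : Algebra A U), Algebra.Etale A U ∧
      ∃ (ψ : U →ₐ[A] A₀) (s : Finset U),
        RingHom.ker ψ.toRingHom = (RingHom.ker (algebraMap A A₀)).map (algebraMap A U) ⊔ Ideal.span s ∧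
        RingHom.ker ψ.toRingHom ≤
          (RingHom.ker (algebraMap A A₀)).map (algebraMap A U) ⊔ RingHom.ker ψ.toRingHom ^ 2 ∧
        ∃ E : Matrix (Fin m) (Fin m) U, IsIdempotentElem E ∧ E.map ψ = F.map (algebraMap A A₀) := by
  classical
  let χ := F.charpoly
  have hχ : χ.Monic := F.charpoly_monic
  have hdeg : Nontrivial A → χ.natDegree = m := fun _ => by simpa [χ] using F.charpoly_natDegree_eq_dim
  have hχ0 : χ.map (algebraMap A A₀) = (F.map (algebraMap A A₀)).charpoly := (F.charpoly_map _).symm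
  obtain ⟨c₀, hc₀, hc₀E⟩ := exists_idem_coords _ hF
  have hc₀' : ∀ k, rel (χ.map (algebraMap A A₀)) c₀ k = 0 := by rwa [hχ0]
  have hfe := formallyEtale_idemAlg hχ hdeg
  have hfp := finitePresentation_idemAlg (χ := χ) (m := m)
  let U := IdemAlg (m := m) χ
  let ψ : U →ₐ[A] A₀ := point hχ c₀ hc₀'
  choose a ha using fun k => hsurj (c₀ k)
  let s : Finset U := Finset.univ.image fun k => gen χ k - algebraMap A U (a k)
  let J₀ := (RingHom.ker (algebraMap A A₀)).map (algebraMap A U)
  have hs : ↑s ⊆ (RingHom.ker ψ.toRingHom : Set U) := by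
    intro x hx
    obtain ⟨k, -, rfl⟩ := Finset.mem_image.1 (Finset.mem_coe.1 hx)
    show ψ _ = 0
    rw [map_sub, AlgHom.commutes, point_gen, ha, sub_self]
  have hJ₀ : J₀ ≤ RingHom.ker ψ.toRingHom := Ideal.map_le_iff_le_comap.2 fun x hx => by
    show ψ (algebraMap A U x) = 0
    rw [AlgHom.commutes]; exact hx
  have hred : ∀ x : U, ∃ r : A, x - algebraMap A U r ∈ J₀ ⊔ Ideal.span (s : Set U) := by
    intro x
    obtain ⟨p, rfl⟩ := Ideal.Quotient.mk_surjective x
    induction p using MvPolynomial.induction_on with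
    | C r =>
      refine ⟨r, ?_⟩
      rw [show Ideal.Quotient.mk _ (MvPolynomial.C r) = algebraMap A U r from rfl, sub_self]
      exact zero_mem _
    | add p q hp hq =>
      obtain ⟨r, hr⟩ := hp; obtain ⟨t, ht⟩ := hq
      exact ⟨r + t, by simpa [map_add, add_sub_add_comm] using add_mem hr ht⟩
    | mul_X p k hp =>
      obtain ⟨r, hr⟩ := hp
      refine ⟨r * a k, ?_⟩
      have : Ideal.Quotient.mk _ (p * MvPolynomial.X k) - algebraMap A U (r * a k) =
          (Ideal.Quotient.mk _ p - algebraMap A U r) * gen χ k +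
            algebraMap A U r * (gen χ k - algebraMap A U (a k)) := by
        rw [map_mul, map_mul]; show _ * gen χ k - _ = _; ring
      rw [this]
      exact add_mem (Ideal.mul_mem_right _ _ hr) (Ideal.mul_mem_left _ _
        (Ideal.mem_sup_right (Ideal.subset_span (Finset.mem_image_of_mem _ (Finset.mem_univ k)))))
  have hker : RingHom.ker ψ.toRingHom = J₀ ⊔ Ideal.span (s : Set U) := by
    refine le_antisymm (fun x hx => ?_) (sup_le hJ₀ (Ideal.span_le.2 hs))
    obtain ⟨r, hr⟩ := hred x
    have hr0 : r ∈ RingHom.ker (algebraMap A A₀) := by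
      have := (sup_le hJ₀ (Ideal.span_le.2 hs)) hr
      rw [RingHom.mem_ker] at this hx ⊢
      rw [map_sub, hx, zero_sub, neg_eq_zero] at this
      exact (ψ.commutes r).symm.trans this
    simpa using add_mem hr (Ideal.mem_sup_left (Ideal.mem_map_of_mem (algebraMap A U) hr0))
  refine ⟨U, inferInstance, inferInstance, ⟨inferInstance, inferInstance⟩, ψ, s, hker, ?_, ?_⟩
  · let J := RingHom.ker ψ.toRingHom
    let L : Ideal U := J₀ ⊔ J ^ 2
    let sec₀ : A →ₐ[A] U ⧸ L := Algebra.ofId A _
    -- two lifts of `ψ` modulo `L` agree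
    choose r hr using hsurj
    have hr' : ∀ x y : A, algebraMap A A₀ x = algebraMap A A₀ y →
        algebraMap A (U ⧸ L) x = algebraMap A (U ⧸ L) y := fun x y h => by
      rw [← sub_eq_zero, ← map_sub]
      exact Ideal.Quotient.eq_zero_iff_mem.2 (Ideal.mem_sup_left
        (Ideal.mem_map_of_mem (algebraMap A U) (by rw [RingHom.mem_ker, map_sub, h, sub_self])))
    let sec : A₀ →ₐ[A] U ⧸ L :=
      { toFun := fun z => algebraMap A _ (r z)
        map_one' := by rw [hr' (r 1) 1 (by simp [hr]), map_one]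
        map_mul' := fun x y => by rw [← map_mul]; exact hr' _ _ (by simp [hr])
        map_zero' := by rw [hr' (r 0) 0 (by simp [hr]), map_zero]
        map_add' := fun x y => by rw [← map_add]; exact hr' _ _ (by simp [hr])
        commutes' := fun x => hr' _ _ (by simp [hr]) }
    have heq : (Ideal.Quotient.mkₐ A L : U →ₐ[A] U ⧸ L) = sec.comp ψ := by
      refine Algebra.FormallyUnramified.ext (I := J.map (Ideal.Quotient.mk L)) ⟨2, ?_⟩ fun x => ?_
      · rw [← Ideal.map_pow, Ideal.zero_eq_bot, eq_bot_iff, Ideal.map_le_iff_le_comap]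
        intro x hx
        exact Ideal.mem_bot.2 (Ideal.Quotient.eq_zero_iff_mem.2 (Ideal.mem_sup_right hx))
      · rw [Ideal.Quotient.eq]
        have hmem : x - algebraMap A U (r (ψ x)) ∈ J := by
          show ψ _ = 0
          rw [map_sub, AlgHom.commutes, hr, sub_self]
        have h := Ideal.mem_map_of_mem (Ideal.Quotient.mk L) hmem
        rw [map_sub] at h
        exact h
    intro x hx
    refine Ideal.Quotient.eq_zero_iff_mem.1 ((AlgHom.congr_fun heq x).trans ?_)
    show sec (ψ x) = 0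
    rw [show ψ x = 0 from hx, map_zero]
  · let FU := F.map (algebraMap A U)
    refine ⟨aeval FU (poly (gen χ : Fin m → U)), ?_, ?_⟩
    · have hz : ∀ k, rel (χ.map (algebraMap A U)) (gen χ) k = 0 := rel_gen hχ
      have hid := (rel_eq_zero_iff (hχ.map _) (natDegree_map' hdeg hχ) _).1 hz
      rw [IsIdempotentElem, ← map_mul, AdjoinRoot.mk_eq_mk] at hid
      obtain ⟨q, hq⟩ := hid
      have : aeval FU (χ.map (algebraMap A U)) = 0 := by
        rw [← F.charpoly_map]; exact Matrix.aeval_self_charpoly _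
      rw [IsIdempotentElem, ← sub_eq_zero, ← map_mul, ← map_sub, hq, map_mul, this, zero_mul]
    · have hmm : FU.map ψ = F.map (algebraMap A A₀) := by
        ext i j; exact ψ.commutes _
      conv_rhs => rw [← hc₀E]
      rw [poly, poly, map_sum, map_sum]
      have key : ∀ (Mt : Matrix (Fin m) (Fin m) U), Mt.map ψ = (AlgHom.mapMatrix ψ) Mt := fun _ => rfl
      rw [key, map_sum]
      refine Finset.sum_congr rfl fun k _ => ?_
      simp only [map_mul, map_pow, aeval_X, aeval_C, ← key FU, hmm]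
      congr 1
      rw [Matrix.algebraMap_eq_diagonal, Matrix.algebraMap_eq_diagonal, ← key]
      ext i j
      by_cases h : i = j
      · subst h; simp [ψ]; exact point_gen hχ c₀ hc₀' k
      · simp [Matrix.diagonal_apply_ne _ h]

end Groth.NeronArea.IdemMatrix
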