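import Groth.Agent.NeronArea.IsogenyModel
import Groth.Agent.GrpschAbsch.Deligne
import Groth.Agent.GrpschAbsch.AbVarEtale
import Groth.Agent.GrpschAbsch.GrpEtaleRel
import Groth.Agent.GrpschAbsch.NeutralSet

/-! Isogenies of invertible degree between Néron models are étale. -/

universe u

open CategoryTheory CategoryTheory.Limits MonoidalCategory CartesianMonoidalCategory MonObj GrpObj
  AlgebraicGeometry

open scoped CategoryTheory.Obj

namespace Groth.NeronArea.Isogeny

variable {R : Type u} [CommRing R] [IsDedekindDomain R]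

/-- The base change of a kernel is a kernel. -/
theorem isKernel_map {S S' : Scheme.{u}} (t : S' ⟶ S) {A B N : Over S} [GrpObj A] [GrpObj B]
    (φ : A ⟶ B) [IsMonHom φ] (i : N ⟶ A) (hN : AlgGrp.IsKernel i φ) :
    letI : GrpObj ((Over.pullback t).obj B) := Functor.grpObjObj
    AlgGrp.IsKernel ((Over.pullback t).map i) ((Over.pullback t).map φ) := by
  letI : GrpObj ((Over.pullback t).obj B) := Functor.grpObjObj
  have := Groth.AlgGrp1.IsKernel.mono hN
  have sq := hN.map (Over.pullback t)
  refine Groth.AlgGrp1.IsKernel.mk' inferInstance fun T g => ⟨?_, fun hg => ?_⟩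
  · rintro ⟨n, rfl⟩
    rw [Category.assoc, ← Functor.map_comp, Groth.AlgGrp1.IsKernel.comp_eq_one hN,
      show (Over.pullback t).map (1 : N ⟶ B) = 1 from map_one ((Over.pullback t).homMonoidHom), MonObj.comp_one]
  · refine ⟨sq.lift g (toUnit T ≫ Functor.LaxMonoidal.ε (Over.pullback t)) ?_, sq.lift_fst _ _ _⟩
    rw [hg, Category.assoc, ← Functor.obj.η_def]
    rfl

/-- A flat separated group scheme with commutative generic fibre is commutative. -/
theorem isCommMonObj_of_genericFibre (A : Over (Spec (CommRingCat.of R))) [GrpObj A] [Flat A.hom] [IsSeparated A.hom]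
    (h : letI : GrpObj ((Neron.genericFibre R).obj A) := Functor.grpObjObj
      IsCommMonObj ((Neron.genericFibre R).obj A)) : IsCommMonObj A := by
  letI : GrpObj ((Neron.genericFibre R).obj A) := Functor.grpObjObj
  have := h
  have : Flat (A ⊗ A).hom := inferInstanceAs (Flat (pullback.fst A.hom A.hom ≫ A.hom))
  constructor
  rw [MonObj.mul_eq_mul, MonObj.comp_mul, braiding_hom_fst, braiding_hom_snd]
  apply map_injective_of_flat (Neron.genPt R) (A ⊗ A) A
  show (Over.pullback (Neron.genPt R)).homMonoidHom (snd A A * fst A A) =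
    (Over.pullback (Neron.genPt R)).homMonoidHom (fst A A * snd A A)
  rw [map_mul, map_mul, mul_comm]

variable {A B : Over (Spec (CommRingCat.of R))} [GrpObj A] [GrpObj B]
    [Smooth A.hom] [IsSeparated A.hom] [QuasiCompact A.hom] [Smooth B.hom] [IsSeparated B.hom] [QuasiCompact B.hom]
    [IsProper ((Neron.genericFibre R).obj A).hom] [GeometricallyIntegral ((Neron.genericFibre R).obj A).hom]
    [IsProper ((Neron.genericFibre R).obj B).hom] [GeometricallyIntegral ((Neron.genericFibre R).obj B).hom]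
    (φ : A ⟶ B) [IsMonHom φ] {N : Over (Spec (CommRingCat.of R))} (i : N ⟶ A)

theorem etale_of_isUnit_degree (hφ : SGA7.IsIsogenyOver ((Neron.genericFibre R).map φ))
    (hA : Function.Bijective (fun g : B ⟶ A => (Neron.genericFibre R).map g))
    (hA' : Function.Injective (fun g : A ⟶ A => (Neron.genericFibre R).map g))
    (hN : AlgGrp.IsKernel i φ)
    (hdeg : ∀ x : ↥(Spec (CommRingCat.of (FractionRing R))),
      IsUnit ((((Neron.genericFibre R).obj N).hom.finrank x : ℕ) : R)) :
    Etale φ.left := by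
  let F := Neron.genericFibre R
  letI : GrpObj (F.obj A) := Functor.grpObjObj
  letI : GrpObj (F.obj B) := Functor.grpObjObj
  have := Groth.GrpschAbsch.isCommMonObj_of_isProper (F.obj A)
  have : IsCommMonObj A := isCommMonObj_of_genericFibre A inferInstance
  obtain ⟨hsurj, hker⟩ := id hφ
  have hflat : Flat (F.map φ).left := (isFinite_of_isogeny (F.map φ) hφ).2
  have hk : AlgGrp.IsKernel (F.map i) (F.map φ) := isKernel_map (Neron.genPt R) φ i hN
  have hfin : IsFinite (F.obj N).hom := hker _ _ hk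
  have := Groth.AlgGrp1.IsKernel.mono hk
  have hiff : ∀ {T : Over (Spec (CommRingCat.of (FractionRing R)))} (g : T ⟶ F.obj A),
      (∃ z : T ⟶ F.obj N, z ≫ F.map i = g) ↔ g ≫ F.map φ = 1 := fun g => Groth.AlgGrp1.IsKernel.exists_iff hk g
  obtain ⟨_, hmon⟩ := Groth.GrpschAbsch.NeutralSet.exists_grpObj_of_mono (F.obj A) (F.map i)
    ((hiff _).2 (by rw [MonObj.one_eq_one, MonObj.one_comp]))
    ((hiff _).2 (by rw [MonObj.mul_comp, Category.assoc, Category.assoc,
      Groth.AlgGrp1.IsKernel.comp_eq_one hk, MonObj.comp_one, MonObj.comp_one, _root_.one_mul]))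
    ((hiff _).2 (by rw [GrpObj.inv_comp, Groth.AlgGrp1.IsKernel.comp_eq_one hk, inv_one]))
  have : IsCommMonObj (F.obj N) := ⟨by
    rw [← cancel_mono (F.map i), Category.assoc, IsMonHom.mul_hom,
      ← BraidedCategory.braiding_naturality_assoc, IsCommMonObj.mul_comm]⟩
  let x₀ : ↥(Spec (CommRingCat.of (FractionRing R))) := IsLocalRing.closedPoint (FractionRing R)
  let n := (F.obj N).hom.finrank x₀
  have : Flat (F.obj N).hom := inferInstance
  have : LocallyOfFinitePresentation (F.obj N).hom := inferInstance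
  have hNn : (𝟙 (F.obj N) : F.obj N ⟶ F.obj N) ^ n = 1 :=
    Groth.GrpschAbsch.pow_rank_eq_one (F.obj N) n fun s => by
      rw [Subsingleton.elim (α := ↥(Spec (CommRingCat.of (FractionRing R)))) s x₀]
  have hcov : Groth.AlgGrp1.IsCover (F.map φ) := Groth.AlgGrp1.isCover (F.map φ)
  obtain ⟨ψK, hψK⟩ := hcov.exists_desc ((𝟙 (F.obj A) : F.obj A ⟶ F.obj A) ^ n) fun T a b hab => by
    obtain ⟨z, hz⟩ := (hiff (a / b)).2 (by rw [GrpObj.div_comp, hab, div_self'])
    rw [MonObj.comp_pow, MonObj.comp_pow, Category.comp_id, Category.comp_id, ← div_eq_one, ← div_pow, ← hz]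
    have := congrArg (fun m => z ≫ m ≫ F.map i) hNn
    simpa [MonObj.pow_comp, MonObj.comp_pow] using this
  obtain ⟨ψ, hψ⟩ := hA.2 ψK
  have hcomp : φ ≫ ψ = (𝟙 A : A ⟶ A) ^ n := by
    apply hA'
    show F.map (φ ≫ ψ) = F.homMonoidHom ((𝟙 A : A ⟶ A) ^ n)
    rw [map_pow, Functor.map_comp, show F.map ψ = ψK from hψ, hψK]
    simp
  have hn : IsUnit ((n : ℤ) : Γ(Spec (CommRingCat.of R), ⊤)) := by
    have h := ((hdeg x₀).map (Scheme.ΓSpecIso (CommRingCat.of R)).inv.hom)
    rw [map_natCast] at h
    rw [Int.cast_natCast]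
    exact h
  have het : Etale ((𝟙 A : A ⟶ A) ^ (n : ℤ)).left :=
    Groth.GrpschAbsch.etale_zpow_of_smooth A (fun s => inferInstance) n hn
  rw [zpow_natCast, ← hcomp, Over.comp_left] at het
  have : LocallyOfFiniteType (φ.left ≫ B.hom) := by rw [Over.w]; infer_instance
  have : LocallyOfFiniteType φ.left := locallyOfFiniteType_of_comp φ.left B.hom
  have : LocallyQuasiFinite (φ.left ≫ ψ.left) := Groth.DescentBase.locallyQuasiFinite_of_etale _
  have : LocallyQuasiFinite φ.left := LocallyQuasiFinite.of_comp φ.left ψ.left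
  have : Flat φ.left := (flat_iff_lqf φ hφ).1 inferInstance
  have : FormallyUnramified φ.left := FormallyUnramified.of_comp φ.left ψ.left
  have := Weil.isLocallyNoetherian_of_smooth B.hom
  exact Etale.of_formallyUnramified_of_flat φ.left

end Groth.NeronArea.Isogeny
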