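import Groth.Agent.NeronArea.Desingularize
import Groth.Agent.NeronArea.SingularIdeal
import Mathlib.RingTheory.Polynomial.Basic

/-! Lifting an algebra over `R/π²` to an `R`-algebra, smooth off `π` and over its smooth locus. -/

open MvPolynomial Smoothing

set_option linter.style.haveILetI false

namespace Groth.NeronArea.Lifting

universe u

/-- Syzygies modulo `π ^ 2` act trivially on the divided relations. -/
lemma syzygy_divided {R L : Type u} [CommRing R] [CommRing L] [Algebra R L] (π : R)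
    (hann : ∀ y : L, algebraMap R L π ^ 2 * y = 0 → algebraMap R L π * y = 0) {n c : ℕ}
    (x : Fin n → L) (w : Fin c → L) (F : Fin c → MvPolynomial (Fin n) R) (T : Fin c → Fin n)
    (hF : ∀ i, aeval x (F i) = algebraMap R L π * w i)
    (hM : IsUnit (aeval x (Matrix.of fun i j => pderiv (T i) (F j)).det))
    (b : Fin c → MvPolynomial (Fin n) R) (h : MvPolynomial (Fin n) R)
    (hb : ∑ i, b i * F i = C (π ^ 2) * h) :
    ∑ i, aeval x (b i) * w i = algebraMap R L π * aeval x h := by
  classical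
  set p := algebraMap R L π
  let Jm : Matrix (Fin c) (Fin c) L := Matrix.of fun k i => aeval x (pderiv (T k) (F i))
  have hdet : IsUnit Jm.det := by
    rw [AlgHom.map_det] at hM
    exact hM
  let Y : Fin c → L := fun k => p * aeval x (pderiv (T k) h) - ∑ i, aeval x (pderiv (T k) (b i)) * w i
  have hY : Jm.mulVec (fun i => aeval x (b i)) = p • Y := by
    funext k
    have h1 := congrArg (fun q => aeval x (pderiv (T k) q)) hb
    simp only [pderiv_C_mul] at h1
    simp only [map_sum, pderiv_mul, map_add, map_mul, aeval_C, map_pow, hF, Finset.sum_add_distrib] at h1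
    show ∑ i, aeval x (pderiv (T k) (F i)) * aeval x (b i) = p * Y k
    calc ∑ i, aeval x (pderiv (T k) (F i)) * aeval x (b i)
        = p ^ 2 * aeval x (pderiv (T k) h) - ∑ i, aeval x (pderiv (T k) (b i)) * (p * w i) := by
          rw [eq_sub_iff_add_eq, ← h1, add_comm]
          congr 1
          exact Finset.sum_congr rfl fun i _ => mul_comm _ _
      _ = p * Y k := by
          simp only [Y, mul_sub, Finset.mul_sum, sq, mul_assoc]
          congr 1
          exact Finset.sum_congr rfl fun i _ => by ring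
  let Y' := Jm⁻¹.mulVec Y
  have hbY : ∀ i, aeval x (b i) = p * Y' i := fun i => by
    have := congrArg Jm⁻¹.mulVec hY
    rw [Matrix.mulVec_mulVec, Matrix.nonsing_inv_mul _ hdet, Matrix.one_mulVec, Matrix.mulVec_smul] at this
    exact congrFun this i
  have h0 : p * (∑ i, aeval x (b i) * w i - p * aeval x h) = 0 := by
    have h1 := congrArg (aeval x) hb
    simp only [map_sum, map_mul, hF, aeval_C, map_pow] at h1
    rw [mul_sub, Finset.mul_sum, ← mul_assoc, ← sq]
    rw [← h1, sub_eq_zero]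
    exact Finset.sum_congr rfl fun i _ => by ring
  have h2 : ∑ i, aeval x (b i) * w i - p * aeval x h = p * (∑ i, Y' i * w i - aeval x h) := by
    simp only [hbY, mul_sub, Finset.mul_sum, mul_assoc]
  rw [← sub_eq_zero, h2]
  refine hann _ ?_
  rw [sq, mul_assoc, ← h2, h0]

section Construction

variable {R : Type u} [CommRing R] (π : R) {n m : ℕ} (f : Fin m → MvPolynomial (Fin n) R)

abbrev Big (R : Type u) [CommRing R] (n m : ℕ) := MvPolynomial (Fin n ⊕ Fin m) R

noncomputable def xv : Fin n → Big R n m := fun i => X (Sum.inl i)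

noncomputable def liftIdeal : Ideal (Big R n m) :=
  Ideal.span (Set.range (fun j => aeval (xv (m := m)) (f j) - C π * X (Sum.inr j)) ∪
    {e | ∃ (r : Fin m → MvPolynomial (Fin n) R) (h : MvPolynomial (Fin n) R),
      ∑ j, r j * f j = C (π ^ 2) * h ∧
      e = ∑ j, aeval (xv (m := m)) (r j) * X (Sum.inr j) - C π * aeval (xv (m := m)) h})

abbrev LiftAlg := Big R n m ⧸ liftIdeal π f

lemma rel_eq (j : Fin m) :
    aeval (fun i => (Ideal.Quotient.mk (liftIdeal π f) (X (Sum.inl i)))) (f j) =
      algebraMap R (LiftAlg π f) π * Ideal.Quotient.mk (liftIdeal π f) (X (Sum.inr j)) := by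
  have h : Ideal.Quotient.mk (liftIdeal π f) (aeval (xv (m := m)) (f j) - C π * X (Sum.inr j)) = 0 :=
    Ideal.Quotient.eq_zero_iff_mem.2 (Ideal.subset_span (Or.inl ⟨j, rfl⟩))
  rw [map_sub, map_mul, sub_eq_zero] at h
  refine Eq.trans ?_ h
  exact (comp_aeval_apply (xv (m := m)) (Ideal.Quotient.mkₐ R (liftIdeal π f)) (f j)).symm

lemma syz_eq (r : Fin m → MvPolynomial (Fin n) R) (h : MvPolynomial (Fin n) R)
    (hr : ∑ j, r j * f j = C (π ^ 2) * h) :
    ∑ j, aeval (fun i => (Ideal.Quotient.mk (liftIdeal π f) (X (Sum.inl i)))) (r j) *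
        Ideal.Quotient.mk (liftIdeal π f) (X (Sum.inr j)) =
      algebraMap R (LiftAlg π f) π * aeval (fun i => (Ideal.Quotient.mk (liftIdeal π f) (X (Sum.inl i)))) h := by
  have h0 : Ideal.Quotient.mk (liftIdeal π f) (∑ j, aeval (xv (m := m)) (r j) * X (Sum.inr j) - C π * aeval (xv (m := m)) h) = 0 :=
    Ideal.Quotient.eq_zero_iff_mem.2 (Ideal.subset_span (Or.inr ⟨r, h, hr, rfl⟩))
  rw [map_sub, map_mul, map_sum, sub_eq_zero] at h0
  have he : ∀ q, aeval (fun i => (Ideal.Quotient.mk (liftIdeal π f) (X (Sum.inl i)))) q =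
      Ideal.Quotient.mk (liftIdeal π f) (aeval (xv (m := m)) q) := fun q =>
    (comp_aeval_apply (xv (m := m)) (Ideal.Quotient.mkₐ R (liftIdeal π f)) q).symm
  simp only [he, ← map_mul]
  exact h0

/-- Maps out of the lifted algebra. -/
lemma liftIdeal_le_ker {L : Type u} [CommRing L] [Algebra R L] (x : Fin n → L) (z : Fin m → L)
    (h1 : ∀ j, aeval x (f j) = algebraMap R L π * z j)
    (h2 : ∀ (r : Fin m → MvPolynomial (Fin n) R) (h : MvPolynomial (Fin n) R),
      ∑ j, r j * f j = C (π ^ 2) * h → ∑ j, aeval x (r j) * z j = algebraMap R L π * aeval x h) :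
    liftIdeal π f ≤ RingHom.ker (aeval (R := R) (Sum.elim x z)) := by
  have he : ∀ q, aeval (Sum.elim x z) (aeval (xv (m := m)) q) = aeval x q := fun q => by
    rw [comp_aeval_apply (xv (m := m)) (aeval (R := R) (Sum.elim x z)) q]
    simp [xv]
  refine Ideal.span_le.2 ?_
  rintro _ (⟨j, rfl⟩ | ⟨r, h, hr, rfl⟩)
  · show aeval (Sum.elim x z) _ = 0
    simp [map_sub, he, h1]
  · show aeval (Sum.elim x z) _ = 0
    simp [map_sub, map_sum, he, h2 r h hr]

/-- The ideal of the chosen relations. -/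
noncomputable def smallIdeal {c : ℕ} (F : Fin c → MvPolynomial (Fin n) R) : Ideal (Big R n c) :=
  Ideal.span (Set.range fun i => aeval (xv (m := c)) (F i) - C π * X (Sum.inr i))

abbrev SmallAlg {c : ℕ} (F : Fin c → MvPolynomial (Fin n) R) := Big R n c ⧸ smallIdeal π F

/-- Where the chosen relations have invertible minor, the remaining variables are determined. -/
lemma exists_section {L : Type u} [CommRing L] [Algebra R L]
    (hann : ∀ y : L, algebraMap R L π ^ 2 * y = 0 → algebraMap R L π * y = 0) {c : ℕ}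
    (S : Fin c → Fin m) (T : Fin c → Fin n) (s : MvPolynomial (Fin n) R)
    (a : Fin m → Fin c → MvPolynomial (Fin n) R) (h : Fin m → MvPolynomial (Fin n) R)
    (hs : ∀ j, s * f j = ∑ i, a j i * f (S i) + C (π ^ 2) * h j)
    (x : Fin n → L) (w : Fin c → L) (hF : ∀ i, aeval x (f (S i)) = algebraMap R L π * w i)
    (hsu : IsUnit (aeval x s))
    (hM : IsUnit (aeval x (Matrix.of fun i j => pderiv (T i) (f (S j))).det)) :
    ∃ z : Fin m → L, liftIdeal π f ≤ RingHom.ker (aeval (R := R) (Sum.elim x z)) ∧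
      (∀ j, aeval x s * z j = ∑ i, aeval x (a j i) * w i + algebraMap R L π * aeval x (h j)) ∧
      ∀ i, z (S i) = w i := by
  classical
  have hkey : ∀ (b : Fin c → MvPolynomial (Fin n) R) (h' : MvPolynomial (Fin n) R),
      ∑ i, b i * f (S i) = C (π ^ 2) * h' → ∑ i, aeval x (b i) * w i = algebraMap R L π * aeval x h' :=
    syzygy_divided π hann x w (f ∘ S) T hF hM
  obtain ⟨sU, hsU⟩ := hsu
  let z : Fin m → L := fun j => ↑sU⁻¹ * (∑ i, aeval x (a j i) * w i + algebraMap R L π * aeval x (h j))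
  have hsu : IsUnit (aeval x s) := ⟨sU, hsU⟩
  have hz : ∀ j, aeval x s * z j = ∑ i, aeval x (a j i) * w i + algebraMap R L π * aeval x (h j) :=
    fun j => by rw [← hsU]; exact Units.mul_inv_cancel_left _ _
  refine ⟨z, liftIdeal_le_ker π f x z (fun j => ?_) (fun r h' hr => ?_), hz, fun i => ?_⟩
  · refine hsu.mul_left_cancel ?_
    rw [← map_mul, hs, mul_left_comm, hz]
    simp only [map_add, map_sum, map_mul, hF, aeval_C, map_pow]
    rw [mul_add, Finset.mul_sum]
    congr 1
    · exact Finset.sum_congr rfl fun i _ => by ring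
    · ring
  · refine hsu.mul_left_cancel ?_
    have hb : ∑ i, (∑ j, r j * a j i) * f (S i) = C (π ^ 2) * (s * h' - ∑ j, r j * h j) := by
      rw [mul_sub, mul_left_comm, ← hr, Finset.mul_sum, Finset.mul_sum, ← Finset.sum_sub_distrib]
      rw [show ∑ i, (∑ j, r j * a j i) * f (S i) = ∑ j, r j * ∑ i, a j i * f (S i) by
        simp only [Finset.sum_mul, Finset.mul_sum, mul_assoc]; exact Finset.sum_comm]
      refine Finset.sum_congr rfl fun j _ => ?_
      rw [mul_left_comm s, hs j]
      ring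
    have h3 := hkey _ _ hb
    simp only [map_sum, map_mul, map_sub] at h3
    have h4 : ∀ j, aeval x s * (aeval x (r j) * z j) =
        aeval x (r j) * ∑ i, aeval x (a j i) * w i +
          algebraMap R L π * (aeval x (r j) * aeval x (h j)) := fun j => by
      rw [mul_left_comm, hz j]; ring
    have h5 : ∑ j, aeval x (r j) * ∑ i, aeval x (a j i) * w i =
        ∑ i, (∑ j, aeval x (r j) * aeval x (a j i)) * w i := by
      simp only [Finset.sum_mul, Finset.mul_sum, mul_assoc]; exact Finset.sum_comm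
    rw [Finset.mul_sum, Finset.sum_congr rfl fun j _ => h4 j, Finset.sum_add_distrib, h5, h3,
      ← Finset.mul_sum]
    ring
  · refine hsu.mul_left_cancel ?_
    rw [hz]
    have hb : ∑ l, ((Pi.single i s : Fin c → MvPolynomial (Fin n) R) l - a (S i) l) * f (S l) =
        C (π ^ 2) * h (S i) := by
      simp only [sub_mul, Finset.sum_sub_distrib, Pi.single_apply, ite_mul, zero_mul, Finset.sum_ite_eq',
        Finset.mem_univ, if_true, hs (S i), add_sub_cancel_left]
    have h3 := hkey _ _ hb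
    simp only [map_sub, Pi.single_apply, apply_ite (aeval x), map_zero, sub_mul, Finset.sum_sub_distrib, ite_mul,
      zero_mul, Finset.sum_ite_eq', Finset.mem_univ, if_true] at h3
    linear_combination -h3

lemma aeval_congr_apply {L : Type u} [CommRing L] [Algebra R L] {x y : Fin n → L} (h : ∀ i, x i = y i)
    (q : MvPolynomial (Fin n) R) : aeval x q = aeval y q := by rw [funext h]

/-- Two localisations: of the lifted algebra and of the one cut out by the chosen relations. -/
lemma smooth_of_small {c : ℕ} (S : Fin c → Fin m) (T : Fin c → Fin n) (s : MvPolynomial (Fin n) R)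
    (a : Fin m → Fin c → MvPolynomial (Fin n) R) (h : Fin m → MvPolynomial (Fin n) R)
    (hs : ∀ j, s * f j = ∑ i, a j i * f (S i) + C (π ^ 2) * h j)
    (M : MvPolynomial (Fin n) R) (hMdef : M = (Matrix.of fun i j => pderiv (T i) (f (S j))).det)
    (g : LiftAlg π f) (hg : g = aeval (fun i => Ideal.Quotient.mk (liftIdeal π f) (X (Sum.inl i))) (s * M))
    (g0 : SmallAlg π (f ∘ S))
    (hg0 : g0 = aeval (fun i => Ideal.Quotient.mk (smallIdeal π (f ∘ S)) (X (Sum.inl i))) (s * M))
    (L : Type u) [CommRing L] [Algebra R L] [Algebra (LiftAlg π f) L] [IsScalarTower R (LiftAlg π f) L]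
    [IsLocalization.Away g L]
    (L0 : Type u) [CommRing L0] [Algebra R L0] [Algebra (SmallAlg π (f ∘ S)) L0]
    [IsScalarTower R (SmallAlg π (f ∘ S)) L0] [IsLocalization.Away g0 L0]
    (hann : ∀ y : L0, algebraMap R L0 π ^ 2 * y = 0 → algebraMap R L0 π * y = 0)
    [Algebra.Smooth R L0] : Algebra.Smooth R L := by
  classical
  let xD : Fin n → LiftAlg π f := fun i => Ideal.Quotient.mk (liftIdeal π f) (X (Sum.inl i))
  let zD : Fin m → LiftAlg π f := fun j => Ideal.Quotient.mk (liftIdeal π f) (X (Sum.inr j))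
  let x0 : Fin n → SmallAlg π (f ∘ S) := fun i => Ideal.Quotient.mk (smallIdeal π (f ∘ S)) (X (Sum.inl i))
  let toL := IsScalarTower.toAlgHom R (LiftAlg π f) L
  let toL0 := IsScalarTower.toAlgHom R (SmallAlg π (f ∘ S)) L0
  let x1 : Fin n → L0 := fun i => toL0 (x0 i)
  let w1 : Fin c → L0 := fun i => toL0 (Ideal.Quotient.mk (smallIdeal π (f ∘ S)) (X (Sum.inr i)))
  have hx1 : ∀ q, aeval x1 q = toL0 (aeval x0 q) := fun q => (comp_aeval_apply x0 toL0 q).symm
  have hu : IsUnit (aeval x1 s * aeval x1 M) := by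
    rw [← map_mul, hx1, ← hg0]; exact IsLocalization.Away.algebraMap_isUnit (S := L0) g0
  have hF1 : ∀ i, aeval x1 (f (S i)) = algebraMap R L0 π * w1 i := by
    intro i
    have h0 : Ideal.Quotient.mk (smallIdeal π (f ∘ S))
        (aeval (xv (m := c)) (f (S i)) - C π * X (Sum.inr i)) = 0 :=
      Ideal.Quotient.eq_zero_iff_mem.2 (Ideal.subset_span ⟨i, rfl⟩)
    rw [map_sub, map_mul, sub_eq_zero] at h0
    have h1 : aeval x0 (f (S i)) = _ :=
      (comp_aeval_apply (xv (m := c)) (Ideal.Quotient.mkₐ R (smallIdeal π (f ∘ S))) (f (S i))).symm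
    rw [hx1, h1, Ideal.Quotient.mkₐ_eq_mk, h0, map_mul]
    exact congrArg (· * _) (toL0.commutes π)
  obtain ⟨z1, hker, hz1, hw⟩ := exists_section π f hann S T s a h hs x1 w1 hF1
    (isUnit_of_mul_isUnit_left hu) (hMdef ▸ isUnit_of_mul_isUnit_right hu)
  let θ0 : LiftAlg π f →ₐ[R] L0 := Ideal.Quotient.liftₐ _ (aeval (Sum.elim x1 z1)) fun _ hx => hker hx
  have hθx : ∀ q, θ0 (aeval xD q) = aeval x1 q := fun q => by
    rw [comp_aeval_apply xD θ0 q]
    exact aeval_congr_apply (fun i => aeval_X (Sum.elim x1 z1) (Sum.inl i)) q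
  let θ : L →ₐ[R] L0 := IsLocalization.liftAlgHom (S := L) (M := Submonoid.powers g) (f := θ0)
    (fun y => by
      obtain ⟨d, hd⟩ := y.2
      rw [← hd, map_pow, hg, hθx, hx1, ← hg0]
      exact (IsLocalization.Away.algebraMap_isUnit (S := L0) g0).pow d)
  have hθ : ∀ d, θ (toL d) = θ0 d := fun d => IsLocalization.lift_eq _ d
  let x2 : Fin n → L := fun i => toL (xD i)
  let z2 : Fin m → L := fun i => toL (zD i)
  have hx2 : ∀ q, aeval x2 q = toL (aeval xD q) := fun q => (comp_aeval_apply xD toL q).symm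
  have hrel2 : ∀ j, aeval x2 (f j) = algebraMap R L π * z2 j := fun j => by
    rw [hx2, rel_eq, map_mul, AlgHom.commutes]
  have hker2 : smallIdeal π (f ∘ S) ≤ RingHom.ker (aeval (R := R) (Sum.elim x2 (z2 ∘ S))) := by
    refine Ideal.span_le.2 ?_
    rintro _ ⟨i, rfl⟩
    show aeval (Sum.elim x2 (z2 ∘ S)) (aeval (xv (m := c)) (f (S i)) - C π * X (Sum.inr i)) = 0
    have he := comp_aeval_apply (xv (m := c)) (aeval (R := R) (Sum.elim x2 (z2 ∘ S))) (f (S i))
    rw [map_sub, map_mul, aeval_C, aeval_X, he,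
      aeval_congr_apply (x := fun k => aeval (R := R) (Sum.elim x2 (z2 ∘ S)) (xv (m := c) k)) (y := x2)
        (fun k => aeval_X (Sum.elim x2 (z2 ∘ S)) (Sum.inl k)), hrel2]
    exact sub_self _
  let η0 : SmallAlg π (f ∘ S) →ₐ[R] L :=
    Ideal.Quotient.liftₐ _ (aeval (Sum.elim x2 (z2 ∘ S))) fun _ hx => hker2 hx
  have hηx : ∀ q, η0 (aeval x0 q) = aeval x2 q := fun q => by
    rw [comp_aeval_apply x0 η0 q]
    exact aeval_congr_apply (fun i => aeval_X (Sum.elim x2 (z2 ∘ S)) (Sum.inl i)) q
  let η : L0 →ₐ[R] L := IsLocalization.liftAlgHom (S := L0) (M := Submonoid.powers g0) (f := η0)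
    (fun y => by
      obtain ⟨d, hd⟩ := y.2
      rw [← hd, map_pow, hg0, hηx, hx2, ← hg]
      exact (IsLocalization.Away.algebraMap_isUnit (S := L) g).pow d)
  have hη : ∀ d, η (toL0 d) = η0 d := fun d => IsLocalization.lift_eq _ d
  have hηX : ∀ q, η (aeval x1 q) = aeval x2 q := fun q => by rw [hx1, hη, hηx]
  have hθX : ∀ q, θ (aeval x2 q) = aeval x1 q := fun q => by rw [hx2, hθ, hθx]
  have hηw : ∀ i, η (w1 i) = z2 (S i) := fun i => by rw [hη]; exact aeval_X _ (Sum.inr i)
  have hθz : ∀ j, θ (z2 j) = z1 j := fun j => by rw [hθ]; exact aeval_X _ (Sum.inr j)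
  have hηz : ∀ j, η (z1 j) = z2 j := by
    intro j
    have hu2 : IsUnit (aeval x2 s) := by
      have h2 : IsUnit (aeval x2 (s * M)) := by
        rw [hx2, ← hg]; exact IsLocalization.Away.algebraMap_isUnit (S := L) g
      rw [map_mul] at h2; exact isUnit_of_mul_isUnit_left h2
    refine hu2.mul_left_cancel ?_
    rw [← hηX s, ← map_mul, hz1, hηX]
    simp only [map_add, map_sum, map_mul, hηX, hηw, AlgHom.commutes]
    have hr : ∑ l, ((Pi.single j s : Fin m → MvPolynomial (Fin n) R) l - ∑ i, if l = S i then a j i else 0) * f l =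
        C (π ^ 2) * h j := by
      simp only [sub_mul, Finset.sum_sub_distrib, Pi.single_apply, Finset.sum_mul, ite_mul, zero_mul,
        Finset.sum_ite_eq', Finset.mem_univ, if_true]
      rw [Finset.sum_comm]
      simp only [Finset.sum_ite_eq', Finset.mem_univ, if_true, hs j, add_sub_cancel_left]
    have h4 := congrArg toL (syz_eq π f _ _ hr)
    have e : ∀ q, toL (aeval (fun i => Ideal.Quotient.mk (liftIdeal π f) (X (Sum.inl i))) q) = aeval x2 q :=
      fun q => (hx2 q).symm
    simp only [map_sum, map_mul, e, map_sub, AlgHom.commutes, apply_ite, map_zero,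
      Pi.single_apply, sub_mul, Finset.sum_sub_distrib, Finset.sum_mul, ite_mul, zero_mul,
      Finset.sum_ite_eq', Finset.mem_univ, if_true] at h4
    rw [Finset.sum_comm] at h4
    simp only [Finset.sum_ite_eq', Finset.mem_univ, if_true] at h4
    simp only [z2, zD]
    linear_combination -h4
  refine Algebra.Smooth.of_equiv (AlgEquiv.ofAlgHom η θ ?_ ?_)
  · refine IsLocalization.algHom_ext (Submonoid.powers g)
      (Ideal.Quotient.algHom_ext R (MvPolynomial.algHom_ext ?_))
    rintro (i | j)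
    · show η (θ (x2 i)) = x2 i
      have e := hθX (X i); rw [aeval_X, aeval_X] at e
      have e2 := hηX (X i); rw [aeval_X, aeval_X] at e2
      rw [e, e2]
    · show η (θ (z2 j)) = z2 j
      rw [hθz, hηz]
  · refine IsLocalization.algHom_ext (Submonoid.powers g0)
      (Ideal.Quotient.algHom_ext R (MvPolynomial.algHom_ext ?_))
    rintro (i | j)
    · show θ (η (x1 i)) = x1 i
      have e := hθX (X i); rw [aeval_X, aeval_X] at e
      have e2 := hηX (X i); rw [aeval_X, aeval_X] at e2
      rw [e2, e]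
    · show θ (η (w1 j)) = w1 j
      rw [hηw, hθz, hw]

/-- The lifted algebra is smooth where finitely many relations with an invertible minor generate. -/
theorem smooth_away [IsNoetherianRing R] (hR : ∀ r : R, π ^ 2 * r = 0 → π * r = 0) {c : ℕ}
    (S : Fin c → Fin m) (T : Fin c → Fin n) (hT : Function.Injective T)
    (s : MvPolynomial (Fin n) R) (a : Fin m → Fin c → MvPolynomial (Fin n) R)
    (h : Fin m → MvPolynomial (Fin n) R)
    (hs : ∀ j, s * f j = ∑ i, a j i * f (S i) + C (π ^ 2) * h j) :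
    Algebra.Smooth R (Localization.Away
      (aeval (fun i => (Ideal.Quotient.mk (liftIdeal π f) (X (Sum.inl i))))
        (s * (Matrix.of fun i j => pderiv (T i) (f (S j))).det))) := by
  classical
  have : Algebra.FinitePresentation R (SmallAlg π (f ∘ S)) :=
    Algebra.FinitePresentation.quotient (IsNoetherian.noetherian _)
  let M := (Matrix.of fun i j => pderiv (T i) (f (S j))).det
  have hren : ∀ q, aeval (xv (m := c)) q = rename (R := R) (Sum.inl : Fin n → Fin n ⊕ Fin c) q := fun q =>
    AlgHom.congr_fun (show aeval (xv (m := c)) = rename (R := R) (Sum.inl : Fin n → Fin n ⊕ Fin c) from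
      MvPolynomial.algHom_ext fun i => by simp [xv]) q
  let k : Fin c → Big R n c := fun i => aeval (xv (m := c)) ((f ∘ S) i) - C π * X (Sum.inr i)
  have hdet : (Matrix.of fun i j => pderiv ((Sum.inl ∘ T) i) (k j)).det = aeval (xv (m := c)) M := by
    rw [AlgHom.map_det]
    congr 1
    ext i j
    simp [k, hren, pderiv_rename Sum.inl_injective]
  have hsm0 := Desing.smooth_away_jacobian k (Sum.inl ∘ T) (Sum.inl_injective.comp hT)
  rw [hdet] at hsm0
  have hsm1 : Algebra.Smooth R (Localization.Away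
      (aeval (fun i => Ideal.Quotient.mk (smallIdeal π (f ∘ S)) (X (Sum.inl i))) (s * M))) := by
    rw [← SmoothAtBasics.mem_singularIdeal_iff_smooth, map_mul]
    refine Ideal.mul_mem_left _ _ ?_
    rw [SmoothAtBasics.mem_singularIdeal_iff_smooth]
    have he : Ideal.Quotient.mk (smallIdeal π (f ∘ S)) (aeval (xv (m := c)) M) =
        aeval (fun i => Ideal.Quotient.mk (smallIdeal π (f ∘ S)) (X (Sum.inl i))) M :=
      comp_aeval_apply (xv (m := c)) (Ideal.Quotient.mkₐ R (smallIdeal π (f ∘ S))) M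
    rw [← he]
    exact hsm0
  exact smooth_of_small π f S T s a h hs M rfl _ rfl _ rfl _
    (Localization.Away (aeval (fun i => Ideal.Quotient.mk (smallIdeal π (f ∘ S)) (X (Sum.inl i))) (s * M)))
    fun y hy => by
      have := Desing.annihilator_of_flat (r := (1 : R)) (fun y hy => by rw [one_mul]; exact hR y hy) _ hy
      rwa [map_one, one_mul] at this

end Construction

/-- Standard data over a quotient ring, with the second-power slack removed by the determinant trick. -/
lemma exists_generating_minor {R : Type u} [CommRing R] {A : Type u} [CommRing A] [Algebra R A]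
    [Algebra.FinitePresentation R A] {n m : ℕ} (f : Fin m → MvPolynomial (Fin n) R)
    (φ : MvPolynomial (Fin n) R →ₐ[R] A) (hφ : Function.Surjective φ)
    (hker : RingHom.ker φ.toRingHom = Ideal.span (Set.range f)) (q : Ideal A) [q.IsPrime]
    [Algebra.IsSmoothAt R q] :
    ∃ (c : ℕ) (S : Fin c → Fin m) (T : Fin c → Fin n), Function.Injective T ∧
      φ (Matrix.of fun i j => pderiv (T i) (f (S j))).det ∉ q ∧
      ∃ s, φ s ∉ q ∧ ∀ j, s * f j ∈ Ideal.span (Set.range (f ∘ S)) := by
  classical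
  obtain ⟨a, ha, c, rows, cols, a', h1, h2⟩ := Standard.exists_standard f φ hφ hker q
  obtain ⟨a₁, rfl⟩ := hφ a
  refine ⟨c, rows, cols, cols.injective, fun hM => ha ?_, ?_⟩
  · rw [h1]
    refine q.mul_mem_left _ ?_
    rw [Smoothing.jacobianMinor, ← Matrix.det_transpose]
    exact hM
  · let I := Ideal.span (Set.range f)
    let W := Ideal.span (Set.range (f ∘ rows))
    have hU : ∀ l, ∃ U : Fin m → MvPolynomial (Fin n) R, (∀ k, U k ∈ I) ∧
        a₁ * f l - ∑ k, U k * f k ∈ W := by
      intro l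
      obtain ⟨y, hy, z, hz, hyz⟩ := Submodule.mem_sup.1 (h2 a₁ rfl l)
      rw [pow_two, ← smul_eq_mul, Submodule.mem_ideal_smul_span_iff_exists_sum] at hz
      obtain ⟨U, hU, hUz⟩ := hz
      refine ⟨fun k => U k, hU, ?_⟩
      have : a₁ * f l - ∑ k, U k * f k = y := by
        rw [← hyz, ← hUz]
        simp [Finsupp.sum_fintype]
      rwa [this]
    choose U hUI hU using hU
    let N : Matrix (Fin m) (Fin m) (MvPolynomial (Fin n) R) := a₁ • (1 : Matrix (Fin m) (Fin m) _) - Matrix.of U
    refine ⟨N.det, ?_, fun j => ?_⟩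
    · rw [AlgHom.map_det, show φ.mapMatrix N = φ a₁ • (1 : Matrix (Fin m) (Fin m) A) by
        ext i k
        have h0 : ∀ i k, φ (U i k) = 0 := fun i k => (SetLike.ext_iff.1 hker _).2 (hUI i k)
        by_cases hik : i = k <;> simp [N, hik, h0, Matrix.one_apply]]
      rw [Matrix.det_smul, Matrix.det_one, mul_one]
      exact fun hh => ha (Ideal.IsPrime.mem_of_pow_mem ‹_› _ hh)
    · have h3 : ∀ i, N.mulVec f i ∈ W := fun i => by
        have : N.mulVec f i = a₁ * f i - ∑ k, U i k * f k := by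
          simp [N, Matrix.mulVec, dotProduct, Matrix.one_apply, sub_mul, Finset.sum_sub_distrib, ite_mul]
        rw [this]; exact hU i
      have h4 : (N.adjugate.mulVec (N.mulVec f)) j = N.det * f j := by
        rw [Matrix.mulVec_mulVec, Matrix.adjugate_mul, Matrix.smul_mulVec, Matrix.one_mulVec]; rfl
      rw [← h4]
      show ∑ i, N.adjugate j i * N.mulVec f i ∈ W
      exact W.sum_mem fun i _ => W.mul_mem_left _ (h3 i)

theorem lifting {R Λ C : Type u} [CommRing R] [IsNoetherianRing R] [CommRing Λ]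
    [Algebra R Λ] (π : R) (hR : ∀ r : R, π ^ 2 * r = 0 → π * r = 0)
    (hΛ : ∀ x : Λ, π ^ 2 • x = 0 → π • x = 0) [CommRing C] [Algebra R C]
    [Algebra (R ⧸ Ideal.span {π ^ 2}) C] [IsScalarTower R (R ⧸ Ideal.span {π ^ 2}) C]
    [Algebra.FinitePresentation (R ⧸ Ideal.span {π ^ 2}) C]
    (g : C →ₐ[R] Λ ⧸ Ideal.span {algebraMap R Λ (π ^ 2)}) :
    ∃ (D : Type u) (_ : CommRing D) (_ : Algebra R D), Algebra.FinitePresentation R D ∧
      ∃ (δ : D →ₐ[R] Λ) (ψ : C →ₐ[R] D ⧸ Ideal.span {algebraMap R D π}),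
        (∀ (c : C) (d : D) (l : Λ), Ideal.Quotient.mk (Ideal.span {algebraMap R D π}) d = ψ c →
          Ideal.Quotient.mk (Ideal.span {algebraMap R Λ (π ^ 2)}) l = g c →
            δ d - l ∈ Ideal.span {algebraMap R Λ π}) ∧
        (∀ (Q : Ideal D) [Q.IsPrime], algebraMap R D π ∉ Q → Algebra.IsSmoothAt R Q) ∧
        (∀ (Q : Ideal (D ⧸ Ideal.span {algebraMap R D π})) [Q.IsPrime],
          Algebra.IsSmoothAt (R ⧸ Ideal.span {π ^ 2}) (Q.comap ψ) →
            Algebra.IsSmoothAt R (Q.comap (Ideal.Quotient.mk (Ideal.span {algebraMap R D π})))) := by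
  classical
  let Rb := R ⧸ Ideal.span {π ^ 2}
  obtain ⟨n, φb, hφb, hfg⟩ := Algebra.FinitePresentation.out (R := Rb) (A := C)
  obtain ⟨m, fb, hfb⟩ := Submodule.fg_iff_exists_fin_generating_family.1 hfg
  let red : MvPolynomial (Fin n) R →+* MvPolynomial (Fin n) Rb := map (Ideal.Quotient.mk _)
  have hred : Function.Surjective red := map_surjective _ Ideal.Quotient.mk_surjective
  have hkred : ∀ q, red q = 0 → ∃ q', q = MvPolynomial.C (π ^ 2) * q' := by
    intro q hq
    have h1 : q ∈ RingHom.ker red := hq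
    rw [ker_map, Ideal.mk_ker, Ideal.map_span, Set.image_singleton] at h1
    obtain ⟨q', hq'⟩ := Ideal.mem_span_singleton.1 h1
    exact ⟨q', hq'⟩
  choose f hf using fun j => hred (fb j)
  let φ : MvPolynomial (Fin n) R →ₐ[R] C :=
    { φb.toRingHom.comp red with
      commutes' := fun r => by
        show φb (red (MvPolynomial.C r)) = _
        rw [map_C, ← MvPolynomial.algebraMap_eq, AlgHom.commutes,
          IsScalarTower.algebraMap_apply R Rb C]
        rfl }
  have hφ : ∀ q, φ q = φb (red q) := fun q => rfl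
  have hφsurj : Function.Surjective φ := hφb.comp hred
  let D := LiftAlg π f
  have hDfp : Algebra.FinitePresentation R D :=
    Algebra.FinitePresentation.quotient (IsNoetherian.noetherian _)
  let xD : Fin n → D := fun i => Ideal.Quotient.mk (liftIdeal π f) (X (Sum.inl i))
  let pD : Ideal D := Ideal.span {algebraMap R D π}
  let ψ0 : MvPolynomial (Fin n) R →ₐ[R] D ⧸ pD := (Ideal.Quotient.mkₐ R pD).comp (aeval xD)
  have hker : RingHom.ker φ.toRingHom ≤ RingHom.ker ψ0.toRingHom := by
    intro q hq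
    have h1 : red q ∈ RingHom.ker φb.toRingHom := hq
    rw [← hfb, Ideal.submodule_span_eq, Ideal.mem_span_range_iff_exists_fun] at h1
    obtain ⟨b, hb⟩ := h1
    choose b' hb' using fun j => hred (b j)
    obtain ⟨q', hq'⟩ := hkred (q - ∑ j, b' j * f j) (by simp [hb', hf, hb])
    rw [sub_eq_iff_eq_add] at hq'
    show Ideal.Quotient.mk pD (aeval xD q) = 0
    rw [Ideal.Quotient.eq_zero_iff_mem, hq', map_add, map_mul, aeval_C, map_pow, map_sum]
    refine add_mem (Ideal.mul_mem_right _ _ (Ideal.pow_mem_of_mem _ (Ideal.mem_span_singleton_self _) 2 two_pos)) ?_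
    refine Ideal.sum_mem _ fun j _ => ?_
    rw [map_mul, rel_eq]
    exact Ideal.mul_mem_left _ _ (Ideal.mul_mem_right _ _ (Ideal.mem_span_singleton_self _))
  let ψ : C →ₐ[R] D ⧸ pD :=
    (Ideal.Quotient.liftₐ (RingHom.ker φ.toRingHom) ψ0 hker).comp (Ideal.quotientKerAlgEquivOfSurjective hφsurj).symm.toAlgHom
  have hψ : ∀ q, ψ (φ q) = Ideal.Quotient.mk pD (aeval xD q) := fun q =>
    by
    show Ideal.Quotient.liftₐ _ ψ0 hker ((Ideal.quotientKerAlgEquivOfSurjective hφsurj).symm (φ q)) = _
    rw [Ideal.quotientKerAlgEquivOfSurjective_symm_apply]; rfl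
  choose lv hlv using fun i => Ideal.Quotient.mk_surjective (g (φ (X i)))
  have hgl : ∀ q, g (φ q) = Ideal.Quotient.mk _ (aeval lv q) := by
    intro q
    refine AlgHom.congr_fun (φ₁ := g.comp φ) (φ₂ := (Ideal.Quotient.mkₐ R _).comp (aeval lv)) ?_ q
    exact MvPolynomial.algHom_ext fun i => by simp [← hlv]
  have hμ : ∀ j, ∃ μ, aeval lv (f j) = algebraMap R Λ (π ^ 2) * μ := fun j => by
    have h1 : φ (f j) = 0 := by
      rw [hφ, hf]
      exact (SetLike.ext_iff.1 hfb _).1 (Submodule.subset_span ⟨j, rfl⟩)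
    have h2 := hgl (f j)
    rw [h1, map_zero] at h2
    obtain ⟨μ, hμ⟩ := Ideal.mem_span_singleton.1 (Ideal.Quotient.eq_zero_iff_mem.1 h2.symm)
    exact ⟨μ, hμ⟩
  choose μ hμ using hμ
  let z : Fin m → Λ := fun j => algebraMap R Λ π * μ j
  have hkerδ : liftIdeal π f ≤ RingHom.ker (aeval (R := R) (Sum.elim lv z)) := by
    refine liftIdeal_le_ker π f lv z (fun j => ?_) (fun r h hr => ?_)
    · rw [hμ, map_pow, sq, mul_assoc]
    · have h1 := congrArg (aeval lv) hr
      simp only [map_sum, map_mul, hμ, aeval_C, map_pow] at h1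
      have h2 : π ^ 2 • (∑ j, aeval lv (r j) * μ j - aeval lv h) = 0 := by
        rw [Algebra.smul_def, map_pow, mul_sub, Finset.mul_sum, sub_eq_zero, ← h1]
        exact Finset.sum_congr rfl fun j _ => by ring
      have h3 := hΛ _ h2
      rw [Algebra.smul_def, mul_sub, Finset.mul_sum, sub_eq_zero] at h3
      rw [← h3]
      exact Finset.sum_congr rfl fun j _ => by simp only [z]; ring
  let δ : D →ₐ[R] Λ := Ideal.Quotient.liftₐ _ (aeval (Sum.elim lv z)) fun _ hx => hkerδ hx
  have hδ : ∀ q, δ (aeval xD q) = aeval lv q := fun q => by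
    rw [comp_aeval_apply xD δ q]
    exact aeval_congr_apply (fun i => aeval_X (Sum.elim lv z) (Sum.inl i)) q
  refine ⟨D, inferInstance, inferInstance, hDfp, δ, ψ, ?_, ?_, ?_⟩
  · intro c d l hd hl
    obtain ⟨q, rfl⟩ := hφsurj c
    rw [hψ, Ideal.Quotient.eq] at hd
    rw [hgl, Ideal.Quotient.eq] at hl
    have h1 : δ d - aeval lv q ∈ Ideal.span {algebraMap R Λ π} := by
      rw [← hδ, ← map_sub]
      have := Ideal.mem_map_of_mem δ hd
      rwa [Ideal.map_span, Set.image_singleton, AlgHom.commutes] at this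
    have h2 : l - aeval lv q ∈ Ideal.span {algebraMap R Λ π} := by
      obtain ⟨e, he⟩ := Ideal.mem_span_singleton.1 hl
      exact Ideal.mem_span_singleton.2 ⟨algebraMap R Λ π * e, by rw [he, map_pow]; ring⟩
    rw [show δ d - l = (δ d - aeval lv q) - (l - aeval lv q) by ring]
    exact sub_mem h1 h2
  · intro Q hQ hπQ
    have hsm := smooth_away π f hR (c := 0) Fin.elim0 Fin.elim0 (fun i => i.elim0)
      (MvPolynomial.C (π ^ 2)) (fun _ => Fin.elim0) f (fun j => by simp)
    refine SmoothAtBasics.isSmoothAt_of_smooth_away hsm Q ?_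
    simp only [Matrix.det_fin_zero, mul_one, aeval_C, map_pow]
    exact fun h => hπQ (hQ.mem_of_pow_mem 2 h)
  · intro Q hQ hsm
    have : Algebra.IsSmoothAt Rb (Q.comap ψ) := hsm
    obtain ⟨c, S, T, hT, hM, sb, hsb, hrel⟩ :=
      exists_generating_minor fb φb hφb hfb.symm (Q.comap ψ)
    obtain ⟨s, rfl⟩ := hred sb
    have hah : ∀ j, ∃ (a : Fin c → MvPolynomial (Fin n) R) (h : MvPolynomial (Fin n) R),
        s * f j = ∑ i, a i * f (S i) + MvPolynomial.C (π ^ 2) * h := by
      intro j
      obtain ⟨b, hb⟩ := Ideal.mem_span_range_iff_exists_fun.1 (hrel j)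
      choose b' hb' using fun i => hred (b i)
      obtain ⟨q', hq'⟩ := hkred (s * f j - ∑ i, b' i * f (S i)) (by
        simp only [map_sub, map_mul, map_sum, hb', hf, Function.comp_apply] at hb ⊢
        rw [hb, sub_self])
      exact ⟨b', q', by rw [← hq']; ring⟩
    choose a h hah using hah
    have hsmL := smooth_away π f hR S T hT s a h hah
    refine SmoothAtBasics.isSmoothAt_of_smooth_away hsmL _ ?_
    have hmem : φ (s * (Matrix.of fun i j => pderiv (T i) (f (S j))).det) ∉ Q.comap ψ := by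
      rw [map_mul]
      refine Ideal.IsPrime.mul_notMem inferInstance hsb ?_
      have : red (Matrix.of fun i j => pderiv (T i) (f (S j))).det =
          (Matrix.of fun i j => pderiv (T i) (fb (S j))).det := by
        rw [RingHom.map_det]
        congr 1
        ext i j
        simp [red, ← hf, pderiv_map]
      rw [hφ, this]; exact hM
    rwa [Ideal.mem_comap, hψ, ← Ideal.mem_comap] at hmem

end Groth.NeronArea.Lifting
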