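import Groth.Agent.Limits.GlueLocal
import Groth.Agent.PropsBasic2.StalkFlat
import Mathlib.AlgebraicGeometry.Morphisms.Preimmersion
import Mathlib.AlgebraicGeometry.Morphisms.Smooth
import Mathlib.RingTheory.Smooth.NoetherianDescent

/-!
# Smooth schemes over a local scheme come from smooth schemes over the base
-/

set_option autoImplicit false
set_option backward.isDefEq.respectTransparency false
set_option linter.style.haveILetI false

universe u

open CategoryTheory CategoryTheory.Limits AlgebraicGeometry TopologicalSpace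
open scoped TensorProduct

namespace Groth.NeronArea

/-- A flat preimmersion is an isomorphism on local rings. -/
theorem isIso_stalkMap_of_flat_preimmersion {X Y : Scheme.{u}} (f : X ⟶ Y) [Flat f] [IsPreimmersion f]
    (x : X) : IsIso (f.stalkMap x) :=
  (ConcreteCategory.isIso_iff_bijective _).2
    ⟨Groth.PropsBasic2.stalkMap_injective_of_flat f x, f.stalkMap_surjective x⟩

/-- A smooth scheme over a local scheme is locally a flat preimmersion into a smooth scheme over the
base. -/
theorem exists_smooth_model {S : Scheme.{u}} (s : S) {Z : Scheme.{u}} (pZ : Z ⟶ Spec (S.presheaf.stalk s))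
    [Smooth pZ] (z : Z) :
    ∃ (W : Z.Opens) (Y : Scheme.{u}) (pY : Y ⟶ S) (m : (W : Scheme.{u}) ⟶ Y), z ∈ W ∧ Smooth pY ∧
      Flat m ∧ IsPreimmersion m ∧ m ≫ pY = W.ι ≫ pZ ≫ S.fromSpecStalk s := by
  obtain ⟨_, ⟨W, hW, rfl⟩, hzW, -⟩ :=
    Z.isBasis_affineOpens.exists_subset_of_mem_open (Set.mem_univ z) isOpen_univ
  let A := S.presheaf.stalk s
  let αc : A ⟶ Γ(Z, W) := Spec.preimage (hW.fromSpec ≫ pZ)
  letI : Algebra A Γ(Z, W) := αc.hom.toAlgebra
  haveI : Algebra.Smooth A Γ(Z, W) := by
    have h1 : Smooth (Spec.map αc) := by rw [Spec.map_preimage]; infer_instance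
    exact (HasRingHomProperty.Spec_iff (P := @Smooth)).1 h1
  obtain ⟨A₀, B₀, _, _, hA₀, hB₀, ⟨e⟩⟩ := Algebra.Smooth.exists_subalgebra_fg ℤ (A := A) (B := Γ(Z, W))
  haveI := hB₀
  let a0 : Spec A ⟶ Spec (CommRingCat.of A₀) := Spec.map (CommRingCat.ofHom (algebraMap A₀ A))
  let q : Spec (CommRingCat.of A₀) ⟶ Spec (CommRingCat.of (ULift.{u} ℤ)) := specULiftZIsTerminal.from _
  haveI : LocallyOfFinitePresentation q := by
    let ψ : CommRingCat.of (ULift.{u} ℤ) ⟶ CommRingCat.of A₀ :=
      CommRingCat.ofHom ((Int.castRingHom A₀).comp ULift.ringEquiv.toRingHom)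
    have hq : q = Spec.map ψ := specULiftZIsTerminal.hom_ext _ _
    rw [hq, HasRingHomProperty.Spec_iff (P := @LocallyOfFinitePresentation)]
    refine RingHom.FinitePresentation.comp ?_ (RingHom.FinitePresentation.of_bijective ULift.ringEquiv.bijective)
    haveI : Algebra.FiniteType ℤ A₀ := (Subalgebra.fg_iff_finiteType A₀).mp hA₀
    haveI : Algebra.FinitePresentation ℤ A₀ := Algebra.FinitePresentation.of_finiteType.1 inferInstance
    have h := RingHom.finitePresentation_algebraMap.2 (inferInstance : Algebra.FinitePresentation ℤ A₀)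
    rwa [show algebraMap ℤ A₀ = Int.castRingHom A₀ from Subsingleton.elim _ _] at h
  obtain ⟨_, ⟨W₀, hW₀, rfl⟩, hsW₀, -⟩ :=
    S.isBasis_affineOpens.exists_subset_of_mem_open (Set.mem_univ s) isOpen_univ
  obtain ⟨V, βV, hβV, -⟩ := Groth.Limits.exists_extend_nhd hW₀ hsW₀ (specULiftZIsTerminal.from S) q a0
    (specULiftZIsTerminal.hom_ext _ _)
  let b : Spec (CommRingCat.of B₀) ⟶ Spec (CommRingCat.of A₀) := Spec.map (CommRingCat.ofHom (algebraMap A₀ B₀))
  haveI : Smooth b :=
    (HasRingHomProperty.Spec_iff (P := @Smooth)).2 (RingHom.smooth_algebraMap.2 hB₀)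
  let j := V.1.fromSpecStalkOfMem s V.2.1
  have hj : j ≫ V.1.ι = S.fromSpecStalk s := Scheme.Opens.fromSpecStalkOfMem_ι _ _ _
  haveI : IsPreimmersion j := by
    haveI : IsPreimmersion (j ≫ V.1.ι) := by rw [hj]; infer_instance
    exact IsPreimmersion.of_comp j V.1.ι
  haveI : Flat j := by
    have hsq : IsPullback (𝟙 _) j (S.fromSpecStalk s) V.1.ι := by
      refine IsPullback.of_isLimit' ⟨by rw [Category.id_comp]; exact hj.symm⟩
        (PullbackCone.IsLimit.mk _ (fun c => c.fst) (fun c => Category.comp_id _) (fun c => ?_)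
          fun c m' h1 _ => by simpa using h1)
      rw [← cancel_mono V.1.ι, Category.assoc, hj]
      exact c.condition
    exact MorphismProperty.of_isPullback (P := @Flat) hsq (Groth.PropsBasic2.flat_fromSpecStalk s)
  -- the base change
  let mP : pullback a0 b ⟶ pullback βV b := pullback.lift (pullback.fst a0 b ≫ j) (pullback.snd a0 b)
    (by rw [Category.assoc]; exact (congrArg (pullback.fst a0 b ≫ ·) hβV).trans pullback.condition)
  have hmP : IsPullback mP (pullback.fst a0 b) (pullback.fst βV b) j := by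
    refine IsPullback.of_right ?_ (pullback.lift_fst _ _ _) (IsPullback.of_hasPullback βV b).flip
    rw [show mP ≫ pullback.snd βV b = pullback.snd a0 b from pullback.lift_snd _ _ _,
      show j ≫ βV = a0 from hβV]
    exact (IsPullback.of_hasPullback a0 b).flip
  haveI : Flat mP := MorphismProperty.of_isPullback hmP.flip ‹Flat j›
  haveI : IsPreimmersion mP := MorphismProperty.of_isPullback hmP.flip ‹IsPreimmersion j›
  let i1 : (W : Scheme.{u}) ≅ pullback a0 b :=
    hW.isoSpec ≪≫ (Scheme.Spec.mapIso e.toRingEquiv.toCommRingCatIso.op).symm ≪≫ (pullbackSpecIso A₀ A B₀).symm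
  refine ⟨(W : Z.Opens), pullback βV b, pullback.fst βV b ≫ V.1.ι, i1.hom ≫ mP, hzW, inferInstance, inferInstance,
    inferInstance, ?_⟩
  have h2 : i1.hom ≫ pullback.fst a0 b = Scheme.Opens.ι W ≫ pZ := by
    have he : CommRingCat.ofHom (algebraMap A (A ⊗[A₀] B₀)) ≫ e.toRingEquiv.toCommRingCatIso.inv = αc := by
      ext r
      exact e.symm.commutes r
    rw [← hW.isoSpec_hom_fromSpec, Category.assoc]
    simp only [i1, Iso.trans_hom, Iso.symm_hom, Category.assoc]
    congr 1
    erw [pullbackSpecIso_inv_fst']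
    show Spec.map e.toRingEquiv.toCommRingCatIso.inv ≫ Spec.map _ = _
    rw [← Spec.map_comp, he, Spec.map_preimage]
  rw [Category.assoc, reassoc_of% hmP.w, hj, reassoc_of% h2]

end Groth.NeronArea
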