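import Groth.Agent.NeronArea.LocalisationChart
import Mathlib.AlgebraicGeometry.Noetherian

/-!
# The mapping property passes to local schemes
-/

set_option autoImplicit false
set_option backward.isDefEq.respectTransparency false
set_option linter.style.haveILetI false

universe u

open CategoryTheory CategoryTheory.Limits AlgebraicGeometry TopologicalSpace

namespace Groth.NeronArea

open Groth.Limits

/-- A morphism on the preimage of a quasi-compact open in a local scheme extends to a neighbourhood. -/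
theorem exists_extend_open_nhd {X N S : Scheme.{u}} (p : X ⟶ S) (q : N ⟶ S) [LocallyOfFinitePresentation q]
    {x : X} {W : X.Opens} (hW : IsAffineOpen W) (hx : x ∈ W) (U : X.Opens) [QuasiCompact U.ι]
    (u : ↑(X.fromSpecStalk x ⁻¹ᵁ U) ⟶ N)
    (hu : u ≫ q = (X.fromSpecStalk x ⁻¹ᵁ U).ι ≫ X.fromSpecStalk x ≫ p) :
    ∃ (V : BasicNhd W x) (uV : ↑(V.1.ι ⁻¹ᵁ U) ⟶ N), uV ≫ q = (V.1.ι ⁻¹ᵁ U).ι ≫ V.1.ι ≫ p ∧
      ∀ {T : Scheme.{u}} (t : T ⟶ ↑(X.fromSpecStalk x ⁻¹ᵁ U)) (w : T ⟶ ↑(V.1.ι ⁻¹ᵁ U)),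
        t ≫ (X.fromSpecStalk x ⁻¹ᵁ U).ι ≫ V.1.fromSpecStalkOfMem x V.2.1 = w ≫ (V.1.ι ⁻¹ᵁ U).ι →
        t ≫ u = w ≫ uV := by
  have := nonempty_basicNhd (W := W) hx
  have (V : BasicNhd W x) := isAffine_nhdDiagram hW V
  have : ∀ {V V' : BasicNhd W x} (m : V ⟶ V'), IsAffineHom ((nhdDiagram W x).map m) :=
    fun m ↦ isAffineHom_nhdDiagram hW m
  obtain ⟨lim⟩ := nonempty_isLimit_nhdCone hW hx
  let V₀ : BasicNhd W x := BasicNhd.top hx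
  let O : ((nhdDiagram W x).obj V₀).Opens := V₀.1.ι ⁻¹ᵁ U
  let D' := opensDiagram (nhdDiagram W x) V₀ O
  have hle : ∀ k : Over V₀, (nhdDiagram W x).map k.hom ≫ V₀.1.ι = k.left.1.ι := fun k ↦
    X.homOfLE_ι (leOfHom k.hom : k.left ≤ V₀)
  have hO : ∀ k : Over V₀, (nhdDiagram W x).map k.hom ⁻¹ᵁ O = k.left.1.ι ⁻¹ᵁ U := fun k ↦ by
    rw [← Scheme.Hom.comp_preimage, hle]
  have : ∀ k : Over V₀, CompactSpace (D'.obj k) := fun k ↦ by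
    refine isCompact_iff_compactSpace.1 ?_
    rw [hO k, (k.left.1.ι).isEmbedding.isInducing.isCompact_iff]
    have hcpt := ((isAffineOpen_nhd hW k.left).isCompact)
    have h1 := (U.ι.isCompact_preimage hcpt).image U.ι.continuous
    convert h1 using 1
    rw [TopologicalSpace.Opens.map_coe, TopologicalSpace.Opens.map_coe,
      Set.image_preimage_eq_inter_range, Set.image_preimage_eq_inter_range,
      Scheme.Opens.range_ι, Scheme.Opens.range_ι, Set.inter_comm]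
  have : ∀ k : Over V₀, QuasiSeparatedSpace (D'.obj k) := fun k ↦
    QuasiSeparatedSpace.of_isOpenEmbedding ((nhdDiagram W x).map k.hom ⁻¹ᵁ O).ι.isOpenEmbedding
  let t : D' ⟶ (Functor.const _).obj S :=
    { app := fun k ↦ ((nhdDiagram W x).map k.hom ⁻¹ᵁ O).ι ≫ k.left.1.ι ≫ p
      naturality := fun k l m ↦ by simp [D', nhdDiagram] }
  let c' := opensCone (nhdDiagram W x) (nhdCone W x) V₀ O
  have hO' : (nhdCone W x).π.app V₀ ⁻¹ᵁ O = X.fromSpecStalk x ⁻¹ᵁ U := by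
    show V₀.1.fromSpecStalkOfMem x V₀.2.1 ⁻¹ᵁ (V₀.1.ι ⁻¹ᵁ U) = _
    rw [← Scheme.Hom.comp_preimage, Scheme.Opens.fromSpecStalkOfMem_ι]
  have hc : ∀ k : Over V₀, c'.π.app k ≫ ((nhdDiagram W x).map k.hom ⁻¹ᵁ O).ι =
      ((nhdCone W x).π.app V₀ ⁻¹ᵁ O).ι ≫ k.left.1.fromSpecStalkOfMem x k.left.2.1 := fun k ↦
    Scheme.Hom.resLE_comp_ι _ _
  obtain ⟨k, g, hg, hgq⟩ := Scheme.exists_π_app_comp_eq_of_locallyOfFinitePresentation D' t q c'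
    (isLimitOpensCone _ _ lim V₀ O) ((Spec (X.presheaf.stalk x)).homOfLE hO'.le ≫ u) (by
      ext k
      show c'.π.app k ≫ ((nhdDiagram W x).map k.hom ⁻¹ᵁ O).ι ≫ k.left.1.ι ≫ p =
        ((Spec (X.presheaf.stalk x)).homOfLE hO'.le ≫ u) ≫ q
      rw [reassoc_of% (hc k), Category.assoc, hu, Scheme.Opens.fromSpecStalkOfMem_ι_assoc,
        Scheme.homOfLE_ι_assoc])
  have hρ : Scheme.homOfLE _ (hO k).ge ≫ ((nhdDiagram W x).map k.hom ⁻¹ᵁ O).ι =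
      (k.left.1.ι ⁻¹ᵁ U).ι := Scheme.homOfLE_ι _ _
  refine ⟨k.left, Scheme.homOfLE _ (hO k).ge ≫ g, ?_, fun {T} t' w htw => ?_⟩
  · rw [Category.assoc, hgq]
    exact (reassoc_of% hρ) (k.left.1.ι ≫ p)
  · have h1 : t' ≫ (Spec (X.presheaf.stalk x)).homOfLE hO'.ge ≫ c'.π.app k = w ≫ Scheme.homOfLE _ (hO k).ge := by
      rw [← cancel_mono ((nhdDiagram W x).map k.hom ⁻¹ᵁ O).ι]
      simp only [Category.assoc]
      erw [hc k, hρ]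
      rw [Scheme.homOfLE_ι_assoc]
      exact htw
    rw [← Category.assoc, ← h1, Category.assoc, Category.assoc, hg, ← Category.assoc ((Spec (X.presheaf.stalk x)).homOfLE hO'.ge),
      Scheme.homOfLE_homOfLE, Scheme.homOfLE_rfl, Category.id_comp]

section Descent

variable {S N : Scheme.{u}} (U : S.Opens) (q : N ⟶ S)

/-- The mapping property in terms of open subschemes. -/
def HasOpenNMP : Prop :=
  ∀ {Y : Scheme.{u}} (pY : Y ⟶ S), Smooth pY →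
    (∀ a b : Y ⟶ N, a ≫ q = pY → b ≫ q = pY → (pY ⁻¹ᵁ U).ι ≫ a = (pY ⁻¹ᵁ U).ι ≫ b → a = b) ∧
    ∀ u : ↑(pY ⁻¹ᵁ U) ⟶ N, u ≫ q = (pY ⁻¹ᵁ U).ι ≫ pY → ∃ g : Y ⟶ N, g ≫ q = pY ∧ (pY ⁻¹ᵁ U).ι ≫ g = u

variable {U q} [LocallyOfFinitePresentation q] [IsLocallyNoetherian S]

/-- Uniqueness at the local schemes of smooth schemes. -/
theorem eq_at_stalk (hN : HasOpenNMP U q) {Y : Scheme.{u}} (pY : Y ⟶ S) [Smooth pY] (y : Y)
    (a b : Spec (Y.presheaf.stalk y) ⟶ N) (ha : a ≫ q = Y.fromSpecStalk y ≫ pY)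
    (hb : b ≫ q = Y.fromSpecStalk y ≫ pY)
    (hab : (Y.fromSpecStalk y ⁻¹ᵁ (pY ⁻¹ᵁ U)).ι ≫ a = (Y.fromSpecStalk y ⁻¹ᵁ (pY ⁻¹ᵁ U)).ι ≫ b) : a = b := by
  haveI : IsLocallyNoetherian Y := LocallyOfFiniteType.isLocallyNoetherian pY
  obtain ⟨_, ⟨W, hW, rfl⟩, hyW, -⟩ :=
    Y.isBasis_affineOpens.exists_subset_of_mem_open (Set.mem_univ y) isOpen_univ
  obtain ⟨V₁, gA, hA, hAq⟩ := exists_extend_nhd hW hyW pY q a ha
  obtain ⟨V₂, gB, hB, hBq⟩ := exists_extend_nhd hW hyW pY q b hb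
  let U' : Y.Opens := (pY ⁻¹ᵁ U) ⊓ V₁.1
  let P := Y.fromSpecStalk y ⁻¹ᵁ U'
  have hP : P ≤ Y.fromSpecStalk y ⁻¹ᵁ (pY ⁻¹ᵁ U) := fun z hz => hz.1
  obtain ⟨V', hV', hag⟩ := exists_agree_nhd hW pY q U' V₂ (Y.homOfLE (inf_le_right : U' ≤ V₁.1) ≫ gA) gB
    (by rw [Category.assoc, hAq, Scheme.homOfLE_ι_assoc]) hBq (by
      have h1 : (Y.fromSpecStalk y ∣_ U') ≫ Y.homOfLE (inf_le_right : U' ≤ V₁.1) =
          P.ι ≫ V₁.1.fromSpecStalkOfMem y V₁.2.1 := by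
        rw [← cancel_mono V₁.1.ι, Category.assoc, Scheme.homOfLE_ι, morphismRestrict_ι, Category.assoc,
          Scheme.Opens.fromSpecStalkOfMem_ι]
      rw [hB, reassoc_of% h1, hA, ← Scheme.homOfLE_ι _ hP, Category.assoc, Category.assoc, hab])
  let Y₂ : Y.Opens := V₁.1 ⊓ V'.1
  let r₁ : (Y₂ : Scheme.{u}) ⟶ V₁.1 := Y.homOfLE inf_le_left
  let r₂ : (Y₂ : Scheme.{u}) ⟶ V₂.1 := Y.homOfLE (inf_le_right.trans hV')
  have key : r₁ ≫ gA = r₂ ≫ gB := by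
    refine (hN (Y₂.ι ≫ pY) inferInstance).1 _ _
      (by rw [Category.assoc, hAq, Scheme.homOfLE_ι_assoc]) (by rw [Category.assoc, hBq, Scheme.homOfLE_ι_assoc]) ?_
    let P₂ := (Y₂.ι ≫ pY) ⁻¹ᵁ U
    let l : ↑P₂ ⟶ (↑(U' ⊓ V'.1) : Scheme.{u}) := IsOpenImmersion.lift (U' ⊓ V'.1).ι (P₂.ι ≫ Y₂.ι) (by
      rintro _ ⟨w, rfl⟩
      rw [Scheme.Opens.range_ι]
      exact ⟨⟨w.2, w.1.2.1⟩, w.1.2.2⟩)
    have hl : l ≫ (U' ⊓ V'.1).ι = P₂.ι ≫ Y₂.ι := IsOpenImmersion.lift_fac _ _ _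
    have e1 : P₂.ι ≫ r₁ = l ≫ Y.homOfLE (inf_le_left : U' ⊓ V'.1 ≤ U') ≫ Y.homOfLE (inf_le_right : U' ≤ V₁.1) := by
      rw [← cancel_mono V₁.1.ι]
      simp only [Category.assoc, Scheme.homOfLE_ι, r₁, hl]
    have e2 : P₂.ι ≫ r₂ = l ≫ Y.homOfLE (inf_le_right.trans hV' : U' ⊓ V'.1 ≤ V₂.1) := by
      rw [← cancel_mono V₂.1.ι]
      simp only [Category.assoc, Scheme.homOfLE_ι, r₂, hl]
    show P₂.ι ≫ r₁ ≫ gA = P₂.ι ≫ r₂ ≫ gB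
    rw [reassoc_of% e1, reassoc_of% e2, hag]
  rw [← hA, ← hB]
  have h1 : V₁.1.fromSpecStalkOfMem y V₁.2.1 = Y₂.fromSpecStalkOfMem y ⟨V₁.2.1, V'.2.1⟩ ≫ r₁ := by
    rw [← cancel_mono V₁.1.ι]; simp [r₁]
  have h2 : V₂.1.fromSpecStalkOfMem y V₂.2.1 = Y₂.fromSpecStalkOfMem y ⟨V₁.2.1, V'.2.1⟩ ≫ r₂ := by
    rw [← cancel_mono V₂.1.ι]; simp [r₂]
  rw [h1, h2, Category.assoc, Category.assoc, key]

/-- Existence at the local schemes of smooth schemes. -/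
theorem exists_at_stalk (hN : HasOpenNMP U q) {Y : Scheme.{u}} (pY : Y ⟶ S) [Smooth pY] (y : Y)
    (u : ↑(Y.fromSpecStalk y ⁻¹ᵁ (pY ⁻¹ᵁ U)) ⟶ N)
    (hu : u ≫ q = (Y.fromSpecStalk y ⁻¹ᵁ (pY ⁻¹ᵁ U)).ι ≫ Y.fromSpecStalk y ≫ pY) :
    ∃ b : Spec (Y.presheaf.stalk y) ⟶ N, b ≫ q = Y.fromSpecStalk y ≫ pY ∧
      (Y.fromSpecStalk y ⁻¹ᵁ (pY ⁻¹ᵁ U)).ι ≫ b = u := by
  haveI : IsLocallyNoetherian Y := LocallyOfFiniteType.isLocallyNoetherian pY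
  obtain ⟨_, ⟨W, hW, rfl⟩, hyW, -⟩ :=
    Y.isBasis_affineOpens.exists_subset_of_mem_open (Set.mem_univ y) isOpen_univ
  obtain ⟨V, uV, huV, huV'⟩ := exists_extend_open_nhd pY q hW hyW (pY ⁻¹ᵁ U) u hu
  obtain ⟨g, hg, hgu⟩ := (hN (V.1.ι ≫ pY) inferInstance).2 uV huV
  refine ⟨V.1.fromSpecStalkOfMem y V.2.1 ≫ g, by rw [Category.assoc, hg, Scheme.Opens.fromSpecStalkOfMem_ι_assoc], ?_⟩
  let P := Y.fromSpecStalk y ⁻¹ᵁ (pY ⁻¹ᵁ U)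
  let w : (P : Scheme.{u}) ⟶ (↑(V.1.ι ⁻¹ᵁ (pY ⁻¹ᵁ U)) : Scheme.{u}) :=
    IsOpenImmersion.lift (V.1.ι ⁻¹ᵁ (pY ⁻¹ᵁ U)).ι (P.ι ≫ V.1.fromSpecStalkOfMem y V.2.1) (by
      rintro _ ⟨z, rfl⟩
      rw [Scheme.Opens.range_ι]
      show V.1.ι (V.1.fromSpecStalkOfMem y V.2.1 (P.ι z)) ∈ pY ⁻¹ᵁ U
      rw [← Scheme.Hom.comp_apply, Scheme.Opens.fromSpecStalkOfMem_ι]
      exact z.2)
  have hw : w ≫ (V.1.ι ⁻¹ᵁ (pY ⁻¹ᵁ U)).ι = P.ι ≫ V.1.fromSpecStalkOfMem y V.2.1 := IsOpenImmersion.lift_fac _ _ _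
  have := huV' (𝟙 _) w (by rw [Category.id_comp]; exact hw.symm)
  rw [Category.id_comp] at this
  rw [this, ← hgu, ← Category.assoc w]
  erw [hw]
  rw [Category.assoc]

/-- The mapping property over a local scheme. -/
theorem existsUnique_localisation (hN : HasOpenNMP U q) (s : S) {Z : Scheme.{u}}
    (pZ : Z ⟶ Spec (S.presheaf.stalk s)) [Smooth pZ] :
    (∀ a b : Z ⟶ N, a ≫ q = pZ ≫ S.fromSpecStalk s → b ≫ q = pZ ≫ S.fromSpecStalk s →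
      ((pZ ≫ S.fromSpecStalk s) ⁻¹ᵁ U).ι ≫ a = ((pZ ≫ S.fromSpecStalk s) ⁻¹ᵁ U).ι ≫ b → a = b) ∧
    ∀ u : ↑((pZ ≫ S.fromSpecStalk s) ⁻¹ᵁ U) ⟶ N, u ≫ q = ((pZ ≫ S.fromSpecStalk s) ⁻¹ᵁ U).ι ≫ pZ ≫ S.fromSpecStalk s →
      ∃ g : Z ⟶ N, g ≫ q = pZ ≫ S.fromSpecStalk s ∧ ((pZ ≫ S.fromSpecStalk s) ⁻¹ᵁ U).ι ≫ g = u := by
  let p := pZ ≫ S.fromSpecStalk s
  haveI : IsLocallyNoetherian Z := LocallyOfFiniteType.isLocallyNoetherian pZ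
  -- the local schemes of `Z` are local schemes of smooth schemes over `S`
  have hmodel : ∀ z : Z, ∃ (Y : Scheme.{u}) (pY : Y ⟶ S) (y : Y) (e : Spec (Z.presheaf.stalk z) ⟶ Spec (Y.presheaf.stalk y)),
      Smooth pY ∧ IsIso e ∧ e ≫ Y.fromSpecStalk y ≫ pY = Z.fromSpecStalk z ≫ p := by
    intro z
    obtain ⟨W, Y, pY, m, hzW, hY, hm, hm', hmp⟩ := exists_smooth_model s pZ z
    haveI := hm
    haveI := hm'
    haveI := isIso_stalkMap_of_flat_preimmersion m ⟨z, hzW⟩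
    refine ⟨Y, pY, m ⟨z, hzW⟩, Spec.map (m.stalkMap ⟨z, hzW⟩ ≫ inv (W.ι.stalkMap ⟨z, hzW⟩)), hY,
      (inferInstance : IsIso (Scheme.Spec.map (m.stalkMap ⟨z, hzW⟩ ≫ inv (W.ι.stalkMap ⟨z, hzW⟩)).op)), ?_⟩
    rw [Spec.map_comp, Category.assoc, Scheme.SpecMap_stalkMap_fromSpecStalk_assoc, hmp,
      ← Category.assoc, ← Category.assoc]
    show (W.fromSpecStalkOfMem z hzW ≫ W.ι) ≫ _ = _
    rw [Scheme.Opens.fromSpecStalkOfMem_ι]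
  have hstalk : ∀ (z : Z),
      (∀ a b : Spec (Z.presheaf.stalk z) ⟶ N, a ≫ q = Z.fromSpecStalk z ≫ p → b ≫ q = Z.fromSpecStalk z ≫ p →
        (Z.fromSpecStalk z ⁻¹ᵁ (p ⁻¹ᵁ U)).ι ≫ a = (Z.fromSpecStalk z ⁻¹ᵁ (p ⁻¹ᵁ U)).ι ≫ b → a = b) ∧
      ∀ u : ↑(Z.fromSpecStalk z ⁻¹ᵁ (p ⁻¹ᵁ U)) ⟶ N, u ≫ q = (Z.fromSpecStalk z ⁻¹ᵁ (p ⁻¹ᵁ U)).ι ≫ Z.fromSpecStalk z ≫ p →
        ∃ b, b ≫ q = Z.fromSpecStalk z ≫ p ∧ (Z.fromSpecStalk z ⁻¹ᵁ (p ⁻¹ᵁ U)).ι ≫ b = u := by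
    intro z
    obtain ⟨Y, pY, y, e, hY, he, hep⟩ := hmodel z
    haveI := hY
    haveI := he
    let P := Z.fromSpecStalk z ⁻¹ᵁ (p ⁻¹ᵁ U)
    let P' := Y.fromSpecStalk y ⁻¹ᵁ (pY ⁻¹ᵁ U)
    have hPP : e ⁻¹ᵁ P' = P := by
      show e ⁻¹ᵁ (Y.fromSpecStalk y ⁻¹ᵁ (pY ⁻¹ᵁ U)) = Z.fromSpecStalk z ⁻¹ᵁ (p ⁻¹ᵁ U)
      rw [← Scheme.Hom.comp_preimage, ← Scheme.Hom.comp_preimage, ← Scheme.Hom.comp_preimage, Category.assoc, hep]
    let eP : (P : Scheme.{u}) ⟶ P' := Scheme.homOfLE _ hPP.ge ≫ (e ∣_ P')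
    haveI : IsIso eP := by
      haveI : IsIso (e ∣_ P') := MorphismProperty.of_isPullback (P := MorphismProperty.isomorphisms Scheme)
        (isPullback_morphismRestrict e P').flip (MorphismProperty.isomorphisms.infer_property e)
      haveI : IsIso (Scheme.homOfLE _ hPP.ge) := ⟨Scheme.homOfLE _ hPP.le, by simp, by simp⟩
      infer_instance
    have heP : eP ≫ P'.ι = P.ι ≫ e := by
      simp only [eP, Category.assoc, morphismRestrict_ι]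
      exact Scheme.homOfLE_ι_assoc _ _ _
    refine ⟨fun a b ha hb hab => ?_, fun u hu => ?_⟩
    · rw [← cancel_epi (inv e)]
      refine eq_at_stalk hN pY y _ _ ?_ ?_ ?_
      · rw [Category.assoc, ha, ← hep, IsIso.inv_hom_id_assoc]
      · rw [Category.assoc, hb, ← hep, IsIso.inv_hom_id_assoc]
      · rw [← cancel_epi eP, reassoc_of% heP, reassoc_of% heP, IsIso.hom_inv_id_assoc, IsIso.hom_inv_id_assoc]
        exact hab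
    · obtain ⟨b, hb, hbu⟩ := exists_at_stalk hN pY y (inv eP ≫ u) (by
        rw [Category.assoc, hu, IsIso.inv_comp_eq, reassoc_of% heP, hep])
      refine ⟨e ≫ b, by rw [Category.assoc, hb, hep], ?_⟩
      show P.ι ≫ e ≫ b = u
      rw [← reassoc_of% heP, hbu, IsIso.hom_inv_id_assoc]
  have huniq : ∀ a b : Z ⟶ N, a ≫ q = p → b ≫ q = p → (p ⁻¹ᵁ U).ι ≫ a = (p ⁻¹ᵁ U).ι ≫ b → a = b := by
    intro a b ha hb hab
    refine hom_ext_of_fromSpecStalk a b fun z => ?_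
    refine (hstalk z).1 _ _ (by rw [Category.assoc, ha]) (by rw [Category.assoc, hb]) ?_
    rw [← morphismRestrict_ι_assoc, ← morphismRestrict_ι_assoc, hab]
  refine ⟨huniq, fun u hu => ?_⟩
  have hloc : ∀ z : Z, ∃ (W : Z.Opens) (v : (W : Scheme.{u}) ⟶ N), z ∈ W ∧ v ≫ q = W.ι ≫ p ∧
      Z.homOfLE (inf_le_left : (p ⁻¹ᵁ U) ⊓ W ≤ p ⁻¹ᵁ U) ≫ u = Z.homOfLE inf_le_right ≫ v := by
    intro z
    let P := Z.fromSpecStalk z ⁻¹ᵁ (p ⁻¹ᵁ U)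
    obtain ⟨b, hb, hbu⟩ := (hstalk z).2 ((Z.fromSpecStalk z ∣_ (p ⁻¹ᵁ U)) ≫ u) (by
      rw [Category.assoc, hu, morphismRestrict_ι_assoc])
    obtain ⟨_, ⟨A, hA, rfl⟩, hzA, -⟩ :=
      Z.isBasis_affineOpens.exists_subset_of_mem_open (Set.mem_univ z) isOpen_univ
    obtain ⟨V, bV, hbV, hbVq⟩ := exists_extend_nhd hA hzA p q b hb
    obtain ⟨V', hV', hag⟩ := exists_agree_nhd hA p q (p ⁻¹ᵁ U) V u bV hu hbVq (by rw [hbV, hbu])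
    exact ⟨V'.1, Z.homOfLE hV' ≫ bV, V'.2.1, by rw [Category.assoc, hbVq, Scheme.homOfLE_ι_assoc],
      by rw [← Category.assoc, Scheme.homOfLE_homOfLE, hag]⟩
  choose W v hzW hvq hvu using hloc
  have hW : IsOpenCover W := eq_top_iff.2 fun x _ => Opens.mem_iSup.2 ⟨x, hzW x⟩
  let 𝒰 := Z.openCoverOfIsOpenCover W hW
  have hres : ∀ (i : Z) {T : Scheme.{u}} (t : T ⟶ (W i : Scheme.{u})) (w : T ⟶ (↑(p ⁻¹ᵁ U) : Scheme.{u})),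
      t ≫ (W i).ι = w ≫ (p ⁻¹ᵁ U).ι → t ≫ v i = w ≫ u := by
    intro i T t w htw
    let j : T ⟶ (↑((p ⁻¹ᵁ U) ⊓ W i) : Scheme.{u}) := IsOpenImmersion.lift ((p ⁻¹ᵁ U) ⊓ W i).ι (t ≫ (W i).ι) (by
      rintro _ ⟨z, rfl⟩
      rw [Scheme.Opens.range_ι]
      refine ⟨?_, (t z).2⟩
      rw [htw]
      exact (w z).2)
    have hj : j ≫ ((p ⁻¹ᵁ U) ⊓ W i).ι = t ≫ (W i).ι := IsOpenImmersion.lift_fac _ _ _
    have e1 : w = j ≫ Z.homOfLE inf_le_left := by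
      rw [← cancel_mono (p ⁻¹ᵁ U).ι, Category.assoc, Scheme.homOfLE_ι, hj, htw]
    have e2 : t = j ≫ Z.homOfLE inf_le_right := by
      rw [← cancel_mono (W i).ι, Category.assoc, Scheme.homOfLE_ι, hj]
    rw [e1, e2, Category.assoc, Category.assoc, hvu]
  have hcomp : ∀ i j, pullback.fst (𝒰.f i) (𝒰.f j) ≫ v i = pullback.snd (𝒰.f i) (𝒰.f j) ≫ v j := by
    intro i j
    refine hom_ext_of_fromSpecStalk _ _ fun x => ?_
    let m : pullback (W i).ι (W j).ι ⟶ Z := pullback.fst (W i).ι (W j).ι ≫ (W i).ι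
    haveI : IsIso (m.stalkMap x) := inferInstance
    have hm : ∀ {T : Scheme.{u}} (f : Z ⟶ T), inv (Spec.map (m.stalkMap x)) ≫
        (pullback (W i).ι (W j).ι).fromSpecStalk x ≫ m ≫ f = Z.fromSpecStalk (m x) ≫ f := fun f => by
      rw [IsIso.inv_comp_eq]
      exact (Scheme.SpecMap_stalkMap_fromSpecStalk_assoc m f).symm
    rw [← cancel_epi (inv (Spec.map (m.stalkMap x)))]
    refine (hstalk (m x)).1 _ _ ?_ ?_ ?_
    · show (inv _ ≫ _ ≫ pullback.fst (W i).ι (W j).ι ≫ v i) ≫ q = _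
      simp only [Category.assoc, hvq]
      rw [← Category.assoc (pullback.fst (W i).ι (W j).ι)]
      exact hm p
    · show (inv _ ≫ _ ≫ pullback.snd (W i).ι (W j).ι ≫ v j) ≫ q = _
      simp only [Category.assoc, hvq]
      rw [← pullback.condition_assoc, ← Category.assoc (pullback.fst (W i).ι (W j).ι)]
      exact hm p
    · let P := Z.fromSpecStalk (m x) ⁻¹ᵁ (p ⁻¹ᵁ U)
      show P.ι ≫ inv _ ≫ _ ≫ pullback.fst (W i).ι (W j).ι ≫ v i = P.ι ≫ inv _ ≫ _ ≫ pullback.snd (W i).ι (W j).ι ≫ v j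
      simp only [← Category.assoc]
      rw [hres i _ (Z.fromSpecStalk (m x) ∣_ (p ⁻¹ᵁ U)), hres j _ (Z.fromSpecStalk (m x) ∣_ (p ⁻¹ᵁ U))]
      · simp only [Category.assoc, morphismRestrict_ι, ← pullback.condition]
        exact congrArg (P.ι ≫ ·) (by have h := hm (𝟙 Z); rw [Category.comp_id, Category.comp_id] at h; exact h)
      · simp only [Category.assoc, morphismRestrict_ι]
        exact congrArg (P.ι ≫ ·) (by have h := hm (𝟙 Z); rw [Category.comp_id, Category.comp_id] at h; exact h)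
  let g : Z ⟶ N := 𝒰.glueMorphisms v hcomp
  have hg : ∀ i, (W i).ι ≫ g = v i := fun i => 𝒰.ι_glueMorphisms v hcomp i
  refine ⟨g, 𝒰.hom_ext _ _ fun i => ?_, ?_⟩
  · show (W i).ι ≫ g ≫ q = (W i).ι ≫ p
    rw [reassoc_of% (hg i), hvq]
  · refine Scheme.Cover.hom_ext ((↑(p ⁻¹ᵁ U) : Scheme.{u}).openCoverOfIsOpenCover
      (fun i => (p ⁻¹ᵁ U).ι ⁻¹ᵁ W i) (hW.comap (p ⁻¹ᵁ U).ι.base.hom)) _ _ fun i => ?_
    show ((p ⁻¹ᵁ U).ι ⁻¹ᵁ W i).ι ≫ (p ⁻¹ᵁ U).ι ≫ g = ((p ⁻¹ᵁ U).ι ⁻¹ᵁ W i).ι ≫ u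
    rw [← Scheme.Hom.resLE_comp_ι_assoc (p ⁻¹ᵁ U).ι (e := le_rfl), hg]
    exact hres i _ _ (Scheme.Hom.resLE_comp_ι _ _)

end Descent

end Groth.NeronArea
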