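import Groth.Prelude.Def_Neron
import Groth.Agent.NeronArea.Mapping
import Mathlib.CategoryTheory.Monoidal.Cartesian.Grp

/-! The group structure on a Néron model of a group scheme. -/

set_option autoImplicit false
set_option backward.isDefEq.respectTransparency false

universe u

open CategoryTheory CategoryTheory.Limits AlgebraicGeometry MonoidalCategory CartesianMonoidalCategory MonObj

namespace Groth.NeronArea

variable {S U : Scheme.{u}} (F : Over S ⥤ Over U) (N : Over S) {A : Over U} (e : F.obj N ⟶ A)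

/-- restriction to the generic fibre followed by the identification -/
def rE {Y : Over S} (f : Y ⟶ N) : F.obj Y ⟶ A := F.map f ≫ e

lemma rE_comp {Z Y : Over S} (c : Z ⟶ Y) (f : Y ⟶ N) : rE F N e (c ≫ f) = F.map c ≫ rE F N e f := by
  simp [rE]

variable [GrpObj A] [Smooth N.hom]
  (hb : ∀ Y : Over S, Smooth Y.hom → Function.Bijective (rE F N e (Y := Y)))

include hb in
/-- The group structure on a Néron model of a group scheme. -/
theorem exists_grpObj_neronModel :
    ∃ _ : GrpObj N, ∀ Y : Over S, Smooth Y.hom → ∀ f g : Y ⟶ N,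
      rE F N e (f * g) = rE F N e f * rE F N e g := by
  have h1 : Smooth (𝟙_ (Over S)).hom := inferInstanceAs (Smooth (𝟙 S))
  have h2 : Smooth (N ⊗ N).hom := smooth_tensor N N
  have h3 : Smooth ((N ⊗ N) ⊗ N).hom := smooth_tensor (N ⊗ N) N
  have h4 : Smooth (N ⊗ 𝟙_ (Over S)).hom := smooth_tensor N (𝟙_ (Over S))
  have h5 : Smooth (𝟙_ (Over S) ⊗ N).hom := smooth_tensor (𝟙_ (Over S)) N
  obtain ⟨η', hη⟩ := (hb _ h1).2 1
  obtain ⟨μ', hμ⟩ := (hb _ h2).2 (rE F N e (fst N N) * rE F N e (snd N N))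
  obtain ⟨ι', hι⟩ := (hb N ‹_›).2 (rE F N e (𝟙 N))⁻¹
  have kμ : ∀ {Y : Over S} (f g : Y ⟶ N),
      rE F N e (lift f g ≫ μ') = rE F N e f * rE F N e g := fun f g => by
    rw [rE_comp, hμ, MonObj.comp_mul, ← rE_comp, ← rE_comp, lift_fst, lift_snd]
  have kη : ∀ {Y : Over S} (c : Y ⟶ 𝟙_ (Over S)), rE F N e (c ≫ η') = 1 := fun c => by
    rw [rE_comp, hη, MonObj.comp_one]
  have kι : ∀ {Y : Over S} (c : Y ⟶ N), rE F N e (c ≫ ι') = (rE F N e c)⁻¹ := fun c => by
    rw [rE_comp, hι, GrpObj.comp_inv, ← rE_comp, Category.comp_id]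
  have w1 : η' ▷ N = lift (fst _ _ ≫ η') (snd _ _) := CartesianMonoidalCategory.hom_ext _ _ (by simp) (by simp)
  have w2 : N ◁ η' = lift (fst _ _) (snd _ _ ≫ η') := CartesianMonoidalCategory.hom_ext _ _ (by simp) (by simp)
  have w3 : μ' ▷ N = lift (fst _ _ ≫ μ') (snd _ _) := CartesianMonoidalCategory.hom_ext _ _ (by simp) (by simp)
  have w4 : (α_ N N N).hom ≫ (N ◁ μ') =
      lift (fst _ _ ≫ fst _ _) (lift (fst _ _ ≫ snd _ _) (snd _ _) ≫ μ') := by
    apply CartesianMonoidalCategory.hom_ext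
    · simp
    · simp only [Category.assoc, whiskerLeft_snd, lift_snd]
      rw [← Category.assoc]
      congr 1
      exact CartesianMonoidalCategory.hom_ext _ _ (by simp) (by simp)
  let inst : GrpObj N :=
    { one := η'
      mul := μ'
      one_mul := (hb _ h5).1 (by
        rw [w1, kμ, kη, _root_.one_mul, leftUnitor_hom])
      mul_one := (hb _ h4).1 (by
        rw [w2, kμ, kη, _root_.mul_one, rightUnitor_hom])
      mul_assoc := (hb _ h3).1 (by
        rw [← Category.assoc (α_ N N N).hom, w4, w3, kμ, kμ, kμ, rE_comp, hμ, MonObj.comp_mul,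
          ← rE_comp, ← rE_comp, _root_.mul_assoc])
      inv := ι'
      left_inv := (hb N ‹_›).1 (by
        have hh := kι (𝟙 N)
        rw [Category.id_comp] at hh
        rw [kμ, kη, hh, inv_mul_cancel])
      right_inv := (hb N ‹_›).1 (by
        have hh := kι (𝟙 N)
        rw [Category.id_comp] at hh
        rw [kμ, kη, hh, mul_inv_cancel]) }
  refine ⟨inst, fun Y _ f g => ?_⟩
  letI := inst
  exact kμ f g

end Groth.NeronArea
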