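import Groth.Agent.NeronArea.IdempotentMatrix
import Groth.Agent.NeronArea.StandardElement
import Mathlib.RingTheory.Smooth.Basic
import Mathlib.RingTheory.Etale.Kaehler
import Mathlib.RingTheory.Kaehler.Polynomial
import Mathlib.RingTheory.Kaehler.JacobiZariski
import Mathlib.RingTheory.Nakayama

/-! Smooth algebras over a quotient lift to smooth algebras. -/

open scoped TensorProduct
open KaehlerDifferential Matrix

set_option linter.style.haveILetI false

namespace Groth.NeronArea.SmoothLift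

universe u

/-- Jacobian criterion with an idempotent: the quotient by `v` is formally smooth. -/
theorem formallySmooth_quotient {R Q : Type u} [CommRing R] [CommRing Q] [Algebra R Q]
    [Algebra.FormallySmooth R Q] {n m : ℕ} (b : Module.Basis (Fin n) Q Ω[Q⁄R]) (v : Fin m → Q)
    (E : Matrix (Fin m) (Fin m) Q) (hv : ∀ i, ∑ j, E i j * v j = v i)
    (M : Matrix (Fin m) (Fin n) Q) (hM : ∀ i, D R Q (v i) = ∑ k, M i k • b k)
    (T : Matrix (Fin n) (Fin m) Q) (hT : ∀ i j, (M * T) i j - E i j ∈ Ideal.span (Set.range v)) :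
    Algebra.FormallySmooth R (Q ⧸ Ideal.span (Set.range v)) := by
  let S : Ideal Q := Ideal.span (Set.range v)
  let C := Q ⧸ S
  refine (Algebra.FormallySmooth.iff_split_injection (P := Q) Ideal.Quotient.mk_surjective).2 ?_
  let K := RingHom.ker (algebraMap Q C)
  have hK : K = S := Ideal.mk_ker
  have hvK : ∀ i, v i ∈ K := fun i => hK.symm ▸ Ideal.subset_span ⟨i, rfl⟩
  have hkill : ∀ (s : Q), s ∈ S → ∀ z : K.Cotangent, s • z = 0 := by
    intro s hs z
    obtain ⟨⟨y, hy⟩, rfl⟩ := K.toCotangent_surjective z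
    rw [← map_smul, Ideal.toCotangent_eq_zero, pow_two]
    exact Ideal.mul_mem_mul (hK.symm ▸ hs) hy
  let c : Fin m → K.Cotangent := fun i => K.toCotangent ⟨v i, hvK i⟩
  let ψ : Ω[Q⁄R] →ₗ[Q] K.Cotangent := b.constr Q fun k => ∑ j, T k j • c j
  let β : C →ₗ[Q] Ω[Q⁄R] →ₗ[Q] K.Cotangent :=
    Submodule.liftQ S (LinearMap.toSpanSingleton Q _ ψ) fun s hs => LinearMap.ext fun w => by
      show s • ψ w = 0
      exact hkill s hs _
  refine ⟨TensorProduct.lift β, LinearMap.ext_on (s := Set.range c) ?_ ?_⟩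
  · rw [← top_le_iff]
    rintro z -
    obtain ⟨⟨y, hy⟩, rfl⟩ := K.toCotangent_surjective z
    have hyS : y ∈ Ideal.span (Set.range v) := by have h := hy; rw [hK] at h; exact h
    obtain ⟨a, ha⟩ := (Ideal.mem_span_range_iff_exists_fun).1 hyS
    have : (⟨y, hy⟩ : K) = ∑ i, a i • (⟨v i, hvK i⟩ : K) := Subtype.ext (by simp [← ha])
    rw [this, map_sum]
    exact Submodule.sum_mem _ fun i _ => by
      rw [map_smul]; exact Submodule.smul_mem _ _ (Submodule.subset_span ⟨i, rfl⟩)
  · rintro _ ⟨i, rfl⟩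
    rw [LinearMap.comp_apply, LinearMap.id_apply]
    have h1 : TensorProduct.lift β (kerCotangentToTensor R Q C (c i)) = ψ (D R Q (v i)) := by
      rw [kerCotangentToTensor_toCotangent, TensorProduct.lift.tmul]
      show (1 : Q) • ψ _ = _
      rw [one_smul]
    rw [h1, hM, map_sum]
    calc ∑ k, ψ (M i k • b k) = ∑ j, (M * T) i j • c j := by
          simp only [map_smul, ψ, Module.Basis.constr_basis, Finset.smul_sum, smul_smul, Matrix.mul_apply,
            Finset.sum_smul]
          rw [Finset.sum_comm]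
      _ = ∑ j, E i j • c j := Finset.sum_congr rfl fun j _ => by
          rw [← sub_eq_zero, ← sub_smul]; exact hkill _ (hT i j) _
      _ = c i := by
          simp only [c, ← map_smul, ← map_sum]
          exact congrArg _ (Subtype.ext (by simpa using hv i))

/-- Matrix algebra: if `E` fixes `M` and `M L E + 1 - E` is invertible, `E` factors through `M`. -/
lemma exists_mul_eq {C : Type u} [CommRing C] {n m : ℕ} (E : Matrix (Fin m) (Fin m) C) (hE : E * E = E)
    (M : Matrix (Fin m) (Fin n) C) (hEM : E * M = M) (L : Matrix (Fin n) (Fin m) C)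
    (hH : IsUnit (M * L * E + 1 - E).det) : ∃ T : Matrix (Fin n) (Fin m) C, M * T = E := by
  let H := M * L * E + 1 - E
  refine ⟨L * E * H⁻¹, ?_⟩
  have h : E * H = M * L * E := by
    simp only [H, Matrix.mul_sub, Matrix.mul_add, Matrix.mul_one, hE, ← Matrix.mul_assoc, hEM]
    abel
  calc M * (L * E * H⁻¹) = (E * H) * H⁻¹ := by rw [h]; simp only [Matrix.mul_assoc]
    _ = E := by rw [Matrix.mul_assoc, Matrix.mul_nonsing_inv _ hH, Matrix.mul_one]

theorem exists_smooth_lift {R A₀ : Type u} [CommRing R] (I : Ideal R) [CommRing A₀]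
    [Algebra (R ⧸ I) A₀] [Algebra.Smooth (R ⧸ I) A₀] :
    ∃ (A : Type u) (_ : CommRing A) (_ : Algebra R A), Algebra.Smooth R A ∧
      Nonempty ((A ⧸ I.map (algebraMap R A)) ≃ₐ[R ⧸ I] A₀) := by
  classical
  obtain ⟨n, φ₀, hφ₀, hfg⟩ := Algebra.FinitePresentation.out (R := R ⧸ I) (A := A₀)
  obtain ⟨m, f₀, hf₀⟩ := Submodule.fg_iff_exists_fin_generating_family.1 hfg
  let P := MvPolynomial (Fin n) R
  let P₀ := MvPolynomial (Fin n) (R ⧸ I)
  let q : P →+* P₀ := MvPolynomial.map (Ideal.Quotient.mk I)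
  have hq : Function.Surjective q := MvPolynomial.map_surjective _ Ideal.Quotient.mk_surjective
  let J₀ : Ideal P₀ := RingHom.ker φ₀.toRingHom
  have hJ₀ : J₀ = Ideal.span (Set.range f₀) := hf₀.symm
  have hf₀0 : ∀ i, φ₀ (f₀ i) = 0 := fun i => by
    have : f₀ i ∈ J₀ := hJ₀ ▸ Ideal.subset_span ⟨i, rfl⟩
    exact this
  obtain ⟨ρ, hρ0, hρ⟩ := Standard.exists_defect φ₀ hφ₀ (fun k => (MvPolynomial.X k : P₀))
  have haev : ∀ p : P₀, MvPolynomial.aeval (fun k => (MvPolynomial.X k : P₀)) p = p :=
    fun p => MvPolynomial.aeval_X_left_apply p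
  choose L₀ hL₀ using fun k => (Ideal.mem_span_range_iff_exists_fun).1
    (hJ₀ ▸ (show ρ k ∈ J₀ from hρ0 k))
  let D₀ : Matrix (Fin m) (Fin n) P₀ := Matrix.of fun i k => MvPolynomial.pderiv k (f₀ i)
  let G₀ : Matrix (Fin m) (Fin m) P₀ := D₀ * Matrix.of L₀
  have hG₀ : ∀ i, f₀ i - ∑ j, G₀ i j * f₀ j ∈ J₀ ^ 2 := by
    intro i
    have := hρ (f₀ i) (by rw [haev]; exact hf₀0 i)
    simp only [MvPolynomial.aeval_X_left_apply] at this
    refine Eq.mp (congrArg (fun z => f₀ i - z ∈ J₀ ^ 2) ?_) this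
    calc ∑ k, MvPolynomial.pderiv k (f₀ i) * ρ k
        = ∑ k, ∑ j, MvPolynomial.pderiv k (f₀ i) * L₀ k j * f₀ j :=
          Finset.sum_congr rfl fun k _ => by
            rw [← hL₀ k, Finset.mul_sum]; exact Finset.sum_congr rfl fun j _ => (mul_assoc _ _ _).symm
      _ = ∑ j, ∑ k, MvPolynomial.pderiv k (f₀ i) * L₀ k j * f₀ j := Finset.sum_comm
      _ = ∑ j, G₀ i j * f₀ j := Finset.sum_congr rfl fun j _ => (Finset.sum_mul _ _ _).symm
  let E₀ := G₀.map φ₀
  let Db := D₀.map φ₀
  have hE₀D : E₀ * Db = Db := by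
    ext i k
    have hsq : ∀ y ∈ J₀ ^ 2, φ₀ (MvPolynomial.pderiv k y) = 0 := by
      intro y hy
      rw [pow_two] at hy
      induction hy using Submodule.mul_induction_on' with
      | mem_mul_mem a ha b hb =>
        rw [MvPolynomial.pderiv_mul, map_add, map_mul, map_mul, show φ₀ a = 0 from ha,
          show φ₀ b = 0 from hb, mul_zero, zero_mul, add_zero]
      | add a _ b _ ha hb => rw [map_add, map_add, ha, hb, add_zero]
    have := hsq _ (hG₀ i)
    simp only [map_sub, map_sum, MvPolynomial.pderiv_mul, map_add, map_mul, hf₀0, mul_zero, zero_mul,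
      zero_add, add_zero, sub_eq_zero] at this
    simp only [E₀, Db, D₀, Matrix.mul_apply, Matrix.map_apply, Matrix.of_apply]
    refine (Finset.sum_congr rfl fun j _ => ?_).trans this.symm
    rw [MvPolynomial.pderiv_mul, map_add, map_mul, map_mul, hf₀0, mul_zero, zero_add]
  have hE₀ : E₀ = Db * (Matrix.of L₀).map φ₀ := Matrix.map_mul (f := φ₀)
  have hE₀idem : E₀ * E₀ = E₀ := by
    conv_lhs => arg 2; rw [hE₀]
    rw [← Matrix.mul_assoc, hE₀D, ← hE₀]
  -- lifts to `P`
  choose f hf using fun i => hq (f₀ i)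
  choose L hL using fun k j => hq (L₀ k j)
  choose F hF using fun i j => hq (G₀ i j)
  let π : P →+* A₀ := φ₀.toRingHom.comp q
  letI : Algebra P A₀ := π.toAlgebra
  have hπf : ∀ i, π (f i) = 0 := fun i => by
    show φ₀ (q (f i)) = 0
    rw [hf]; exact hf₀0 i
  have hFE : (Matrix.of F).map (algebraMap P A₀) = E₀ := by
    ext i j; show φ₀ (q (F i j)) = φ₀ (G₀ i j); rw [hF]
  obtain ⟨U, _, _, _, ψ, s, hker, hkersq, E, hE, hEψ⟩ := IdemMatrix.exists_etale_idempotent A₀
    (hφ₀.comp hq) (Matrix.of F) (by rw [hFE]; exact hE₀idem)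
  rw [hFE] at hEψ
  letI : Algebra R U := ((algebraMap P U).comp MvPolynomial.C).toAlgebra
  have : IsScalarTower R P U := IsScalarTower.of_algebraMap_eq' rfl
  have : Algebra.FormallySmooth R U := Algebra.FormallySmooth.comp R P U
  have : Algebra.FinitePresentation R U := Algebra.FinitePresentation.trans R P U
  let a : P →+* U := algebraMap P U
  have hψa : ∀ p, ψ (a p) = φ₀ (q p) := fun p => ψ.commutes p
  let J : Ideal U := RingHom.ker ψ.toRingHom
  let v : Fin m → U := fun i => ∑ j, E i j * a (f j)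
  let S : Ideal U := Ideal.span (Set.range v)
  let IU : Ideal U := I.map (algebraMap R U)
  have hfJ : ∀ j, a (f j) ∈ J := fun j => by
    show ψ _ = 0
    rw [hψa, hf]; exact hf₀0 j
  have hvE : ∀ i, ∑ j, E i j * v j = v i := fun i => by
    simp only [v, Finset.mul_sum]
    rw [Finset.sum_comm]
    refine Finset.sum_congr rfl fun l _ => ?_
    simp only [← mul_assoc, ← Finset.sum_mul]
    rw [← Matrix.mul_apply, hE]
  have hSJ : S ≤ J := Ideal.span_le.2 (by
    rintro _ ⟨i, rfl⟩; exact Ideal.sum_mem _ fun j _ => Ideal.mul_mem_left _ _ (hfJ j))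
  have hkq : ∀ x, q x = 0 → a x ∈ IU := fun x hx => by
    have : x ∈ I.map (MvPolynomial.C : R →+* P) := by
      have h : x ∈ RingHom.ker q := hx
      rwa [MvPolynomial.ker_map, Ideal.mk_ker] at h
    have := Ideal.mem_map_of_mem a this
    rwa [Ideal.map_map] at this
  have hlift : ∀ x : P, φ₀ (q x) = 0 → a x ∈ IU ⊔ Ideal.span (Set.range fun j => a (f j)) := by
    intro x hx
    obtain ⟨c, hc⟩ := (Ideal.mem_span_range_iff_exists_fun).1
      (hJ₀ ▸ (show q x ∈ J₀ from hx))
    choose c' hc' using fun j => hq (c j)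
    have h0 : q (x - ∑ j, c' j * f j) = 0 := by simp [map_sum, hc', hf, hc]
    have := add_mem (Ideal.mem_sup_left (T := Ideal.span (Set.range fun j => a (f j))) (hkq _ h0))
      (Ideal.mem_sup_right (S := IU) (Ideal.sum_mem _ fun j (_ : j ∈ Finset.univ) =>
        Ideal.mul_mem_left (Ideal.span (Set.range fun j => a (f j))) (a (c' j)) (Ideal.subset_span ⟨j, rfl⟩)))
    simpa [map_sum] using this
  have hIUJ : IU ≤ J := Ideal.map_le_iff_le_comap.2 fun x hx => by
    show ψ (a (MvPolynomial.C x)) = 0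
    rw [hψa, show q (MvPolynomial.C x) = MvPolynomial.C (Ideal.Quotient.mk I x) from
      MvPolynomial.map_C _ _, Ideal.Quotient.eq_zero_iff_mem.2 hx, map_zero, map_zero]
  have hJle : J ≤ (IU ⊔ S) ⊔ J ^ 2 := by
    refine hkersq.trans (sup_le (Ideal.map_le_iff_le_comap.2 fun x hx => ?_) le_sup_right)
    have hfall : Ideal.span (Set.range fun j => a (f j)) ≤ (IU ⊔ S) ⊔ J ^ 2 := by
      rw [Ideal.span_le]
      rintro _ ⟨i, rfl⟩
      have hd : q (f i - ∑ j, F i j * f j) ∈ J₀ ^ 2 := by simpa [map_sum, hf, hF] using hG₀ i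
      have hmem : f i - ∑ j, F i j * f j ∈ RingHom.ker q ⊔ Ideal.span (Set.range f) ^ 2 := by
        have h1 : J₀ ^ 2 = (Ideal.span (Set.range f) ^ 2).map q := by
          rw [Ideal.map_pow, Ideal.map_span, ← Set.range_comp, hJ₀]; congr; funext i; exact (hf i).symm
        rw [h1] at hd
        obtain ⟨z, hz, hzq⟩ := (Ideal.mem_map_iff_of_surjective q hq).1 hd
        have := add_mem (Ideal.mem_sup_left (T := Ideal.span (Set.range f) ^ 2)
          (show (f i - ∑ j, F i j * f j) - z ∈ RingHom.ker q by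
            rw [RingHom.mem_ker, map_sub, hzq, sub_self]))
          (Ideal.mem_sup_right (S := RingHom.ker q) hz)
        rwa [sub_add_cancel] at this
      have h2 : a (f i - ∑ j, F i j * f j) ∈ (IU ⊔ S) ⊔ J ^ 2 := by
        have h := Ideal.mem_map_of_mem a hmem
        rw [Ideal.map_sup, Ideal.map_pow, Ideal.map_span, ← Set.range_comp] at h
        have hle1 : (RingHom.ker q).map a ≤ IU ⊔ S :=
          le_sup_of_le_left (Ideal.map_le_iff_le_comap.2 fun y hy => hkq y hy)
        have hle2 : Ideal.span (Set.range (a ∘ f)) ≤ J := by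
          rw [Ideal.span_le]; rintro _ ⟨j, rfl⟩; exact hfJ j
        exact sup_le_sup hle1 (Ideal.pow_right_mono hle2 2) h
      have h3 : ∑ j, (a (F i j) - E i j) * a (f j) ∈ J ^ 2 := Ideal.sum_mem _ fun j _ => by
        rw [pow_two]
        refine Ideal.mul_mem_mul ?_ (hfJ j)
        show ψ _ = 0
        rw [map_sub, hψa, hF, show ψ (E i j) = E₀ i j from congrFun (congrFun hEψ i) j]
        exact sub_self _
      have h4 : v i ∈ (IU ⊔ S) ⊔ J ^ 2 :=
        Ideal.mem_sup_left (Ideal.mem_sup_right (Ideal.subset_span ⟨i, rfl⟩))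
      have h5 := add_mem (add_mem h2 (Ideal.mem_sup_right h3)) h4
      show a (f i) ∈ (IU ⊔ S) ⊔ J ^ 2
      convert h5 using 1
      simp only [v, map_sub, map_sum, map_mul, sub_mul, Finset.sum_sub_distrib]; ring
    exact (sup_le (le_sup_of_le_left le_sup_left) hfall) (hlift x hx)
  -- Nakayama
  let V := U ⧸ (IU ⊔ S)
  let mkV : U →+* V := Ideal.Quotient.mk _
  have hJfg : (J.map mkV).FG := by
    refine ⟨((Finset.univ.image fun j => a (f j)) ∪ s).image mkV, ?_⟩
    rw [Finset.coe_image, ← Ideal.map_span]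
    refine le_antisymm (Ideal.map_mono (Ideal.span_le.2 ?_)) (Ideal.map_le_iff_le_comap.2 fun x hx => ?_)
    · intro x hx
      rcases Finset.mem_union.1 (Finset.mem_coe.1 hx) with h | h
      · obtain ⟨j, -, rfl⟩ := Finset.mem_image.1 h; exact hfJ j
      · show x ∈ RingHom.ker ψ.toRingHom
        rw [hker]; exact Ideal.mem_sup_right (Ideal.subset_span h)
    · rw [Ideal.mem_comap]
      have hx' : x ∈ (IU ⊔ S) ⊔ Ideal.span (((Finset.univ.image fun j => a (f j)) ∪ s : Finset U) : Set U) := by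
        have hx0 : x ∈ RingHom.ker ψ.toRingHom := hx
        rw [hker] at hx0
        have hs1 : Ideal.span (s : Set U) ≤
            (IU ⊔ S) ⊔ Ideal.span (((Finset.univ.image fun j => a (f j)) ∪ s : Finset U) : Set U) :=
          le_sup_of_le_right (Ideal.span_mono fun z hz => Finset.mem_coe.2 (Finset.mem_union_right _ hz))
        have hs2 : IU ⊔ Ideal.span (Set.range fun j => a (f j)) ≤
            (IU ⊔ S) ⊔ Ideal.span (((Finset.univ.image fun j => a (f j)) ∪ s : Finset U) : Set U) := by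
          refine sup_le (le_sup_of_le_left le_sup_left) (le_sup_of_le_right (Ideal.span_mono ?_))
          rintro _ ⟨j, rfl⟩
          exact Finset.mem_coe.2 (Finset.mem_union_left _ (Finset.mem_image_of_mem _ (Finset.mem_univ j)))
        have hs3 : (RingHom.ker (algebraMap P A₀)).map (algebraMap P U) ≤
            (IU ⊔ S) ⊔ Ideal.span (((Finset.univ.image fun j => a (f j)) ∪ s : Finset U) : Set U) :=
          Ideal.map_le_iff_le_comap.2 fun y hy => hs2 (hlift y hy)
        exact sup_le hs3 hs1 hx0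
      have := Ideal.mem_map_of_mem mkV hx'
      rwa [Ideal.map_sup, show (IU ⊔ S).map mkV = ⊥ from Ideal.map_quotient_self _, bot_sup_eq] at this
  obtain ⟨r, hr1, hr⟩ := Submodule.exists_sub_one_mem_and_smul_eq_zero_of_fg_of_le_smul (J.map mkV)
    (J.map mkV) hJfg (by
      have := Ideal.map_mono (f := mkV) hJle
      rw [Ideal.map_sup, show (IU ⊔ S).map mkV = ⊥ from Ideal.map_quotient_self _, bot_sup_eq,
        Ideal.map_pow, pow_two] at this
      exact this)
  obtain ⟨h, rfl⟩ := Ideal.Quotient.mk_surjective r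
  have hh : ∀ x ∈ J, h * x ∈ IU ⊔ S := fun x hx => Ideal.Quotient.eq_zero_iff_mem.1 (by
    rw [map_mul]; exact hr _ (Ideal.mem_map_of_mem mkV hx))
  have hψh : ψ h = 1 := by
    obtain ⟨z, hz, hz'⟩ := (Ideal.mem_map_iff_of_surjective mkV Ideal.Quotient.mk_surjective).1 hr1
    have : h - 1 - z ∈ IU ⊔ S := Ideal.Quotient.eq_zero_iff_mem.1 (by
      rw [map_sub, map_sub, map_one]; exact sub_eq_zero.2 hz'.symm)
    have h1 := add_mem (sup_le hIUJ hSJ this) hz
    rw [sub_add_cancel] at h1
    have h2 : ψ (h - 1) = 0 := h1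
    rwa [map_sub, map_one, sub_eq_zero] at h2
  -- differentials
  let bU : Module.Basis (Fin n) U Ω[U⁄R] :=
    ((mvPolynomialBasis R (Fin n)).baseChange U).map (tensorKaehlerEquivOfFormallyEtale R P U)
  have hbU : ∀ k, bU k = D R U (a (MvPolynomial.X k)) := fun k => by
    simp [bU, a, mvPolynomialBasis_apply]
    rw [mapBaseChange_tmul, one_smul, map_D]
  have hDp : ∀ p : P, D R U (a p) = ∑ k, a (MvPolynomial.pderiv k p) • bU k := by
    intro p
    have h := (mvPolynomialBasis R (Fin n)).sum_repr (D R P p)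
    simp only [mvPolynomialBasis_apply] at h
    rw [← map_D R R P U, ← h, map_sum]
    refine Finset.sum_congr rfl fun k _ => ?_
    rw [map_smul, map_D, hbU, mvPolynomialBasis_repr_apply, ← algebraMap_smul U (MvPolynomial.pderiv k p)]
  let W : Fin m → Fin m → Fin n → U := fun i j k => bU.repr (D R U (E i j)) k
  let M : Matrix (Fin m) (Fin n) U := Matrix.of fun i k => bU.repr (D R U (v i)) k
  have hM₁ : ∀ i k, M i k = ∑ j, (E i j * a (MvPolynomial.pderiv k (f j)) + a (f j) * W i j k) := by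
    intro i k
    have hr : ∀ p : P, bU.repr (D R U (a p)) k = a (MvPolynomial.pderiv k p) := fun p => by
      rw [hDp, bU.repr_sum_self]
    simp [M, v, W, map_sum, Derivation.leibniz, hr, smul_eq_mul]
  have hM₂ : ∀ i k, M i k - (E * M) i k = ∑ j, v j * W i j k := by
    intro i k
    conv_lhs => arg 1; rw [show M i k = bU.repr (D R U (∑ j, E i j * v j)) k by rw [hvE]; rfl]
    simp [M, W, map_sum, Derivation.leibniz, Matrix.mul_apply, smul_eq_mul, Finset.sum_add_distrib]
  let LU : Matrix (Fin n) (Fin m) U := Matrix.of fun k j => a (L k j)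
  have hMψ : M.map ψ = E₀ * Db := by
    ext i k
    rw [Matrix.map_apply, hM₁, map_sum, Matrix.mul_apply]
    refine Finset.sum_congr rfl fun j _ => ?_
    rw [map_add, map_mul, map_mul, show ψ (a (f j)) = 0 from hfJ j, zero_mul, add_zero,
      show ψ (E i j) = E₀ i j from congrFun (congrFun hEψ i) j, hψa]
    simp only [Db, D₀, Matrix.map_apply, Matrix.of_apply]
    rw [← hf]
    exact congrArg (fun z => E₀ i j * φ₀ z) MvPolynomial.pderiv_map.symm
  let H := M * LU * E + 1 - E
  have hHψ : ψ H.det = 1 := by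
    rw [AlgHom.map_det]
    have hLψ : LU.map ψ = (Matrix.of L₀).map φ₀ := by
      ext k j; simp [LU, hψa, hL]
    have : H.map ψ = 1 := by
      simp only [H, Matrix.map_sub ψ (map_sub ψ), Matrix.map_add ψ (map_add ψ), Matrix.map_mul, hMψ,
        hLψ, hEψ, Matrix.map_one ψ (map_zero ψ) (map_one ψ)]
      rw [hE₀D, ← hE₀, hE₀idem, add_sub_cancel_left]
    show (H.map ψ).det = 1
    rw [this, Matrix.det_one]
  let g := h * H.det
  have hψg : ψ g = 1 := by rw [map_mul, hψh, hHψ, one_mul]
  -- the algebra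
  let Q := Localization.Away g
  have : Algebra.FormallyEtale U Q := Algebra.FormallyEtale.of_isLocalization (Submonoid.powers g)
  have : Algebra.FormallySmooth R Q := Algebra.FormallySmooth.comp R U Q
  have : Algebra.FinitePresentation U Q := IsLocalization.Away.finitePresentation g
  have : Algebra.FinitePresentation R Q := Algebra.FinitePresentation.trans R U Q
  let ι : U →+* Q := algebraMap U Q
  let bQ : Module.Basis (Fin n) Q Ω[Q⁄R] :=
    (bU.baseChange Q).map (tensorKaehlerEquivOfFormallyEtale R U Q)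
  have hbQ : ∀ k, bQ k = map R R U Q (bU k) := fun k => by simp [bQ]
  let vQ : Fin m → Q := fun i => ι (v i)
  let SQ : Ideal Q := Ideal.span (Set.range vQ)
  have hSQ : S.map ι = SQ := by rw [Ideal.map_span, ← Set.range_comp]; rfl
  let A := Q ⧸ SQ
  have hgQ : IsUnit (ι g) := IsLocalization.Away.algebraMap_isUnit g
  let mk := Ideal.Quotient.mk SQ
  let cA : U →+* A := mk.comp ι
  obtain ⟨T', hT'⟩ := exists_mul_eq (E.map cA) (by rw [← Matrix.map_mul, hE]) (M.map cA) (by
      rw [← Matrix.map_mul]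
      ext i k
      refine (sub_eq_zero.1 ?_).symm
      rw [Matrix.map_apply, Matrix.map_apply, ← map_sub, hM₂, map_sum]
      refine Finset.sum_eq_zero fun j _ => ?_
      rw [map_mul, show cA (v j) = 0 from Ideal.Quotient.eq_zero_iff_mem.2
        (Ideal.subset_span ⟨j, rfl⟩), zero_mul])
    (LU.map cA) (by
      have hu : IsUnit (ι H.det) := by
        rw [map_mul] at hgQ; exact isUnit_of_mul_isUnit_right hgQ
      have := hu.map mk
      rw [show mk (ι H.det) = cA H.det from rfl, RingHom.map_det, RingHom.mapMatrix_apply] at this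
      simpa only [H, Matrix.map_sub cA (map_sub cA), Matrix.map_add cA (map_add cA), Matrix.map_mul,
        Matrix.map_one cA (map_zero cA) (map_one cA)] using this)
  choose T hT using fun k j => Ideal.Quotient.mk_surjective (T' k j)
  have hfs : Algebra.FormallySmooth R A := by
    refine formallySmooth_quotient bQ vQ (E.map ι) (fun i => ?_) (M.map ι) (fun i => ?_) (Matrix.of T)
      fun i j => ?_
    · simp only [vQ, Matrix.map_apply, ← map_mul, ← map_sum, hvE]
    · show D R Q (algebraMap U Q (v i)) = _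
      conv_lhs => rw [← map_D R R U Q, ← bU.sum_repr (D R U (v i)), map_sum]
      refine Finset.sum_congr rfl fun k _ => ?_
      rw [map_smul, hbQ, ← algebraMap_smul Q (bU.repr (D R U (v i)) k)]
      rfl
    · refine Ideal.Quotient.eq_zero_iff_mem.1 ?_
      have := congrFun (congrFun hT' i) j
      simp only [Matrix.mul_apply, Matrix.map_apply, Matrix.of_apply, map_sub, map_sum, map_mul] at this ⊢
      refine sub_eq_zero.2 (Eq.trans (Finset.sum_congr rfl fun k _ => ?_) this)
      exact congrArg (fun z => cA (M i k) * z) (hT k j)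
  have : Algebra.FinitePresentation R A :=
    Algebra.FinitePresentation.quotient (Submodule.fg_span (Set.finite_range _))
  refine ⟨A, inferInstance, inferInstance, ⟨hfs, inferInstance⟩, ?_⟩
  -- reduction modulo `I`
  have hunit : ∀ y : Submonoid.powers g, IsUnit (ψ.toRingHom (y : U)) := fun y => by
    obtain ⟨k, hk⟩ := y.2
    rw [← hk, map_pow, show ψ.toRingHom g = 1 from hψg, one_pow]; exact isUnit_one
  let ψQ : Q →+* A₀ := IsLocalization.lift hunit
  have hψQ : ∀ x, ψQ (ι x) = ψ x := fun x => IsLocalization.lift_eq hunit x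
  let θ : A →+* A₀ := Ideal.Quotient.lift SQ ψQ fun x hx => by
    have : SQ ≤ RingHom.ker ψQ := by
      rw [← hSQ, Ideal.map_le_iff_le_comap]
      intro y hy; show ψQ (ι y) = 0; rw [hψQ]; exact hSJ hy
    exact this hx
  have hθ : ∀ x, θ (cA x) = ψ x := hψQ
  have hθsurj : Function.Surjective θ := fun z => by
    obtain ⟨p, rfl⟩ := (hφ₀.comp hq) z; exact ⟨cA (a p), (hθ _).trans (hψa p)⟩
  have hIA : I.map (algebraMap R A) = IU.map cA := by
    rw [Ideal.map_map]; rfl
  have hθker : RingHom.ker θ = I.map (algebraMap R A) := by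
    rw [hIA]
    refine le_antisymm (fun x hx => ?_) (Ideal.map_le_iff_le_comap.2 fun y hy => ?_)
    · obtain ⟨x, rfl⟩ := Ideal.Quotient.mk_surjective x
      obtain ⟨⟨u, y⟩, hy⟩ := IsLocalization.surj (Submonoid.powers g) x
      have hu : u ∈ J := by
        show ψ u = 0
        rw [← hψQ u, ← hy, map_mul]
        have : ψQ x = 0 := hx
        rw [this, zero_mul]
      have hm := Ideal.mem_map_of_mem cA (hh u hu)
      rw [Ideal.map_sup, show S.map cA = ⊥ by
        rw [← Ideal.map_map, hSQ]; exact Ideal.map_quotient_self _, sup_bot_eq, map_mul] at hm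
      have hcu : IsUnit (cA h) := by
        have h1 : IsUnit (ι h) := by rw [map_mul] at hgQ; exact isUnit_of_mul_isUnit_left hgQ
        exact h1.map mk
      have hm2 := (Ideal.unit_mul_mem_iff_mem _ hcu).1 hm
      rw [show cA u = mk (x * ι y) from congrArg mk hy.symm, map_mul] at hm2
      exact (Ideal.mul_unit_mem_iff_mem _ ((IsLocalization.map_units Q y).map mk)).1 hm2
    · show θ (cA y) = 0
      rw [hθ]; exact hIUJ hy
  let e : (A ⧸ I.map (algebraMap R A)) ≃+* A₀ :=
    (Ideal.quotEquivOfEq hθker.symm).trans (RingHom.quotientKerEquivOfSurjective hθsurj)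
  refine ⟨AlgEquiv.ofRingEquiv (f := e) fun r => ?_⟩
  obtain ⟨r, rfl⟩ := Ideal.Quotient.mk_surjective r
  show θ (cA (a (MvPolynomial.C r))) = _
  rw [hθ, hψa, show q (MvPolynomial.C r) = MvPolynomial.C (Ideal.Quotient.mk I r) from
      MvPolynomial.map_C _ _]
  exact φ₀.commutes _

end Groth.NeronArea.SmoothLift
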