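import Groth.Prelude.Def_Smoothing
import Groth.Agent.NeronArea.SmoothLift
import Groth.Agent.NeronArea.StandardElement
import Mathlib.RingTheory.Flat.EquationalCriterion
import Mathlib.RingTheory.Flat.Stability
import Mathlib.RingTheory.Smooth.Basic
import Mathlib.RingTheory.Kaehler.Basic

/-! Ind-smoothness lifts along nilpotent ideals. -/

open scoped TensorProduct
open Smoothing

namespace Groth.NeronArea.NilLift

universe u

variable {R : Type u} [CommRing R]

lemma exists_eq_sum_of_mem_map {B : Type u} [CommRing B] [Algebra R B] {I : Ideal R} {x : B}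
    (hx : x ∈ I.map (algebraMap R B)) :
    ∃ (k : ℕ) (ε : Fin k → R) (b : Fin k → B), (∀ i, ε i ∈ I) ∧ x = ∑ i, algebraMap R B (ε i) * b i := by
  rw [Ideal.map, Ideal.span, Finsupp.mem_span_image_iff_linearCombination] at hx
  obtain ⟨l, hl, rfl⟩ := hx
  let e := l.support.equivFin.symm
  refine ⟨_, fun i => (e i : R), fun i => l (e i), fun i => hl (e i).2, ?_⟩
  rw [Finsupp.linearCombination_apply, Finsupp.sum, ← Finset.sum_coe_sort, ← e.sum_comp]
  exact Finset.sum_congr rfl fun i _ => mul_comm _ _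

lemma sq_zero_of_mem {B : Type u} [CommRing B] [Algebra R B] {I : Ideal R} (hI : I ^ 2 = ⊥) {x y : B}
    (hx : x ∈ I.map (algebraMap R B)) (hy : y ∈ I.map (algebraMap R B)) : x * y = 0 := by
  have := Ideal.mul_mem_mul hx hy
  rwa [← pow_two, ← Ideal.map_pow, hI, Ideal.map_bot, Ideal.mem_bot] at this

variable {Λ : Type u} [CommRing Λ] [Algebra R Λ] (I : Ideal R) (hI : I ^ 2 = ⊥)
  (h : IndSmooth (R ⧸ I) (Λ ⧸ I.map (algebraMap R Λ)))

include hI h in
/-- Modulo `I`, maps factor through a lift of a smooth algebra. -/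
theorem exists_factor_mod {A : Type u} [CommRing A] [Algebra R A] [Algebra.FinitePresentation R A]
    (φ : A →ₐ[R] Λ) :
    ∃ (C : Type u) (_ : CommRing C) (_ : Algebra R C), Algebra.Smooth R C ∧
      ∃ (γ : C →ₐ[R] Λ) (g : A →ₐ[R] C ⧸ I.map (algebraMap R C)),
        ∀ a c, Ideal.Quotient.mk (I.map (algebraMap R C)) c = g a → γ c - φ a ∈ I.map (algebraMap R Λ) := by
  let Λ₀ := Λ ⧸ I.map (algebraMap R Λ)
  let A₀ := (R ⧸ I) ⊗[R] A
  let φ₀ : A₀ →ₐ[R ⧸ I] Λ₀ := Algebra.TensorProduct.lift (Algebra.ofId _ _)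
    ((Ideal.Quotient.mkₐ R _).comp φ) fun _ _ => Commute.all _ _
  obtain ⟨C₀, _, _, hC₀, g₀, h₀, hgh⟩ := h A₀ (Algebra.FinitePresentation.baseChange (R ⧸ I)) φ₀
  obtain ⟨C, _, _, hC, ⟨e⟩⟩ := SmoothLift.exists_smooth_lift (R := R) I (A₀ := C₀)
  let η : C ⧸ I.map (algebraMap R C) →ₐ[R] Λ₀ := (h₀.comp e.toAlgHom).restrictScalars R
  let g : A →ₐ[R] C ⧸ I.map (algebraMap R C) :=
    ((e.symm.toAlgHom.comp g₀).restrictScalars R).comp Algebra.TensorProduct.includeRight
  have hnil : IsNilpotent (RingHom.ker (Ideal.Quotient.mkₐ R (I.map (algebraMap R Λ)) : Λ →+* Λ₀)) :=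
    ⟨2, by
      rw [show RingHom.ker (Ideal.Quotient.mkₐ R (I.map (algebraMap R Λ)) : Λ →+* Λ₀) = I.map (algebraMap R Λ) from
        Ideal.mk_ker, ← Ideal.map_pow, hI, Ideal.map_bot, Ideal.zero_eq_bot]⟩
  let γ : C →ₐ[R] Λ := Algebra.FormallySmooth.liftOfSurjective (η.comp (Ideal.Quotient.mkₐ R _))
    (Ideal.Quotient.mkₐ R _) Ideal.Quotient.mk_surjective hnil
  refine ⟨C, inferInstance, inferInstance, hC, γ, g, fun a c hc => ?_⟩
  rw [← Ideal.Quotient.eq]
  have h1 : Ideal.Quotient.mkₐ R (I.map (algebraMap R Λ)) (γ c) =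
      (η.comp (Ideal.Quotient.mkₐ R (I.map (algebraMap R C)))) c :=
    Algebra.FormallySmooth.liftOfSurjective_apply _ _ _ _ c
  rw [Ideal.Quotient.mkₐ_eq_mk, AlgHom.comp_apply, Ideal.Quotient.mkₐ_eq_mk] at h1
  rw [h1, hc]
  show h₀ (e (e.symm (g₀ (1 ⊗ₜ a)))) = _
  rw [e.apply_symm_apply]
  refine (AlgHom.congr_fun hgh (1 ⊗ₜ a)).trans ?_
  simp only [φ₀]
  erw [Algebra.TensorProduct.lift_tmul]
  rw [map_one, one_mul]
  rfl

include hI h in
theorem lift_once {A : Type u} [CommRing A] [Algebra R A] [Algebra.FinitePresentation R A]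
    (φ : A →ₐ[R] Λ) :
    ∃ (B : Type u) (_ : CommRing B) (_ : Algebra R B), Algebra.Smooth R B ∧
      ∃ J : Ideal B, J ≤ I.map (algebraMap R B) ∧ J.FG ∧
        ∃ (g : A →ₐ[R] B ⧸ J) (k : (B ⧸ J) →ₐ[R] Λ), k.comp g = φ := by
  classical
  obtain ⟨n, π, hπ, hfg⟩ := Algebra.FinitePresentation.out (R := R) (A := A)
  obtain ⟨m, f, hf⟩ := Submodule.fg_iff_exists_fin_generating_family.1 hfg
  obtain ⟨C, _, _, hC, γ, gbar, hγ⟩ := exists_factor_mod I hI h φ
  choose c hc using fun i => Ideal.Quotient.mk_surjective (gbar (π (MvPolynomial.X i)))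
  choose k ε lam hε hsum using fun i => exists_eq_sum_of_mem_map
    (Submodule.neg_mem _ (hγ (π (MvPolynomial.X i)) (c i) (hc i)))
  let σ := Σ i : Fin n, Fin (k i)
  let B := MvPolynomial σ C
  have : Algebra.Smooth C B := {}
  have hB : Algebra.Smooth R B := Algebra.Smooth.comp R C B
  let b : Fin n → B := fun i =>
    algebraMap C B (c i) + ∑ l, algebraMap R B (ε i l) * MvPolynomial.X (⟨i, l⟩ : σ)
  let hp : MvPolynomial (Fin n) R →ₐ[R] B := MvPolynomial.aeval b
  let β : B →ₐ[R] Λ :=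
    { MvPolynomial.eval₂Hom γ.toRingHom (fun s : σ => lam s.1 s.2) with
      commutes' := fun r => by
        show MvPolynomial.eval₂Hom γ.toRingHom _ (algebraMap R B r) = _
        rw [IsScalarTower.algebraMap_apply R C B, MvPolynomial.algebraMap_eq,
          MvPolynomial.eval₂Hom_C]
        exact γ.commutes r }
  have hβC : ∀ x, β (algebraMap C B x) = γ x := fun x => MvPolynomial.eval₂Hom_C _ _ x
  have hβX : ∀ s, β (MvPolynomial.X s) = lam s.1 s.2 := fun s => MvPolynomial.eval₂Hom_X' _ _ s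
  have hβ : ∀ p, β (hp p) = φ (π p) := by
    intro p
    refine AlgHom.congr_fun (show β.comp hp = φ.comp π from MvPolynomial.algHom_ext fun i => ?_) p
    simp only [AlgHom.comp_apply, hp, MvPolynomial.aeval_X, b, map_add, map_sum, map_mul, hβC, hβX,
      AlgHom.commutes, ← hsum]
    ring
  let IB := I.map (algebraMap R B)
  let q : C ⧸ I.map (algebraMap R C) →ₐ[R] B ⧸ IB :=
    Ideal.Quotient.liftₐ _ ((Ideal.Quotient.mkₐ R IB).comp (IsScalarTower.toAlgHom R C B)) fun x hx => by
      refine Ideal.Quotient.eq_zero_iff_mem.2 ?_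
      have := Ideal.mem_map_of_mem (algebraMap C B) hx
      rwa [Ideal.map_map, ← IsScalarTower.algebraMap_eq] at this
  have hmod : ∀ p, Ideal.Quotient.mk IB (hp p) = q (gbar (π p)) := by
    intro p
    refine AlgHom.congr_fun (show (Ideal.Quotient.mkₐ R IB).comp hp = q.comp (gbar.comp π) from
      MvPolynomial.algHom_ext fun i => ?_) p
    show Ideal.Quotient.mk IB (hp (MvPolynomial.X i)) = q (gbar (π (MvPolynomial.X i)))
    rw [← hc i, show hp (MvPolynomial.X i) = b i from MvPolynomial.aeval_X b i]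
    show _ = Ideal.Quotient.mk IB (algebraMap C B (c i))
    rw [Ideal.Quotient.eq]
    simp only [b, add_sub_cancel_left]
    exact Ideal.sum_mem _ fun l _ => Ideal.mul_mem_right _ _ (Ideal.mem_map_of_mem _ (hε i l))
  have hπf : ∀ j, π (f j) = 0 := fun j => by
    have : f j ∈ RingHom.ker π.toRingHom := hf ▸ Submodule.subset_span ⟨j, rfl⟩
    exact this
  let J : Ideal B := Ideal.span (Set.range fun j => hp (f j))
  have hker : ∀ x, π x = 0 → hp x ∈ J := fun x hx => by
    have hx' : x ∈ Ideal.span (Set.range f) := by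
      have h' : x ∈ RingHom.ker π.toRingHom := hx
      rw [← hf] at h'; exact h'
    have := Ideal.mem_map_of_mem hp hx'
    rwa [Ideal.map_span, ← Set.range_comp] at this
  let g : A →ₐ[R] B ⧸ J :=
    (Ideal.Quotient.liftₐ (RingHom.ker π) ((Ideal.Quotient.mkₐ R J).comp hp) fun x hx =>
      Ideal.Quotient.eq_zero_iff_mem.2 (hker x hx)).comp
      (Ideal.quotientKerAlgEquivOfSurjective hπ).symm.toAlgHom
  have hg : ∀ p, g (π p) = Ideal.Quotient.mk J (hp p) := fun p => by
    simp only [g, AlgHom.comp_apply, AlgEquiv.coe_toAlgHom]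
    rw [show (Ideal.quotientKerAlgEquivOfSurjective hπ).symm (π p) = Ideal.Quotient.mk _ p from
      (AlgEquiv.symm_apply_eq _).2 rfl]
    rfl
  let kk : (B ⧸ J) →ₐ[R] Λ := Ideal.Quotient.liftₐ J β fun x hx => by
    have : J ≤ RingHom.ker β := Ideal.span_le.2 (by
      rintro _ ⟨j, rfl⟩; show β (hp (f j)) = 0; rw [hβ, hπf, map_zero])
    exact this hx
  refine ⟨B, inferInstance, inferInstance, hB, J, ?_, Submodule.fg_span (Set.finite_range _), g, kk,
    AlgHom.ext fun a => ?_⟩
  · rw [Ideal.span_le]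
    rintro _ ⟨j, rfl⟩
    exact Ideal.Quotient.eq_zero_iff_mem.1 (by rw [hmod, hπf, map_zero, map_zero])
  · obtain ⟨p, rfl⟩ := hπ a
    rw [AlgHom.comp_apply, hg]
    exact hβ p

include hI h in
theorem lift_twice [Module.Flat R Λ] {B : Type u} [CommRing B] [Algebra R B] [Algebra.Smooth R B]
    (φ : B →ₐ[R] Λ) (J : Ideal B) (hJ : J ≤ I.map (algebraMap R B)) (hJfg : J.FG)
    (hφJ : ∀ x ∈ J, φ x = 0) :
    ∃ (B' : Type u) (_ : CommRing B') (_ : Algebra R B'), Algebra.Smooth R B' ∧
      ∃ (α : B →ₐ[R] B') (β : B' →ₐ[R] Λ), (∀ x ∈ J, α x = 0) ∧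
        ∀ b : B, β (α b) - φ b ∈ I.map (algebraMap R Λ) := by
  classical
  obtain ⟨m, y, hy⟩ := Submodule.fg_iff_exists_fin_generating_family.1 hJfg
  have hyJ : ∀ j, y j ∈ J := fun j => hy ▸ Submodule.subset_span ⟨j, rfl⟩
  choose k ε b hε hsum using fun j : Fin m => exists_eq_sum_of_mem_map (hJ (hyJ j))
  have htriv : ∀ j, Module.IsTrivialRelation (ε j) (fun i => φ (b j i)) := fun j => by
    refine Module.Flat.isTrivialRelation_of_sum_smul_eq_zero ?_
    have h0 := hφJ _ (hyJ j)
    rw [hsum j, map_sum] at h0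
    simpa [Algebra.smul_def] using h0
  choose l r lam hlam hr using htriv
  let σ := Σ j : Fin m, Fin (l j)
  let P := MvPolynomial σ B
  let rel : (Σ j : Fin m, Fin (k j)) → P := fun s =>
    MvPolynomial.C (b s.1 s.2) - ∑ z, algebraMap R P (r s.1 s.2 z) * MvPolynomial.X (⟨s.1, z⟩ : σ)
  let A' := P ⧸ Ideal.span (Set.range rel)
  have : Algebra.FinitePresentation R P := Algebra.FinitePresentation.trans R B P
  have : Algebra.FinitePresentation R A' :=
    Algebra.FinitePresentation.quotient (Submodule.fg_span (Set.finite_range _))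
  let φP : P →ₐ[R] Λ :=
    { MvPolynomial.eval₂Hom φ.toRingHom (fun s : σ => lam s.1 s.2) with
      commutes' := fun a => by
        show MvPolynomial.eval₂Hom φ.toRingHom _ (algebraMap R P a) = _
        rw [IsScalarTower.algebraMap_apply R B P, MvPolynomial.algebraMap_eq,
          MvPolynomial.eval₂Hom_C]
        exact φ.commutes a }
  have hφC : ∀ x, φP (MvPolynomial.C x) = φ x := fun x => MvPolynomial.eval₂Hom_C _ _ x
  have hφX : ∀ s, φP (MvPolynomial.X s) = lam s.1 s.2 := fun s => MvPolynomial.eval₂Hom_X' _ _ s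
  let φ' : A' →ₐ[R] Λ := Ideal.Quotient.liftₐ _ φP fun x hx => by
    have : Ideal.span (Set.range rel) ≤ RingHom.ker φP := Ideal.span_le.2 (by
      rintro _ ⟨⟨j, i⟩, rfl⟩
      show φP (rel ⟨j, i⟩) = 0
      simp only [rel, map_sub, map_sum, map_mul, hφC, hφX, AlgHom.commutes, ← Algebra.smul_def]
      rw [sub_eq_zero]
      refine (hlam j i).trans (Finset.sum_congr rfl fun z _ => ?_)
      rw [map_smul, hφX])
    exact this hx
  obtain ⟨C, _, _, hC, γ, g, hγ⟩ := exists_factor_mod I hI h φ'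
  let ιB : B →ₐ[R] A' := (Ideal.Quotient.mkₐ R _).comp (IsScalarTower.toAlgHom R B P)
  let α : B →ₐ[R] C := Algebra.FormallySmooth.lift (I.map (algebraMap R C))
    ⟨2, by rw [← Ideal.map_pow, hI, Ideal.map_bot]; rfl⟩ (g.comp ιB)
  have hα : ∀ x, Ideal.Quotient.mk _ (α x) = g (ιB x) := fun x => Algebra.FormallySmooth.mk_lift _ _ _ x
  have hkill : ∀ j, α (y j) = 0 := by
    intro j
    choose ζ hζ using fun z : Fin (l j) =>
      Ideal.Quotient.mk_surjective (g (Ideal.Quotient.mk _ (MvPolynomial.X (⟨j, z⟩ : σ))))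
    have hb : ∀ i, α (b j i) - ∑ z, algebraMap R C (r j i z) * ζ z ∈ I.map (algebraMap R C) := by
      intro i
      rw [← Ideal.Quotient.eq, hα]
      have h0 : Ideal.Quotient.mk (Ideal.span (Set.range rel)) (rel ⟨j, i⟩) = 0 :=
        Ideal.Quotient.eq_zero_iff_mem.2 (Ideal.subset_span ⟨⟨j, i⟩, rfl⟩)
      simp only [rel, map_sub, map_sum, map_mul, sub_eq_zero] at h0
      show g (Ideal.Quotient.mk _ (MvPolynomial.C (b j i))) = _
      rw [h0, map_sum, map_sum]
      refine Finset.sum_congr rfl fun z _ => ?_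
      rw [map_mul, map_mul, hζ]
      congr 1
      exact g.commutes _
    rw [hsum j, map_sum]
    calc ∑ i, α (algebraMap R B (ε j i) * b j i)
        = ∑ i, algebraMap R C (ε j i) * ∑ z, algebraMap R C (r j i z) * ζ z :=
          Finset.sum_congr rfl fun i _ => by
            rw [map_mul, AlgHom.commutes, ← sub_eq_zero, ← mul_sub]
            exact sq_zero_of_mem hI (Ideal.mem_map_of_mem _ (hε j i)) (hb i)
      _ = ∑ z, algebraMap R C (∑ i, ε j i * r j i z) * ζ z := by
          simp only [Finset.mul_sum, map_sum, map_mul, Finset.sum_mul, ← mul_assoc]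
          exact Finset.sum_comm
      _ = 0 := by
          refine Finset.sum_eq_zero fun z _ => ?_
          have := hr j z
          rw [this, map_zero, zero_mul]
  refine ⟨C, inferInstance, inferInstance, hC, α, γ, fun x hx => ?_, fun x => ?_⟩
  · have : J ≤ RingHom.ker α := hy ▸ Submodule.span_le.2 (by rintro _ ⟨j, rfl⟩; exact hkill j)
    exact this hx
  · have := hγ (ιB x) (α x) (hα x)
    rwa [show φ' (ιB x) = φ x from hφC x] at this

include hI h in
theorem lift_twice_exact [Module.Flat R Λ] {B : Type u} [CommRing B] [Algebra R B] [Algebra.Smooth R B]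
    (φ : B →ₐ[R] Λ) (J : Ideal B) (hJ : J ≤ I.map (algebraMap R B)) (hJfg : J.FG)
    (hφJ : ∀ x ∈ J, φ x = 0) :
    ∃ (B' : Type u) (_ : CommRing B') (_ : Algebra R B'), Algebra.Smooth R B' ∧
      ∃ (α : B →ₐ[R] B') (β : B' →ₐ[R] Λ), (∀ x ∈ J, α x = 0) ∧ β.comp α = φ := by
  classical
  obtain ⟨B₁, _, _, hB₁, α, β, hαJ, hαβ⟩ := lift_twice I hI h φ J hJ hJfg hφJ
  obtain ⟨n, π, hπ, -⟩ := Algebra.FinitePresentation.out (R := R) (A := B)
  let x : Fin n → B := fun i => π (MvPolynomial.X i)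
  let Ω := Ω[B⁄R]
  let π' : (Fin n → B) →ₗ[B] Ω := Fintype.linearCombination B fun i => KaehlerDifferential.D R B (x i)
  have hπ' : Function.Surjective π' := by
    rw [← LinearMap.range_eq_top, ← top_le_iff, ← KaehlerDifferential.span_range_derivation,
      Submodule.span_le]
    rintro _ ⟨a, rfl⟩
    obtain ⟨p, rfl⟩ := hπ a
    show KaehlerDifferential.D R B (π p) ∈ LinearMap.range π'
    induction p using MvPolynomial.induction_on with
    | C r =>
      rw [← MvPolynomial.algebraMap_eq, AlgHom.commutes, Derivation.map_algebraMap]; exact zero_mem _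
    | add p q hp hq => rw [map_add, map_add]; exact add_mem hp hq
    | mul_X p i hp =>
      rw [map_mul, Derivation.leibniz]
      exact add_mem (Submodule.smul_mem _ _ ⟨Pi.single i 1, by simp [π', x, Fintype.linearCombination_apply_single]⟩)
        (Submodule.smul_mem _ _ hp)
  obtain ⟨s, hs⟩ := Module.projective_lifting_property π' LinearMap.id hπ'
  -- the defect derivation
  letI : Algebra B Λ := φ.toRingHom.toAlgebra
  have : IsScalarTower R B Λ := IsScalarTower.of_algebraMap_eq fun r => (φ.commutes r).symm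
  let δ : B → Λ := fun b => φ b - β (α b)
  have hδI : ∀ b, δ b ∈ I.map (algebraMap R Λ) := fun b => by
    rw [show δ b = -(β (α b) - φ b) by simp [δ]]; exact Submodule.neg_mem _ (hαβ b)
  have hδsw : ∀ a b, φ a * δ b = β (α a) * δ b := fun a b => by
    rw [← sub_eq_zero, ← sub_mul]; exact sq_zero_of_mem hI (hδI a) (hδI b)
  let δD : Derivation R B Λ := Derivation.mk'
    (φ.toLinearMap - β.toLinearMap ∘ₗ α.toLinearMap) fun a b => by
      show φ (a * b) - β (α (a * b)) = φ a * (φ b - β (α b)) + φ b * (φ a - β (α a))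
      have h1 := sq_zero_of_mem hI (hδI a) (hδI b)
      simp only [δ] at h1
      simp only [map_mul]
      linear_combination -h1
  have hδs : ∀ b, δ b = ∑ i, φ (s (KaehlerDifferential.D R B b) i) * δ (x i) := by
    intro b
    have h1 : δD.liftKaehlerDifferential (π' (s (KaehlerDifferential.D R B b))) = δ b := by
      rw [show π' (s (KaehlerDifferential.D R B b)) = KaehlerDifferential.D R B b from
        LinearMap.congr_fun hs _, Derivation.liftKaehlerDifferential_comp_D]
      rfl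
    rw [← h1]
    simp only [π', Fintype.linearCombination_apply, map_sum, map_smul,
      Derivation.liftKaehlerDifferential_comp_D]
    rfl
  choose k ε lam hε hsum using fun i => exists_eq_sum_of_mem_map (hδI (x i))
  let σ := Σ i : Fin n, Fin (k i)
  let B₂ := MvPolynomial σ B₁
  have : Algebra.Smooth B₁ B₂ := {}
  have hB₂ : Algebra.Smooth R B₂ := Algebra.Smooth.comp R B₁ B₂
  let ι : B →ₐ[R] B₂ := (IsScalarTower.toAlgHom R B₁ B₂).comp α
  let w : Fin n → B₂ := fun i => ∑ z, algebraMap R B₂ (ε i z) * MvPolynomial.X (⟨i, z⟩ : σ)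
  have hw : ∀ i, w i ∈ I.map (algebraMap R B₂) := fun i =>
    Ideal.sum_mem _ fun z _ => Ideal.mul_mem_right _ _ (Ideal.mem_map_of_mem _ (hε i z))
  let d : B →ₗ[R] B₂ :=
    { toFun := fun b => ∑ i, ι (s (KaehlerDifferential.D R B b) i) * w i
      map_add' := fun a b => by simp [add_mul, Finset.sum_add_distrib]
      map_smul' := fun r b => by
        simp [Derivation.map_smul, LinearMap.map_smul_of_tower, Algebra.smul_def, Finset.mul_sum, mul_assoc]; exact (Finset.mul_sum _ _ _).symm }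
  have hd : ∀ b, d b ∈ I.map (algebraMap R B₂) := fun b => by
    show (∑ i, ι (s (KaehlerDifferential.D R B b) i) * w i) ∈ _
    exact Ideal.sum_mem _ fun i _ => Ideal.mul_mem_left _ _ (hw i)
  have hdmul : ∀ a b, d (a * b) = ι a * d b + ι b * d a := fun a b => by
    simp [d, Derivation.leibniz, add_mul, Finset.sum_add_distrib, mul_assoc]
    rw [Finset.mul_sum, Finset.mul_sum]
  let α₂ : B →ₐ[R] B₂ :=
    AlgHom.ofLinearMap (ι.toLinearMap + d)
      (by
        show ι 1 + d 1 = 1
        simp [d])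
      fun a b => by
        show ι (a * b) + d (a * b) = (ι a + d a) * (ι b + d b)
        rw [hdmul, map_mul]
        linear_combination -sq_zero_of_mem hI (hd a) (hd b)
  let β₂ : B₂ →ₐ[R] Λ :=
    { MvPolynomial.eval₂Hom β.toRingHom (fun s : σ => lam s.1 s.2) with
      commutes' := fun a => by
        show MvPolynomial.eval₂Hom β.toRingHom _ (algebraMap R B₂ a) = _
        rw [IsScalarTower.algebraMap_apply R B₁ B₂, MvPolynomial.algebraMap_eq,
          MvPolynomial.eval₂Hom_C]
        exact β.commutes a }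
  have hβC : ∀ z, β₂ (algebraMap B₁ B₂ z) = β z := fun z => MvPolynomial.eval₂Hom_C _ _ z
  have hβX : ∀ z, β₂ (MvPolynomial.X z) = lam z.1 z.2 := fun z => MvPolynomial.eval₂Hom_X' _ _ z
  refine ⟨B₂, inferInstance, inferInstance, hB₂, α₂, β₂, fun y hy => ?_, AlgHom.ext fun b => ?_⟩
  · show ι y + d y = 0
    have h0 : ι y = 0 := by show algebraMap B₁ B₂ (α y) = 0; rw [hαJ y hy, map_zero]
    rw [h0, zero_add]
    obtain ⟨q, e, c, he, rfl⟩ := exists_eq_sum_of_mem_map (hJ hy)
    rw [map_sum]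
    refine Finset.sum_eq_zero fun j _ => ?_
    rw [← Algebra.smul_def, map_smul, Algebra.smul_def]
    exact sq_zero_of_mem hI (Ideal.mem_map_of_mem _ (he j)) (hd _)
  · show β₂ (ι b + d b) = φ b
    have h1 : ∀ i, β₂ (w i) = δ (x i) := fun i => by
      simp [w, hβX, hsum i]
    have h2 : ∀ a, β₂ (ι a) = β (α a) := fun a => hβC (α a)
    rw [map_add, h2, show d b = ∑ i, ι (s (KaehlerDifferential.D R B b) i) * w i from rfl, map_sum]
    simp only [map_mul, h1, h2, ← hδsw, ← hδs]
    simp [δ]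

include hI h in
theorem indSmooth_of_sq_zero [Module.Flat R Λ] : IndSmooth R Λ := by
  intro A _ _ _ φ
  obtain ⟨B, _, _, hB, J, hJ, hJfg, g, k, hgk⟩ := lift_once I hI h φ
  obtain ⟨B', _, _, hB', α, β, hαJ, hαβ⟩ := lift_twice_exact I hI h (k.comp (Ideal.Quotient.mkₐ R J)) J hJ
    hJfg (fun x hx => by
      rw [AlgHom.comp_apply, Ideal.Quotient.mkₐ_eq_mk, Ideal.Quotient.eq_zero_iff_mem.2 hx, map_zero])
  refine ⟨B', inferInstance, inferInstance, hB', (Ideal.Quotient.liftₐ J α fun x hx => hαJ x hx).comp g, β, ?_⟩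
  rw [← hgk]
  refine AlgHom.ext fun a => ?_
  obtain ⟨b, hb⟩ := Ideal.Quotient.mk_surjective (g a)
  simp only [AlgHom.comp_apply, ← hb]
  exact AlgHom.congr_fun hαβ b

end Groth.NeronArea.NilLift
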