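import Mathlib.AlgebraicGeometry.EllipticCurve.Reduction
import Mathlib.AlgebraicGeometry.EllipticCurve.IsomOfJ
import Mathlib.FieldTheory.IsAlgClosed.AlgebraicClosure
import Groth.Agent.EGA43Valuative.DominatingDVR

/-! Potential good reduction of elliptic curves and integrality of the `j`-invariant. -/

universe u

namespace Groth.NeronArea.PotentialGoodReduction

open WeierstrassCurve IsLocalRing IsDiscreteValuationRing IsDedekindDomain.HeightOneSpectrum

variable {S : Type u} [CommRing S] [IsDomain S] [IsDiscreteValuationRing S]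
  {F : Type u} [Field F] [Algebra S F] [IsFractionRing S F]

theorem valuation_eq_one_iff_isUnit (x : S) :
    (IsDiscreteValuationRing.maximalIdeal S).valuation F (algebraMap S F x) = 1 ↔ IsUnit x := by
  rw [← notMem_maximalIdeal]
  have h1 : (IsDiscreteValuationRing.maximalIdeal S).valuation F (algebraMap S F x) < 1 ↔
      x ∈ IsLocalRing.maximalIdeal S :=
    valuation_lt_one_iff_mem (K := F) (IsDiscreteValuationRing.maximalIdeal S) x
  refine Iff.trans ?_ (not_congr h1)
  exact ⟨fun h => h ▸ lt_irrefl _, fun h => ((valuation_le_one _ _).lt_or_eq).resolve_left h⟩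

/-- An equation with unit discriminant gives good reduction of any minimal equation. -/
theorem hasGoodReduction_minimal (W : WeierstrassCurve F) (D : VariableChange F)
    (W₁ : WeierstrassCurve S) (h : D • W = W₁.map (algebraMap S F)) (hΔ : IsUnit W₁.Δ) :
    (W.minimal S).HasGoodReduction S := by
  have hM : IsMinimal S (W.minimal S) := inferInstance
  obtain ⟨C₀, hC₀⟩ : ∃ C₀ : VariableChange F, W.minimal S = C₀ • W := ⟨_, rfl⟩
  have he : (D * C₀⁻¹) • W.minimal S = W₁.map (algebraMap S F) := by
    rw [hC₀, smul_smul, _root_.mul_assoc, inv_mul_cancel, _root_.mul_one, h]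
  haveI hI : IsIntegral S ((D * C₀⁻¹) • W.minimal S) := ⟨W₁, he⟩
  have h1 : (valuation_Δ_aux S ((D * C₀⁻¹) • W.minimal S) : WithZero (Multiplicative ℤ)) = 1 := by
    rw [valuation_Δ_aux_eq_of_isIntegral, he, map_Δ]
    exact (valuation_eq_one_iff_isUnit _).2 hΔ
  have h2 : valuation_Δ_aux S ((1 : VariableChange F) • W.minimal S) ≤
      valuation_Δ_aux S ((D * C₀⁻¹) • W.minimal S) := by
    show (_ : WithZero (Multiplicative ℤ)) ≤ _
    rw [h1]
    exact (valuation_Δ_aux S _).2
  have h3 := hM.val_Δ_maximal.2 (j := D * C₀⁻¹) hI h2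
  have h3' : (valuation_Δ_aux S ((D * C₀⁻¹) • W.minimal S) : WithZero (Multiplicative ℤ)) ≤
      (valuation_Δ_aux S ((1 : VariableChange F) • W.minimal S) : WithZero (Multiplicative ℤ)) := h3
  rw [h1, one_smul, valuation_Δ_aux_eq_of_isIntegral] at h3'
  refine { toIsMinimal := hM, goodReduction := le_antisymm ?_ h3' }
  obtain ⟨r, hr⟩ := Δ_integral_of_isIntegral S (W.minimal S)
  rw [← hr]
  exact valuation_le_one _ _

/-- A minimal equation with good reduction has integral `j`. -/
theorem exists_j_of_hasGoodReduction (W : WeierstrassCurve F) [W.IsElliptic]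
    (h : (W.minimal S).HasGoodReduction S) : ∃ s : S, algebraMap S F s = W.j := by
  haveI := h.toIsMinimal
  obtain ⟨C₀, hC₀⟩ : ∃ C₀ : VariableChange F, W.minimal S = C₀ • W := ⟨_, rfl⟩
  have hu : IsUnit (integralModel S (W.minimal S)).Δ := by
    rw [← valuation_eq_one_iff_isUnit (F := F), integralModel_Δ_eq]
    exact h.goodReduction
  obtain ⟨v, hv⟩ := hu
  haveI : (integralModel S (W.minimal S)).IsElliptic := ⟨⟨v, hv⟩⟩
  refine ⟨(integralModel S (W.minimal S)).j, ?_⟩
  rw [← map_j, ← variableChange_j W C₀]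
  have key : ∀ (A B : WeierstrassCurve F) [A.IsElliptic] [B.IsElliptic], A = B → A.j = B.j := by
    intro A B _ _ hAB
    subst hAB
    rfl
  exact key _ _ ((baseChange_integralModel_eq S (W.minimal S)).trans hC₀)

variable {R : Type u} [CommRing R] [IsDomain R] [IsDiscreteValuationRing R]
  {K : Type u} [Field K] [Algebra R K] [IsFractionRing R K]

/-- Over a finite extension containing a given integral element there is a dominating DVR
containing it. -/
theorem exists_dominating_containing (L : Type u) [Field L] [Algebra K L] [Algebra R L]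
    [IsScalarTower R K L] [FiniteDimensional K L] :
    ∃ (RL : Type u) (_ : CommRing RL) (_ : IsDomain RL) (_ : IsDiscreteValuationRing RL)
      (_ : Algebra RL L) (_ : IsFractionRing RL L) (φ : R →+* RL), IsLocalHom φ ∧
      (∀ r : R, algebraMap R L r = algebraMap RL L (φ r)) ∧
      ∀ x : L, _root_.IsIntegral R x → ∃ y : RL, algebraMap RL L y = x := by
  obtain ⟨C, M, hC, hCL, hM, hM0, hMR⟩ :=
    Groth.EGA43Val.exists_dvr_dominating_of_finite R K
      (IsDiscreteValuationRing.not_isField R) L
  haveI := hC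
  haveI := hM
  haveI := hCL
  let RL := Localization.subalgebra.ofField L M.primeCompl M.primeCompl_le_nonZeroDivisors
  haveI : IsLocalization.AtPrime RL M := Localization.subalgebra.isLocalization_ofField L _ _
  haveI : IsDiscreteValuationRing RL :=
    IsLocalization.AtPrime.isDiscreteValuationRing_of_dedekind_domain C hM0 RL
  refine ⟨RL, inferInstance, inferInstance, inferInstance, inferInstance, inferInstance,
    (algebraMap C RL).comp (algebraMap R C), ⟨fun r hr => ?_⟩, fun r => ?_, fun x hx => ?_⟩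
  · rw [← notMem_maximalIdeal, ← hMR, Ideal.mem_comap]
    exact (IsLocalization.AtPrime.isUnit_to_map_iff RL M _).1 hr
  · rfl
  · obtain ⟨y, hy⟩ := (isIntegrallyClosed_iff L).1 (inferInstance : IsIntegrallyClosed C)
      (hx.tower_top (A := C))
    exact ⟨algebraMap C RL y, hy⟩

/-- For an integral `j` there are an element integral over `R` in the algebraic closure and a
Weierstrass curve with coefficients in `ℤ[a]`, unit discriminant and that `j`. -/
theorem exists_model (r : R) :
    ∃ (a : AlgebraicClosure K), _root_.IsIntegral R a ∧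
      ∀ (S : Type u) [CommRing S] [Algebra R S] (b : S) (f : S →ₐ[R] AlgebraicClosure K),
        Function.Injective f → f b = a →
          ∃ (W₁ : WeierstrassCurve S), IsUnit W₁.Δ ∧
            algebraMap R S r * W₁.Δ = W₁.c₄ ^ 3 := by
  by_cases h3 : IsUnit (3 : R)
  · let p : Polynomial R := Polynomial.X ^ 3 * (Polynomial.X ^ 3 - Polynomial.C 24) ^ 3 -
      Polynomial.C r * (Polynomial.X ^ 3 - Polynomial.C 27)
    have hpm : p.Monic := by
      simp only [p]
      monicity!
    have hnd : p.natDegree = 12 := by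
      simp only [p]
      compute_degree!
    have hdeg : (p.map (algebraMap R (AlgebraicClosure K))).degree ≠ 0 := by
      rw [hpm.degree_map, Polynomial.degree_eq_natDegree hpm.ne_zero, hnd]
      norm_num
    obtain ⟨a, ha⟩ := IsAlgClosed.exists_root _ hdeg
    have ha' : Polynomial.aeval a p = 0 := by
      rwa [Polynomial.IsRoot, Polynomial.eval_map, ← Polynomial.aeval_def] at ha
    refine ⟨a, ⟨p, hpm, ha'⟩, fun S _ _ b f hf hb => ?_⟩
    have hb' : Polynomial.aeval b p = 0 :=
      hf (by rw [← Polynomial.aeval_algHom_apply, hb, ha', map_zero])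
    simp only [p, map_sub, map_mul, map_pow, Polynomial.aeval_X, Polynomial.aeval_C,
      map_ofNat] at hb'
    refine ⟨⟨b, 0, 1, 0, 0⟩, ?_, ?_⟩
    · have hΔ : WeierstrassCurve.Δ (⟨b, 0, 1, 0, 0⟩ : WeierstrassCurve S) = b ^ 3 - 27 := by
        simp [WeierstrassCurve.Δ, WeierstrassCurve.b₂, WeierstrassCurve.b₄, WeierstrassCurve.b₆,
          WeierstrassCurve.b₈]
        ring
      rw [hΔ]
      have h729 : IsUnit (729 : S) := by
        have := (h3.map (algebraMap R S)).pow 6
        rw [map_ofNat] at this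
        norm_num at this
        exact this
      refine isUnit_of_mul_isUnit_left
        (y := algebraMap R S r - (b ^ 3 - 27) ^ 3 - 36 * (b ^ 3 - 27) ^ 2 - 270 * (b ^ 3 - 27) - 756) ?_
      convert h729 using 1
      linear_combination (-1 : S) * hb'
    · simp [WeierstrassCurve.Δ, WeierstrassCurve.c₄, WeierstrassCurve.b₂, WeierstrassCurve.b₄,
        WeierstrassCurve.b₆, WeierstrassCurve.b₈]
      linear_combination (-1 : S) * hb'
  · have h2 : IsUnit (2 : R) := by
      by_contra h2
      have := (IsLocalRing.maximalIdeal R).sub_mem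
        (show (3 : R) ∈ _ from h3) (show (2 : R) ∈ _ from h2)
      norm_num at this
    obtain ⟨c, hc⟩ : ∃ c : R, 256 * c = r := by
      obtain ⟨v, hv⟩ := h2.pow 8
      exact ⟨↑v⁻¹ * r, by rw [show (256 : R) = 2 ^ 8 by norm_num, ← hv, Units.mul_inv_cancel_left]⟩
    let p : Polynomial R := (Polynomial.X ^ 2 + (1 - Polynomial.X)) ^ 3 -
      Polynomial.C c * (Polynomial.X ^ 2 * (Polynomial.X - Polynomial.C 1) ^ 2)
    have hpm : p.Monic := by
      simp only [p]
      monicity!
    have hnd : p.natDegree = 6 := by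
      simp only [p]
      compute_degree!
    have hdeg : (p.map (algebraMap R (AlgebraicClosure K))).degree ≠ 0 := by
      rw [hpm.degree_map, Polynomial.degree_eq_natDegree hpm.ne_zero, hnd]
      norm_num
    obtain ⟨a, ha⟩ := IsAlgClosed.exists_root _ hdeg
    have ha' : Polynomial.aeval a p = 0 := by
      rwa [Polynomial.IsRoot, Polynomial.eval_map, ← Polynomial.aeval_def] at ha
    refine ⟨a, ⟨p, hpm, ha'⟩, fun S _ _ b f hf hb => ?_⟩
    have hb' : Polynomial.aeval b p = 0 :=
      hf (by rw [← Polynomial.aeval_algHom_apply, hb, ha', map_zero])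
    simp only [p, map_sub, map_add, map_one, map_mul, map_pow, Polynomial.aeval_X,
      Polynomial.aeval_C] at hb'
    refine ⟨⟨0, -(1 + b), 0, b, 0⟩, ?_, ?_⟩
    · have hΔ : WeierstrassCurve.Δ (⟨0, -(1 + b), 0, b, 0⟩ : WeierstrassCurve S) =
          16 * (b * (b - 1)) ^ 2 := by
        simp [WeierstrassCurve.Δ, WeierstrassCurve.b₂, WeierstrassCurve.b₄, WeierstrassCurve.b₆,
          WeierstrassCurve.b₈]
        ring
      rw [hΔ]
      refine IsUnit.mul ?_ (IsUnit.pow 2 ?_)
      · have := (h2.map (algebraMap R S)).pow 4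
        rw [map_ofNat] at this
        norm_num at this
        exact this
      · exact isUnit_iff_exists_inv.2 ⟨algebraMap R S c * (b * (b - 1)) - 3 - 3 * (b * (b - 1)) -
          (b * (b - 1)) ^ 2, by linear_combination (-1 : S) * hb'⟩
    · rw [← hc, map_mul, map_ofNat]
      simp [WeierstrassCurve.Δ, WeierstrassCurve.c₄, WeierstrassCurve.b₂, WeierstrassCurve.b₄,
        WeierstrassCurve.b₆, WeierstrassCurve.b₈]
      linear_combination (-4096 : S) * hb'

/-- Integral `j` implies potential good reduction. -/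
theorem exists_goodReduction_of_integral_j (W : WeierstrassCurve K) [W.IsElliptic] (r : R)
    (hr : algebraMap R K r = W.j) :
    ∃ (L : Type u) (_ : Field L) (_ : Algebra K L) (_ : FiniteDimensional K L) (RL : Type u)
      (_ : CommRing RL) (_ : IsDomain RL) (_ : IsDiscreteValuationRing RL) (_ : Algebra RL L)
      (_ : IsFractionRing RL L) (φ : R →+* RL), IsLocalHom φ ∧
      (∀ r : R, algebraMap K L (algebraMap R K r) = algebraMap RL L (φ r)) ∧
      ((W.baseChange L).minimal RL).HasGoodReduction RL := by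
  obtain ⟨a, haint, hmodel⟩ := exists_model (K := K) r
  obtain ⟨W₀, hΔ₀, hj₀⟩ := hmodel (Algebra.adjoin R {a}) ⟨a, Algebra.self_mem_adjoin_singleton R a⟩
    (Algebra.adjoin R {a}).val Subtype.val_injective rfl
  let g : Algebra.adjoin R {a} →ₐ[R] AlgebraicClosure K := (Algebra.adjoin R {a}).val
  haveI : W₀.IsElliptic := ⟨hΔ₀⟩
  obtain ⟨C, hC⟩ := exists_variableChange_of_j_eq (W.map (algebraMap K (AlgebraicClosure K)))
    (W₀.map g.toRingHom) (by
      rw [map_j, map_j, ← hr]
      have hu : IsUnit (g W₀.Δ) := hΔ₀.map g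
      apply hu.mul_right_cancel
      show algebraMap K _ (algebraMap R K r) * g W₀.Δ = g W₀.j * g W₀.Δ
      rw [← IsScalarTower.algebraMap_apply, ← AlgHom.commutes g, ← map_mul, ← map_mul, hj₀]
      congr 1
      rw [WeierstrassCurve.j, mul_comm _ W₀.Δ, ← W₀.coe_Δ', ← _root_.mul_assoc,
        Units.mul_inv, _root_.one_mul])
  let L := IntermediateField.adjoin K
    ({a, (C.u : AlgebraicClosure K), C.r, C.s, C.t} : Set (AlgebraicClosure K))
  haveI : Finite ({a, (C.u : AlgebraicClosure K), C.r, C.s, C.t} : Set (AlgebraicClosure K)) :=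
    inferInstance
  haveI : FiniteDimensional K L :=
    IntermediateField.finiteDimensional_adjoin fun x _ => Algebra.IsIntegral.isIntegral x
  have hmem := IntermediateField.subset_adjoin K
    ({a, (C.u : AlgebraicClosure K), C.r, C.s, C.t} : Set (AlgebraicClosure K))
  obtain ⟨RL, i1, i2, i3, i4, i5, φ, hφ, hφc, hint⟩ :=
    exists_dominating_containing (R := R) (K := K) L
  refine ⟨L, inferInstance, inferInstance, inferInstance, RL, i1, i2, i3, i4, i5, φ, hφ,
    fun r => (IsScalarTower.algebraMap_apply R K L r).symm.trans (hφc r), ?_⟩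
  let aL : L := ⟨a, hmem (by simp)⟩
  obtain ⟨aR, haR⟩ := hint aL
    ((isIntegral_algHom_iff (L.val.restrictScalars R) Subtype.val_injective).1 haint)
  letI : Algebra R RL := φ.toAlgebra
  let ι : RL →ₐ[R] AlgebraicClosure K :=
    { toRingHom := L.val.toRingHom.comp (algebraMap RL L)
      commutes' := fun r => by
        show ((algebraMap RL L (φ r) : L) : AlgebraicClosure K) = _
        rw [← hφc]
        rfl }
  have hι : Function.Injective ι := Subtype.val_injective.comp (IsFractionRing.injective RL L)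
  have hιa : ι aR = a := congrArg Subtype.val haR
  obtain ⟨W₁, hW₁⟩ : ∃ W₁ : WeierstrassCurve RL, W₁.map ι.toRingHom = W₀.map g.toRingHom := by
    have hrange : ∀ x : Algebra.adjoin R {a}, ∃ y, ι y = g x := fun x =>
      (Algebra.adjoin_le (S := ι.range)
        (by simpa [Set.singleton_subset_iff] using ⟨aR, hιa⟩) x.2 : g x ∈ ι.range)
    choose y hy using hrange
    exact ⟨⟨y W₀.a₁, y W₀.a₂, y W₀.a₃, y W₀.a₄, y W₀.a₆⟩, by ext <;> exact hy _⟩
  have hΔ₁ : IsUnit W₁.Δ := by
    obtain ⟨v, hv⟩ := hΔ₀
    obtain ⟨w, hw⟩ : ∃ w, ι w = g (↑v⁻¹ : Algebra.adjoin R {a}) :=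
      (Algebra.adjoin_le (S := ι.range)
        (by simpa [Set.singleton_subset_iff] using ⟨aR, hιa⟩)
        (↑v⁻¹ : Algebra.adjoin R {a}).2 : _ ∈ ι.range)
    refine isUnit_iff_exists_inv.2 ⟨w, hι ?_⟩
    rw [map_mul, map_one, hw, show ι W₁.Δ = g W₀.Δ from (map_Δ W₁ ι.toRingHom).symm.trans
      ((congrArg WeierstrassCurve.Δ hW₁).trans (map_Δ W₀ g.toRingHom)), ← hv, ← map_mul,
      Units.mul_inv, map_one]
  let D : VariableChange L :=
    { u := Units.mk0 ⟨C.u, hmem (by simp)⟩ (fun h => C.u.ne_zero (congrArg Subtype.val h))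
      r := ⟨C.r, hmem (by simp)⟩
      s := ⟨C.s, hmem (by simp)⟩
      t := ⟨C.t, hmem (by simp)⟩ }
  refine hasGoodReduction_minimal (W.baseChange L) D W₁ ?_ hΔ₁
  have hmap : Function.Injective (WeierstrassCurve.map · L.val.toRingHom :
      WeierstrassCurve L → WeierstrassCurve (AlgebraicClosure K)) :=
    WeierstrassCurve.map_injective Subtype.val_injective
  apply hmap
  show (D • W.baseChange L).map L.val.toRingHom = (W₁.map (algebraMap RL L)).map L.val.toRingHom
  rw [← WeierstrassCurve.map_variableChange]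
  refine Eq.trans ?_ ((hC.trans hW₁.symm).trans (W₁.map_map (algebraMap RL L) L.val.toRingHom).symm)
  have hD : D.map L.val.toRingHom = C := by
    ext <;> rfl
  rw [hD]
  rfl

end Groth.NeronArea.PotentialGoodReduction
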