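import Groth.Agent.LocImm.FiniteFactor
import Mathlib.RingTheory.DedekindDomain.Basic
import Mathlib.AlgebraicGeometry.Morphisms.Finite
import Mathlib.AlgebraicGeometry.IdealSheaf.Functorial

/-! Separated quasi-finite schemes over one-dimensional Noetherian bases are affine. -/

universe u

open CategoryTheory CategoryTheory.Limits AlgebraicGeometry TopologicalSpace

namespace Groth.NeronArea

variable {R : Type u} [CommRing R] [IsNoetherianRing R] [Ring.DimensionLEOne R] [IsDomain R]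

/-- A dense open of the spectrum of a finite algebra over a one-dimensional base is affine locally
on the base. -/
theorem exists_basicOpen_inter_eq {C : Type u} [CommRing C] [Algebra R C] [Module.Finite R C]
    (U : Opens (PrimeSpectrum C)) (hU : Dense (U : Set (PrimeSpectrum C))) (p : PrimeSpectrum R) :
    ∃ (r : R) (f : C), r ∉ p.asIdeal ∧
      U ⊓ PrimeSpectrum.basicOpen (algebraMap R C r) = PrimeSpectrum.basicOpen (f * algebraMap R C r) := by
  classical
  have : IsNoetherianRing C := Algebra.FiniteType.isNoetherianRing R C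
  obtain ⟨I, hI⟩ := (PrimeSpectrum.isClosed_iff_zeroLocus_ideal _).1 U.2.isClosed_compl
  have hmem : ∀ Q : PrimeSpectrum C, Q ∈ U ↔ ¬ I ≤ Q.asIdeal := fun Q => by
    have h : Q ∈ (↑U : Set (PrimeSpectrum C))ᶜ ↔ I ≤ Q.asIdeal :=
      (Set.ext_iff.1 hI Q).trans (PrimeSpectrum.mem_zeroLocus _ _)
    exact ⟨fun h' hle => h.2 hle h', fun h' => by by_contra hn; exact h' (h.1 hn)⟩
  have hfinmin := minimalPrimes.finite_of_isNoetherianRing C
  have hmin : ∀ Q : PrimeSpectrum C, Q.asIdeal ∈ minimalPrimes C → Q ∈ U := by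
    intro Q hQ
    let W : Set (PrimeSpectrum C) := (⋃ q ∈ minimalPrimes C \ {Q.asIdeal}, PrimeSpectrum.zeroLocus (q : Set C))ᶜ
    have hW : IsOpen W := ((hfinmin.sdiff (t := {Q.asIdeal})).isClosed_biUnion
      fun q _ => PrimeSpectrum.isClosed_zeroLocus _).isOpen_compl
    have hQW : Q ∈ W := by
      simp only [W, Set.mem_compl_iff, Set.mem_iUnion, not_exists]
      intro q hq hle
      exact hq.2 (Set.mem_singleton_iff.2 ((hQ.2 hq.1.1 ((PrimeSpectrum.mem_zeroLocus _ _).1 hle)).antisymm'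
        ((PrimeSpectrum.mem_zeroLocus _ _).1 hle)))
    obtain ⟨P, hPW, hPU⟩ := hU.inter_open_nonempty W hW ⟨Q, hQW⟩
    obtain ⟨q, hq, hqP⟩ := Ideal.exists_minimalPrimes_le (bot_le : (⊥ : Ideal C) ≤ P.asIdeal)
    have hqQ : q = Q.asIdeal := by
      by_contra hne
      simp only [W, Set.mem_compl_iff, Set.mem_iUnion, not_exists] at hPW
      exact hPW q ⟨hq, hne⟩ ((PrimeSpectrum.mem_zeroLocus _ _).2 hqP)
    exact (hmem Q).2 fun hle => (hmem P).1 hPU (hle.trans (hqQ ▸ hqP))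
  let F : Set (PrimeSpectrum C) := {Q | Q.asIdeal ∈ minimalPrimes C} ∪
    {Q | Q ∈ U ∧ Q.asIdeal.comap (algebraMap R C) = p.asIdeal}
  have hF : F.Finite := by
    refine Set.Finite.union (hfinmin.preimage (fun a _ b _ h => PrimeSpectrum.ext h)) ?_
    refine (((Algebra.QuasiFinite.finite_comap_preimage_singleton (S := C) p))).subset fun Q hQ => ?_
    exact PrimeSpectrum.ext hQ.2
  obtain ⟨f, hfI, hf⟩ : ∃ f ∈ I, ∀ Q ∈ F, f ∉ Q.asIdeal := by
    by_contra! h
    have hsub : (I : Set C) ⊆ ⋃ Q ∈ (hF.toFinset : Set (PrimeSpectrum C)), (Q.asIdeal : Set C) := fun f hf => by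
      obtain ⟨Q, hQ, hfQ⟩ := h f hf
      exact Set.mem_biUnion (hF.mem_toFinset.2 hQ) hfQ
    obtain ⟨Q₀, -, -⟩ := h 0 I.zero_mem
    obtain ⟨Q, hQ, hle⟩ := (Ideal.subset_union_prime (s := hF.toFinset) (f := fun Q => Q.asIdeal) Q₀ Q₀
      fun Q _ _ _ => Q.isPrime).1 hsub
    rcases hF.mem_toFinset.1 hQ with hQ | hQ
    · exact (hmem Q).1 (hmin Q hQ) hle
    · exact (hmem Q).1 hQ.1 hle
  have hV : {Q : PrimeSpectrum C | f ∈ Q.asIdeal}.Finite ∧
      ∀ Q : PrimeSpectrum C, f ∈ Q.asIdeal → Q.asIdeal.IsMaximal := by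
    have hmax : ∀ Q : PrimeSpectrum C, f ∈ Q.asIdeal → Q.asIdeal.IsMaximal := fun Q hfQ => by
      obtain ⟨q, hq, hqQ⟩ := Ideal.exists_minimalPrimes_le (bot_le : (⊥ : Ideal C) ≤ Q.asIdeal)
      have := hq.1.1
      have hne : q < Q.asIdeal := lt_of_le_of_ne hqQ fun he =>
        hf Q (Or.inl (show Q.asIdeal ∈ minimalPrimes C from he ▸ hq)) hfQ
      have hlt := Ideal.comap_lt_comap_of_integral_mem_sdiff (R := R) hqQ
        (Set.exists_of_ssubset hne).choose_spec (Algebra.IsIntegral.isIntegral _)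
      refine Ideal.isMaximal_of_isIntegral_of_isMaximal_comap (R := R) Q.asIdeal ?_
      exact (Q.isPrime.comap _).isMaximal (ne_bot_of_gt hlt)
    refine ⟨?_, hmax⟩
    refine (((Ideal.span {f}).finite_minimalPrimes_of_isNoetherianRing).preimage
      (fun a _ b _ h => PrimeSpectrum.ext h)).subset fun Q hQ => ?_
    obtain ⟨q, hq, hqQ⟩ := Ideal.exists_minimalPrimes_le
      ((Ideal.span_singleton_le_iff_mem _).2 hQ : Ideal.span {f} ≤ Q.asIdeal)
    have hfq : f ∈ q := hq.1.2 (Ideal.subset_span rfl)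
    have := (hmax ⟨q, hq.1.1⟩ hfq).eq_of_le Q.isPrime.ne_top hqQ
    show Q.asIdeal ∈ (Ideal.span {f}).minimalPrimes
    rw [← show q = Q.asIdeal from this]
    exact hq
  let G : Finset (PrimeSpectrum C) := hV.1.toFinset.filter fun Q => Q.asIdeal.comap (algebraMap R C) ≠ p.asIdeal
  obtain ⟨r, hrG, hrp⟩ : ∃ r : R, r ∈ G.inf (fun Q => Q.asIdeal.comap (algebraMap R C)) ∧ r ∉ p.asIdeal := by
    refine SetLike.not_le_iff_exists.1 fun hle => ?_
    obtain ⟨Q, hQ, hQp⟩ := (Ideal.IsPrime.inf_le' p.isPrime).1 hle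
    obtain ⟨hQf, hQne⟩ := Finset.mem_filter.1 hQ
    have := hV.2 Q (hV.1.mem_toFinset.1 hQf)
    exact hQne ((Ideal.isMaximal_comap_of_isIntegral_of_isMaximal (R := R) Q.asIdeal).eq_of_le p.isPrime.ne_top hQp)
  refine ⟨r, f, hrp, ?_⟩
  ext Q
  simp only [Opens.coe_inf, Set.mem_inter_iff, SetLike.mem_coe, PrimeSpectrum.mem_basicOpen,
    Q.isPrime.mul_mem_iff_mem_or_mem, not_or]
  constructor
  · rintro ⟨hQU, hr⟩
    refine ⟨fun hfQ => ?_, hr⟩
    by_cases hp : Q.asIdeal.comap (algebraMap R C) = p.asIdeal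
    · exact hf Q (Or.inr ⟨hQU, hp⟩) hfQ
    · have hQG : Q ∈ G := Finset.mem_filter.2 ⟨hV.1.mem_toFinset.2 hfQ, hp⟩
      exact hr ((Finset.inf_le (f := fun Q : PrimeSpectrum C => Q.asIdeal.comap (algebraMap R C)) hQG) hrG)
  · exact fun h => ⟨(hmem Q).2 fun hle => h.1 (hle hfI), h.2⟩

/-- A separated quasi-finite scheme of finite type over a one-dimensional Noetherian domain is affine. -/
theorem isAffineHom_of_lqf_dimOne {X : Scheme.{u}} (g : X ⟶ Spec (CommRingCat.of R)) [IsSeparated g]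
    [LocallyOfFiniteType g] [QuasiCompact g] [LocallyQuasiFinite g] : IsAffineHom g := by
  obtain ⟨T₀, j₀, g₀, _, _, hj⟩ := Groth.LocImmersion.exists_isOpenImmersion_comp_isFinite g
  have : QuasiCompact (j₀ ≫ g₀) := hj.symm ▸ inferInstance
  have : QuasiCompact j₀ := QuasiCompact.of_comp j₀ g₀
  have : IsOpenImmersion (j₀.toImage ≫ j₀.imageι) := j₀.toImage_imageι.symm ▸ inferInstance
  have : IsAffine j₀.image := isAffine_of_isAffineHom (j₀.imageι ≫ g₀)
  let C := Γ(j₀.image, ⊤)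
  let e := j₀.image.isoSpec
  let j : X ⟶ Spec C := j₀.toImage ≫ e.hom
  have : IsOpenImmersion j₀.toImage := inferInstance
  let m : Spec C ⟶ Spec (CommRingCat.of R) := e.inv ≫ j₀.imageι ≫ g₀
  have hm : j ≫ m = g := by simp [j, m, hj]
  let φ := Spec.preimage m
  letI : Algebra R C := φ.hom.toAlgebra
  have : IsFinite (Spec.map φ) := by rw [Spec.map_preimage]; infer_instance
  have : Module.Finite R C := by
    rw [IsFinite.SpecMap_iff] at this
    exact this
  have hd : Dense (j.opensRange : Set (Spec C)) := j.denseRange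
  have key : ∀ p : PrimeSpectrum R, ∃ r : R, r ∉ p.asIdeal ∧
      IsAffineOpen (g ⁻¹ᵁ (PrimeSpectrum.basicOpen r : (Spec (CommRingCat.of R)).Opens)) := by
    intro p
    obtain ⟨r, f, hr, he⟩ := exists_basicOpen_inter_eq (C := C) j.opensRange hd p
    refine ⟨r, hr, ?_⟩
    have h1 : m ⁻¹ᵁ (PrimeSpectrum.basicOpen r : (Spec (CommRingCat.of R)).Opens) =
        (PrimeSpectrum.basicOpen (algebraMap R C r) : (Spec C).Opens) := by
      rw [← Spec.map_preimage m]; rfl
    have h2 : g ⁻¹ᵁ (PrimeSpectrum.basicOpen r : (Spec (CommRingCat.of R)).Opens) =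
        j ⁻¹ᵁ (PrimeSpectrum.basicOpen (f * algebraMap R C r) : (Spec C).Opens) := by
      rw [← hm, Scheme.Hom.comp_preimage, h1]
      ext x
      change j x ∈ (PrimeSpectrum.basicOpen (algebraMap R C r) : (Spec C).Opens) ↔
        j x ∈ (PrimeSpectrum.basicOpen (f * algebraMap R C r) : (Spec C).Opens)
      rw [← he]
      exact ⟨fun h => ⟨⟨x, rfl⟩, h⟩, fun h => h.2⟩
    rw [h2]
    refine IsAffineOpen.preimage_of_isOpenImmersion (IsAffineOpen.Spec_basicOpen _) j ?_
    exact fun y hy => (he.ge hy).1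
  choose r hr haff using key
  refine (HasAffineProperty.iff_of_iSup_eq_top (P := @IsAffineHom.{u}) (f := g)
    (fun x => (⟨PrimeSpectrum.basicOpen (r x), IsAffineOpen.Spec_basicOpen (R := CommRingCat.of R) (r x)⟩ :
      (Spec (CommRingCat.of R)).affineOpens))
    (top_le_iff.mp fun x _ => Opens.mem_iSup.mpr ⟨x, hr x⟩)).mpr fun x => haff x

end Groth.NeronArea
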