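import Groth.Agent.NeronArea.BlowUpPointChart
import Groth.Agent.NeronArea.AbelianRationalMap
import Groth.Agent.Ega4Algebra1.RegularNormal
import Groth.Agent.Rat20Ext.Isolated
import Groth.Agent.Limits.DVRAlgebra
import Groth.Agent.Limits.GlueLocal
import Groth.Agent.GrpschAbsch.SchDense
import Groth.Agent.NeronArea.GenericDense
import Mathlib.RingTheory.Jacobson.Ring
import Mathlib.RingTheory.EssentialFiniteness

/-!
# Rational points of abelian schemes over regular local rings are integral
-/

set_option autoImplicit false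
set_option backward.isDefEq.respectTransparency false
set_option linter.style.haveILetI false

universe u

open CategoryTheory CategoryTheory.Limits AlgebraicGeometry IsLocalRing MonoidalCategory
  CartesianMonoidalCategory

namespace Groth.NeronArea

variable {S : Scheme.{u}} (A : Over S) [GrpObj A] [IsProper A.hom] [Smooth A.hom]
  [GeometricallyConnected A.hom]

/-- Every `K`-point of `A` extends to an `R`-point. -/
def Extends (R : Type u) [CommRing R] : Prop :=
  ∀ (t : Spec (CommRingCat.of R) ⟶ S) (K : Type u) [Field K] [Algebra R K] [IsFractionRing R K]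
    (x : Spec (CommRingCat.of K) ⟶ A.left),
    x ≫ A.hom = Spec.map (CommRingCat.ofHom (algebraMap R K)) ≫ t →
    ∃ y : Spec (CommRingCat.of R) ⟶ A.left, y ≫ A.hom = t ∧
      Spec.map (CommRingCat.ofHom (algebraMap R K)) ≫ y = x

section Descend

variable (R : Type u) [CommRing R] [IsRegularLocalRing R]
  (K : Type u) [Field K] [Algebra R K] [IsFractionRing R K]
  (W : ValuationSubring K) [IsDiscreteValuationRing W] [Algebra R W] [IsLocalHom (algebraMap R W)]
  [IsScalarTower R W K]
  (t : Spec (CommRingCat.of R) ⟶ S) {V : (pullback A.hom t).Opens} (hV : IsAffineOpen V)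
  (φ : Γ(pullback A.hom t, V) →+* W)
  (hφ : Spec.map (CommRingCat.ofHom φ) ≫ hV.fromSpec ≫ pullback.snd A.hom t =
    Spec.map (CommRingCat.ofHom (algebraMap R W)))

include hφ in
/-- Abhyankar's descent: the residue of a function at the limit point of a discrete valuation is
algebraic over the residue field. -/
theorem isIntegral_residue
    (hIH : ∀ (R₁ : Type u) [CommRing R₁] [IsRegularLocalRing R₁],
      ringKrullDim R₁ + 1 ≤ ringKrullDim R → Extends A R₁)
    (b₀ : Γ(pullback A.hom t, V)) :
    IsIntegral (ResidueField R) (residue W (φ b₀)) := by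
  let k := ResidueField R
  suffices H : ∀ (β : W) (R' : Type u) [CommRing R'] [IsRegularLocalRing R'] (ι : R →+* R') (j : R' →+* W),
      Function.Injective j → IsLocalHom j → j.comp ι = algebraMap R W →
      ringKrullDim R' ≤ ringKrullDim R → (∀ r, IsIntegral k (residue W (j r))) →
      ∀ a b : R', j b = β → β ≠ 0 → j a = φ b₀ * j b → IsIntegral k (residue W (φ b₀)) by
    obtain ⟨a, b, hb, hab⟩ := IsFractionRing.div_surjective (A := R) ((φ b₀ : W) : K)
    have hWK : ∀ r : R, ((algebraMap R W r : W) : K) = algebraMap R K r := fun r =>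
      (IsScalarTower.algebraMap_apply R W K r).symm
    have hb0 : algebraMap R K b ≠ 0 :=
      (map_ne_zero_iff _ (IsFractionRing.injective R K)).2 (nonZeroDivisors.ne_zero hb)
    refine H _ R (RingHom.id R) (algebraMap R W) ?_ ‹_› (RingHom.comp_id _) le_rfl ?_ a b rfl ?_ ?_
    · intro r r' h
      apply IsFractionRing.injective R K
      rw [← hWK, ← hWK, h]
    · intro r
      exact isIntegral_algebraMap (R := k) (x := residue R r)
    · intro h
      apply hb0
      rw [← hWK, h, ZeroMemClass.coe_zero]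
    · apply Subtype.ext
      rw [MulMemClass.coe_mul, hWK, hWK, ← hab, div_mul_cancel₀ _ hb0]
  intro β
  induction β using (wellFounded_dvdNotUnit (α := W)).induction with
  | h β ih =>
  intro R' _ _ ι j hj hjloc hjι hdim hres a b hb hβ hab
  haveI := hjloc
  by_cases hbu : IsUnit b
  · obtain ⟨bi, hbi⟩ := hbu.exists_right_inv
    have h1 : φ b₀ = j (a * bi) := by rw [map_mul, hab, mul_assoc, ← map_mul, hbi, map_one, mul_one]
    rw [h1]
    exact hres _
  have hbm : b ∈ maximalIdeal R' := hbu
  have hne : maximalIdeal R' ≠ ⊥ := fun h => hβ (by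
    rw [← hb, (Submodule.eq_bot_iff _).1 h b hbm, map_zero])
  let jK : R' →+* K := W.subtype.comp j
  obtain ⟨D⟩ := exists_pointChart R' jK (Subtype.val_injective.comp hj) W (fun r => (j r).2) hne
  let jW : D.C →+* W := D.jC.codRestrict W.toSubring D.jC_mem
  have hjWi : Function.Injective jW := fun x y h => D.jC_injective (congrArg Subtype.val h)
  have hjW : jW.comp (algebraMap R' D.C) = j :=
    RingHom.ext fun r => Subtype.ext (RingHom.congr_fun D.jC_comp r)
  have hjW' : ∀ r, jW (algebraMap R' D.C r) = j r := fun r => RingHom.congr_fun hjW r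
  let q : Ideal D.C := (maximalIdeal W).comap jW
  haveI : q.IsPrime := Ideal.IsPrime.comap jW
  have htq : algebraMap R' D.C D.t ∈ q := by
    show jW (algebraMap R' D.C D.t) ∈ maximalIdeal W
    rw [hjW']
    exact fun hu => D.t_mem (hjloc.map_nonunit _ hu)
  haveI := D.isPrime_map q htq
  let k' := ResidueField R'
  let η : k' →+* ResidueField W := ResidueField.map j
  -- the stalk of the chart at `q`
  let pt : ↥(Spec (CommRingCat.of D.C)) := ⟨q, inferInstance⟩
  let O := (Spec (CommRingCat.of D.C)).presheaf.stalk pt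
  letI : Algebra D.C O := (StructureSheaf.toStalk D.C pt).hom.toAlgebra
  haveI : IsLocalization.AtPrime O q := StructureSheaf.IsLocalization.to_stalk D.C pt
  haveI : IsRegularLocalRing O := by
    haveI := D.isRegularLocalRing q htq
    exact IsRegularLocalRing.of_ringEquiv
      (IsLocalization.algEquiv q.primeCompl (Localization.AtPrime q) O).toRingEquiv
  have hdimO : ringKrullDim O = ringKrullDim (Localization.AtPrime q) :=
    ringKrullDim_eq_of_ringEquiv (IsLocalization.algEquiv q.primeCompl O (Localization.AtPrime q)).toRingEquiv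
  have hunit : ∀ s : q.primeCompl, IsUnit (jW s) := fun s => not_not.1 s.2
  let j₁ : O →+* W := IsLocalization.lift hunit
  have hj₁ : ∀ c, j₁ (algebraMap D.C O c) = jW c := fun c => IsLocalization.lift_eq hunit c
  have hj₁i : Function.Injective j₁ := by
    rw [injective_iff_map_eq_zero]
    intro z hz
    obtain ⟨c, s, rfl⟩ := IsLocalization.exists_mk'_eq q.primeCompl z
    have := congrArg (· * j₁ (algebraMap D.C O (s : D.C))) hz
    rw [← map_mul, IsLocalization.mk'_spec, hj₁, zero_mul, map_eq_zero_iff jW hjWi] at this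
    rw [this, IsLocalization.mk'_zero]
  haveI hj₁loc : IsLocalHom j₁ := ⟨fun z hz => by
    obtain ⟨c, s, rfl⟩ := IsLocalization.exists_mk'_eq q.primeCompl z
    rw [IsLocalization.AtPrime.isUnit_mk'_iff O q c s]
    show c ∉ q
    intro hc
    have h1 : IsUnit (jW c) := by
      rw [← hj₁, ← IsLocalization.mk'_spec O c s, map_mul, hj₁]
      exact hz.mul (hunit s)
    exact hc h1⟩
  let ι₁ : R →+* O := (algebraMap D.C O).comp ((algebraMap R' D.C).comp ι)
  have hι₁ : j₁.comp ι₁ = algebraMap R W := by
    ext1 r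
    show j₁ (algebraMap D.C O (algebraMap R' D.C (ι r))) = _
    rw [hj₁, hjW']
    exact RingHom.congr_fun hjι r
  -- residues on the exceptional divisor
  have hker : RingHom.ker D.π ≤ RingHom.ker ((residue W).comp jW) := fun c hc => by
    rw [RingHom.mem_ker, RingHom.comp_apply, IsLocalRing.residue_eq_zero_iff]
    exact D.span_le q htq hc
  let ρ : MvPolynomial (Fin D.n) k' →+* ResidueField W :=
    D.π.liftOfSurjective D.π_surjective ⟨(residue W).comp jW, hker⟩
  have hρ : ∀ c, ρ (D.π c) = residue W (jW c) := fun c =>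
    RingHom.congr_fun (D.π.liftOfSurjective_comp D.π_surjective ⟨(residue W).comp jW, hker⟩) c
  have hρC : ρ.comp MvPolynomial.C = η := by
    ext1 z
    obtain ⟨r, rfl⟩ := IsLocalRing.residue_surjective z
    rw [RingHom.comp_apply, ← D.π_algebraMap, hρ, hjW']
    rfl
  have hη : ∀ z, IsIntegral k (η z) := fun z => by
    obtain ⟨r, rfl⟩ := IsLocalRing.residue_surjective z
    exact hres r
  by_cases hmax : (q.map D.π).IsMaximal
  · -- continue the chain
    haveI := hmax
    haveI hιloc : IsLocalHom ι := by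
      have h : IsLocalHom (j.comp ι) := by rw [hjι]; infer_instance
      exact isLocalHom_of_comp ι j
    letI : Algebra k k' := (ResidueField.map ι).toAlgebra
    letI : Algebra k' (ResidueField W) := η.toAlgebra
    haveI : IsScalarTower k k' (ResidueField W) := .of_algebraMap_eq fun z => by
      obtain ⟨r, rfl⟩ := IsLocalRing.residue_surjective z
      show residue W (algebraMap R W r) = residue W (j (ι r))
      rw [← hjι]; rfl
    haveI : Algebra.IsIntegral k k' := ⟨fun z =>
      (isIntegral_algHom_iff (IsScalarTower.toAlgHom k k' (ResidueField W)) η.injective).1 (hη z)⟩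
    letI : Field (MvPolynomial (Fin D.n) k' ⧸ q.map D.π) := Ideal.Quotient.field _
    haveI : Module.Finite k' (MvPolynomial (Fin D.n) k' ⧸ q.map D.π) :=
      finite_of_finite_type_of_isJacobsonRing k' _
    have hqker : ∀ P ∈ q.map D.π, ρ P = 0 := fun P hP => by
      obtain ⟨c, hc, rfl⟩ := (Ideal.mem_map_iff_of_surjective D.π D.π_surjective).1 hP
      rw [hρ, IsLocalRing.residue_eq_zero_iff]
      exact hc
    let ρ' : (MvPolynomial (Fin D.n) k' ⧸ q.map D.π) →ₐ[k'] ResidueField W :=
      { toRingHom := Ideal.Quotient.lift _ ρ hqker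
        commutes' := fun z => RingHom.congr_fun hρC z }
    have hCint : ∀ c : D.C, IsIntegral k (residue W (jW c)) := fun c => by
      rw [← hρ c]
      exact isIntegral_trans (R := k) (A := k') _
        ((IsIntegral.of_finite k' (Ideal.Quotient.mk (q.map D.π) (D.π c))).map ρ')
    have hres₁ : ∀ z, IsIntegral k (residue W (j₁ z)) := fun z => by
      obtain ⟨c, s, rfl⟩ := IsLocalization.exists_mk'_eq q.primeCompl z
      have h1 : residue W (jW c) = residue W (j₁ (IsLocalization.mk' O c s)) * residue W (jW s) := by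
        rw [← hj₁, ← IsLocalization.mk'_spec O c s, map_mul, map_mul, hj₁]
      have hs0 : residue W (jW s) ≠ 0 := fun h => s.2 ((IsLocalRing.residue_eq_zero_iff _).1 h)
      rw [eq_div_of_mul_eq hs0 h1.symm, div_eq_mul_inv]
      exact (hCint c).mul (isAlgebraic_iff_isIntegral.1 (isAlgebraic_iff_isIntegral.2 (hCint s)).inv)
    have ham : a ∈ maximalIdeal R' := fun hu => by
      have h1 := hu.map j
      rw [hab] at h1
      exact hbm (hjloc.map_nonunit _ (isUnit_of_mul_isUnit_right h1))
    obtain ⟨a₁, ha₁⟩ := D.dvd a ham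
    obtain ⟨b₁, hb₁⟩ := D.dvd b hbm
    have hja : j a = j D.t * jW a₁ := by rw [← hjW' a, ha₁, map_mul, hjW']
    have hjb : j b = j D.t * jW b₁ := by rw [← hjW' b, hb₁, map_mul, hjW']
    have hb1' : j₁ (algebraMap D.C O b₁) ≠ 0 := by
      rw [hj₁]
      intro h
      exact hβ (by rw [← hb, hjb, h, mul_zero])
    refine ih (j₁ (algebraMap D.C O b₁)) ⟨hb1', j D.t, fun hu => D.t_mem (hjloc.map_nonunit _ hu), ?_⟩
      O ι₁ j₁ hj₁i hj₁loc hι₁ ?_ hres₁ (algebraMap D.C O a₁) (algebraMap D.C O b₁) rfl hb1' ?_
    · rw [← hb, hjb, hj₁, mul_comm]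
    · exact hdimO.le.trans ((D.ringKrullDim_le q htq).1.trans hdim)
    · rw [hj₁, hj₁]
      have ht0 : j D.t ≠ 0 := fun h => D.t_ne_zero (hjWi (by rw [hjW', h, map_zero]))
      refine mul_left_cancel₀ ht0 ?_
      rw [← hja, hab, hjb, mul_left_comm]
  · -- the point is defined at a non-closed point of the exceptional divisor
    have hO : ringKrullDim O + 1 ≤ ringKrullDim R := by
      rw [hdimO]; exact ((D.ringKrullDim_le q htq).2 hmax).trans hdim
    let t₁ : Spec O ⟶ S := Spec.map (CommRingCat.ofHom ι₁) ≫ t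
    letI : Algebra O K := (W.subtype.comp j₁).toAlgebra
    have hWK : ∀ r : R, ((algebraMap R W r : W) : K) = algebraMap R K r := fun r =>
      (IsScalarTower.algebraMap_apply R W K r).symm
    have hOK : (algebraMap O K).comp ι₁ = algebraMap R K := by
      ext1 r
      show ((j₁ (ι₁ r) : W) : K) = _
      rw [show j₁ (ι₁ r) = algebraMap R W r from RingHom.congr_fun hι₁ r, hWK]
    haveI : IsFractionRing O K := by
      have hinj : Function.Injective (algebraMap O K) := Subtype.val_injective.comp hj₁i
      refine (isLocalization_iff _ _).2 ⟨fun z => isUnit_iff_ne_zero.2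
        ((map_ne_zero_iff _ hinj).2 (nonZeroDivisors.ne_zero z.2)), fun z => ?_,
        fun {x y} h => ⟨1, by rw [hinj h]⟩⟩
      obtain ⟨r, s, hs, hrs⟩ := IsFractionRing.div_surjective (A := R) z
      have hs0 : algebraMap R K s ≠ 0 :=
        (map_ne_zero_iff _ (IsFractionRing.injective R K)).2 (nonZeroDivisors.ne_zero hs)
      refine ⟨(ι₁ r, ⟨ι₁ s, mem_nonZeroDivisors_of_ne_zero fun h => hs0 ?_⟩), ?_⟩
      · rw [← hOK, RingHom.comp_apply, h, map_zero]
      · show z * algebraMap O K (ι₁ s) = algebraMap O K (ι₁ r)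
        rw [← RingHom.comp_apply (algebraMap O K) ι₁, ← RingHom.comp_apply (algebraMap O K) ι₁, hOK, ← hrs,
          div_mul_cancel₀ _ hs0]
    let xW : Spec (CommRingCat.of W) ⟶ A.left :=
      Spec.map (CommRingCat.ofHom φ) ≫ hV.fromSpec ≫ pullback.fst A.hom t
    let gW : Spec (CommRingCat.of K) ⟶ Spec (CommRingCat.of W) := Spec.map (CommRingCat.ofHom W.subtype)
    have hxW : xW ≫ A.hom = Spec.map (CommRingCat.ofHom (algebraMap R W)) ≫ t := by
      simp only [xW, Category.assoc, pullback.condition]
      rw [reassoc_of% hφ]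
    have hgW : gW ≫ Spec.map (CommRingCat.ofHom (algebraMap R W)) =
        Spec.map (CommRingCat.ofHom (algebraMap R K)) := by
      rw [← Spec.map_comp]
      congr 1
      ext r
      exact hWK r
    have hgO : gW ≫ Spec.map (CommRingCat.ofHom j₁) = Spec.map (CommRingCat.ofHom (algebraMap O K)) := by
      rw [← Spec.map_comp]; rfl
    obtain ⟨y₁, hy₁, hy₁x⟩ := hIH O hO t₁ K (gW ≫ xW) (by
      rw [Category.assoc, hxW, reassoc_of% hgW, ← Category.assoc, ← Spec.map_comp, ← CommRingCat.ofHom_comp, hOK])
    have hy₁W : Spec.map (CommRingCat.ofHom j₁) ≫ y₁ = xW := by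
      haveI : IsSchemeTheoreticallyDominant gW := isSchemeTheoreticallyDominant_specMap _ Subtype.val_injective
      refine Groth.GrpschAbsch.ext_of_isSchemeTheoreticallyDominant A.hom ?_ gW ?_
      · rw [Category.assoc, hy₁, hxW, ← Category.assoc, ← Spec.map_comp, ← CommRingCat.ofHom_comp, hι₁]
      · rw [reassoc_of% hgO, hy₁x]
    -- spreading out over the chart
    let pC : Spec (CommRingCat.of D.C) ⟶ S :=
      Spec.map (CommRingCat.ofHom ((algebraMap R' D.C).comp ι)) ≫ t
    have hfr : (Spec (CommRingCat.of D.C)).fromSpecStalk pt = Spec.map (CommRingCat.ofHom (algebraMap D.C O)) :=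
      Scheme.Spec_fromSpecStalk _ _
    obtain ⟨V₁, bV, hbV, hbVq⟩ := Groth.Limits.exists_extend_nhd (isAffineOpen_top _) (Set.mem_univ pt) pC A.hom
      y₁ (by rw [hy₁, hfr]; simp only [t₁, pC, ← Category.assoc, ← Spec.map_comp]; rfl)
    -- the exceptional divisor
    let πS : (Groth.GrpschAbsch.RationalToAbelian.Aff k' D.n).left ⟶ Spec (CommRingCat.of D.C) :=
      Spec.map (CommRingCat.ofHom D.π)
    let W₀ := πS ⁻¹ᵁ V₁.1
    let qb : ↥(Groth.GrpschAbsch.RationalToAbelian.Aff k' D.n).left :=
      (⟨q.map D.π, inferInstance⟩ : PrimeSpectrum (MvPolynomial (Fin D.n) k'))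
    have hqb : πS qb = pt := PrimeSpectrum.ext (D.comap_map q htq)
    have hW₀ : (W₀ : Set (Groth.GrpschAbsch.RationalToAbelian.Aff k' D.n).left).Nonempty :=
      ⟨qb, show πS qb ∈ V₁.1 by rw [hqb]; exact V₁.2.1⟩
    let τ : Spec (CommRingCat.of k') ⟶ S := Spec.map (CommRingCat.ofHom ((residue R').comp ι)) ≫ t
    have hπC : D.π.comp ((algebraMap R' D.C).comp ι) = MvPolynomial.C.comp ((residue R').comp ι) :=
      RingHom.ext fun r => D.π_algebraMap (ι r)
    obtain ⟨p, hp, hm⟩ := exists_constant A τ W₀ hW₀ (πS.resLE V₁.1 W₀ le_rfl ≫ bV) (by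
      rw [Category.assoc, hbVq, Scheme.Hom.resLE_comp_ι_assoc]
      congr 1
      show Spec.map _ ≫ Spec.map _ ≫ t = Spec.map (CommRingCat.ofHom MvPolynomial.C) ≫ Spec.map _ ≫ t
      rw [← Category.assoc, ← Category.assoc, ← Spec.map_comp, ← Spec.map_comp, ← CommRingCat.ofHom_comp,
        ← CommRingCat.ofHom_comp, hπC])
    -- the closed point of the valuation ring
    let zW : Spec (CommRingCat.of (ResidueField W)) ⟶ Spec (CommRingCat.of W) :=
      Spec.map (CommRingCat.ofHom (residue W))
    let ρS : Spec (CommRingCat.of (ResidueField W)) ⟶ (Groth.GrpschAbsch.RationalToAbelian.Aff k' D.n).left :=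
      Spec.map (CommRingCat.ofHom ρ)
    have hρπ : ρS ≫ πS = zW ≫ Spec.map (CommRingCat.ofHom j₁) ≫ (Spec (CommRingCat.of D.C)).fromSpecStalk pt := by
      rw [hfr]
      show Spec.map _ ≫ Spec.map _ = Spec.map _ ≫ Spec.map _ ≫ Spec.map _
      rw [← Spec.map_comp, ← Spec.map_comp, ← Spec.map_comp, ← CommRingCat.ofHom_comp, ← CommRingCat.ofHom_comp,
        ← CommRingCat.ofHom_comp]
      congr 2
      ext1 c
      simp [hj₁]
      exact hρ c
    let l : Spec (CommRingCat.of (ResidueField W)) ⟶ (V₁.1 : Scheme.{u}) :=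
      zW ≫ Spec.map (CommRingCat.ofHom j₁) ≫ V₁.1.fromSpecStalkOfMem pt V₁.2.1
    have hl : l ≫ V₁.1.ι = ρS ≫ πS := by
      rw [hρπ]; simp [l, Scheme.Opens.fromSpecStalkOfMem_ι]
    let v : Spec (CommRingCat.of (ResidueField W)) ⟶ (W₀ : Scheme.{u}) := IsOpenImmersion.lift W₀.ι ρS (by
      rintro _ ⟨z, rfl⟩
      rw [Scheme.Opens.range_ι]
      show πS (ρS z) ∈ V₁.1
      rw [← Scheme.Hom.comp_apply, ← hl]
      exact (l z).2)
    have hv : v ≫ W₀.ι = ρS := IsOpenImmersion.lift_fac _ _ _
    have hzp : zW ≫ xW = Spec.map (CommRingCat.ofHom η) ≫ p := by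
      rw [← hy₁W, ← hbV]
      have h1 : l = v ≫ πS.resLE V₁.1 W₀ le_rfl := by
        rw [← cancel_mono V₁.1.ι, hl, Category.assoc, Scheme.Hom.resLE_comp_ι, reassoc_of% hv]
      calc zW ≫ Spec.map (CommRingCat.ofHom j₁) ≫ V₁.1.fromSpecStalkOfMem pt V₁.2.1 ≫ bV
          = l ≫ bV := by simp [l]
        _ = v ≫ (πS.resLE V₁.1 W₀ le_rfl ≫ bV) := by rw [h1, Category.assoc]
        _ = ρS ≫ Spec.map (CommRingCat.ofHom MvPolynomial.C) ≫ p := by rw [hm, reassoc_of% hv]; rfl
        _ = _ := by rw [← Category.assoc, ← Spec.map_comp, ← CommRingCat.ofHom_comp, hρC]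
    -- the constant point lies in `V`
    let pY : Spec (CommRingCat.of k') ⟶ pullback A.hom t :=
      pullback.lift p (Spec.map (CommRingCat.ofHom ((residue R').comp ι))) hp
    have hpY : Spec.map (CommRingCat.ofHom η) ≫ pY = zW ≫ Spec.map (CommRingCat.ofHom φ) ≫ hV.fromSpec := by
      apply pullback.hom_ext
      · rw [Category.assoc, pullback.lift_fst, ← hzp]; simp [xW]
      · rw [Category.assoc, pullback.lift_snd, Category.assoc, Category.assoc, hφ, ← Spec.map_comp,
          ← Spec.map_comp, ← CommRingCat.ofHom_comp, ← CommRingCat.ofHom_comp, ← hjι]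
        congr 2
    have hrange : Set.range pY ⊆ Set.range hV.fromSpec := by
      rintro _ ⟨z, rfl⟩
      let z' : ↥(Spec (CommRingCat.of (ResidueField W))) := closedPoint (ResidueField W)
      have : z = Spec.map (CommRingCat.ofHom η) z' := Subsingleton.elim (α := PrimeSpectrum k') _ _
      rw [this, ← Scheme.Hom.comp_apply, hpY, ← Category.assoc, Scheme.Hom.comp_apply]
      exact Set.mem_range_self _
    let φp := Spec.preimage (IsOpenImmersion.lift hV.fromSpec pY hrange)
    have hφp : φp ≫ CommRingCat.ofHom η = CommRingCat.ofHom φ ≫ CommRingCat.ofHom (residue W) := by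
      apply Spec.map_injective
      rw [Spec.map_comp, Spec.map_preimage, Spec.map_comp, ← cancel_mono hV.fromSpec, Category.assoc,
        IsOpenImmersion.lift_fac, Category.assoc, hpY]
    have := congr($(hφp).hom b₀)
    simp only [CommRingCat.hom_comp, CommRingCat.hom_ofHom, RingHom.comp_apply] at this
    rw [← this]
    exact hη _

end Descend

section Main

omit A in
/-- A closed subset of a Noetherian scheme without specialisations between distinct points is finite. -/
theorem finite_of_no_specializations {X : Scheme.{u}} [IsNoetherian X] {F : Set X} (hF : IsClosed F)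
    (h : ∀ z ∈ F, ∀ z' ∈ F, z ⤳ z' → z = z') : F.Finite := by
  obtain ⟨𝒮, hfin, hcl, hirr, rfl⟩ := TopologicalSpace.NoetherianSpace.exists_finite_set_isClosed_irreducible hF
  refine hfin.sUnion fun Z hZ => ?_
  have hg := (hirr Z hZ).isGenericPoint_genericPoint (hcl Z hZ)
  refine (Set.finite_singleton (hirr Z hZ).genericPoint).subset fun z hz => ?_
  exact (h _ ⟨Z, hZ, hg.mem⟩ z ⟨Z, hZ, hz⟩ (hg.specializes hz)).symm

include A in
/-- Rational points of abelian schemes over regular local rings are integral. -/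
theorem extends_of_isRegularLocalRing : ∀ (n : ℕ) (R : Type u) [CommRing R] [IsRegularLocalRing R],
    (maximalIdeal R).spanFinrank = n → Extends A R := by
  intro n
  induction n using Nat.strong_induction_on with
  | _ n ih =>
  intro R _ _ hn
  have hIH : ∀ (R₁ : Type u) [CommRing R₁] [IsRegularLocalRing R₁],
      ringKrullDim R₁ + 1 ≤ ringKrullDim R → Extends A R₁ := by
    intro R₁ _ _ h1
    refine ih _ ?_ R₁ rfl
    rw [← (inferInstance : IsRegularLocalRing R).spanFinrank_maximalIdeal,
      ← (inferInstance : IsRegularLocalRing R₁).spanFinrank_maximalIdeal, hn] at h1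
    exact_mod_cast h1
  haveI hdom : IsDomain R := Groth.Ega4Algebra1.isDomain_of_isRegularLocalRing R
  intro t K _ _ _ x hx
  let r₀ : Spec (CommRingCat.of K) ⟶ Spec (CommRingCat.of R) := Spec.map (CommRingCat.ofHom (algebraMap R K))
  by_cases hm : maximalIdeal R = ⊥
  · -- `R` is a field
    have hbij : Function.Bijective (algebraMap R K) := by
      refine ⟨IsFractionRing.injective R K, fun z => ?_⟩
      obtain ⟨a, b, hb, rfl⟩ := IsFractionRing.div_surjective (A := R) z
      have hu : IsUnit b := by
        by_contra hu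
        exact nonZeroDivisors.ne_zero hb ((Submodule.eq_bot_iff _).1 hm b hu)
      obtain ⟨c, rfl⟩ := hu
      refine ⟨a * (c⁻¹ : Rˣ), ?_⟩
      rw [eq_div_iff ((map_ne_zero_iff _ (IsFractionRing.injective R K)).2 c.ne_zero), ← map_mul, mul_assoc,
        Units.inv_mul, mul_one]
    let e := (RingEquiv.ofBijective _ hbij).toCommRingCatIso
    refine ⟨Spec.map e.inv ≫ x, ?_, ?_⟩
    · rw [Category.assoc, hx, ← Category.assoc]
      show (Spec.map e.inv ≫ Spec.map e.hom) ≫ t = t
      rw [← Spec.map_comp, e.hom_inv_id, Spec.map_id, Category.id_comp]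
    · show Spec.map e.hom ≫ Spec.map e.inv ≫ x = x
      rw [← Category.assoc, ← Spec.map_comp, e.inv_hom_id, Spec.map_id, Category.id_comp]
  let X : Scheme.{u} := Spec (CommRingCat.of R)
  let Y := pullback A.hom t
  let q : Y ⟶ X := pullback.snd A.hom t
  haveI : IsLocallyNoetherian Y := LocallyOfFiniteType.isLocallyNoetherian q
  haveI : CompactSpace Y := QuasiCompact.compactSpace_of_compactSpace q
  haveI : IsNoetherian Y := {}
  let g : Spec (CommRingCat.of K) ⟶ Y := pullback.lift x r₀ hx
  have hgq : g ≫ q = r₀ := pullback.lift_snd _ _ _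
  let γ : Y := g (closedPoint K)
  have hγ : ∀ s, g s = γ := fun s => congrArg g (Subsingleton.elim (α := PrimeSpectrum K) _ _)
  let s₀ : X := closedPoint R
  have hqγ : ∀ (z : X), q γ ⤳ z := fun z => by
    show q (g (closedPoint K)) ⤳ z
    rw [← Scheme.Hom.comp_apply, hgq]
    refine (PrimeSpectrum.le_iff_specializes _ _).1 fun r hr => ?_
    have hr0 : algebraMap R K r = 0 := by
      by_contra h
      exact hr (isUnit_iff_ne_zero.2 h)
    rw [(map_eq_zero_iff _ (IsFractionRing.injective R K)).1 hr0]
    exact zero_mem _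
  -- the points of the closure over the closed point
  let F : Set Y := closure {γ} ∩ q ⁻¹' {s₀}
  have hFcl : IsClosed F :=
    isClosed_closure.inter (((PrimeSpectrum.isClosed_singleton_iff_isMaximal _).2
      (maximalIdeal.isMaximal R)).preimage q.continuous)
  have hspec : ∀ z ∈ F, ∀ z' ∈ F, z ⤳ z' → z = z' := by
    intro z hz z' hz' hzz'
    obtain ⟨_, ⟨V, hV, rfl⟩, hz'V, -⟩ :=
      Y.isBasis_affineOpens.exists_subset_of_mem_open (Set.mem_univ z') isOpen_univ
    have hzV : z ∈ V := hzz'.mem_open V.isOpen hz'V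
    have hγV : γ ∈ V := (specializes_iff_mem_closure.2 hz.1).mem_open V.isOpen hzV
    let pz := hV.primeIdealOf ⟨z, hzV⟩
    let pz' := hV.primeIdealOf ⟨z', hz'V⟩
    have hpz : hV.fromSpec pz = z := hV.fromSpec_primeIdealOf ⟨z, hzV⟩
    have hpz' : hV.fromSpec pz' = z' := hV.fromSpec_primeIdealOf ⟨z', hz'V⟩
    have hle : pz.asIdeal ≤ pz'.asIdeal := by
      refine (PrimeSpectrum.le_iff_specializes pz pz').2
        (hV.fromSpec.isOpenEmbedding.isInducing.specializes_iff.1 ?_)
      rw [hpz, hpz']; exact hzz'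
    let αc : CommRingCat.of R ⟶ Γ(Y, V) := Spec.preimage (hV.fromSpec ≫ q)
    letI : Algebra R Γ(Y, V) := αc.hom.toAlgebra
    haveI : Algebra.FiniteType R Γ(Y, V) := by
      have h1 : LocallyOfFiniteType (Spec.map αc) := by rw [Spec.map_preimage]; infer_instance
      exact (HasRingHomProperty.Spec_iff (P := @LocallyOfFiniteType)).1 h1
    haveI : IsNoetherianRing Γ(Y, V) := IsLocallyNoetherian.component_noetherian ⟨V, hV⟩
    have hgV : Set.range g ⊆ Set.range hV.fromSpec := by
      rintro _ ⟨s, rfl⟩; rw [hV.range_fromSpec, hγ]; exact hγV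
    let ψc := Spec.preimage (IsOpenImmersion.lift hV.fromSpec g hgV)
    have hψc : Spec.map ψc ≫ hV.fromSpec = g := by rw [Spec.map_preimage, IsOpenImmersion.lift_fac]
    let ψ : Γ(Y, V) →+* K := ψc.hom
    have hψR : ψ.comp (algebraMap R Γ(Y, V)) = algebraMap R K := by
      have h1 : αc ≫ ψc = CommRingCat.ofHom (algebraMap R K) := by
        apply Spec.map_injective
        rw [Spec.map_comp, Spec.map_preimage (hV.fromSpec ≫ q), reassoc_of% hψc, hgq]
      exact congrArg CommRingCat.Hom.hom h1
    have hker : ∀ v, ψ v = 0 → v ∈ pz.asIdeal := by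
      intro v hv
      have h1 : hV.fromSpec (Spec.map ψc (closedPoint K)) ⤳ hV.fromSpec pz := by
        rw [← Scheme.Hom.comp_apply, hψc, hpz]
        exact specializes_iff_mem_closure.2 hz.1
      refine (PrimeSpectrum.le_iff_specializes (Spec.map ψc (closedPoint K)) pz).2
        (hV.fromSpec.isOpenEmbedding.isInducing.specializes_iff.1 h1) ?_
      show ψ v ∈ maximalIdeal K
      rw [hv]; exact zero_mem _
    haveI : pz.asIdeal.IsPrime := pz.isPrime
    let L := Localization.AtPrime pz.asIdeal
    let f : L →+* K := IsLocalization.lift (M := pz.asIdeal.primeCompl) (g := ψ)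
      fun v => isUnit_iff_ne_zero.2 fun h => v.2 (hker v.1 h)
    have hfψ : ∀ v, f (algebraMap Γ(Y, V) L v) = ψ v := fun v => IsLocalization.lift_eq _ v
    have hfess : f.EssFiniteType := by
      refine RingHom.EssFiniteType.of_comp (algebraMap R L) ?_
      rw [show f.comp (algebraMap R L) = algebraMap R K from RingHom.ext fun r => by
        rw [RingHom.comp_apply, IsScalarTower.algebraMap_apply R Γ(Y, V) L, hfψ, ← hψR]; rfl,
        RingHom.essFiniteType_algebraMap]
      exact Algebra.EssFiniteType.of_isLocalization K (nonZeroDivisors R)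
    have hmz : ∀ r ∈ maximalIdeal R, algebraMap R Γ(Y, V) r ∈ pz.asIdeal := by
      have h1 : Spec.map αc pz = s₀ := by
        rw [Spec.map_preimage, Scheme.Hom.comp_apply, hpz]; exact hz.2
      intro r hr
      have h2 : (Spec.map αc pz : PrimeSpectrum R).asIdeal = maximalIdeal R := by rw [h1]; rfl
      exact (h2.symm ▸ hr : r ∈ (Spec.map αc pz : PrimeSpectrum R).asIdeal)
    obtain ⟨r₁, hr₁, hr₁0⟩ := Submodule.exists_mem_ne_zero_of_ne_bot hm
    obtain ⟨W, hW, hWdvr, hWloc⟩ := Groth.Limits.exists_dvr_valuationSubring f hfess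
      ⟨algebraMap R L r₁, by
        rw [IsScalarTower.algebraMap_apply R Γ(Y, V) L, IsLocalization.AtPrime.to_map_mem_maximal_iff L pz.asIdeal]
        exact hmz r₁ hr₁, by
        rw [IsScalarTower.algebraMap_apply R Γ(Y, V) L, hfψ, ← RingHom.comp_apply ψ, hψR]
        exact (map_ne_zero_iff _ (IsFractionRing.injective R K)).2 hr₁0⟩
    let φ : Γ(Y, V) →+* W := (f.codRestrict W.toSubring hW).comp (algebraMap Γ(Y, V) L)
    have hφp : ∀ v, v ∈ pz.asIdeal ↔ φ v ∈ maximalIdeal W := fun v => by
      rw [← IsLocalization.AtPrime.to_map_mem_maximal_iff L pz.asIdeal v]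
      exact ⟨fun h hu => h (hWloc.map_nonunit _ hu), fun h hu => h (hu.map (f.codRestrict W.toSubring hW))⟩
    letI : Algebra R W := (φ.comp (algebraMap R Γ(Y, V))).toAlgebra
    haveI : IsLocalHom (algebraMap R W) := ⟨fun r hr => by
      by_contra h
      exact (hφp _).1 (hmz r h) hr⟩
    haveI : IsScalarTower R W K := .of_algebraMap_eq fun r => by
      show _ = f (algebraMap Γ(Y, V) L (algebraMap R Γ(Y, V) r))
      rw [hfψ, ← RingHom.comp_apply ψ, hψR]
    have hφ : Spec.map (CommRingCat.ofHom φ) ≫ hV.fromSpec ≫ q =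
        Spec.map (CommRingCat.ofHom (algebraMap R W)) := by
      rw [← Spec.map_preimage (hV.fromSpec ≫ q), ← Spec.map_comp]
      rfl
    let θ : Γ(Y, V) →+* ResidueField W := (residue W).comp φ
    letI : Algebra (ResidueField R) (ResidueField W) := (ResidueField.map (algebraMap R W)).toAlgebra
    let T : Subalgebra (ResidueField R) (ResidueField W) :=
      { θ.range.toSubsemiring with
        algebraMap_mem' := fun c => by
          obtain ⟨r, rfl⟩ := IsLocalRing.residue_surjective c
          exact ⟨algebraMap R Γ(Y, V) r, rfl⟩ }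
    have hT : IsField T := by
      haveI : Algebra.IsIntegral (ResidueField R) T := ⟨fun w => by
        obtain ⟨v, hv⟩ := w.2
        refine (isIntegral_algHom_iff T.val Subtype.val_injective).1 ?_
        show IsIntegral (ResidueField R) (w : ResidueField W)
        rw [← hv]
        exact isIntegral_residue A R K W t hV φ hφ hIH v⟩
      exact isField_of_isIntegral_of_isField' (R := ResidueField R) (Field.toIsField _)
    have hmax : pz.asIdeal.IsMaximal := by
      have hkerθ : RingHom.ker θ = pz.asIdeal := by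
        ext v
        rw [RingHom.mem_ker, RingHom.comp_apply, IsLocalRing.residue_eq_zero_iff, hφp v]
      rw [← hkerθ]
      let θT : Γ(Y, V) →+* T := θ.codRestrict T.toSubring fun v => ⟨v, rfl⟩
      have hk : RingHom.ker θT = RingHom.ker θ := by
        ext v
        exact ⟨fun h => congrArg Subtype.val h, fun h => Subtype.ext h⟩
      rw [← hk]
      have hθT : Function.Surjective θT := fun w => by
        obtain ⟨v, hv⟩ := w.2
        exact ⟨v, Subtype.ext hv⟩
      exact Ideal.Quotient.maximal_of_isField _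
        (MulEquiv.isField hT (RingHom.quotientKerEquivOfSurjective hθT).toMulEquiv)
    have : pz = pz' := PrimeSpectrum.ext (hmax.eq_of_le pz'.isPrime.ne_top hle)
    rw [← hpz, ← hpz', this]
  have hfin := finite_of_no_specializations hFcl hspec
  obtain ⟨y, hyF⟩ : F.Nonempty := by
    have hcl : IsClosed (q '' closure {γ}) := q.isClosedMap _ isClosed_closure
    obtain ⟨y, hy, hys⟩ := (hqγ s₀).mem_closed hcl ⟨γ, subset_closure rfl, rfl⟩
    exact ⟨y, hy, hys⟩
  have hclosed : IsClosed (F \ {y}) := by
    rw [← Set.biUnion_of_singleton (F \ {y})]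
    refine hfin.sdiff.isClosed_biUnion fun z hz => closure_eq_iff_isClosed.1 ?_
    refine subset_antisymm (fun z' hz' => ?_) subset_closure
    have hz'F : z' ∈ F := hFcl.closure_subset_iff.2 (Set.singleton_subset_iff.2 hz.1) hz'
    exact (hspec z hz.1 z' hz'F (specializes_iff_mem_closure.2 hz')).symm
  let O : Y.Opens := ⟨(F \ {y})ᶜ, hclosed.isOpen_compl⟩
  -- Zariski's main theorem at the closed point
  let st := X.presheaf.stalk s₀
  let e₀ : CommRingCat.of R ⟶ st := StructureSheaf.toStalk R s₀
  have he₀ : X.fromSpecStalk s₀ = Spec.map e₀ := Scheme.Spec_fromSpecStalk _ _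
  have he₀b : Function.Bijective e₀.hom := by
    letI : Algebra R st := e₀.hom.toAlgebra
    haveI : IsLocalization.AtPrime st (maximalIdeal R) := StructureSheaf.IsLocalization.to_stalk R s₀
    exact (IsLocalization.atUnits R (maximalIdeal R).primeCompl (S := st) fun r hr =>
      not_not.1 (hr : r ∉ maximalIdeal R)).bijective
  let er : R ≃+* st := RingEquiv.ofBijective e₀.hom he₀b
  haveI : IsRegularLocalRing st := IsRegularLocalRing.of_ringEquiv er
  haveI : IsDomain st := Groth.Ega4Algebra1.isDomain_of_isRegularLocalRing _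
  let Ψ : K ≃+* FractionRing st := IsFractionRing.ringEquivOfRingEquiv er
  let Ψc : CommRingCat.of K ≅ CommRingCat.of (FractionRing st) := Ψ.toCommRingCatIso
  have hΨ : CommRingCat.ofHom (algebraMap R K) ≫ Ψc.hom = e₀ ≫ CommRingCat.ofHom (algebraMap st (FractionRing st)) := by
    ext r
    exact IsFractionRing.ringEquivOfRingEquiv_algebraMap er r
  obtain ⟨w, hwq, hwg, -⟩ := Groth.Rat20Ext.exists_hom_of_isolated q (x := s₀)
    (Groth.Ega4Algebra1.isIntegrallyClosed_of_isRegularLocalRing st) (Spec.map Ψc.hom ≫ g) (by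
      rw [Category.assoc, hgq, ← Spec.map_comp, hΨ, Spec.map_comp, ← he₀]; rfl)
    y hyF.2 (fun s => by
      rw [Scheme.Hom.comp_apply, hγ]; exact specializes_iff_mem_closure.2 hyF.1)
    O (fun h => h.2 rfl) fun z hz hgz hqz => by
      have h1 : γ ⤳ z := by
        have := hgz (closedPoint (FractionRing st))
        rwa [Scheme.Hom.comp_apply, hγ] at this
      by_contra hne
      exact hz ⟨⟨specializes_iff_mem_closure.1 h1, hqz⟩, hne⟩
  haveI : IsIso (Spec.map e₀) := by
    have : IsIso e₀ := (inferInstance : IsIso er.toCommRingCatIso.hom)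
    infer_instance
  refine ⟨inv (Spec.map e₀) ≫ w ≫ pullback.fst A.hom t, ?_, ?_⟩
  · rw [Category.assoc, Category.assoc, pullback.condition, ← Category.assoc w, hwq, he₀]
    simp
  · have h2 : Spec.map Ψc.hom ≫ r₀ = Spec.map (CommRingCat.ofHom (algebraMap st (FractionRing st))) ≫ Spec.map e₀ := by
      rw [← Spec.map_comp, ← Spec.map_comp, hΨ]
    rw [← cancel_epi (Spec.map Ψc.hom), reassoc_of% h2, IsIso.hom_inv_id_assoc, reassoc_of% hwg]
    exact congrArg (Spec.map Ψc.hom ≫ ·) (pullback.lift_fst _ _ _)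

end Main

end Groth.NeronArea
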