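import Groth.Agent.GrpschAbsch.SmoothPoint
import Groth.Agent.PropsBasic.LociBaseChange.Scheme
import Groth.Agent.Ega4Algebra1.RegularLocal
import Groth.Agent.S9501
import Mathlib.RingTheory.DedekindDomain.Dvr

/-! Sections of regular flat schemes over regular one-dimensional bases meet the smooth locus only. -/

set_option backward.isDefEq.respectTransparency false

universe u

open CategoryTheory CategoryTheory.Limits AlgebraicGeometry IsLocalRing

namespace Groth.NeronArea

lemma isRegularLocalRing_quotient_map_maximalIdeal {A B C : Type u} [CommRing A] [IsLocalRing A]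
    [CommRing B] [IsRegularLocalRing B] [CommRing C] [IsLocalRing C] (φ : A →+* B) (r : B →+* C)
    [IsLocalHom φ] [IsLocalHom r] (hr : Function.Bijective (r.comp φ))
    (hA : (maximalIdeal A).IsPrincipal) (hA2 : maximalIdeal A ^ 2 = maximalIdeal A → maximalIdeal A = ⊥) :
    IsRegularLocalRing (B ⧸ (maximalIdeal A).map φ) := by
  obtain ⟨a, ha⟩ := hA
  change maximalIdeal A = Ideal.span {a} at ha
  by_cases h0 : maximalIdeal A = ⊥
  · rw [h0, Ideal.map_bot]
    exact IsRegularLocalRing.of_ringEquiv (RingEquiv.quotientBot B).symm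
  rw [ha, Ideal.map_span, Set.image_singleton]
  refine (Groth.Ega4Algebra1.isRegularLocalRing_quotient_span_singleton ?_ ?_).1
  · exact map_nonunit φ a (ha ▸ Ideal.mem_span_singleton_self a)
  · intro h2
    refine h0 (hA2 (le_antisymm (Ideal.pow_le_self two_ne_zero) ?_))
    conv_lhs => rw [ha]
    rw [Ideal.span_le, Set.singleton_subset_iff]
    let e := RingEquiv.ofBijective (r.comp φ) hr
    have h3 : e a ∈ maximalIdeal C ^ 2 :=
      Ideal.pow_right_mono (((IsLocalRing.local_hom_TFAE r).out 0 2).1 ‹IsLocalHom r›) 2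
        (by rw [← Ideal.map_pow]; exact Ideal.mem_map_of_mem r h2)
    have h4 : maximalIdeal C = (maximalIdeal A).map e.toRingHom := (map_ringEquiv_maximalIdeal e).symm
    rw [h4, ← Ideal.map_pow] at h3
    rw [← Ideal.comap_map_of_bijective e.toRingHom e.bijective (I := maximalIdeal A ^ 2)]
    exact h3

/-- At a point of a section, a flat morphism with regular total space over a regular base of dimension
at most one is smooth. -/
theorem mem_smoothLocus_of_section {X S : Scheme.{u}} (p : X ⟶ S) [LocallyOfFinitePresentation p]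
    (s : S ⟶ X) (hs : s ≫ p = 𝟙 S) (x : X) (hx : x ∈ Set.range s) [IsRegularLocalRing (X.presheaf.stalk x)]
    (hflat : (p.stalkMap x).hom.Flat) (hA : (maximalIdeal (S.presheaf.stalk (p x))).IsPrincipal)
    (hA2 : maximalIdeal (S.presheaf.stalk (p x)) ^ 2 = maximalIdeal (S.presheaf.stalk (p x)) →
      maximalIdeal (S.presheaf.stalk (p x)) = ⊥) : x ∈ p.smoothLocus := by
  obtain ⟨t, rfl⟩ := hx
  haveI : LocallyOfFinitePresentation (p.fiberToSpecResidueField (p (s t))) :=
    MorphismProperty.pullback_snd (P := @LocallyOfFinitePresentation) _ _ inferInstance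
  refine Groth.PropsBasic.Loci.mem_smoothLocus_of_fiber hflat ?_
  let σ : Spec (S.residueField (p (s t))) ⟶ p.fiber (p (s t)) :=
    pullback.lift (S.fromSpecResidueField (p (s t)) ≫ s) (𝟙 _) (by rw [Category.assoc, hs, Category.comp_id, Category.id_comp])
  have hσ : σ (closedPoint (S.residueField (p (s t)))) = p.asFiber (s t) := by
    refine (p.fiberι (p (s t))).isEmbedding.injective ?_
    have hpt : p (s t) = t := by rw [← Scheme.Hom.comp_apply, hs]; rfl
    rw [Scheme.Hom.fiberι_asFiber, ← Scheme.Hom.comp_apply, Scheme.Hom.fiberι, pullback.lift_fst,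
      Scheme.Hom.comp_apply, Scheme.fromSpecResidueField_apply, hpt]
  rw [← hσ]
  refine (Groth.GrpschAbsch.mem_smoothLocus_iff_isRegularLocalRing (k := S.residueField (p (s t)))
    (p.fiberToSpecResidueField (p (s t))) σ (pullback.lift_snd _ _ _) _).2 ?_
  suffices H : ∀ z : p.fiber (p (s t)), z = p.asFiber (s t) → IsRegularLocalRing ((p.fiber (p (s t))).presheaf.stalk z) from
    H _ hσ
  rintro z rfl
  obtain ⟨hsurj, hker⟩ := Groth.Agent.S9501.result p (p (s t)) (p.asFiber (s t))
  haveI : IsIso (s ≫ p) := by rw [hs]; infer_instance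
  have hr : Function.Bijective ((s.stalkMap t).hom.comp (p.stalkMap (s t)).hom) := by
    rw [← CommRingCat.hom_comp, ← Scheme.Hom.stalkMap_comp]
    exact (ConcreteCategory.bijective_of_isIso ((s ≫ p).stalkMap t))
  have hreg := isRegularLocalRing_quotient_map_maximalIdeal (p.stalkMap (s t)).hom (s.stalkMap t).hom hr hA hA2
  have key : ∀ (y : X) (hy : y = s t), IsRegularLocalRing
      (X.presheaf.stalk y ⧸ (maximalIdeal (S.presheaf.stalk (p y))).map (p.stalkMap y).hom) := by
    rintro y rfl; exact hreg
  haveI := key _ (Scheme.Hom.fiberι_asFiber p (s t))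
  exact IsRegularLocalRing.of_ringEquiv
    ((Ideal.quotientEquiv _ _ (RingEquiv.refl _) (by rw [hker]; exact (Ideal.map_id _).symm)).trans
      (RingHom.quotientKerEquivOfSurjective hsurj))

end Groth.NeronArea
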