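import Groth.Agent.SmoothSlice.Coords
import Groth.Agent.Ega41Sep.Separable
import Mathlib

/-! Étale coordinates adapted to a prime with separable residue field extension. -/

set_option autoImplicit false
universe u

open TensorProduct IsLocalRing

namespace Groth.NeronArea.SepCoord

/-- Finitely generated geometrically reduced field extensions are separably generated. -/
theorem exists_separating_basis (k K : Type u) [Field k] [Field K] [Algebra k K] [Algebra.EssFiniteType k K]
    [hK : Algebra.IsGeometricallyReduced k K] :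
    ∃ t : Finset K, AlgebraicIndependent k ((↑) : t → K) ∧
      Algebra.IsSeparable (IntermediateField.adjoin k (t : Set K)) K := by
  obtain h0 | ⟨p, hp, hpk⟩ := CharP.exists' k
  · obtain ⟨t, h1, h2⟩ := exists_isTranscendenceBasis_and_isSeparable_of_perfectField k K
    exact ⟨t, h1.1, h2⟩
  · obtain ⟨t, h1, h2⟩ := exists_isTranscendenceBasis_and_isSeparable_of_linearIndepOn_pow_of_essFiniteType
      (k := k) (K := K) p hp.out fun t ht =>
        (Groth.Ega41Sep.isGeometricallyReduced_iff_powIndep p k K).mp hK (fun i : t => (i : K)) ht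
    exact ⟨t, h1.1, h2⟩

variable {R B : Type u} [CommRing R] [CommRing B] [Algebra R B]

/-- Derivations vanishing on a prime and on lifts of a separating family vanish. -/
theorem derivation_eq_zero (k : Type u) [Field k] [Algebra R k] (hk : Function.Surjective (algebraMap R k))
    (q : Ideal B) [q.IsPrime] [Algebra k q.ResidueField] [IsScalarTower R k q.ResidueField] (G : Set B)
    (hsep : Algebra.IsSeparable (IntermediateField.adjoin k (algebraMap B q.ResidueField '' G)) q.ResidueField)
    (D : Derivation R B q.ResidueField) (h : ∀ c ∈ q, D c = 0) (hG : ∀ c ∈ G, D c = 0) : D = 0 := by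
  let K := q.ResidueField
  let g : B →ₐ[R] TrivSqZeroExt K K :=
    { toFun := fun b => TrivSqZeroExt.inl (algebraMap B K b) + TrivSqZeroExt.inr (D b)
      map_one' := by simp
      map_mul' := fun x y => by
        ext
        · simp; ring
        · simp [D.leibniz, Algebra.smul_def]; ring
      map_zero' := by simp
      map_add' := fun x y => by ext <;> simp <;> ring
      commutes' := fun r => by
        ext
        · simp [TrivSqZeroExt.algebraMap_eq_inl', ← IsScalarTower.algebraMap_apply R B K]
        · simp [TrivSqZeroExt.algebraMap_eq_inl'] }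
  have hg : ∀ x ∈ q, g x = 0 := fun x hx => by
    have : algebraMap B K x = 0 := (Ideal.algebraMap_residueField_eq_zero).mpr hx
    simp [g, this, h x hx]
  let g' : B ⧸ q →ₐ[R] TrivSqZeroExt K K := Ideal.Quotient.liftₐ q g hg
  have hu : ∀ y : nonZeroDivisors (B ⧸ q), IsUnit (g' y) := by
    rintro ⟨y, hy⟩
    obtain ⟨b, rfl⟩ := Ideal.Quotient.mk_surjective y
    rw [TrivSqZeroExt.isUnit_iff_isUnit_fst]
    have : algebraMap B K b ≠ 0 := fun e => nonZeroDivisors.ne_zero hy
      (Ideal.Quotient.eq_zero_iff_mem.mpr (Ideal.algebraMap_residueField_eq_zero.mp e))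
    show IsUnit (TrivSqZeroExt.fst (g b))
    exact isUnit_iff_ne_zero.mpr (by simpa [g] using this)
  let F : K →ₐ[R] TrivSqZeroExt K K := IsLocalization.liftAlgHom hu
  let I₀ : K →ₐ[R] TrivSqZeroExt K K := (TrivSqZeroExt.inlAlgHom K K K).restrictScalars R
  have hF : ∀ b : B, F (algebraMap B K b) = g b := fun b => by
    show F (algebraMap (B ⧸ q) K (Ideal.Quotient.mk q b)) = g b
    simp only [F, IsLocalization.coe_liftAlgHom, IsLocalization.lift_eq]
    rfl
  let E := IntermediateField.adjoin k (algebraMap B q.ResidueField '' G)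
  have hE : ∀ x : E, F (x : K) = I₀ (x : K) := by
    rintro ⟨x, hx⟩
    induction hx using IntermediateField.adjoin_induction with
    | mem x hx =>
      obtain ⟨c, hc, rfl⟩ := hx
      show F (algebraMap B K c) = TrivSqZeroExt.inl (algebraMap B K c)
      rw [hF]
      simp [g, hG c hc]
    | algebraMap x =>
      obtain ⟨r, rfl⟩ := hk x
      show F (algebraMap k K (algebraMap R k r)) = I₀ (algebraMap k K (algebraMap R k r))
      rw [← IsScalarTower.algebraMap_apply R k K]
      exact (F.commutes r).trans (I₀.commutes r).symm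
    | add x y _ _ hx hy => simp only [map_add]; exact congrArg₂ (· + ·) hx hy
    | inv x _ hx =>
      simp only at hx ⊢
      by_cases h0 : x = 0
      · simp [h0]
      · apply ((IsUnit.mk0 x h0).map F).mul_left_cancel
        nth_rw 2 [hx]
        rw [← map_mul, ← map_mul, mul_inv_cancel₀ h0, map_one, map_one]
    | mul x y _ _ hx hy => simp only [map_mul]; exact congrArg₂ (· * ·) hx hy
  have : Algebra.FormallyUnramified E K := by
    haveI := hsep
    exact Algebra.FormallyUnramified.of_isSeparable E K
  letI : Algebra E (TrivSqZeroExt K K) := (I₀.toRingHom.comp (algebraMap E K)).toAlgebra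
  let FE : K →ₐ[E] TrivSqZeroExt K K := { F.toRingHom with commutes' := fun x => hE x }
  let IE : K →ₐ[E] TrivSqZeroExt K K := { I₀.toRingHom with commutes' := fun x => rfl }
  have e : FE = IE := by
    refine Algebra.FormallyUnramified.lift_unique
      (RingHom.ker (TrivSqZeroExt.fstHom K K K).toRingHom) ⟨2, ?_⟩ FE IE ?_
    · rw [Ideal.zero_eq_bot, pow_two, eq_bot_iff, Ideal.mul_le]
      intro x hx y hy
      rw [RingHom.mem_ker] at hx hy
      rw [Ideal.mem_bot]
      have hx' : x.fst = 0 := hx
      have hy' : y.fst = 0 := hy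
      ext <;> simp [hx', hy']
    · refine DFunLike.ext _ _ fun x => ?_
      refine Ideal.Quotient.eq.mpr ?_
      rw [RingHom.mem_ker]
      obtain ⟨⟨a, s⟩, rfl⟩ := IsLocalization.mk'_surjective (nonZeroDivisors (B ⧸ q)) x
      obtain ⟨b, rfl⟩ := Ideal.Quotient.mk_surjective a
      obtain ⟨b', hb'⟩ := Ideal.Quotient.mk_surjective (s : B ⧸ q)
      show TrivSqZeroExt.fst (F _ - I₀ _) = 0
      rw [TrivSqZeroExt.fst_sub, sub_eq_zero]
      have key : ∀ c : B, TrivSqZeroExt.fst (F (algebraMap B K c)) = algebraMap B K c := fun c => by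
        rw [hF]; simp [g]
      show TrivSqZeroExt.fst (F _) = IsLocalization.mk' K (Ideal.Quotient.mk q b) s
      refine mul_right_cancel₀ (IsLocalization.map_units K s).ne_zero ?_
      rw [IsLocalization.mk'_spec]
      have h2 : algebraMap (B ⧸ q) K s = TrivSqZeroExt.fst (F (algebraMap (B ⧸ q) K s)) := by
        rw [← hb']; exact (key b').symm
      conv_lhs => rw [h2]
      rw [← TrivSqZeroExt.fst_mul, ← map_mul, IsLocalization.mk'_spec]
      exact key b
  ext b
  have := congrArg TrivSqZeroExt.snd (DFunLike.congr_fun e (algebraMap B K b))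
  rw [show FE (algebraMap B K b) = g b from hF b,
    show IE (algebraMap B K b) = TrivSqZeroExt.inl (algebraMap B K b) from rfl] at this
  simpa [g] using this

end Groth.NeronArea.SepCoord

namespace Groth.NeronArea.SepCoord

variable {R A : Type u} [CommRing R] [IsLocalRing R] [CommRing A] [Algebra R A]

/-- Composing coordinates with an étale map. -/
theorem etale_comp_coords {R L L' : Type u} [CommRing R] [CommRing L] [CommRing L'] [Algebra R L] [Algebra R L']
    (ψ : L →ₐ[R] L') (hψ : ψ.toRingHom.Etale) {n : Type u} (c : n → L)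
    (hc : (MvPolynomial.aeval (R := R) c).toRingHom.Etale) :
    (MvPolynomial.aeval (R := R) fun i => ψ (c i)).toRingHom.Etale := by
  rw [show (MvPolynomial.aeval (R := R) fun i => ψ (c i)).toRingHom =
      ψ.toRingHom.comp (MvPolynomial.aeval (R := R) c).toRingHom from
    congrArg AlgHom.toRingHom (MvPolynomial.comp_aeval c ψ).symm]
  exact RingHom.Etale.stableUnderComposition _ _ hc hψ

/-- Transport along a presentation of the localisation. -/
theorem assemble (p : Ideal A) (h : A) {L : Type u} [CommRing L] [Algebra A L] [Algebra R L] [IsScalarTower R A L]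
    [IsLocalization.Away h L] {n : Type u} [Finite n] (c : n → L) (J : Set n) (a : J → A) (hh : h ∉ p)
    (hc : (MvPolynomial.aeval (R := R) c).toRingHom.Etale) (ha : ∀ i, a i ∈ p)
    (hac : ∀ i : J, algebraMap A L (a i) = c i)
    (hp : p.map (algebraMap A L) ≤ Ideal.span (algebraMap R L '' (maximalIdeal R : Set R) ∪ c '' J)) :
    ∃ (h : A) (n : Type u) (c : n → Localization.Away h) (J : Set n) (a : J → A),
      h ∉ p ∧ Finite n ∧ (MvPolynomial.aeval (R := R) c).toRingHom.Etale ∧ (∀ i, a i ∈ p) ∧
      (∀ i : J, algebraMap A _ (a i) = c i) ∧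
      p.map (algebraMap A (Localization.Away h)) ≤
        Ideal.span (algebraMap R _ '' (maximalIdeal R : Set R) ∪ c '' J) := by
  let εA : L ≃ₐ[A] Localization.Away h := IsLocalization.algEquiv (Submonoid.powers h) L (Localization.Away h)
  let ε : L ≃ₐ[R] Localization.Away h := εA.restrictScalars R
  refine ⟨h, n, fun i => ε (c i), J, a, hh, inferInstance, ?_, ha, fun i => ?_, ?_⟩
  · exact etale_comp_coords ε.toAlgHom (RingHom.Etale.of_bijective ε.bijective) c hc
  · show _ = εA (c i)
    rw [← hac, εA.commutes]
  · have h1 := Ideal.map_mono (f := εA.toRingEquiv.toRingHom) hp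
    rw [Ideal.map_map, Ideal.map_span, Set.image_union, ← Set.image_comp, ← Set.image_comp] at h1
    have e1 : εA.toRingEquiv.toRingHom.comp (algebraMap A L) = algebraMap A (Localization.Away h) :=
      RingHom.ext εA.commutes
    rw [e1] at h1
    refine h1.trans (Ideal.span_mono (Set.union_subset_union ?_ (le_of_eq rfl)))
    rintro _ ⟨r, hr, rfl⟩
    exact ⟨r, hr, (ε.commutes r).symm⟩

/-- Assembly after inverting one more element. -/
theorem assemble_away (p : Ideal A) (h : A) {L : Type u} [CommRing L] [Algebra A L] [Algebra R L] [IsScalarTower R A L]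
    (L' : Type u) [CommRing L'] [Algebra L L'] [Algebra A L'] [Algebra R L'] [IsScalarTower A L L']
    [IsScalarTower R L L'] [IsScalarTower R A L'] (z : L) [IsLocalization.Away z L'] [IsLocalization.Away h L']
    {n : Type u} [Finite n] (c : n → L) (J : Set n) (a : J → A) (hh : h ∉ p)
    (hc : (MvPolynomial.aeval (R := R) c).toRingHom.Etale) (ha : ∀ i, a i ∈ p)
    (hac : ∀ i : J, algebraMap A L (a i) = c i) (w : L) (hw : IsUnit (algebraMap L L' w))
    (hp : ∀ x ∈ p, w * algebraMap A L x ∈ Ideal.span (algebraMap R L '' (maximalIdeal R : Set R) ∪ c '' J)) :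
    ∃ (h : A) (n : Type u) (c : n → Localization.Away h) (J : Set n) (a : J → A),
      h ∉ p ∧ Finite n ∧ (MvPolynomial.aeval (R := R) c).toRingHom.Etale ∧ (∀ i, a i ∈ p) ∧
      (∀ i : J, algebraMap A _ (a i) = c i) ∧
      p.map (algebraMap A (Localization.Away h)) ≤
        Ideal.span (algebraMap R _ '' (maximalIdeal R : Set R) ∪ c '' J) := by
  let ψ : L →ₐ[R] L' := IsScalarTower.toAlgHom R L L'
  have : Algebra.Etale L L' := Algebra.Etale.of_isLocalizationAway z
  have hψ : ψ.toRingHom.Etale := RingHom.etale_algebraMap.2 inferInstance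
  refine assemble p h (L := L') (fun i => ψ (c i)) J a hh (etale_comp_coords ψ hψ c hc) ha (fun i => ?_) ?_
  · show _ = algebraMap L L' (c i)
    rw [← hac, ← IsScalarTower.algebraMap_apply A L L']
  · rw [Ideal.map_le_iff_le_comap]
    intro x hx
    rw [Ideal.mem_comap]
    have h3 := Ideal.mem_map_of_mem ψ.toRingHom (hp x hx)
    rw [Ideal.map_span, Set.image_union, ← Set.image_comp, ← Set.image_comp] at h3
    rw [map_mul, show ψ.toRingHom (algebraMap A L x) = algebraMap A L' x from
      (IsScalarTower.algebraMap_apply A L L' x).symm] at h3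
    have h4 := (Ideal.unit_mul_mem_iff_mem _ hw).1 h3
    refine (Ideal.span_mono (Set.union_subset_union ?_ (le_of_eq rfl)) : _) h4
    rintro _ ⟨r, hr, rfl⟩
    exact ⟨r, hr, (ψ.commutes r).symm⟩

/-- Near a smooth point with separable residue extension over the closed point, the prime is cut out
by part of a system of étale coordinates. -/
theorem exists_coords [IsDomain R] [IsNoetherianRing R] [Algebra.FiniteType R A] (p : Ideal A) [p.IsPrime] [Algebra.IsSmoothAt R p]
    (hp : maximalIdeal R ≤ p.comap (algebraMap R A))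
    [Algebra (ResidueField R) p.ResidueField] [IsScalarTower R (ResidueField R) p.ResidueField]
    [Algebra.IsGeometricallyReduced (ResidueField R) p.ResidueField] :
    ∃ (h : A) (n : Type u) (c : n → Localization.Away h) (J : Set n) (a : J → A),
      h ∉ p ∧ Finite n ∧ (MvPolynomial.aeval (R := R) c).toRingHom.Etale ∧ (∀ i, a i ∈ p) ∧
      (∀ i : J, algebraMap A _ (a i) = c i) ∧
      p.map (algebraMap A (Localization.Away h)) ≤
        Ideal.span (algebraMap R _ '' (maximalIdeal R : Set R) ∪ c '' J) := by
  classical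
  have : Algebra.FinitePresentation R A := Algebra.FinitePresentation.of_finiteType.1 inferInstance
  let k := ResidueField R
  let K := p.ResidueField
  have : Algebra.EssFiniteType R K := Algebra.EssFiniteType.comp R A K
  have : Algebra.EssFiniteType k K := Algebra.EssFiniteType.of_comp R k K
  obtain ⟨t, ht, hts⟩ := exists_separating_basis k K
  -- lifts of the separating family
  have hfrac : ∀ x : K, ∃ a s : A, s ∉ p ∧ x * algebraMap A K s = algebraMap A K a := fun x => by
    obtain ⟨⟨a, s⟩, rfl⟩ := IsLocalization.mk'_surjective (nonZeroDivisors (A ⧸ p)) x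
    obtain ⟨a, rfl⟩ := Ideal.Quotient.mk_surjective a
    obtain ⟨s', hs'⟩ := Ideal.Quotient.mk_surjective (s : A ⧸ p)
    refine ⟨a, s', fun h => nonZeroDivisors.ne_zero s.2 ?_, ?_⟩
    · rw [← hs', Ideal.Quotient.eq_zero_iff_mem]; exact h
    · show IsLocalization.mk' K _ s * algebraMap (A ⧸ p) K (Ideal.Quotient.mk p s') = algebraMap (A ⧸ p) K (Ideal.Quotient.mk p a)
      rw [hs', IsLocalization.mk'_spec]
  choose num den hden hnum using hfrac
  obtain ⟨g₀, hg₀, hsm⟩ := Algebra.IsSmoothAt.exists_notMem_smooth R p
  let g := g₀ * ∏ x ∈ t, den x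
  have hg : g ∉ p := by
    refine fun h => (Ideal.IsPrime.mem_or_mem ‹_› h).elim hg₀ fun h => ?_
    obtain ⟨x, -, hx⟩ := Ideal.IsPrime.prod_mem_iff.1 h
    exact hden x hx
  let B := Localization.Away g
  have : Algebra.Smooth R B := by
    rw [← Algebra.basicOpen_subset_smoothLocus_iff_smooth] at hsm ⊢
    exact fun x hx => hsm fun h => hx (Ideal.mul_mem_right _ _ h)
  let q := p.map (algebraMap A B)
  have hdisj : Disjoint (Submonoid.powers g : Set A) p := by
    rw [Set.disjoint_left]
    rintro _ ⟨m, rfl⟩ h
    exact hg (Ideal.IsPrime.mem_of_pow_mem ‹_› m h)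
  have hqp : q.IsPrime := IsLocalization.isPrime_of_isPrime_disjoint (Submonoid.powers g) B p ‹_› hdisj
  have hqc : q.comap (algebraMap A B) = p :=
    IsLocalization.comap_map_of_isPrime_disjoint (Submonoid.powers g) B ‹_› hdisj
  let ρ : K →ₐ[A] q.ResidueField := Ideal.ResidueField.mapₐ p q (Algebra.ofId A B) hqc.symm
  have hρ : Function.Bijective ρ :=
    (RingHom.surjectiveOnStalks_of_isLocalization (Submonoid.powers g) B).residueFieldMap_bijective _ _ _
  let e : K ≃ₐ[A] q.ResidueField := AlgEquiv.ofBijective ρ hρ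
  letI : Algebra k q.ResidueField := (e.toRingHom.comp (algebraMap k K)).toAlgebra
  have : IsScalarTower R k q.ResidueField := IsScalarTower.of_algebraMap_eq fun r => by
    show algebraMap R q.ResidueField r = e (algebraMap k K (algebraMap R k r))
    rw [← IsScalarTower.algebraMap_apply R k K, IsScalarTower.algebraMap_apply R A K, e.commutes,
      ← IsScalarTower.algebraMap_apply R A q.ResidueField]
  let ek : K ≃ₐ[k] q.ResidueField := AlgEquiv.ofRingEquiv (f := e.toRingEquiv) fun x => rfl
  -- lifts in B
  have hlift : ∀ x ∈ t, ∃ b : B, algebraMap B q.ResidueField b = e x := fun x hx => by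
    have hu : IsUnit (algebraMap A B (den x)) :=
      isUnit_of_dvd_unit (map_dvd _ ((Finset.dvd_prod_of_mem den hx).mul_left g₀))
        (IsLocalization.Away.algebraMap_isUnit g)
    obtain ⟨v, hv⟩ := hu.exists_left_inv
    refine ⟨algebraMap A B (num x) * v, ?_⟩
    rw [map_mul, ← IsScalarTower.algebraMap_apply A B, ← e.commutes, ← hnum, map_mul, e.commutes,
      IsScalarTower.algebraMap_apply A B, mul_assoc, ← map_mul, mul_comm _ v, hv, map_one, mul_one]
  choose lift hlift using hlift
  let G : Set B := Set.range fun x : t => lift x.1 x.2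
  let C : Set B := algebraMap A B '' (p : Set A) ∪ G
  have himg : algebraMap B q.ResidueField '' G = ek.toAlgHom '' (t : Set K) := by
    ext y; constructor
    · rintro ⟨_, ⟨⟨x, hx⟩, rfl⟩, rfl⟩; exact ⟨x, hx, (hlift x hx).symm⟩
    · rintro ⟨x, hx, rfl⟩; exact ⟨_, ⟨⟨x, hx⟩, rfl⟩, hlift x hx⟩
  have hdet : ∀ D : Derivation R B q.ResidueField, (∀ c ∈ C, D c = 0) → D = 0 := by
    intro D hD
    refine derivation_eq_zero k IsLocalRing.residue_surjective q G ?_ D ?_ fun c hc => hD c (Or.inr hc)
    · rw [himg, ← IntermediateField.adjoin_map]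
      haveI := hts
      exact Algebra.IsSeparable.of_equiv_equiv
        ((IntermediateField.adjoin k (t : Set K)).equivMap ek.toAlgHom).toRingEquiv ek.toRingEquiv
        (RingHom.ext fun x => rfl)
    · intro x hx
      obtain ⟨⟨a, s⟩, has⟩ := IsLocalization.surj (Submonoid.powers g) x
      have ha : a ∈ p := by
        rw [← hqc, Ideal.mem_comap]
        show algebraMap A B a ∈ q
        rw [← has]
        exact Ideal.mul_mem_right _ _ hx
      have h1 := congrArg D has
      rw [D.leibniz, hD _ (Or.inl ⟨a, ha, rfl⟩)] at h1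
      have hx0 : x • D (algebraMap A B s) = 0 := by
        rw [Algebra.smul_def, Ideal.algebraMap_residueField_eq_zero.2 hx, zero_mul]
      rw [hx0, zero_add] at h1
      exact (IsLocalization.map_units B s).smul_eq_zero.mp h1
  obtain ⟨n, _, c, b, hcC, hbq, het⟩ := Groth.SmoothSlice.exists_etale_coords (A := R) q C hdet
  let J : Set n := {i | c i ∈ algebraMap A B '' (p : Set A)}
  have ha : ∀ i : J, ∃ a ∈ p, algebraMap A B a = c i := fun i => i.2
  choose a hap hac using ha
  let L := Localization.Away b
  let P := MvPolynomial n R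
  let cL : n → L := fun i => algebraMap B L (c i)
  have hcL : ((algebraMap B L).comp (MvPolynomial.aeval (R := R) c).toRingHom) =
      (MvPolynomial.aeval (R := R) cL).toRingHom := by
    refine MvPolynomial.ringHom_ext (fun r => ?_) fun i => ?_
    · simp [← IsScalarTower.algebraMap_apply R B L]
    · simp [cL]
  rw [hcL] at het
  letI : Algebra P L := (MvPolynomial.aeval (R := R) cL).toRingHom.toAlgebra
  have : IsScalarTower R P L := IsScalarTower.of_algebraMap_eq fun x => ((MvPolynomial.aeval (R := R) cL).commutes x).symm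
  have : Algebra.Etale P L := het
  let qL := q.map (algebraMap B L)
  have hdisj' : Disjoint (Submonoid.powers b : Set B) q := by
    rw [Set.disjoint_left]
    rintro _ ⟨m, rfl⟩ h
    exact hbq (hqp.mem_of_pow_mem m h)
  have : qL.IsPrime := IsLocalization.isPrime_of_isPrime_disjoint (Submonoid.powers b) L q hqp hdisj'
  have hqLc : qL.comap (algebraMap B L) = q :=
    IsLocalization.comap_map_of_isPrime_disjoint (Submonoid.powers b) L hqp hdisj'
  let I : Ideal L := Ideal.span (algebraMap R L '' (maximalIdeal R : Set R) ∪ cL '' J)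
  have hmem : ∀ r : R, r ∈ maximalIdeal R → algebraMap R B r ∈ q := fun r hr => by
    rw [IsScalarTower.algebraMap_apply R A B]; exact Ideal.mem_map_of_mem _ (hp hr)
  have hIq : I ≤ qL := Ideal.span_le.2 (by
    rintro _ (⟨r, hr, rfl⟩ | ⟨i, hi, rfl⟩)
    · rw [IsScalarTower.algebraMap_apply R B L]; exact Ideal.mem_map_of_mem _ (hmem r hr)
    · obtain ⟨a, ha, hai⟩ := hi
      exact Ideal.mem_map_of_mem _ (hai ▸ Ideal.mem_map_of_mem _ ha))
  -- the coordinates outside `J` have algebraically independent images
  let Jc := {i : n // i ∉ J}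
  let y : Jc → q.ResidueField := fun i => algebraMap B q.ResidueField (c i)
  have hcinj : Function.Injective c := by
    intro i j hij
    by_contra hne
    have hnz : (MvPolynomial.X i - MvPolynomial.X j : P) ∈ nonZeroDivisors P :=
      mem_nonZeroDivisors_of_ne_zero (sub_ne_zero.2 fun h => hne (MvPolynomial.X_injective h))
    have hreg := Module.Flat.isSMulRegular_of_nonZeroDivisors (M := L) hnz
    have : (1 : L) = 0 := hreg (show (MvPolynomial.X i - MvPolynomial.X j : P) • (1 : L) = _ • (0 : L) by
      rw [smul_zero, Algebra.smul_def, mul_one]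
      show (MvPolynomial.aeval (R := R) cL) (MvPolynomial.X i - MvPolynomial.X j) = 0
      simp [cL, hij])
    exact (inferInstance : qL.IsPrime).ne_top ((Ideal.eq_top_iff_one _).2 (this ▸ qL.zero_mem))
  have hy : AlgebraicIndependent k y := by
    have hGc : ∀ i : Jc, ∃ x : t, lift x.1 x.2 = c i := fun i => (hcC i).resolve_left i.2
    choose tt htt using hGc
    have htinj : Function.Injective tt := fun i j hij => Subtype.ext (hcinj (by rw [← htt, ← htt, hij]))
    have e1 := (ht.comp tt htinj).map' (f := ek.toAlgHom) ek.injective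
    have e2 : y = ek.toAlgHom ∘ (Subtype.val ∘ tt) := funext fun i => by
      show algebraMap B q.ResidueField (c i) = e (tt i : K)
      rw [← htt]
      exact hlift _ _
    rw [e2]
    exact e1
  have hunder : (qL.under P).map (algebraMap P L) ≤ I := by
    rw [Ideal.map_le_iff_le_comap]
    -- the prime below is generated by `m` and the coordinates in `J`
    intro f hf
    let σ : n → MvPolynomial Jc R := fun i => if hi : i ∈ J then 0 else MvPolynomial.X ⟨i, hi⟩
    let f' : MvPolynomial Jc R := MvPolynomial.aeval σ f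
    let z : Jc → L := fun i => cL i
    have hmodI : MvPolynomial.aeval cL f - MvPolynomial.aeval z f' ∈ I := by
      rw [← Ideal.Quotient.eq]
      have key : (Ideal.Quotient.mkₐ R I).comp (MvPolynomial.aeval cL) =
          (Ideal.Quotient.mkₐ R I).comp ((MvPolynomial.aeval z).comp (MvPolynomial.aeval σ)) := by
        refine MvPolynomial.algHom_ext fun i => ?_
        by_cases hi : i ∈ J
        · simp only [AlgHom.comp_apply, MvPolynomial.aeval_X, σ, dif_pos hi, map_zero]
          exact Ideal.Quotient.eq_zero_iff_mem.2 (Ideal.subset_span (Or.inr ⟨i, hi, rfl⟩))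
        · simp [σ, hi, z]
      exact DFunLike.congr_fun key f
    have hf' : MvPolynomial.aeval z f' ∈ qL := by
      have h2 := Ideal.sub_mem qL (show MvPolynomial.aeval cL f ∈ qL from hf) (hIq hmodI)
      simpa using h2
    have hcoeff : ∀ m, f'.coeff m ∈ maximalIdeal R := by
      have hb : MvPolynomial.aeval (fun i : Jc => c i) f' ∈ q := by
        rw [← hqLc, Ideal.mem_comap]
        have : algebraMap B L (MvPolynomial.aeval (fun i : Jc => c i) f') = MvPolynomial.aeval z f' := by
          rw [← IsScalarTower.coe_toAlgHom' R B L]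
          exact MvPolynomial.comp_aeval_apply _ _ f'
        rw [this]; exact hf'
      have h0 : MvPolynomial.aeval y (MvPolynomial.map (algebraMap R k) f') = 0 := by
        rw [MvPolynomial.aeval_map_algebraMap]
        rw [← Ideal.algebraMap_residueField_eq_zero (I := q), ← MvPolynomial.aeval_algebraMap_apply] at hb
        exact hb
      have := hy.eq_zero_of_aeval_eq_zero _ h0
      intro m
      rw [← Ideal.Quotient.eq_zero_iff_mem]
      have h := congrArg (MvPolynomial.coeff m) this
      rw [MvPolynomial.coeff_map, MvPolynomial.coeff_zero] at h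
      exact h
    have hz : MvPolynomial.aeval z f' ∈ I := by
      rw [MvPolynomial.aeval_def, MvPolynomial.eval₂_eq]
      exact I.sum_mem fun m _ => I.mul_mem_right _ (Ideal.subset_span (Or.inl ⟨_, hcoeff m, rfl⟩))
    show MvPolynomial.aeval cL f ∈ I
    simpa using add_mem hmodI hz
  -- the prime is `I` near `q`
  letI := Localization.AtPrime.algebraOfLiesOver (qL.under P) qL
  have hunr : (qL.under P).map (algebraMap P (Localization.AtPrime qL)) = maximalIdeal _ :=
    ((Algebra.isUnramifiedAt_iff_map_eq P (qL.under P) qL).1 inferInstance).2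
  have hloc : ∀ x ∈ qL, ∃ s ∉ qL, s * x ∈ I := by
    intro x hx
    have h1 : algebraMap L (Localization.AtPrime qL) x ∈ I.map (algebraMap L (Localization.AtPrime qL)) := by
      have h2 : algebraMap L (Localization.AtPrime qL) x ∈ maximalIdeal _ :=
        (IsLocalization.AtPrime.to_map_mem_maximal_iff _ qL _).2 hx
      rw [← hunr, IsScalarTower.algebraMap_eq P L (Localization.AtPrime qL), ← Ideal.map_map] at h2
      exact Ideal.map_mono hunder h2
    obtain ⟨⟨⟨i, hi⟩, ⟨s, hs⟩⟩, he⟩ := (IsLocalization.mem_map_algebraMap_iff qL.primeCompl _).1 h1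
    rw [← map_mul] at he
    obtain ⟨⟨u, hu⟩, hu'⟩ := (IsLocalization.eq_iff_exists qL.primeCompl _).1 he
    refine ⟨u * s, fun h => ((inferInstance : qL.IsPrime).mem_or_mem h).elim hu hs, ?_⟩
    rw [mul_assoc, mul_comm s x, hu']
    exact I.mul_mem_left _ hi
  have : IsNoetherianRing A := Algebra.FiniteType.isNoetherianRing R A
  obtain ⟨S, hS⟩ := (IsNoetherian.noetherian p : p.FG)
  have hSp : ∀ x ∈ S, algebraMap A L x ∈ qL := fun x hx => by
    rw [IsScalarTower.algebraMap_apply A B L]
    exact Ideal.mem_map_of_mem _ (Ideal.mem_map_of_mem _ (hS ▸ Ideal.subset_span hx))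
  choose sx hsx hsxI using fun x : S => hloc _ (hSp x.1 x.2)
  let w := ∏ x : S, sx x
  have hw : w ∉ qL := fun h => by
    obtain ⟨x, -, hx⟩ := Ideal.IsPrime.prod_mem_iff.1 h
    exact hsx x hx
  -- write everything as a localisation of `A`
  obtain ⟨⟨w', sw⟩, hw'⟩ := IsLocalization.surj (Submonoid.powers b) w
  have hw'q : w' ∉ q := fun h => by
    apply hw
    have : algebraMap B L w' ∈ qL := Ideal.mem_map_of_mem _ h
    rw [← hw'] at this
    exact (Ideal.IsPrime.mem_or_mem ‹_› this).resolve_right fun h' =>
      Ideal.IsPrime.ne_top ‹qL.IsPrime› (Ideal.eq_top_of_isUnit_mem _ h' (IsLocalization.map_units L sw))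
  obtain ⟨⟨h₁, sh⟩, hh₁⟩ := IsLocalization.surj (Submonoid.powers g) (b * w')
  have hh₁p : h₁ ∉ p := fun h => by
    have h2 : algebraMap A B h₁ ∈ q := Ideal.mem_map_of_mem _ h
    rw [← hh₁] at h2
    rcases hqp.mem_or_mem h2 with h3 | h3
    · exact (hqp.mem_or_mem h3).elim hbq hw'q
    · exact hqp.ne_top (Ideal.eq_top_of_isUnit_mem _ h3 (IsLocalization.map_units B sh))
  obtain ⟨z, hz⟩ : ∃ z : L, z = algebraMap B L w' := ⟨_, rfl⟩
  have hzz : IsLocalization.Away (algebraMap B L w') (Localization.Away z) := hz ▸ (inferInstance : IsLocalization.Away z (Localization.Away z))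
  have hbw : IsLocalization.Away (b * w') (Localization.Away z) := IsLocalization.Away.mul' L (Localization.Away z) b w'
  have hassoc : Associated (algebraMap A B h₁) (b * w') := by
    rw [← hh₁]
    exact associated_mul_unit_left _ _ (IsLocalization.map_units B sh)
  have : IsLocalization.Away (g * h₁) (Localization.Away z) :=
    IsLocalization.Away.mul_of_associated (S := B) (T := (Localization.Away z)) g h₁ (b * w') hassoc
  letI iz : CommRing (Localization.Away z) := inferInstance
  have hu : IsUnit (algebraMap L (Localization.Away z) w) := by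
    have h2 : IsUnit (algebraMap L (Localization.Away z) z) := IsLocalization.Away.algebraMap_isUnit z
    exact isUnit_of_dvd_unit (map_dvd _ (Dvd.intro _ (hw'.trans hz.symm))) h2
  have hall : ∀ x ∈ p, w * algebraMap A L x ∈ I := by
    intro x hx
    rw [← hS] at hx
    induction hx using Submodule.span_induction with
    | mem x hx =>
      obtain ⟨d, hd⟩ := Finset.dvd_prod_of_mem sx (Finset.mem_univ ⟨x, hx⟩)
      show (∏ x : S, sx x) * _ ∈ I
      rw [hd, mul_comm (sx _) d, mul_assoc]
      exact I.mul_mem_left _ (hsxI ⟨x, hx⟩)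
    | zero => simp
    | add x y _ _ hx hy => rw [map_add, mul_add]; exact I.add_mem hx hy
    | smul r x _ hx => rw [smul_eq_mul, map_mul, mul_left_comm]; exact I.mul_mem_left _ hx
  refine assemble_away p (g * h₁) (L := L) (Localization.Away z) z cL J a
    (fun h => (Ideal.IsPrime.mem_or_mem ‹_› h).elim hg hh₁p) het hap (fun i => ?_) w hu hall
  show _ = algebraMap B L (c i)
  rw [← hac, ← IsScalarTower.algebraMap_apply A B L]

end Groth.NeronArea.SepCoord
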