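import Groth.Agent.NeronArea.TorsionSections
import Mathlib.Algebra.Group.ForwardDiff
import Mathlib.RingTheory.DiscreteValuationRing.Basic
import Mathlib.RingTheory.Filtration

/-!
# Torsion in the kernel of reduction for small ramification

For a commutative group scheme over a discrete valuation ring `R` in which `p` is not in the
`(p-1)`-st power of the maximal ideal, no nontrivial `p`-torsion section reduces to the unit.
The proof expands a function on the group along the cube algebra spanned by `π^s` on each edge.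
-/

set_option autoImplicit false
set_option backward.isDefEq.respectTransparency false
set_option linter.style.haveILetI false

universe u

open CategoryTheory AlgebraicGeometry MonoidalCategory CartesianMonoidalCategory
open scoped MonObj

namespace Groth.NeronArea.SmallRamification

open Groth.SGA7.TorsionRigid

section Cube

variable {R : Type u} [CommRing R]

/-- The functions on the `j`-cube generated by `t` times the coordinate functions. -/
def Cube (t : R) (j : ℕ) : Subalgebra R (Finset (Fin j) → R) :=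
  Algebra.adjoin R (Set.range fun i : Fin j => fun S : Finset (Fin j) => if i ∈ S then t else 0)

/-- The alternating sum over the vertices of the cube is divisible by `t ^ j`. -/
theorem dvd_alternating_sum (t : R) (j : ℕ) {a : Finset (Fin j) → R} (ha : a ∈ Cube t j) :
    t ^ j ∣ ∑ S : Finset (Fin j), (-1) ^ S.card * a S := by
  classical
  have h : a ∈ Submodule.span R (Submonoid.closure
      (Set.range fun i : Fin j => fun S : Finset (Fin j) => if i ∈ S then t else 0) : Set (Finset (Fin j) → R)) := by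
    rw [← Algebra.adjoin_eq_span]; exact ha
  clear ha
  induction h using Submodule.span_induction with
  | zero => simp
  | add x y _ _ hx hy =>
    simp only [Pi.add_apply, mul_add, Finset.sum_add_distrib]
    exact dvd_add hx hy
  | smul r x _ hx =>
    simp only [Pi.smul_apply, smul_eq_mul, mul_left_comm _ r, ← Finset.mul_sum]
    exact dvd_mul_of_dvd_right hx _
  | mem x hx =>
    obtain ⟨f, g, hfg, rfl⟩ : ∃ f g : Fin j → R, (∀ i, t ∣ g i - f i) ∧
        x = fun S : Finset (Fin j) => (∏ i ∈ S, f i) * ∏ i ∈ Finset.univ \ S, g i := by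
      suffices H : ∃ f g : Fin j → R, (∀ i, (f i = 1 ∧ g i = 1) ∨ (t ∣ f i ∧ g i = 0)) ∧
          x = fun S : Finset (Fin j) => (∏ i ∈ S, f i) * ∏ i ∈ Finset.univ \ S, g i by
        obtain ⟨f, g, h1, h2⟩ := H
        refine ⟨f, g, fun i => ?_, h2⟩
        rcases h1 i with ⟨e1, e2⟩ | ⟨e1, e2⟩
        · rw [e1, e2, sub_self]; exact dvd_zero t
        · rw [e2, zero_sub]; exact e1.neg_right
      induction hx using Submonoid.closure_induction with
      | one => exact ⟨fun _ => 1, fun _ => 1, fun _ => Or.inl ⟨rfl, rfl⟩, by funext S; simp⟩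
      | mem x hx =>
        obtain ⟨i, rfl⟩ := hx
        refine ⟨fun k => if k = i then t else 1, fun k => if k = i then 0 else 1, fun k => ?_, ?_⟩
        · by_cases hk : k = i <;> simp [hk]
        · funext S
          by_cases hi : i ∈ S
          · have : ∏ k ∈ Finset.univ \ S, (if k = i then (0 : R) else 1) = 1 := by
              refine Finset.prod_eq_one fun k hk => if_neg ?_
              rintro rfl
              exact (Finset.mem_sdiff.1 hk).2 hi
            simp [hi, this]
          · have : ∏ k ∈ Finset.univ \ S, (if k = i then (0 : R) else 1) = 0 :=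
              Finset.prod_eq_zero (Finset.mem_sdiff.2 ⟨Finset.mem_univ i, hi⟩) (if_pos rfl)
            simp [hi, this]
      | mul x y _ _ hx hy =>
        obtain ⟨f, g, h1, rfl⟩ := hx
        obtain ⟨f', g', h1', rfl⟩ := hy
        refine ⟨f * f', g * g', fun i => ?_, ?_⟩
        · simp only [Pi.mul_apply]
          rcases h1 i with ⟨e1, e2⟩ | ⟨e1, e2⟩
          · rw [e1, e2, one_mul, one_mul]; exact h1' i
          · exact Or.inr ⟨e1.mul_right _, by rw [e2, zero_mul]⟩
        · funext S
          simp only [Pi.mul_apply, Finset.prod_mul_distrib]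
          ring
    have key : ∑ S : Finset (Fin j), (-1) ^ S.card * ((∏ i ∈ S, f i) * ∏ i ∈ Finset.univ \ S, g i) =
        ∏ i : Fin j, (g i - f i) := by
      rw [show (∏ i : Fin j, (g i - f i)) = ∏ i : Fin j, (-f i + g i) from
        Finset.prod_congr rfl fun i _ => by ring, Finset.prod_add, Finset.powerset_univ]
      refine Finset.sum_congr rfl fun S _ => ?_
      rw [Finset.prod_neg]
      ring
    rw [key]
    calc t ^ j = ∏ _i : Fin j, t := by simp
      _ ∣ _ := Finset.prod_dvd_prod_of_dvd _ _ fun i _ => hfg i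

end Cube

variable {R : Type u} [CommRing R] {C : Type u} [CommRing C] [Algebra R C]
  {B : Over (Spec (CommRingCat.of R))} [GrpObj B] [IsCommMonObj B] (p : tS R C ⟶ B) [IsOpenImmersion p.left]

/-- Finite differences of a function along the powers of a section congruent to the unit modulo `t`. -/
theorem dvd_fwdDiff (ψ : ℕ → (C →ₐ[R] R)) (X : tS R R ⟶ B) (hψ : ∀ k, sm (ψ k) ≫ p = X ^ k)
    (t : R) (ht : ∀ c, t ∣ ψ 1 c - ψ 0 c) (j : ℕ) (c : C) :
    t ^ j ∣ (fwdDiff (1 : ℕ))^[j] (fun k => ψ k c) 0 := by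
  classical
  let D := Cube t j
  let ev : Finset (Fin j) → (D →ₐ[R] R) := fun S => (Pi.evalAlgHom R (fun _ => R) S).comp D.val
  have hmem : ∀ (i : Fin j) (d : C),
      (fun S : Finset (Fin j) => if i ∈ S then ψ 1 d else ψ 0 d) ∈ D := by
    intro i d
    obtain ⟨q, hq⟩ := ht d
    have : (fun S : Finset (Fin j) => if i ∈ S then ψ 1 d else ψ 0 d) =
        algebraMap R _ (ψ 0 d) + q • (fun S : Finset (Fin j) => if i ∈ S then t else 0) := by
      funext S
      by_cases hi : i ∈ S
      · simp only [Pi.add_apply, Pi.smul_apply, Pi.algebraMap_apply, if_pos hi, smul_eq_mul, Algebra.algebraMap_self, RingHom.id_apply]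
        linear_combination hq
      · simp [if_neg hi]
    rw [this]
    exact add_mem (algebraMap_mem D _) (Subalgebra.smul_mem D (Algebra.subset_adjoin ⟨i, rfl⟩) q)
  let χ : Fin j → (C →ₐ[R] D) := fun i => AlgHom.codRestrict
    (Pi.algHom R (fun _ : Finset (Fin j) => R) fun S => if i ∈ S then ψ 1 else ψ 0) D fun d => by
      convert hmem i d using 1
      funext S
      by_cases hi : i ∈ S <;> simp [hi]
  let Y : tS R D ⟶ B := ∏ i, (sm (χ i) ≫ p)
  have hev : ∀ S, sm (ev S) ≫ Y = X ^ S.card := by
    intro S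
    let Φ : (tS R D ⟶ B) →* (tS R R ⟶ B) :=
      { toFun := fun z => sm (ev S) ≫ z
        map_one' := MonObj.comp_one _
        map_mul' := fun a b => MonObj.comp_mul _ _ _ }
    show Φ Y = _
    rw [map_prod]
    have h1 : ∀ i, Φ (sm (χ i) ≫ p) = if i ∈ S then X else 1 := by
      intro i
      show sm (ev S) ≫ sm (χ i) ≫ p = _
      rw [← Category.assoc, sm_comp]
      by_cases hi : i ∈ S
      · rw [show (ev S).comp (χ i) = ψ 1 from AlgHom.ext fun d => by simp [ev, χ, hi], hψ, pow_one, if_pos hi]
      · rw [show (ev S).comp (χ i) = ψ 0 from AlgHom.ext fun d => by simp [ev, χ, hi], hψ, pow_zero, if_neg hi]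
    rw [Finset.prod_congr rfl fun i _ => h1 i, Finset.prod_ite_mem, Finset.univ_inter, Finset.prod_const]
  have hrange : Set.range Y.left.base ⊆ Set.range p.left.base := by
    rintro _ ⟨P, rfl⟩
    have hprod : ∏ S : Finset (Fin j), RingHom.ker (ev S).toRingHom ≤ PrimeSpectrum.asIdeal (R := D) P := by
      refine le_trans ?_ bot_le
      refine Ideal.prod_le_inf.trans fun d hd => ?_
      rw [Submodule.mem_finsetInf] at hd
      exact Ideal.mem_bot.2 (Subtype.ext (funext fun S => hd S (Finset.mem_univ S)))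
    obtain ⟨S, -, hS⟩ := ((PrimeSpectrum.isPrime (R := D) P).prod_le).1 hprod
    have hsurj : Function.Surjective (ev S) := fun r => ⟨algebraMap R D r, (ev S).commutes r⟩
    obtain ⟨Q, hQ⟩ : P ∈ Set.range (PrimeSpectrum.comap (ev S).toRingHom) := by
      rw [range_comap_of_surjective _ _ hsurj]
      exact hS
    have h2 : Y.left.base P = (X ^ S.card).left.base Q := by
      rw [← hev S]
      show _ = Y.left.base ((sm (ev S)).left.base Q)
      exact congrArg _ hQ.symm
    rw [h2, ← hψ]
    exact ⟨(sm (ψ S.card)).left.base Q, rfl⟩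
  obtain ⟨φ, hφ⟩ := exists_factor p Y hrange
  have hval : ∀ S : Finset (Fin j), ψ S.card c = (φ c : Finset (Fin j) → R) S := by
    intro S
    haveI : Mono p.left := inferInstance
    have : (ev S).comp φ = ψ S.card := pt_injective p (by rw [← sm_comp, Category.assoc, hφ, hev, hψ])
    exact (congr($this c)).symm
  have h := dvd_alternating_sum t j (φ c).2
  simp only [← hval] at h
  rw [fwdDiff_iter_eq_sum_shift]
  rw [← Finset.powerset_univ, Finset.sum_powerset_apply_card (fun k => (-1 : R) ^ k * ψ k c), Finset.card_univ,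
    Fintype.card_fin] at h
  have h' := h.mul_left ((-1 : R) ^ j)
  rw [Finset.mul_sum] at h'
  convert h' using 1
  refine Finset.sum_congr rfl fun k hk => ?_
  have hkj : k ≤ j := Nat.lt_succ_iff.1 (Finset.mem_range.1 hk)
  obtain ⟨l, rfl⟩ := Nat.exists_eq_add_of_le hkj
  have h11 : ((-1 : R) ^ k) * (-1) ^ k = 1 := by rw [← mul_pow]; simp
  simp only [Nat.add_sub_cancel_left, zero_add, smul_eq_mul, mul_one, nsmul_eq_mul, zsmul_eq_mul]
  push_cast
  rw [pow_add]
  linear_combination (-(((k + l).choose k : R) * (-1) ^ l * ψ k c)) * h11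

/-- A `q`-th root of unity section congruent to the unit is trivial when `q` has small valuation. -/
theorem eq_of_pow_eq_one [IsDomain R] [IsDiscreteValuationRing R] (q : ℕ) (hq : q.Prime)
    (hv : (q : R) ∉ IsLocalRing.maximalIdeal R ^ (q - 1)) (ψ : ℕ → (C →ₐ[R] R)) (X : tS R R ⟶ B)
    (hψ : ∀ k, sm (ψ k) ≫ p = X ^ k) (hX : X ^ q = 1)
    (h1 : ∀ c, ψ 1 c - ψ 0 c ∈ IsLocalRing.maximalIdeal R) : ψ 1 = ψ 0 := by
  obtain ⟨π, hπ⟩ := IsDiscreteValuationRing.exists_irreducible R
  have hq0 : (q : R) ≠ 0 := fun h => hv (h ▸ Ideal.zero_mem _)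
  obtain ⟨e, w, hew⟩ := IsDiscreteValuationRing.eq_unit_mul_pow_irreducible hq0 hπ
  have he : e < q - 1 := by
    by_contra h
    refine hv ?_
    rw [hπ.maximalIdeal_eq, Ideal.span_singleton_pow, Ideal.mem_span_singleton, hew]
    exact (pow_dvd_pow π (le_of_not_gt h)).mul_left _
  have key : ∀ s, 1 ≤ s → (∀ c, π ^ s ∣ ψ 1 c - ψ 0 c) → ∀ c, π ^ (s + 1) ∣ ψ 1 c - ψ 0 c := by
    intro s hs h c
    have hq' : ψ q = ψ 0 := pt_injective p (by rw [hψ, hψ, hX, pow_zero])
    have hsum := shift_eq_sum_fwdDiff_iter (1 : ℕ) (fun k => ψ k c) q 0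
    simp only [zero_add, smul_eq_mul, mul_one, hq', nsmul_eq_mul] at hsum
    obtain ⟨n, rfl⟩ : ∃ n, q = n + 1 := ⟨q - 1, (Nat.succ_pred hq.pos.ne').symm⟩
    rw [Finset.sum_range_succ', Finset.sum_range_succ'] at hsum
    obtain ⟨m, rfl⟩ : ∃ m, n = m + 1 := ⟨n - 1, by have := hq.two_le; omega⟩
    simp only [Function.iterate_zero, id_eq, Function.iterate_one, Nat.choose_zero_right, Nat.cast_one, one_mul,
      zero_add, Nat.choose_one_right, fwdDiff] at hsum
    have hS : π ^ (e + s + 1) ∣ ∑ k ∈ Finset.range (m + 1), ((m + 1 + 1).choose (k + 1 + 1) : R) *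
        (fwdDiff (1 : ℕ))^[k + 1 + 1] (fun k => ψ k c) 0 := by
      refine Finset.dvd_sum fun k hk => ?_
      have hd := dvd_fwdDiff p ψ X hψ (π ^ s) h (k + 1 + 1) c
      rw [← pow_mul] at hd
      rcases Nat.lt_succ_iff_lt_or_eq.1 (Finset.mem_range.1 hk) with hlt | hkm
      · have h2 : ((m + 1 + 1 : ℕ) : R) ∣ ((m + 1 + 1).choose (k + 1 + 1) : R) :=
          Nat.cast_dvd_cast (hq.dvd_choose_self (by omega) (by omega))
        rw [hew] at h2
        have h3 : π ^ e ∣ ((m + 1 + 1).choose (k + 1 + 1) : R) := (dvd_mul_left _ _).trans h2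
        refine dvd_trans (pow_dvd_pow π ?_) ((pow_add π e _).symm ▸ mul_dvd_mul h3 hd)
        nlinarith
      · subst k
        refine dvd_mul_of_dvd_right (dvd_trans (pow_dvd_pow π ?_) hd) _
        have he' : e ≤ m := by omega
        nlinarith [Nat.mul_le_mul_left (m + 1) hs, he']
    have h0 : ((m + 1 + 1 : ℕ) : R) * (ψ 1 c - ψ 0 c) =
        -∑ k ∈ Finset.range (m + 1), ((m + 1 + 1).choose (k + 1 + 1) : R) *
          (fwdDiff (1 : ℕ))^[k + 1 + 1] (fun k => ψ k c) 0 := by
      linear_combination -hsum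
    have h4 : π ^ e * π ^ (s + 1) ∣ π ^ e * (ψ 1 c - ψ 0 c) := by
      rw [← pow_add, ← (w.isUnit).dvd_mul_left (u := (w : R)), ← mul_assoc, ← hew, h0, ← add_assoc]
      exact hS.neg_right
    exact (mul_dvd_mul_iff_left (pow_ne_zero e hπ.ne_zero)).1 h4
  have hall : ∀ s c, π ^ (s + 1) ∣ ψ 1 c - ψ 0 c := by
    intro s
    induction s with
    | zero =>
      intro c
      rw [pow_one]
      have := h1 c
      rwa [hπ.maximalIdeal_eq, Ideal.mem_span_singleton] at this
    | succ s ih => exact key (s + 1) (Nat.succ_le_succ (Nat.zero_le s)) ih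
  refine AlgHom.ext fun c => sub_eq_zero.1 ?_
  by_contra hne
  obtain ⟨n, u, hnu⟩ := IsDiscreteValuationRing.eq_unit_mul_pow_irreducible hne hπ
  have := hall n c
  rw [hnu, (u.isUnit).dvd_mul_left, pow_dvd_pow_iff hπ.ne_zero hπ.not_isUnit] at this
  omega

end Groth.NeronArea.SmallRamification
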