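import Groth.Agent.NeronArea.SmallRamification

/-! Torsion sections in the kernel of reduction for small ramification. -/

set_option autoImplicit false
set_option backward.isDefEq.respectTransparency false
set_option linter.style.haveILetI false

universe u

open CategoryTheory AlgebraicGeometry MonoidalCategory CartesianMonoidalCategory
open scoped MonObj

namespace Groth.NeronArea.SmallRamification

open Groth.SGA7.TorsionRigid Groth.NeronArea.TorsionSections

variable {R : Type u} [CommRing R] [IsDomain R] [IsDiscreteValuationRing R]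
  (G : Over (Spec (CommRingCat.of R))) [GrpObj G] [IsCommMonObj G] [LocallyOfFiniteType G.hom]
  (q : ℕ) [Fact q.Prime] [CharP (IsLocalRing.ResidueField R) q]

/-- A `q`-torsion section reducing to the unit is trivial. -/
theorem eq_one_of_pow_prime (hv : (q : R) ∉ IsLocalRing.maximalIdeal R ^ (q - 1))
    (y : Over.mk (𝟙 (Spec (CommRingCat.of R))) ⟶ G) (hy : y ^ q = 1) (hres : resMap R ≫ y = 1) : y = 1 := by
  have h0 : Spec.map (CommRingCat.ofHom (algebraMap R R)) = 𝟙 (Spec (CommRingCat.of R)) := Spec.map_id _
  let i : tS R R ⟶ Over.mk (𝟙 (Spec (CommRingCat.of R))) :=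
    Over.homMk (𝟙 (Spec (CommRingCat.of R))) ((Category.id_comp _).trans h0.symm)
  let j : Over.mk (𝟙 (Spec (CommRingCat.of R))) ⟶ tS R R :=
    Over.homMk (𝟙 (Spec (CommRingCat.of R))) ((Category.id_comp _).trans h0)
  let k : tS R (IsLocalRing.ResidueField R) ⟶ resPt R :=
    Over.homMk (𝟙 (Spec (CommRingCat.of (IsLocalRing.ResidueField R))))
      (by
        show 𝟙 _ ≫ Spec.map _ = Spec.map _
        rw [Category.id_comp, IsLocalRing.ResidueField.algebraMap_eq])
  have hk : sm (IsScalarTower.toAlgHom R R (IsLocalRing.ResidueField R)) ≫ i = k ≫ resMap R := by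
    apply Over.OverMorphism.ext
    show Spec.map (CommRingCat.ofHom (IsScalarTower.toAlgHom R R (IsLocalRing.ResidueField R)).toRingHom) ≫
      𝟙 (Spec (CommRingCat.of R)) =
      𝟙 (Spec (CommRingCat.of (IsLocalRing.ResidueField R))) ≫ Spec.map (CommRingCat.ofHom (IsLocalRing.residue R))
    rw [Category.comp_id, Category.id_comp,
      show (IsScalarTower.toAlgHom R R (IsLocalRing.ResidueField R)).toRingHom = IsLocalRing.residue R from
        RingHom.ext fun z => (IsScalarTower.toAlgHom_apply R R (IsLocalRing.ResidueField R) z).trans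
          (RingHom.congr_fun (IsLocalRing.ResidueField.algebraMap_eq R) z)]
  let e₀ := ((1 : Over.mk (𝟙 (Spec (CommRingCat.of R))) ⟶ G)).left.base (IsLocalRing.closedPoint R)
  have hpt : ∀ n : ℕ, (y ^ n).left.base (IsLocalRing.closedPoint R) = e₀ := by
    intro n
    have h1 : resMap R ≫ y ^ n = resMap R ≫ (1 : Over.mk (𝟙 (Spec (CommRingCat.of R))) ⟶ G) := by
      rw [MonObj.comp_pow, hres, one_pow, MonObj.comp_one]
    have hc : Spec.map (CommRingCat.ofHom (IsLocalRing.residue R))
        (IsLocalRing.closedPoint (IsLocalRing.ResidueField R)) = IsLocalRing.closedPoint R :=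
      IsLocalRing.comap_closedPoint (IsLocalRing.residue R)
    have h2 := congr($(congrArg CommaMorphism.left h1) (IsLocalRing.closedPoint (IsLocalRing.ResidueField R)))
    have h3 : (y ^ n).left.base (Spec.map (CommRingCat.ofHom (IsLocalRing.residue R))
        (IsLocalRing.closedPoint (IsLocalRing.ResidueField R))) =
      ((1 : Over.mk (𝟙 (Spec (CommRingCat.of R))) ⟶ G)).left.base (Spec.map (CommRingCat.ofHom (IsLocalRing.residue R))
        (IsLocalRing.closedPoint (IsLocalRing.ResidueField R))) := h2
    rw [hc] at h3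
    exact h3
  obtain ⟨U, hU, hxU, -⟩ := exists_isAffineOpen_mem_and_subset (x := e₀) (U := ⊤) trivial
  let φ := Spec.preimage (hU.fromSpec ≫ G.hom)
  letI : Algebra R Γ(G.left, U) := φ.hom.toAlgebra
  let p : tS R Γ(G.left, U) ⟶ G := Over.homMk hU.fromSpec (Spec.map_preimage _).symm
  have : IsOpenImmersion p.left := inferInstanceAs (IsOpenImmersion hU.fromSpec)
  have hrange : ∀ n : ℕ, Set.range ((i ≫ y) ^ n).left.base ⊆ Set.range p.left.base := by
    rintro n _ ⟨z, rfl⟩
    rw [← MonObj.comp_pow]
    show (𝟙 _ ≫ (y ^ n).left).base z ∈ Set.range hU.fromSpec.base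
    rw [hU.range_fromSpec, Category.id_comp]
    have hq : z ⤳ IsLocalRing.closedPoint R :=
      (PrimeSpectrum.le_iff_specializes (R := R) _ _).mp (IsLocalRing.le_maximalIdeal z.isPrime.ne_top)
    refine (hq.map (y ^ n).left.continuous).mem_open U.2 ?_
    exact (hpt n).symm ▸ hxU
  choose ψ hψ using fun n => exists_factor p ((i ≫ y) ^ n) (hrange n)
  haveI : Mono p.left := inferInstance
  have hres' : (IsScalarTower.toAlgHom R R (IsLocalRing.ResidueField R)).comp (ψ 1) =
      (IsScalarTower.toAlgHom R R (IsLocalRing.ResidueField R)).comp (ψ 0) := by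
    apply pt_injective p
    rw [← sm_comp, ← sm_comp, Category.assoc, Category.assoc, hψ, hψ, pow_one, pow_zero, MonObj.comp_one,
      ← Category.assoc, hk, Category.assoc, hres, MonObj.comp_one]
  have h := eq_of_pow_eq_one p q (Fact.out) hv ψ (i ≫ y) hψ (by rw [← MonObj.comp_pow, hy, MonObj.comp_one])
    fun c => by
      have h1 := congr($hres' c)
      rw [← IsLocalRing.residue_eq_zero_iff, map_sub, sub_eq_zero]
      simpa [IsScalarTower.toAlgHom_apply, IsLocalRing.ResidueField.algebraMap_eq] using h1
  have hiy : i ≫ y = 1 := by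
    rw [← pow_one (i ≫ y), ← hψ, h, hψ, pow_zero]
  have hji : j ≫ i = 𝟙 _ := by
    apply Over.OverMorphism.ext
    exact Category.comp_id _
  rw [← Category.id_comp y, ← hji, Category.assoc, hiy, MonObj.comp_one]

/-- A torsion section reducing to the unit is trivial. -/
theorem eq_one_of_torsion (hv : (q : R) ∉ IsLocalRing.maximalIdeal R ^ (q - 1)) (n : ℕ) (hn : 0 < n)
    (x : Over.mk (𝟙 (Spec (CommRingCat.of R))) ⟶ G) (hx : x ^ n = 1) (hres : resMap R ≫ x = 1) : x = 1 := by
  induction n using Nat.strong_induction_on with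
  | _ n ih =>
    by_cases hdvd : q ∣ n
    · obtain ⟨m, rfl⟩ := hdvd
      have hm : 0 < m := pos_of_mul_pos_right hn (Nat.zero_le q)
      have h1 : x ^ m = 1 := eq_one_of_pow_prime G q hv (x ^ m) (by rw [← pow_mul, mul_comm, hx])
        (by rw [MonObj.comp_pow, hres, one_pow])
      exact ih m (lt_mul_of_one_lt_left hm (Fact.out : q.Prime).one_lt) hm h1
    · refine TorsionSections.eq_one G n ?_ x hx hres
      refine (IsLocalRing.residue_ne_zero_iff_isUnit _).1 ?_
      rw [map_natCast, Ne, CharP.cast_eq_zero_iff (IsLocalRing.ResidueField R) q]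
      exact hdvd

end Groth.NeronArea.SmallRamification
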