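import Groth.Agent.NeronArea.Desingularize
import Groth.Agent.NeronArea.StandardElement
import Groth.Agent.Ega4Algebra1.SmoothRegular
import Groth.Agent.Ega4Algebra1.RegularLocal
import Mathlib.RingTheory.Kaehler.Basic
import Mathlib.Algebra.TrivSqZeroExt.Basic
import Mathlib.RingTheory.DiscreteValuationRing.Basic
import Mathlib.RingTheory.DedekindDomain.Dvr
import Mathlib.RingTheory.Localization.LocalizationLocalization

/-! Smoothness at the special point of a `Λ`-point with free differentials. -/

open MvPolynomial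
open scoped TensorProduct

set_option linter.style.haveILetI false

namespace Groth.NeronArea.SpecialPoint

universe u

theorem isStandardSmooth_away_jacobian {R : Type u} [CommRing R] {σ : Type} [Finite σ] {c : ℕ}
    (h : Fin c → MvPolynomial σ R) (a : Fin c → σ) (ha : Function.Injective a) :
    Algebra.IsStandardSmooth R (Localization.Away (Ideal.Quotient.mk (Ideal.span (Set.range h))
      (Matrix.of fun i j => pderiv (a i) (h j)).det)) := by
  classical
  let Pre : Algebra.PreSubmersivePresentation R (MvPolynomial σ R ⧸ Ideal.span (Set.range h)) σ (Fin c) :=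
    Algebra.PreSubmersivePresentation.naive (v := h) a ha
  let g := Ideal.Quotient.mk (Ideal.span (Set.range h)) (Matrix.of fun i j => pderiv (a i) (h j)).det
  have hjac : Pre.jacobian = g := by
    rw [Algebra.PreSubmersivePresentation.jacobian_eq_jacobiMatrix_det, Algebra.Generators.algebraMap_apply]
    show aeval _ _ = _
    have hN : Pre.jacobiMatrix = Matrix.of fun i j => pderiv (a i) (h j) := by
      ext i j; rw [Algebra.PreSubmersivePresentation.jacobiMatrix_naive]; rfl
    rw [hN]
    exact AlgHom.congr_fun (show aeval Pre.val = Ideal.Quotient.mkₐ R (Ideal.span (Set.range h)) from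
      MvPolynomial.algHom_ext fun i => aeval_X _ i) _
  let L := Localization.Away g
  let Loc := Algebra.PreSubmersivePresentation.localizationAway L g
  let S : Algebra.SubmersivePresentation R L (Unit ⊕ σ) (Unit ⊕ Fin c) :=
    { toPreSubmersivePresentation := Loc.comp Pre
      jacobian_isUnit := by
        rw [Algebra.PreSubmersivePresentation.comp_jacobian_eq_jacobian_smul_jacobian, Algebra.smul_def,
          Algebra.PreSubmersivePresentation.localizationAway_jacobian, hjac]
        exact (IsLocalization.Away.algebraMap_isUnit g).mul (IsLocalization.Away.algebraMap_isUnit g) }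
  exact S.isStandardSmooth

/-- Every point of the spectrum of a discrete valuation ring is regular. -/
lemma mem_regLocus_dvr {R : Type u} [CommRing R] [IsDomain R] [IsDiscreteValuationRing R] (p : PrimeSpectrum R) :
    p ∈ EGA4.regLocus R := by
  show IsRegularLocalRing (Localization.AtPrime p.asIdeal)
  by_cases hp : p.asIdeal = ⊥
  · have h : IsFractionRing R (Localization.AtPrime p.asIdeal) := by
      have hM : p.asIdeal.primeCompl = nonZeroDivisors R := by
        ext x; simp [hp, mem_nonZeroDivisors_iff_ne_zero]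
      show IsLocalization (nonZeroDivisors R) _
      exact hM ▸ (inferInstance : IsLocalization p.asIdeal.primeCompl (Localization.AtPrime p.asIdeal))
    have : IsPrincipalIdealRing (Localization.AtPrime p.asIdeal) :=
      IsField.isPrincipalIdealRing ((IsLocalization.algEquiv (nonZeroDivisors R) (Localization.AtPrime p.asIdeal)
        (FractionRing R)).toMulEquiv.isField (Field.toIsField (FractionRing R)))
    have : IsDomain (Localization.AtPrime p.asIdeal) := IsLocalization.isDomain_localization p.asIdeal.primeCompl_le_nonZeroDivisors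
    infer_instance
  · have := IsLocalization.AtPrime.isDiscreteValuationRing_of_dedekind_domain R hp (Localization.AtPrime p.asIdeal)
    infer_instance

variable {R A Λ : Type u} [CommRing R] [CommRing A] [Algebra R A] [CommRing Λ] [Algebra R Λ] [Algebra A Λ]
  [IsScalarTower R A Λ] {n m : ℕ}

set_option backward.isDefEq.respectTransparency false in
/-- The base change of the differentials is the cokernel of the evaluated Jacobian. -/
theorem free_coker (f : Fin m → MvPolynomial (Fin n) R) (φ : MvPolynomial (Fin n) R →ₐ[R] A)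
    (hφ : Function.Surjective φ) (hker : RingHom.ker φ.toRingHom = Ideal.span (Set.range f))
    (hfree : Module.Free Λ (Λ ⊗[A] Ω[A⁄R])) :
    Module.Free Λ ((Fin n → Λ) ⧸ Submodule.span Λ (Set.range fun l i => algebraMap A Λ (φ (pderiv i (f l))))) := by
  classical
  let W := Submodule.span Λ (Set.range fun l i => algebraMap A Λ (φ (pderiv i (f l))))
  let Q := (Fin n → Λ) ⧸ W
  let x : Fin n → A := fun i => φ (X i)
  have hx : ∀ p, aeval x p = φ p := fun p => by
    refine AlgHom.congr_fun (φ₁ := aeval (R := R) x) (φ₂ := φ) ?_ p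
    exact MvPolynomial.algHom_ext fun i => by simp [x]
  have hD : ∀ p : MvPolynomial (Fin n) R, KaehlerDifferential.D R A (aeval x p) =
      ∑ i, aeval x (pderiv i p) • KaehlerDifferential.D R A (x i) := by
    intro p
    induction p using MvPolynomial.induction_on with
    | C c => simp
    | add p q hp hq => simp only [map_add, hp, hq, add_smul, Finset.sum_add_distrib]
    | mul_X p k hp =>
      rw [map_mul, aeval_X, Derivation.leibniz, hp, Finset.smul_sum]
      simp only [pderiv_mul, map_add, map_mul, aeval_X, add_smul, Finset.sum_add_distrib, smul_smul]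
      rw [add_comm]
      congr 1
      · exact Finset.sum_congr rfl fun i _ => by rw [mul_comm]
      · rw [Finset.sum_eq_single k]
        · simp
        · intro i _ hi; simp [pderiv_X_of_ne hi.symm]
        · simp
  let to0 : (Fin n → Λ) →ₗ[Λ] Λ ⊗[A] Ω[A⁄R] :=
    Fintype.linearCombination Λ fun i => (1 : Λ) ⊗ₜ[A] KaehlerDifferential.D R A (x i)
  have hto : ∀ p : MvPolynomial (Fin n) R,
      to0 (fun i => algebraMap A Λ (φ (pderiv i p))) = (1 : Λ) ⊗ₜ[A] KaehlerDifferential.D R A (φ p) := by
    intro p
    rw [Fintype.linearCombination_apply, ← hx p, hD, TensorProduct.tmul_sum]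
    refine Finset.sum_congr rfl fun i _ => ?_
    rw [hx, algebraMap_smul, TensorProduct.tmul_smul]
  have hW : W ≤ LinearMap.ker to0 := by
    refine Submodule.span_le.2 ?_
    rintro _ ⟨l, rfl⟩
    show to0 _ = 0
    rw [hto, show φ (f l) = 0 from RingHom.mem_ker.1 (hker.symm ▸ Ideal.subset_span ⟨l, rfl⟩), map_zero,
      TensorProduct.tmul_zero]
  let mk : (Fin n → Λ) →ₗ[Λ] Q := W.mkQ
  have : IsScalarTower R A Q := inferInstance
  letI : Module Aᵐᵒᵖ Q := Module.compHom Q ((RingHom.id A).fromOpposite fun _ _ => Commute.all _ _)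
  have : IsCentralScalar A Q := ⟨fun _ _ => rfl⟩
  letI : Module Rᵐᵒᵖ Q := Module.compHom Q ((RingHom.id R).fromOpposite fun _ _ => Commute.all _ _)
  have : IsCentralScalar R Q := ⟨fun _ _ => rfl⟩
  have : IsScalarTower R Aᵐᵒᵖ Q := ⟨fun r a q => by
    show (r • a.unop) • q = r • (a.unop • q)
    exact smul_assoc r a.unop q⟩
  letI : Algebra R (TrivSqZeroExt A Q) := TrivSqZeroExt.algebra' R A Q
  let e : Fin n → Q := fun i => mk (Pi.single i 1)
  let v : Fin n → TrivSqZeroExt A Q := fun i => TrivSqZeroExt.inl (x i) + TrivSqZeroExt.inr (e i)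
  have hv : ∀ p : MvPolynomial (Fin n) R, TrivSqZeroExt.fst (aeval v p) = φ p ∧
      TrivSqZeroExt.snd (aeval v p) = mk (fun i => algebraMap A Λ (φ (pderiv i p))) := by
    intro p
    induction p using MvPolynomial.induction_on with
    | C c =>
      refine ⟨by rw [aeval_C, ← MvPolynomial.algebraMap_eq, AlgHom.commutes]; rfl, ?_⟩
      rw [aeval_C, show (fun i => algebraMap A Λ (φ (pderiv i (MvPolynomial.C c)))) = 0 from funext fun i => by simp,
        map_zero]
      rfl
    | add p q hp hq =>
      refine ⟨by rw [map_add, TrivSqZeroExt.fst_add, hp.1, hq.1, map_add], ?_⟩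
      rw [map_add, TrivSqZeroExt.snd_add, hp.2, hq.2, ← map_add]
      congr 1; funext i; simp
    | mul_X p k hp =>
      refine ⟨by rw [map_mul, aeval_X, TrivSqZeroExt.fst_mul, hp.1, map_mul]; simp [v, x], ?_⟩
      rw [map_mul, aeval_X, TrivSqZeroExt.snd_mul, hp.1, hp.2]
      simp only [v, TrivSqZeroExt.fst_add, TrivSqZeroExt.fst_inl, TrivSqZeroExt.fst_inr, add_zero,
        TrivSqZeroExt.snd_add, TrivSqZeroExt.snd_inl, TrivSqZeroExt.snd_inr, zero_add, op_smul_eq_smul, e]
      rw [← algebraMap_smul Λ (φ p), ← algebraMap_smul Λ (x k), ← map_smul, ← map_smul, ← map_add]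
      congr 1
      funext i
      simp only [Pi.add_apply, Pi.smul_apply, smul_eq_mul, pderiv_mul, map_add, map_mul]
      by_cases h : i = k
      · subst h; simp [x]; ring
      · rw [pderiv_X_of_ne (Ne.symm h), map_zero, map_zero, mul_zero, Pi.single_eq_of_ne h, mul_zero]; simp [x]; ring
  have hkerv : RingHom.ker φ.toRingHom ≤ RingHom.ker (aeval (R := R) v) := by
    rw [hker]
    refine Ideal.span_le.2 ?_
    rintro _ ⟨l, rfl⟩
    refine TrivSqZeroExt.ext ?_ ?_
    · rw [(hv (f l)).1, show φ (f l) = 0 from RingHom.mem_ker.1 (hker.symm ▸ Ideal.subset_span ⟨l, rfl⟩)]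
      rfl
    · rw [(hv (f l)).2]
      exact (Submodule.Quotient.mk_eq_zero W).2 (Submodule.subset_span ⟨l, rfl⟩)
  let eA := Ideal.quotientKerAlgEquivOfSurjective hφ
  let h0 : (MvPolynomial (Fin n) R ⧸ RingHom.ker φ.toRingHom) →ₐ[R] TrivSqZeroExt A Q :=
    Ideal.Quotient.liftₐ (RingHom.ker φ.toRingHom) (aeval v) fun _ h => hkerv h
  let hA : A →ₐ[R] TrivSqZeroExt A Q := h0.comp eA.symm.toAlgHom
  have hhA : ∀ p, hA (φ p) = aeval v p := fun p => by
    show h0 (eA.symm (eA (Ideal.Quotient.mk _ p))) = _
    rw [AlgEquiv.symm_apply_apply]; rfl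
  have hfst : ∀ y, TrivSqZeroExt.fst (hA y) = y := fun y => by
    obtain ⟨p, rfl⟩ := hφ y
    rw [hhA, (hv p).1]
  let δl : A →ₗ[R] Q :=
    { toFun := fun y => TrivSqZeroExt.snd (hA y)
      map_add' := fun y z => by rw [map_add, TrivSqZeroExt.snd_add]
      map_smul' := fun r y => by rw [map_smul, TrivSqZeroExt.snd_smul]; rfl }
  let δ : Derivation R A Q := Derivation.mk' δl fun y z => by
    show TrivSqZeroExt.snd (hA (y * z)) = y • TrivSqZeroExt.snd (hA z) + z • TrivSqZeroExt.snd (hA y)
    rw [map_mul, TrivSqZeroExt.snd_mul, hfst, hfst, op_smul_eq_smul]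
  let back : Λ ⊗[A] Ω[A⁄R] →ₗ[Λ] Q := δ.liftKaehlerDifferential.liftBaseChange Λ
  let to1 : Q →ₗ[Λ] Λ ⊗[A] Ω[A⁄R] := W.liftQ to0 hW
  have hback : ∀ y, back ((1 : Λ) ⊗ₜ[A] KaehlerDifferential.D R A y) = δ y := fun y => by
    show δ.liftKaehlerDifferential.liftBaseChange Λ _ = _
    rw [LinearMap.liftBaseChange_tmul, one_smul]
    exact δ.liftKaehlerDifferential_comp_D y
  have h1 : back.comp to1 = LinearMap.id := by
    refine W.linearMap_qext (LinearMap.pi_ext fun i c => ?_)
    show back (to0 (Pi.single i c)) = mk (Pi.single i c)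
    rw [show to0 (Pi.single i c) = c • ((1 : Λ) ⊗ₜ[A] KaehlerDifferential.D R A (x i)) from
      Fintype.linearCombination_apply_single _ _ _ _, map_smul, hback,
      show δ (x i) = e i from ?_, ← map_smul]
    · congr 1
      funext j
      by_cases h : j = i
      · subst h; simp
      · simp [Pi.single_eq_of_ne h]
    · show TrivSqZeroExt.snd (hA (φ (X i))) = _
      rw [hhA, (hv (X i)).2]
      refine congrArg mk (funext fun j => ?_)
      by_cases h : j = i
      · subst h; simp
      · simp [pderiv_X_of_ne (Ne.symm h), Pi.single_eq_of_ne h]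
  have h2 : to1.comp back = LinearMap.id := by
    refine TensorProduct.AlgebraTensorModule.ext fun l ω => ?_
    rw [LinearMap.comp_apply, LinearMap.id_apply, show l ⊗ₜ[A] ω = l • ((1 : Λ) ⊗ₜ[A] ω) by
      rw [TensorProduct.smul_tmul', smul_eq_mul, mul_one], map_smul, map_smul]
    congr 1
    refine LinearMap.congr_fun (f := ((to1.comp back).restrictScalars A).comp (TensorProduct.mk A Λ Ω[A⁄R] 1))
      (g := TensorProduct.mk A Λ Ω[A⁄R] 1) ?_ ω
    refine Derivation.liftKaehlerDifferential_unique _ _ (Derivation.ext fun y => ?_)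
    show to1 (back ((1 : Λ) ⊗ₜ[A] KaehlerDifferential.D R A y)) = (1 : Λ) ⊗ₜ[A] KaehlerDifferential.D R A y
    obtain ⟨p, rfl⟩ := hφ y
    rw [hback, show δ (φ p) = mk (fun i => algebraMap A Λ (φ (pderiv i p))) from by
      show TrivSqZeroExt.snd (hA _) = _
      rw [hhA, (hv p).2]]
    exact hto p
  exact Module.Free.of_equiv (LinearEquiv.ofLinearMap back to1 h1 h2)

/-- Smoothness spreads from the generic to the special point. -/
theorem isSmoothAt_special [IsDomain R] [IsDiscreteValuationRing R] [IsDomain Λ] [IsLocalRing Λ]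
    [Algebra.FiniteType R A] [(RingHom.ker (algebraMap A Λ)).IsPrime]
    (hq : Algebra.IsSmoothAt R (RingHom.ker (algebraMap A Λ)))
    (hfree : Module.Free Λ (Λ ⊗[A] Ω[A⁄R])) :
    Algebra.IsSmoothAt R ((IsLocalRing.maximalIdeal Λ).comap (algebraMap A Λ)) := by
  classical
  have : Algebra.FinitePresentation R A := Algebra.FinitePresentation.of_finiteType.1 inferInstance
  obtain ⟨n, φ, hφ, hfg⟩ := Algebra.FinitePresentation.out (R := R) (A := A)
  obtain ⟨m, f, hf⟩ := Submodule.fg_iff_exists_fin_generating_family.1 hfg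
  have hker : RingHom.ker φ.toRingHom = Ideal.span (Set.range f) := hf.symm
  have := free_coker (Λ := Λ) f φ hφ hker hfree
  let 𝔪 := IsLocalRing.maximalIdeal Λ
  let ev : MvPolynomial (Fin n) R →+* Λ := (algebraMap A Λ).comp φ.toRingHom
  let row : Fin m → Fin n → Λ := fun l i => ev (pderiv i (f l))
  let W := Submodule.span Λ (Set.range row)
  obtain ⟨sec, hsec⟩ := Module.projective_lifting_property W.mkQ LinearMap.id W.mkQ_surjective
  let r : (Fin n → Λ) →ₗ[Λ] (Fin n → Λ) := LinearMap.id - sec.comp W.mkQ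
  have hrW : ∀ z, r z ∈ W := fun z => by
    refine (Submodule.Quotient.mk_eq_zero W).1 ?_
    show W.mkQ (z - sec (W.mkQ z)) = 0
    rw [map_sub, show W.mkQ (sec (W.mkQ z)) = W.mkQ z from LinearMap.congr_fun hsec _, sub_self]
  have hr : ∀ z ∈ W, r z = z := fun z hz => by
    show z - sec (W.mkQ z) = z
    rw [show W.mkQ z = 0 from (Submodule.Quotient.mk_eq_zero W).2 hz, map_zero, sub_zero]
  -- rows forming a basis modulo the maximal ideal
  let κ := IsLocalRing.ResidueField Λ
  let rowκ : Fin m → Fin n → IsLocalRing.ResidueField Λ := fun l i => IsLocalRing.residue Λ (row l i)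
  obtain ⟨b, hb, hbspan, hbli⟩ := exists_linearIndependent (IsLocalRing.ResidueField Λ) (Set.range rowκ)
  choose idx hidx using fun z : b => hb z.2
  have : Finite b := (Set.finite_range rowκ).subset hb |>.to_subtype
  let c := Nat.card b
  let eb : Fin c ≃ b := (Finite.equivFin b).symm
  let S : Fin c → Fin m := fun j => idx (eb j)
  have hSκ : ∀ j, rowκ (S j) = (eb j : Fin n → IsLocalRing.ResidueField Λ) := fun j => hidx _
  have hli : LinearIndependent (IsLocalRing.ResidueField Λ) (fun j => rowκ (S j)) := by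
    rw [show (fun j => rowκ (S j)) = (fun z : b => (z : Fin n → IsLocalRing.ResidueField Λ)) ∘ eb from funext hSκ]
    exact hbli.comp _ eb.injective
  let W' := Submodule.span Λ (Set.range (row ∘ S))
  have hWle : W ≤ W' ⊔ IsLocalRing.maximalIdeal Λ • W := by
    refine Submodule.span_le.2 ?_
    rintro _ ⟨l, rfl⟩
    have hmem : rowκ l ∈ Submodule.span (IsLocalRing.ResidueField Λ) (Set.range fun j => rowκ (S j)) := by
      rw [show (Set.range fun j => rowκ (S j)) = b by
        rw [show (fun j => rowκ (S j)) = (fun z : b => (z : Fin n → IsLocalRing.ResidueField Λ)) ∘ eb from funext hSκ,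
          eb.surjective.range_comp, Subtype.range_coe], hbspan]
      exact Submodule.subset_span ⟨l, rfl⟩
    obtain ⟨g, hg⟩ := (Submodule.mem_span_range_iff_exists_fun _).1 hmem
    choose G hG using fun j => IsLocalRing.residue_surjective (g j)
    let z : Fin n → Λ := row l - ∑ j, G j • row (S j)
    have hzW : z ∈ W := sub_mem (Submodule.subset_span ⟨l, rfl⟩)
      (Submodule.sum_mem _ fun j _ => W.smul_mem _ (Submodule.subset_span ⟨S j, rfl⟩))
    have hzm : ∀ i, z i ∈ IsLocalRing.maximalIdeal Λ := fun i => by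
      rw [← IsLocalRing.residue_eq_zero_iff]
      have := congrFun hg i
      simp only [Finset.sum_apply, Pi.smul_apply, smul_eq_mul, rowκ] at this
      simp only [z, Pi.sub_apply, Finset.sum_apply, Pi.smul_apply, smul_eq_mul, map_sub, map_sum, map_mul, hG, this, sub_self]
    have hz' : z ∈ IsLocalRing.maximalIdeal Λ • W := by
      rw [← hr z hzW, show z = ∑ i, z i • (Pi.single i (1 : Λ) : Fin n → Λ) from pi_eq_sum_univ' z, map_sum]
      refine Submodule.sum_mem _ fun i _ => ?_
      rw [map_smul]
      exact Submodule.smul_mem_smul (hzm i) (hrW _)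
    rw [SetLike.mem_coe, show row l = (∑ j, G j • row (S j)) + z by simp [z]]
    exact add_mem (Submodule.mem_sup_left (Submodule.sum_mem _ fun j _ =>
      Submodule.smul_mem _ _ (Submodule.subset_span ⟨j, rfl⟩))) (Submodule.mem_sup_right hz')
  have hW' : W ≤ W' := Submodule.le_of_le_smul_of_le_jacobson_bot (Submodule.fg_span (Set.finite_range _))
    (IsLocalRing.maximalIdeal_le_jacobson ⊥) hWle
  obtain ⟨cols, hcols⟩ := Standard.exists_det_ne_zero (Matrix.of fun j i => rowκ (S j) i) hli
  let Mm : Matrix (Fin c) (Fin c) (MvPolynomial (Fin n) R) := Matrix.of fun j i => pderiv (cols i) (f (S j))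
  let 𝔓 : Ideal (MvPolynomial (Fin n) R) := (IsLocalRing.maximalIdeal Λ).comap ev
  have hMu : IsUnit (ev Mm.det) := by
    refine (IsLocalRing.residue_ne_zero_iff_isUnit _).1 ?_
    rw [RingHom.map_det, RingHom.map_det]
    exact hcols
  -- Nakayama at the generic point
  let 𝔔 : Ideal (MvPolynomial (Fin n) R) := RingHom.ker ev
  have h𝔔 : 𝔔.IsPrime := RingHom.ker_isPrime ev
  let q := RingHom.ker (algebraMap A Λ)
  let B := Localization.AtPrime 𝔔
  let Aq := Localization.AtPrime q
  let π : B →ₐ[R] Aq := IsLocalization.liftAlgHom (S := B) (M := 𝔔.primeCompl)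
    (f := (IsScalarTower.toAlgHom R A Aq).comp φ) fun y =>
      IsLocalization.map_units Aq (⟨φ (y : MvPolynomial (Fin n) R), y.2⟩ : q.primeCompl)
  have hπe : ∀ p, π (algebraMap _ B p) = algebraMap A Aq (φ p) := fun p => IsLocalization.lift_eq _ p
  have hπs : Function.Surjective π := by
    intro z
    obtain ⟨⟨y, t⟩, hxy⟩ := IsLocalization.surj q.primeCompl z
    obtain ⟨y, rfl⟩ := hφ y
    obtain ⟨t', ht'⟩ := hφ (t : A)
    have ht'Q : t' ∈ 𝔔.primeCompl := fun h => t.2 (show algebraMap A Λ (t : A) = 0 from ht' ▸ h)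
    refine ⟨IsLocalization.mk' B y ⟨t', ht'Q⟩, ?_⟩
    have h1 := congrArg π (IsLocalization.mk'_spec B y (⟨t', ht'Q⟩ : 𝔔.primeCompl))
    simp only [map_mul, hπe, ht'] at h1
    exact (IsLocalization.map_units Aq t).mul_right_cancel (h1.trans hxy.symm)
  let I : Ideal (MvPolynomial (Fin n) R) := Ideal.span (Set.range f)
  let IB : Ideal B := I.map (algebraMap (MvPolynomial (Fin n) R) B)
  have hkπ : RingHom.ker π ≤ IB := by
    intro z hz
    obtain ⟨y, t, rfl⟩ := IsLocalization.exists_mk'_eq 𝔔.primeCompl z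
    have h0 : algebraMap A Aq (φ y) = 0 := by
      rw [← hπe, ← IsLocalization.mk'_spec B y t, map_mul, RingHom.mem_ker.1 hz, zero_mul]
    obtain ⟨w, hw⟩ := (IsLocalization.map_eq_zero_iff q.primeCompl Aq _).1 h0
    obtain ⟨w', hw'⟩ := hφ (w : A)
    rw [IsLocalization.mk'_mem_map_algebraMap_iff 𝔔.primeCompl]
    refine ⟨w', fun h => w.2 (show algebraMap A Λ (w : A) = 0 from hw' ▸ h), (SetLike.ext_iff.1 hker _).1 ?_⟩
    show φ (w' * y) = 0
    rw [map_mul, hw']; exact hw
  have hIπ : ∀ l, π (algebraMap _ B (f l)) = 0 := fun l => by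
    rw [hπe, show φ (f l) = 0 from RingHom.mem_ker.1 (hker.symm ▸ Ideal.subset_span ⟨l, rfl⟩), map_zero]
  have : Algebra.FormallySmooth R Aq := hq
  obtain ⟨ρ, hρ, hdef⟩ := Standard.exists_defect π hπs fun i => algebraMap (MvPolynomial (Fin n) R) B (X i)
  have haev : ∀ p : MvPolynomial (Fin n) R, aeval (fun i => algebraMap (MvPolynomial (Fin n) R) B (X i)) p =
      algebraMap _ B p := fun p =>
    (comp_aeval_apply X (IsScalarTower.toAlgHom R (MvPolynomial (Fin n) R) B) p).symm.trans
      (congrArg (algebraMap (MvPolynomial (Fin n) R) B) (aeval_X_left_apply p))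
  have hM𝔔 : Mm.det ∈ 𝔔.primeCompl := fun h => hMu.ne_zero h
  have hJle : IB ≤ Ideal.span (Set.range fun j => algebraMap _ B (f (S j))) ⊔ IsLocalRing.maximalIdeal B • IB := by
    refine Ideal.map_le_iff_le_comap.2 (Ideal.span_le.2 ?_)
    rintro _ ⟨l, rfl⟩
    obtain ⟨d0, hd0⟩ := (Submodule.mem_span_range_iff_exists_fun _).1 (hW' (Submodule.subset_span ⟨l, rfl⟩))
    -- Cramer coefficients over the polynomial ring
    let t : Fin c → MvPolynomial (Fin n) R := Matrix.vecMul (fun i => pderiv (cols i) (f l)) Mm.adjugate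
    have hev : ∀ i, ev (Mm.det * pderiv i (f l) - ∑ j, t j * pderiv i (f (S j))) = 0 := by
      have hd : (fun i => ev (pderiv (cols i) (f l))) = Matrix.vecMul d0 (Mm.map ev) := by
        funext i
        have := congrFun hd0 (cols i)
        simp only [Finset.sum_apply, Pi.smul_apply, smul_eq_mul, Function.comp_apply, row] at this
        exact this.symm
      have ht : ∀ j, ev (t j) = ev Mm.det * d0 j := fun j => by
        have h1 : (fun j => ev (t j)) = Matrix.vecMul (fun i => ev (pderiv (cols i) (f l))) (Mm.adjugate.map ev) := by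
          funext j
          simp [t, Matrix.vecMul, dotProduct, map_sum]
        rw [hd, Matrix.vecMul_vecMul, ← Matrix.map_mul, Matrix.mul_adjugate] at h1
        have := congrFun h1 j
        rw [this]
        simp [Matrix.vecMul, dotProduct, Matrix.one_apply, apply_ite ev, mul_comm]
      intro i
      have := congrFun hd0 i
      simp only [Finset.sum_apply, Pi.smul_apply, smul_eq_mul, Function.comp_apply, row] at this
      rw [map_sub, map_mul, map_sum, ← this, Finset.mul_sum, sub_eq_zero]
      exact Finset.sum_congr rfl fun j _ => by rw [map_mul, ht, mul_assoc]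
    let dB : B := algebraMap _ B Mm.det
    let h : B := dB * algebraMap _ B (f l) - ∑ j, algebraMap _ B (t j) * algebraMap _ B (f (S j))
    have hdh : h - ∑ i, algebraMap _ B (Mm.det * pderiv i (f l) - ∑ j, t j * pderiv i (f (S j))) * ρ i ∈
        RingHom.ker π ^ 2 := by
      have hd' : ∀ l, algebraMap _ B (f l) - ∑ i, algebraMap _ B (pderiv i (f l)) * ρ i ∈ RingHom.ker π ^ 2 := fun l => by
        have := hdef (f l) (by rw [haev]; exact hIπ l)
        simpa only [haev] using this
      have := sub_mem (Ideal.mul_mem_left _ dB (hd' l))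
        (Ideal.sum_mem _ (t := Finset.univ) fun j _ => Ideal.mul_mem_left _ (algebraMap _ B (t j)) (hd' (S j)))
      convert this using 1
      simp only [h, dB, map_sub, map_mul, map_sum, sub_mul, Finset.sum_sub_distrib, Finset.mul_sum, mul_sub, Finset.sum_mul]
      rw [Finset.sum_comm]
      simp only [mul_assoc]
      ring
    have hmI : RingHom.ker π ^ 2 ≤ IsLocalRing.maximalIdeal B • IB := by
      rw [sq, smul_eq_mul]
      exact Ideal.mul_mono (IsLocalRing.le_maximalIdeal (RingHom.ker_ne_top π)) hkπ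
    have hh : h ∈ IsLocalRing.maximalIdeal B • IB := by
      rw [← sub_add_cancel h (∑ i, algebraMap _ B (Mm.det * pderiv i (f l) - ∑ j, t j * pderiv i (f (S j))) * ρ i)]
      refine add_mem (hmI hdh) (Ideal.sum_mem _ fun i _ => ?_)
      rw [smul_eq_mul]
      exact Ideal.mul_mem_mul ((IsLocalization.AtPrime.to_map_mem_maximal_iff B 𝔔 _).2 (hev i)) (hkπ (hρ i))
    rw [SetLike.mem_coe, Ideal.mem_comap]
    refine (Ideal.unit_mul_mem_iff_mem _ (IsLocalization.map_units B (⟨_, hM𝔔⟩ : 𝔔.primeCompl))).1 ?_
    rw [show algebraMap (MvPolynomial (Fin n) R) B Mm.det * algebraMap _ B (f l) =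
      (∑ j, algebraMap _ B (t j) * algebraMap _ B (f (S j))) + h by simp [h, dB]]
    exact add_mem (Submodule.mem_sup_left (Ideal.sum_mem _ fun j _ => Ideal.mul_mem_left _ _
      (Ideal.subset_span ⟨j, rfl⟩))) (Submodule.mem_sup_right hh)
  have hIB : IB ≤ Ideal.span (Set.range fun j => algebraMap _ B (f (S j))) :=
    Submodule.le_of_le_smul_of_le_jacobson_bot (Ideal.FG.map (Submodule.fg_span (Set.finite_range _)) _)
      (IsLocalRing.maximalIdeal_le_jacobson ⊥) hJle
  -- the complete intersection
  let J : Ideal (MvPolynomial (Fin n) R) := Ideal.span (Set.range fun j => f (S j))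
  have hJI : J ≤ I := Ideal.span_mono (by rintro _ ⟨j, rfl⟩; exact ⟨S j, rfl⟩)
  have hu : ∀ l, ∃ u, u ∈ 𝔔.primeCompl ∧ u * f l ∈ J := fun l => by
    have h : algebraMap _ B (f l) ∈ J.map (algebraMap (MvPolynomial (Fin n) R) B) := by
      rw [Ideal.map_span, ← Set.range_comp]
      exact hIB (Ideal.mem_map_of_mem _ (Ideal.subset_span ⟨l, rfl⟩))
    exact (IsLocalization.algebraMap_mem_map_algebraMap_iff 𝔔.primeCompl B J _).1 h
  choose u hu huJ using hu
  let C := MvPolynomial (Fin n) R ⧸ J
  have : Algebra.FinitePresentation R C :=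
    Algebra.FinitePresentation.quotient (Submodule.fg_span (Set.finite_range _))
  have hI0 : ∀ z ∈ I, ev z = 0 := fun z hz => by
    show algebraMap A Λ (φ z) = 0
    rw [show φ z = 0 from RingHom.mem_ker.1 (hker.symm ▸ hz), map_zero]
  let evC : C →+* Λ := Ideal.Quotient.lift J ev fun z hz => hI0 z (hJI hz)
  let PC : Ideal C := (IsLocalRing.maximalIdeal Λ).comap evC
  have : PC.IsPrime := Ideal.IsPrime.comap evC
  let g : C := Ideal.Quotient.mk J (Matrix.of fun i j => pderiv (cols i) (f (S j))).det
  have hgt : (Matrix.of fun i j => pderiv (cols i) (f (S j))).det = Mm.det := by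
    rw [← Matrix.det_transpose]; rfl
  have hgP : g ∉ PC := fun h => by
    have h' : ev Mm.det ∈ IsLocalRing.maximalIdeal Λ := hgt ▸ h
    exact (IsLocalRing.mem_maximalIdeal _).1 h' hMu
  have hLs : Algebra.IsStandardSmooth R (Localization.Away g) :=
    isStandardSmooth_away_jacobian (fun j => f (S j)) cols cols.injective
  have hdisj : Disjoint (Submonoid.powers g : Set C) PC := by
    rw [Set.disjoint_left]
    rintro _ ⟨k, rfl⟩ hk
    exact hgP (Ideal.IsPrime.mem_of_pow_mem inferInstance k hk)
  let PL : Ideal (Localization.Away g) := PC.map (algebraMap C _)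
  have : PL.IsPrime := IsLocalization.isPrime_of_isPrime_disjoint (Submonoid.powers g) _ PC inferInstance hdisj
  have hreg : IsRegularLocalRing (Localization.AtPrime PL) :=
    Ega4Algebra1.mem_regLocus_of_isStandardSmooth (R := R) (Localization.Away g) ⟨PL, inferInstance⟩ (mem_regLocus_dvr _)
  have : IsDomain (Localization.AtPrime PL) := Ega4Algebra1.isDomain_of_isRegularLocalRing _
  have hcomap : PL.comap (algebraMap C (Localization.Away g)) = PC :=
    IsLocalization.comap_map_of_isPrime_disjoint (Submonoid.powers g) _ inferInstance hdisj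
  have : IsLocalization.AtPrime (Localization.AtPrime PL) PC := by
    have h := IsLocalization.isLocalization_isLocalization_atPrime_isLocalization (Submonoid.powers g)
      (Localization.AtPrime PL) PL
    convert h using 2
    exact hcomap.symm
  have ht : ∀ l, ∃ t ∉ PC, t * Ideal.Quotient.mk J (f l) = 0 := by
    intro l
    have h0 : algebraMap C (Localization.AtPrime PL) (Ideal.Quotient.mk J (u l)) *
        algebraMap C _ (Ideal.Quotient.mk J (f l)) = 0 := by
      rw [← map_mul, ← map_mul, Ideal.Quotient.eq_zero_iff_mem.2 (huJ l), map_zero]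
    have hne : algebraMap C (Localization.AtPrime PL) (Ideal.Quotient.mk J (u l)) ≠ 0 := by
      intro h
      obtain ⟨⟨s, hs⟩, hsu⟩ := (IsLocalization.map_eq_zero_iff PC.primeCompl _ _).1 h
      obtain ⟨s, rfl⟩ := Ideal.Quotient.mk_surjective s
      have h1 : s * u l ∈ J := by
        rw [← Ideal.Quotient.eq_zero_iff_mem, map_mul]; exact hsu
      have h2 : ev s * ev (u l) = 0 := by rw [← map_mul]; exact hI0 _ (hJI h1)
      rcases mul_eq_zero.1 h2 with h3 | h3
      · exact hs (show ev s ∈ IsLocalRing.maximalIdeal Λ by rw [h3]; exact zero_mem _)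
      · exact hu l h3
    obtain ⟨⟨t, ht⟩, htl⟩ := (IsLocalization.map_eq_zero_iff PC.primeCompl _ _).1 ((mul_eq_zero.1 h0).resolve_left hne)
    exact ⟨t, ht, htl⟩
  choose t htP htl using ht
  let s : C := g * ∏ l, t l
  have hsP : s ∉ PC := Ideal.IsPrime.mul_notMem inferInstance hgP fun h => by
    obtain ⟨l, -, hl⟩ := (Ideal.IsPrime.prod_mem_iff (p := PC)).1 h
    exact htP l hl
  let π' : C →ₐ[R] A := Ideal.Quotient.liftₐ J φ fun z hz => RingHom.mem_ker.1 (hker.symm ▸ hJI hz : z ∈ RingHom.ker φ.toRingHom)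
  have hπ' : Function.Surjective π' := fun y => by
    obtain ⟨z, rfl⟩ := hφ y; exact ⟨Ideal.Quotient.mk J z, rfl⟩
  have hkill : ∀ z, π' z = 0 → s * z = 0 := by
    intro z hz
    obtain ⟨z, rfl⟩ := Ideal.Quotient.mk_surjective z
    have hzI : z ∈ I := (SetLike.ext_iff.1 hker _).1 hz
    obtain ⟨w, rfl⟩ := Ideal.mem_span_range_iff_exists_fun.1 hzI
    rw [map_sum, Finset.mul_sum]
    refine Finset.sum_eq_zero fun l _ => ?_
    obtain ⟨d, hd⟩ : t l ∣ ∏ l, t l := Finset.dvd_prod_of_mem _ (Finset.mem_univ l)
    rw [map_mul, show s = g * (t l * d) from congrArg (g * ·) hd]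
    linear_combination g * d * Ideal.Quotient.mk J (w l) * htl l
  have hsm : Algebra.Smooth R (Localization.Away s) := by
    rw [← SmoothAtBasics.mem_singularIdeal_iff_smooth]
    refine Ideal.mul_mem_right _ _ ?_
    rw [SmoothAtBasics.mem_singularIdeal_iff_smooth]
    infer_instance
  refine SmoothAtBasics.isSmoothAt_of_smooth_away (SmoothAtBasics.smooth_away_of_surjective π' hπ' s hkill hsm) _ ?_
  intro h
  obtain ⟨z, hz⟩ := Ideal.Quotient.mk_surjective s
  refine hsP ?_
  rw [← hz] at h ⊢
  exact h

end Groth.NeronArea.SpecialPoint
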