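import Mathlib.RingTheory.Smooth.StandardSmooth

/-! Submersive presentations with prescribed distinguished variables. -/

open MvPolynomial

namespace Groth.NeronArea.SubmersiveAdjoin

universe u

variable {A : Type u} [CommRing A] {k : ℕ} (e : Fin k → A)

noncomputable abbrev rels : Fin k → MvPolynomial (Fin k) A := fun i => X i - C (e i)

lemma sub_C_mem (p : MvPolynomial (Fin k) A) :
    p - C (aeval e p) ∈ Ideal.span (Set.range (rels e)) := by
  induction p using MvPolynomial.induction_on with
  | C a => simp
  | add p q hp hq => simpa [map_add, sub_add_sub_comm] using add_mem hp hq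
  | mul_X p i hp =>
    have : p * X i - C (aeval e (p * X i)) = (p - C (aeval e p)) * X i + C (aeval e p) * rels e i := by
      simp only [rels, map_mul, aeval_X]; ring
    rw [this]
    exact add_mem (Ideal.mul_mem_right _ _ hp) (Ideal.mul_mem_left _ _ (Ideal.subset_span ⟨i, rfl⟩))

noncomputable def toBase : (MvPolynomial (Fin k) A ⧸ Ideal.span (Set.range (rels e))) →ₐ[A] A :=
  Ideal.Quotient.liftₐ _ (aeval e) fun p hp => by
    induction hp using Submodule.span_induction with
    | mem x hx => obtain ⟨i, rfl⟩ := hx; simp [rels]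
    | zero => simp
    | add x y _ _ hx hy => rw [map_add, hx, hy, add_zero]
    | smul r x _ hx => rw [smul_eq_mul, map_mul, hx, mul_zero]

@[simp] lemma toBase_mk (p : MvPolynomial (Fin k) A) :
    toBase e (Ideal.Quotient.mk _ p) = aeval e p := rfl

noncomputable def equivBase : (MvPolynomial (Fin k) A ⧸ Ideal.span (Set.range (rels e))) ≃ₐ[A] A :=
  AlgEquiv.ofBijective (toBase e) ⟨(injective_iff_map_eq_zero _).2 fun x hx => by
      obtain ⟨p, rfl⟩ := Ideal.Quotient.mk_surjective x
      rw [Ideal.Quotient.eq_zero_iff_mem]
      have := sub_C_mem e p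
      rwa [show aeval e p = 0 from hx, map_zero, sub_zero] at this,
    fun a => ⟨Ideal.Quotient.mk _ (C a), by simp⟩⟩

noncomputable def selfPresentation : Algebra.SubmersivePresentation A A (Fin k) (Fin k) where
  __ := (Algebra.PreSubmersivePresentation.naive (v := rels e) id Function.injective_id).ofAlgEquiv
      (equivBase e)
  jacobian_isUnit := by
    classical
    rw [Algebra.PreSubmersivePresentation.jacobian_ofAlgEquiv]
    refine IsUnit.map (equivBase e) ?_
    rw [Algebra.PreSubmersivePresentation.jacobian_eq_jacobiMatrix_det]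
    refine IsUnit.map _ ?_
    refine Eq.mpr (congrArg IsUnit ?_) isUnit_one
    rw [← Matrix.det_one (n := Fin k) (R := MvPolynomial (Fin k) A)]
    congr 1
    ext i j
    rw [Algebra.PreSubmersivePresentation.jacobiMatrix_naive]
    by_cases h : i = j
    · subst h; simp [rels]
    · simp [rels, pderiv_X_of_ne (Ne.symm (show i ≠ j from h)), pderiv_X_of_ne h,
        Matrix.one_apply_ne h]

lemma selfPresentation_val (i : Fin k) : (selfPresentation e).val i = e i := by
  show equivBase e (Ideal.Quotient.mk _ (X i)) = e i
  exact aeval_X e i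

theorem exists_presentation {R : Type u} [CommRing R] [Algebra R A] [Algebra.IsStandardSmooth R A]
    (E : Finset A) :
    ∃ (ι σ : Type) (_ : Finite ι) (_ : Finite σ) (P : Algebra.SubmersivePresentation R A ι σ),
      (↑E : Set A) ⊆ Set.range (P.val ∘ P.map) := by
  obtain ⟨ι, σ, _, _, ⟨P⟩⟩ := ‹Algebra.IsStandardSmooth R A›
  let v : Fin E.card → A := fun i => (E.equivFin.symm i : A)
  refine ⟨_, _, inferInstance, inferInstance, (selfPresentation v).comp P, fun a ha => ?_⟩
  refine ⟨Sum.inl (E.equivFin ⟨a, ha⟩), ?_⟩
  show (selfPresentation v).val (E.equivFin ⟨a, ha⟩) = a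
  rw [selfPresentation_val]; simp [v]

end Groth.NeronArea.SubmersiveAdjoin
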