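import Groth.Agent.AlgGrp1.MaxTorusSolv
import Groth.Agent.AlgGrp1.Geom
import Groth.Agent.GrpschAbsch.Deligne
import Groth.Agent.Agf.SmoothRed
import Groth.Agent.S3308
import Groth.Agent.S7957

/-! Commutative affine groups without subtori have uniquely divisible groups of points. -/

set_option autoImplicit false
set_option linter.style.haveILetI false

universe u

open CategoryTheory CategoryTheory.Limits MonoidalCategory CartesianMonoidalCategory MonObj GrpObj
  AlgebraicGeometry

open scoped CategoryTheory.Obj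

namespace Groth.NeronArea.UnipotentPoints

variable {k : Type u} [Field k] [IsAlgClosed k]

omit [IsAlgClosed k] in
theorem eq_zero_of_isIso_hom {r : ℕ}
    (h : IsIso (CoactBr.sp k (MonoidAlgebra k (Multiplicative (Fin r → ℤ)))).hom) : r = 0 := by
  by_contra hr
  have hiso : IsIso (CommRingCat.ofHom (algebraMap k (MonoidAlgebra k (Multiplicative (Fin r → ℤ))))) := by
    haveI : IsIso (Spec.map (CommRingCat.ofHom (algebraMap k (MonoidAlgebra k (Multiplicative (Fin r → ℤ)))))) := h
    haveI : IsIso (Scheme.Spec.map (CommRingCat.ofHom (algebraMap k (MonoidAlgebra k (Multiplicative (Fin r → ℤ))))).op) := ‹IsIso (Spec.map _)›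
    haveI := isIso_of_reflects_iso (CommRingCat.ofHom (algebraMap k (MonoidAlgebra k (Multiplicative (Fin r → ℤ))))).op Scheme.Spec
    exact isIso_of_op _
  have hb := (ConcreteCategory.bijective_of_isIso
    (CommRingCat.ofHom (algebraMap k (MonoidAlgebra k (Multiplicative (Fin r → ℤ)))))).2
  let m : Multiplicative (Fin r → ℤ) := Multiplicative.ofAdd (fun _ => 1)
  obtain ⟨c, hc⟩ := hb (MonoidAlgebra.single m 1)
  have hm : m ≠ 1 := fun h1 => by
    have h2 := congrFun (congrArg Multiplicative.toAdd h1) ⟨0, Nat.pos_of_ne_zero hr⟩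
    simp [m] at h2
  have h2 := congrArg (fun p : MonoidAlgebra k (Multiplicative (Fin r → ℤ)) => p.coeff m) hc
  simp [MonoidAlgebra.coe_algebraMap, Finsupp.single_apply, Ne.symm hm] at h2

/-- A commutative affine smooth connected group without subtori over an algebraically closed field is
the spectrum of a unipotent Hopf algebra. -/
theorem exists_unipotent (V : Over (Spec (CommRingCat.of k))) [GrpObj V] [IsCommMonObj V]
    [IsAffine V.left] [Smooth V.hom] [ConnectedSpace V.left] (hV : Red.HasNoSubtorus k V) :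
    ∃ (A : Type u) (_ : CommRing A) (_ : HopfAlgebra k A) (_ : Algebra.FiniteType k A)
      (e : CoactBr.sp k A ≅ V), IsMonHom e.hom ∧ HopfRep.IsUnipotent k A := by
  haveI : LocallyOfFiniteType V.hom := inferInstance
  obtain ⟨A, _, _, _, e, he⟩ := Groth.AlgGrp1.exists_hopf_iso V
  haveI := he
  haveI : GeometricallyIntegral V.hom := Groth.AlgGrp1.geometricallyIntegral_of_smooth V
  haveI : IsIntegral V.left := GeometricallyIntegral.isIntegral_of_subsingleton V.hom
  let E : Spec (CommRingCat.of A) ≅ V.left := (Over.forget _).mapIso e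
  haveI : Nonempty (Spec (CommRingCat.of A)) := ⟨E.inv (genericPoint V.left)⟩
  haveI : IsIntegral (Spec (CommRingCat.of A)) := isIntegral_of_isOpenImmersion E.hom
  haveI : IsDomain A := (affine_isIntegral_iff (CommRingCat.of A)).1 inferInstance
  haveI : IsCommMonObj (CoactBr.sp k A) := by
    constructor
    rw [← cancel_mono e.hom, Category.assoc, IsMonHom.mul_hom, ← BraidedCategory.braiding_naturality_assoc,
      IsCommMonObj.mul_comm]
  haveI : Coalgebra.IsCocomm (CommRingCat.of k) (CommRingCat.of A) :=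
    Groth.GrpschAbsch.isCocomm_of_isCommMonObj (CommRingCat.of k) (CommRingCat.of A)
  haveI : Coalgebra.IsCocomm k A := ‹Coalgebra.IsCocomm (CommRingCat.of k) (CommRingCat.of A)›
  refine ⟨A, inferInstance, inferInstance, inferInstance, e, he, ?_⟩
  obtain ⟨r, ψ, ρ, J, hJh, hρψ, hJ, hU⟩ :=
    Groth.AlgGrp1.exists_split_extension A (Groth.Agent.S3308.result k A)
  haveI := hJh
  have hρ : Function.Surjective ρ := fun b => ⟨ψ b, DFunLike.congr_fun hρψ b⟩
  let T := CoactBr.sp k (MonoidAlgebra k (Multiplicative (Fin r → ℤ)))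
  let u : T ⟶ V := CoactBr.pt (ρ : A →ₐ[k] _) ≫ e.hom
  haveI : IsMonHom (CoactBr.pt (ρ : A →ₐ[k] MonoidAlgebra k (Multiplicative (Fin r → ℤ)))) :=
    Groth.AlgGrp1.isMonHom_pt_bialg ρ
  haveI : IsMonHom u := inferInstanceAs (IsMonHom (_ ≫ e.hom))
  haveI : Mono (CoactBr.pt (ρ : A →ₐ[k] MonoidAlgebra k (Multiplicative (Fin r → ℤ)))) := by
    haveI : IsClosedImmersion (Spec.map (CommRingCat.ofHom
        (ρ : A →ₐ[k] MonoidAlgebra k (Multiplicative (Fin r → ℤ))).toRingHom)) :=
      IsClosedImmersion.spec_of_surjective _ hρ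
    exact (Over.forget _).mono_of_mono_map
      (inferInstanceAs (Mono (Spec.map (CommRingCat.ofHom
        (ρ : A →ₐ[k] MonoidAlgebra k (Multiplicative (Fin r → ℤ))).toRingHom))))
  haveI : Mono u := inferInstanceAs (Mono (_ ≫ e.hom))
  haveI : IsMonHom (Iso.refl T).hom := inferInstanceAs (IsMonHom (𝟙 T))
  have htriv := hV T u (Groth.AlgGrp1.isTorus_of_diag_iso (Iso.refl T) inferInstance)
  obtain rfl := eq_zero_of_isIso_hom htriv
  have hJ0 : J = ⊥ := by
    rw [hJ, Ideal.map_eq_bot_iff_le_ker]
    intro x hx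
    rw [RingHom.mem_ker, Bialgebra.counitAlgHom_apply] at hx
    have hx1 : x = MonoidAlgebra.single 1 (x.coeff 1) := by
      refine MonoidAlgebra.coeff_injective (Finsupp.ext fun m => ?_)
      rw [Subsingleton.elim m 1]
      simp
    rw [hx1] at hx
    simp at hx
    rw [RingHom.mem_ker, hx1, hx]
    simp
  subst hJ0
  have hb : Function.Bijective (Bialgebra.Quotient.mkBialgHom (R := k) (⊥ : Ideal A)) :=
    ⟨fun x y h => sub_eq_zero.1 ((Submodule.Quotient.eq (⊥ : Ideal A)).1 h),
      Ideal.Quotient.mk_surjective⟩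
  exact Groth.Misc1.Unip.isUnipotent_of_surjective
    (BialgEquiv.ofBijective (Bialgebra.Quotient.mkBialgHom (R := k) (⊥ : Ideal A)) hb).symm.toBialgHom
    (BialgEquiv.ofBijective (Bialgebra.Quotient.mkBialgHom (R := k) (⊥ : Ideal A)) hb).symm.surjective hU

/-- Unique divisibility of the points of a commutative affine group without subtori. -/
theorem bijective_pow (V : Over (Spec (CommRingCat.of k))) [GrpObj V] [IsCommMonObj V]
    [IsAffine V.left] [Smooth V.hom] [ConnectedSpace V.left] (hV : Red.HasNoSubtorus k V)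
    (n : ℕ) (hn : (n : k) ≠ 0) :
    Function.Bijective fun x : 𝟙_ (Over (Spec (CommRingCat.of k))) ⟶ V => x ^ n := by
  obtain ⟨A, _, _, _, e, he, hU⟩ := exists_unipotent V hV
  haveI := he
  have hn' : ¬ ringChar k ∣ n := fun h => hn ((ringChar.spec k n).2 h)
  have hid : Spec.map (CommRingCat.ofHom (algebraMap k k)) = 𝟙 (Spec (CommRingCat.of k)) := Spec.map_id _
  let ιso : 𝟙_ (Over (Spec (CommRingCat.of k))) ≅ CoactBr.sp k k :=
    Over.isoMk (Iso.refl _) (by
      show 𝟙 _ ≫ Spec.map (CommRingCat.ofHom (algebraMap k k)) = 𝟙 _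
      rw [hid, Category.id_comp])
  let M : WithConv (A →ₐ[k] k) ≃* (𝟙_ (Over (Spec (CommRingCat.of k))) ⟶ V) :=
    (Spec.mapMulEquiv (R := k) (S := A) (T := k)).trans
      { toFun := fun x => ιso.hom ≫ x ≫ e.hom
        invFun := fun y => ιso.inv ≫ y ≫ e.inv
        left_inv := fun x => by simp
        right_inv := fun y => by simp
        map_mul' := fun a b => by rw [MonObj.mul_comp, MonObj.comp_mul] }
  have h1 := M.bijective.comp ((Groth.Agent.S7957.result k A hU n hn').comp M.symm.bijective)
  have h2 : (M ∘ ((fun g => g ^ n) ∘ M.symm)) = fun x => x ^ n := funext fun x => by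
    show M (M.symm x ^ n) = x ^ n
    rw [map_pow, M.apply_symm_apply]
  rwa [h2] at h1

end Groth.NeronArea.UnipotentPoints
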