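import Groth.Agent.NeronArea.GaTorsor
import Mathlib.AlgebraicGeometry.AffineSpace
import Mathlib.AlgebraicGeometry.SpreadingOut
import Mathlib.AlgebraicGeometry.FunctionField
import Mathlib.AlgebraicGeometry.Morphisms.UniversallyOpen
import Mathlib.RingTheory.Polynomial.Basic

/-! An extension of a unirational group by the additive group is unirational. -/

universe u

open CategoryTheory CategoryTheory.Limits MonoidalCategory CartesianMonoidalCategory MonObj GrpObj
  AlgebraicGeometry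

namespace Groth.NeronArea.GaTorsor

variable (κ : Type u) [Field κ]

theorem isIntegral_affineSpace (n : Type u) : IsIntegral 𝔸(n; Spec (CommRingCat.of κ)) := by
  have : Nonempty 𝔸(n; Spec (CommRingCat.of κ)) :=
    ⟨(AffineSpace.SpecIso n (CommRingCat.of κ)).inv (Classical.arbitrary _)⟩
  exact isIntegral_of_isOpenImmersion (AffineSpace.SpecIso n (CommRingCat.of κ)).hom

variable {κ} {G Q : Over (Spec (CommRingCat.of κ))} [GrpObj G] [GrpObj Q] (q : G ⟶ Q) [IsMonHom q] [IsCommMonObj G]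
  [LocallyOfFiniteType G.hom] [LocallyOfFiniteType Q.hom] [Flat q.left] [Surjective q.left]
  (i : Red.Ga (Spec (CommRingCat.of κ)) ⟶ G) [IsMonHom i]

local notation "S" => Spec (CommRingCat.of κ)

theorem exists_dominant (hker : AlgGrp.IsKernel i q) (n : ℕ)
    (V : (AffineSpace (ULift.{u} (Fin n)) S).Opens) (ψ : (V : Scheme.{u}) ⟶ Q.left)
    (hV : (V : Set (AffineSpace (ULift.{u} (Fin n)) S)).Nonempty) (hdense : DenseRange ψ.base)
    (hψ : ψ ≫ Q.hom = V.ι ≫ (AffineSpace (ULift.{u} (Fin n)) S ↘ S)) :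
    ∃ (W : (AffineSpace (ULift.{u} (Fin (n + 1))) S).Opens) (φ : (W : Scheme.{u}) ⟶ G.left),
      (W : Set (AffineSpace (ULift.{u} (Fin (n + 1))) S)).Nonempty ∧ DenseRange φ.base ∧
      φ ≫ G.hom = W.ι ≫ (AffineSpace (ULift.{u} (Fin (n + 1))) S ↘ S) := by
  have hq := Groth.AlgGrp1.isCover q
  have := Groth.AlgGrp1.IsKernel.mono hker
  have := Groth.AlgGrp1.isSeparated_grpObj Q
  have := hq.lfp
  let m := ULift.{u} (Fin n)
  let A : Scheme.{u} := 𝔸(m; S)
  have := isIntegral_affineSpace κ m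
  have : Nonempty (V : Scheme.{u}) := hV.to_subtype
  have : IsIntegral (V : Scheme.{u}) := isIntegral_of_isOpenImmersion V.ι
  let sV : (V : Scheme.{u}) ⟶ S := V.ι ≫ (A ↘ S)
  -- the generic point lifts
  let η₀ := genericPoint (V : Scheme.{u})
  let K : Type u := (V : Scheme.{u}).functionField
  let gen : Spec (CommRingCat.of K) ⟶ V := (V : Scheme.{u}).fromSpecStalk η₀
  obtain ⟨x, hx⟩ := exists_lift_point (gen ≫ sV) q i hq hker (Over.homMk (gen ≫ ψ) (by rw [Category.assoc, hψ]; rfl))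
  obtain ⟨U, hηU, ψ', hψ'x, hψ'⟩ := spread_out_of_isGermInjective' sV G.hom (x := η₀) x.left (Over.w x)
  have hηgen : IsGenericPoint η₀ (Set.univ : Set (V : Scheme.{u})) := genericPoint_spec _
  have hU0 : Nonempty (U : Scheme.{u}) := ⟨⟨η₀, hηU⟩⟩
  have : IsIntegral (U : Scheme.{u}) := isIntegral_of_isOpenImmersion U.ι
  have hagree : ψ' ≫ q.left = U.ι ≫ ψ := by
    let j := U.fromSpecStalkOfMem η₀ hηU
    have hj : IsDominant j := ⟨by
      have hj0 : j (IsLocalRing.closedPoint _) = (⟨η₀, hηU⟩ : U) := U.ι.isEmbedding.injective (by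
        rw [← Scheme.Hom.comp_apply, Scheme.Opens.fromSpecStalkOfMem_ι, Scheme.fromSpecStalk_closedPoint]
        rfl)
      intro z
      have hmem : ({(⟨η₀, hηU⟩ : U)} : Set (U : Scheme.{u})) ⊆ Set.range j.base :=
        Set.singleton_subset_iff.2 ⟨_, hj0⟩
      refine closure_mono hmem ?_
      refine specializes_iff_mem_closure.1 ?_
      exact U.ι.isEmbedding.toIsInducing.specializes_iff.1 (hηgen.specializes (Set.mem_univ _))⟩
    apply ext_of_isDominant_of_isSeparated Q.hom ?_ j ?_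
    · rw [Category.assoc, Over.w q, hψ', Category.assoc, hψ]
    · rw [← Category.assoc, ← hψ'x, show x.left ≫ q.left = gen ≫ ψ from congrArg CommaMorphism.left hx,
        ← Category.assoc, Scheme.Opens.fromSpecStalkOfMem_ι]
  have hdenseU : DenseRange (U.ι ≫ ψ).base := by
    have hUd : DenseRange U.ι.base := fun z => by
      rw [show Set.range U.ι.base = (U : Set (V : Scheme.{u})) from U.range_ι]
      exact closure_mono (Set.singleton_subset_iff.2 hηU)
        (specializes_iff_mem_closure.1 (hηgen.specializes (Set.mem_univ z)))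
    exact hdense.comp hUd ψ.continuous
  -- the open subscheme of the bigger affine space
  let r : ULift.{u} (Fin n) → ULift.{u} (Fin (n + 1)) := fun a => ⟨a.down.castSucc⟩
  let last : ULift.{u} (Fin (n + 1)) := ⟨Fin.last n⟩
  let A' : Scheme.{u} := 𝔸(ULift.{u} (Fin (n + 1)); S)
  let π : A' ⟶ A := AffineSpace.reindex r S
  let j : (U : Scheme.{u}) ⟶ A := U.ι ≫ V.ι
  let W : A'.Opens := π ⁻¹ᵁ j.opensRange
  let u : (W : Scheme.{u}) ⟶ U := IsOpenImmersion.lift j (W.ι ≫ π) (by
    rintro _ ⟨w, rfl⟩; exact w.2)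
  have hu : u ≫ j = W.ι ≫ π := IsOpenImmersion.lift_fac _ _ _
  let Wo : Over S := Over.mk (W.ι ≫ (A' ↘ S))
  let Uo : Over S := Over.mk (U.ι ≫ sV)
  let uo : Wo ⟶ Uo := Over.homMk u (by
    show u ≫ U.ι ≫ V.ι ≫ (A ↘ S) = W.ι ≫ (A' ↘ S)
    rw [← Category.assoc U.ι, ← Category.assoc, hu, Category.assoc, AffineSpace.reindex_over])
  let σ : Uo ⟶ G := Over.homMk ψ' hψ'
  obtain ⟨τ, hτ⟩ := Groth.GrpschAbsch.gaFn_surjective Wo (W.ι.appTop (AffineSpace.coord S last))
  let Φ : Wo ⟶ G := (uo ≫ σ) * (τ ≫ i)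
  -- every point of the preimage of the image is reached
  have hrange : q.left.base ⁻¹' Set.range (U.ι ≫ ψ).base ⊆ Set.range Φ.left.base := by
    rintro g ⟨v, hv⟩
    rw [← hagree] at hv
    obtain ⟨z, hz1, hz2⟩ := Scheme.Pullback.exists_preimage_pullback (f := q.left) (g := ψ' ≫ q.left) g v hv.symm
    let P := pullback q.left (ψ' ≫ q.left)
    let c := P.fromSpecResidueField z
    let T : Over S := Over.mk (c ≫ pullback.snd q.left (ψ' ≫ q.left) ≫ Uo.hom)
    let vT : T ⟶ Uo := Over.homMk (c ≫ pullback.snd _ _) (Category.assoc _ _ _)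
    let gT : T ⟶ G := Over.homMk (c ≫ pullback.fst _ _) (by
      show (c ≫ pullback.fst _ _) ≫ G.hom = c ≫ pullback.snd _ _ ≫ Uo.hom
      rw [Category.assoc, ← Over.w q, pullback.condition_assoc, Category.assoc, Over.w q, hψ']
      rfl)
    have hgv : gT ≫ q = vT ≫ σ ≫ q := by
      ext1
      show (c ≫ pullback.fst _ _) ≫ q.left = (c ≫ pullback.snd _ _) ≫ ψ' ≫ q.left
      rw [Category.assoc, Category.assoc, pullback.condition]
    obtain ⟨d, hd⟩ := Groth.AlgGrp1.IsKernel.exists_lift hker (gT / (vT ≫ σ))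
      (by rw [GrpObj.div_comp, hgv, Category.assoc, div_self'])
    let coords : ULift.{u} (Fin (n + 1)) → Γ(T.left, ⊤) := fun a =>
      Fin.lastCases (motive := fun _ => Γ(T.left, ⊤)) (Red.gaFn d)
        (fun b => (vT.left ≫ j).appTop (AffineSpace.coord S ⟨b⟩)) a.down
    let w₀ : T.left ⟶ A' := AffineSpace.homOfVector T.hom coords
    have hw₀π : w₀ ≫ π = vT.left ≫ j := by
      refine AffineSpace.hom_ext ?_ fun a => ?_
      · rw [Category.assoc, AffineSpace.reindex_over, AffineSpace.homOfVector_over, ← Over.w vT]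
        simp [j, Uo, sV]
        rfl
      · rw [Scheme.Hom.comp_appTop, CommRingCat.comp_apply, AffineSpace.reindex_appTop_coord,
          AffineSpace.homOfVector_appTop_coord]
        obtain ⟨a⟩ := a
        simp [coords, r]
    have hw₀W : Set.range w₀.base ⊆ Set.range W.ι.base := by
      rintro _ ⟨e, rfl⟩
      rw [Scheme.Opens.range_ι]
      show π (w₀ e) ∈ j.opensRange
      rw [← Scheme.Hom.comp_apply, hw₀π]
      exact ⟨vT.left e, rfl⟩
    let w := IsOpenImmersion.lift W.ι w₀ hw₀W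
    have hw : w ≫ W.ι = w₀ := IsOpenImmersion.lift_fac _ _ _
    let wo : T ⟶ Wo := Over.homMk w (by
      show w ≫ W.ι ≫ _ = _
      rw [← Category.assoc, hw, AffineSpace.homOfVector_over])
    have hwu : wo ≫ uo = vT := by
      ext1
      show w ≫ u = vT.left
      rw [← cancel_mono j, Category.assoc, hu, ← Category.assoc, hw, hw₀π]
    have hwτ : wo ≫ τ = d := Groth.GrpschAbsch.gaFn_injective (by
      rw [Groth.GrpschAbsch.gaFn_comp, hτ, ← CommRingCat.comp_apply]
      rw [← Scheme.Hom.comp_appTop, show wo.left ≫ W.ι = w₀ from hw, AffineSpace.homOfVector_appTop_coord]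
      simp [coords, last])
    have hΦ : wo ≫ Φ = gT := by
      rw [MonObj.comp_mul, ← Category.assoc, hwu, ← Category.assoc, hwτ, hd, mul_div_cancel]
    refine ⟨w (IsLocalRing.closedPoint _), ?_⟩
    refine (congr(($hΦ).left.base (IsLocalRing.closedPoint (P.residueField z)))).trans ?_
    show pullback.fst q.left (ψ' ≫ q.left) (c _) = g
    rw [Scheme.fromSpecResidueField_apply, hz1]
  have hdΦ : DenseRange Φ.left.base :=
    (Dense.preimage hdenseU q.left.isOpenMap).mono hrange
  have : Nonempty G.left := ⟨η[G].left (IsLocalRing.closedPoint κ)⟩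
  obtain ⟨w⟩ := hdΦ.nonempty
  exact ⟨W, Φ.left, ⟨w.1, w.2⟩, hdΦ, Over.w Φ⟩

end Groth.NeronArea.GaTorsor
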