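import Groth.Agent.GrpschAbsch.SchDense
import Groth.Agent.SmoothSlice.Sections
import Mathlib.AlgebraicGeometry.Fiber
import Mathlib.AlgebraicGeometry.Morphisms.Finite
import Mathlib.AlgebraicGeometry.Morphisms.SchemeTheoreticallyDominant
import Mathlib.FieldTheory.Perfect
import Mathlib.RingTheory.Jacobson.Ring

/-! Morphisms agreeing at étale quasi-sections and on a scheme-theoretically dense open agree. -/

set_option backward.isDefEq.respectTransparency false

universe u

open CategoryTheory CategoryTheory.Limits AlgebraicGeometry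

namespace Groth.NeronArea

/-- Points closed in their fibre have finite residue field extensions. -/
lemma finite_residueFieldMap_of_isClosed {X S : Scheme.{u}} (f : X ⟶ S) [LocallyOfFiniteType f]
    (x : X) (hx : IsClosed ({f.asFiber x} : Set (f.fiber (f x)))) :
    (f.residueFieldMap x).hom.Finite := by
  haveI : IsClosedImmersion (f.asFiberHom x) :=
    .of_isPreimmersion _ (by rw [Scheme.Hom.range_asFiberHom]; exact hx)
  haveI : LocallyOfFiniteType (f.fiberToSpecResidueField (f x)) :=
    MorphismProperty.pullback_snd (P := @LocallyOfFiniteType) _ _ inferInstance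
  haveI h : LocallyOfFiniteType (Spec.map (f.residueFieldMap x)) := by
    rw [← Scheme.Hom.asFiberHom_fiberToSpecResidueField]; infer_instance
  exact RingHom.finite_iff_finiteType_of_isJacobsonRing.2
    ((HasRingHomProperty.Spec_iff (P := @LocallyOfFiniteType)).1 h)

/-- Equality of morphisms to a possibly non-separated scheme. -/
lemma eq_of_pointwise_of_dominant {Z N S W : Scheme.{u}} (q : N ⟶ S) (ι : W ⟶ Z)
    [IsSchemeTheoreticallyDominant ι] (g₁ g₂ : Z ⟶ N) (h : g₁ ≫ q = g₂ ≫ q) (hι : ι ≫ g₁ = ι ≫ g₂)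
    (hp : ∀ z : Z, z ∈ Set.range (pullback.snd (pullback.diagonal q) (pullback.lift g₁ g₂ h))) :
    g₁ = g₂ := by
  let e := pullback.snd (pullback.diagonal q) (pullback.lift g₁ g₂ h)
  haveI : IsImmersion e := MorphismProperty.pullback_snd (P := @IsImmersion) _ _ inferInstance
  haveI : IsClosedImmersion e :=
    .of_isPreimmersion _ (by rw [Set.eq_univ_of_forall hp]; exact isClosed_univ)
  let t : W ⟶ pullback (pullback.diagonal q) (pullback.lift g₁ g₂ h) :=
    pullback.lift (ι ≫ g₁) ι (by apply pullback.hom_ext <;> simp [hι])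
  have hk : e.ker = ⊥ := by
    rw [← le_bot_iff, ← ι.ker_eq_bot, ← (pullback.lift_snd _ _ _ : t ≫ e = ι)]
    exact t.le_ker_comp e
  haveI : IsIso e := IsClosedImmersion.isIso_iff_ker_eq_bot.mpr hk
  have hc := pullback.condition (f := pullback.diagonal q) (g := pullback.lift g₁ g₂ h)
  rw [← cancel_epi e]
  have h1 := hc =≫ pullback.fst q q
  have h2 := hc =≫ pullback.snd q q
  simp only [Category.assoc, pullback.diagonal_fst, pullback.diagonal_snd, Category.comp_id,
    pullback.lift_fst, pullback.lift_snd] at h1 h2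
  exact h1.symm.trans h2

/-- Over a scheme of characteristic zero, morphisms from a smooth scheme that agree on a
scheme-theoretically dense part and on all étale quasi-sections are equal. -/
theorem eq_of_agree_etale_sections {Z N S W : Scheme.{u}} (p : Z ⟶ S) [Smooth p] (q : N ⟶ S)
    (ι : W ⟶ Z) [IsSchemeTheoreticallyDominant ι] (g₁ g₂ : Z ⟶ N) (h₁ : g₁ ≫ q = p) (h₂ : g₂ ≫ q = p)
    (hι : ι ≫ g₁ = ι ≫ g₂) (hchar : ∀ s : S, CharZero (S.residueField s))
    (hsec : ∀ (V : Scheme.{u}) (i : V ⟶ Z), Etale (i ≫ p) → i ≫ g₁ = i ≫ g₂) : g₁ = g₂ := by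
  have h : g₁ ≫ q = g₂ ≫ q := h₁.trans h₂.symm
  refine eq_of_pointwise_of_dominant q ι g₁ g₂ h hι fun z => ?_
  let e := pullback.snd (pullback.diagonal q) (pullback.lift g₁ g₂ h)
  haveI : IsImmersion e := MorphismProperty.pullback_snd (P := @IsImmersion) _ _ inferInstance
  let T := (p.fiberι (p z)) ⁻¹' (Set.range e)
  have hT : IsLocallyClosed T :=
    e.isLocallyClosed_range.preimage (p.fiberι (p z)).continuous
  have key : ∀ y : p.fiber (p z), IsClosed ({y} : Set (p.fiber (p z))) → y ∈ T := by
    intro y hy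
    suffices H : ∀ (s : S) (y : p.fiber s), IsClosed ({y} : Set (p.fiber s)) →
        p.fiberι s y ∈ Set.range e from H _ y hy
    intro s y hy
    obtain ⟨x, hx⟩ : ∃ x, p.fiberι s y = x := ⟨_, rfl⟩
    have hs : p x = s := by
      have : p.fiberι s y ∈ p ⁻¹' {s} := by rw [← p.range_fiberι s]; exact ⟨y, rfl⟩
      rw [← hx]; exact this
    subst hs
    have hy' : y = p.asFiber x :=
      (p.fiberι (p x)).isEmbedding.injective (by rw [hx, Scheme.Hom.fiberι_asFiber])
    subst hy'
    have hfin := finite_residueFieldMap_of_isClosed p x hy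
    haveI := hchar (p x)
    letI := (p.residueFieldMap x).hom.toAlgebra
    haveI : Module.Finite (S.residueField (p x)) (Z.residueField x) := hfin
    haveI : Algebra.IsAlgebraic (S.residueField (p x)) (Z.residueField x) := Algebra.IsAlgebraic.of_finite _ _
    obtain ⟨V, i, v, -, hi, hv, -⟩ := Groth.SmoothSlice.exists_etale_slice_through p x
      (Algebra.IsAlgebraic.isSeparable_of_perfectField)
    let t : V ⟶ pullback (pullback.diagonal q) (pullback.lift g₁ g₂ h) :=
      pullback.lift (i ≫ g₁) i (by apply pullback.hom_ext <;> simp [hsec V i hi])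
    refine ⟨t v, ?_⟩
    rw [← Scheme.Hom.comp_apply, pullback.lift_snd, hv, hx]
  obtain ⟨O, C, hO, hC, hTeq⟩ := hT
  have hsub : ∀ {M : Set (p.fiber (p z))}, IsLocallyClosed M → Disjoint M T → M = ∅ := by
    intro M hM hMT
    by_contra hne
    obtain ⟨y, hyM, hyc⟩ := nonempty_inter_closedPoints (Set.nonempty_iff_ne_empty.2 hne) hM
    exact Set.disjoint_left.1 hMT hyM (key y hyc)
  have h1 : Oᶜ = ∅ := hsub hO.isClosed_compl.isLocallyClosed
    (Set.disjoint_left.2 fun y hy hyT => hy (hTeq ▸ hyT).1)
  have h2 : Cᶜ = ∅ := hsub hC.isOpen_compl.isLocallyClosed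
    (Set.disjoint_left.2 fun y hy hyT => hy (hTeq ▸ hyT).2)
  have : p.asFiber z ∈ T := by
    rw [hTeq, Set.compl_empty_iff.1 h1, Set.compl_empty_iff.1 h2]; exact ⟨trivial, trivial⟩
  simpa [T, e] using this

end Groth.NeronArea
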