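import Mathlib.AlgebraicGeometry.EllipticCurve.Affine.Point
import Mathlib.RingTheory.RegularLocalRing.Defs
import Mathlib.RingTheory.Ideal.GoingDown
import Mathlib.RingTheory.DiscreteValuationRing.Basic
import Mathlib.RingTheory.Flat.Basic
import Mathlib.RingTheory.Polynomial.Basic

/-! Local rings of affine Weierstrass schemes over a discrete valuation ring. -/

open Polynomial

namespace Groth.NeronArea.Weierstrass

variable {R : Type*} [CommRing R] [IsDomain R] [IsDiscreteValuationRing R]
  (W : WeierstrassCurve.Affine R)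

open WeierstrassCurve.Affine.CoordinateRing in
lemma two_le_height (P : Ideal W.CoordinateRing) [P.IsPrime] {π : R} (hπ : Irreducible π)
    (hπP : algebraMap R W.CoordinateRing π ∈ P)
    (hne : P.comap (algebraMap R[X] W.CoordinateRing) ≠ Ideal.span {C π}) :
    2 ≤ P.height := by
  have : Module.Flat R[X] W.CoordinateRing := Module.Flat.of_free
  set p := P.comap (algebraMap R[X] W.CoordinateRing) with hp
  have hprime : (Ideal.span {C π} : Ideal R[X]).IsPrime := by
    rw [Ideal.span_singleton_prime (by simpa using hπ.ne_zero)]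
    exact Polynomial.prime_C_iff.2 hπ.prime
  have hle : Ideal.span {C π} ≤ p := by
    rw [Ideal.span_singleton_le_iff_mem, hp, Ideal.mem_comap]
    rwa [← Polynomial.algebraMap_eq, ← IsScalarTower.algebraMap_apply]
  have : P.LiesOver p := ⟨rfl⟩
  obtain ⟨Q, hQlt, hQp, hQ⟩ := Ideal.exists_ideal_lt_liesOver_of_lt (q := p) P (lt_of_le_of_ne hle (Ne.symm hne))
  have hbot : (⊥ : Ideal R[X]) < Ideal.span {C π} := by
    rw [bot_lt_iff_ne_bot, Ne, Ideal.span_singleton_eq_bot]; simpa using hπ.ne_zero
  obtain ⟨Q₀, hQ₀lt, hQ₀p, hQ₀⟩ :=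
    Ideal.exists_ideal_lt_liesOver_of_lt (p := (⊥ : Ideal R[X])) (q := Ideal.span {C π}) Q hbot
  have h1 := Ideal.height_add_one_le_of_lt_of_isPrime hQlt
  have h0 := Ideal.height_add_one_le_of_lt_of_isPrime hQ₀lt
  calc (2 : ℕ∞) ≤ Q₀.height + 1 + 1 := by
        rw [add_assoc]; exact le_add_left (by norm_num)
    _ ≤ P.height := le_trans (add_le_add h0 le_rfl) h1

lemma two_le_ringKrullDim (P : Ideal W.CoordinateRing) [P.IsPrime] {π : R} (hπ : Irreducible π)
    (hπP : algebraMap R W.CoordinateRing π ∈ P)
    (hne : P.comap (algebraMap R[X] W.CoordinateRing) ≠ Ideal.span {C π}) :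
    2 ≤ ringKrullDim (Localization.AtPrime P) := by
  rw [IsLocalization.AtPrime.ringKrullDim_eq_height P]
  exact (WithBot.coe_le_coe.2 (two_le_height W P hπ hπP hne) : ((2 : ℕ∞) : WithBot ℕ∞) ≤ P.height)

/-- A local ring whose maximal ideal needs at most two generators and of dimension two is regular. -/
lemma isRegularLocalRing_of_span_pair {A : Type*} [CommRing A] [IsNoetherianRing A] (P : Ideal A)
    [P.IsPrime] (x y : Localization.AtPrime P)
    (hxy : IsLocalRing.maximalIdeal (Localization.AtPrime P) = Ideal.span {x, y})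
    (hdim : 2 ≤ ringKrullDim (Localization.AtPrime P)) :
    IsRegularLocalRing (Localization.AtPrime P) := by
  refine IsRegularLocalRing.of_spanFinrank_maximalIdeal_le _ (le_trans ?_ hdim)
  rw [hxy]
  have := Submodule.spanFinrank_span_le_ncard_of_finite (R := Localization.AtPrime P)
    (M := Localization.AtPrime P) (s := {x, y}) (Set.toFinite _)
  exact_mod_cast this.trans ((Set.ncard_insert_le x {y}).trans (by simp))

end Groth.NeronArea.Weierstrass
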