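import Groth.Agent.NeronArea.WeilReduction

/-! Reduction induces a bijection of component groups for Weil restrictions with trivial residue
extension. -/

set_option autoImplicit false
set_option linter.style.haveILetI false
set_option linter.unusedSectionVars false

universe u

open CategoryTheory CategoryTheory.Limits CategoryTheory.MonoidalCategory CartesianMonoidalCategory
  AlgebraicGeometry MonObj TensorProduct

namespace Groth.NeronArea.WeilReduction

variable {R : Type u} [CommRing R] [IsLocalRing R] {R' : Type u} [CommRing R'] [Algebra R R']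
  [IsLocalRing R'] {N' : Over (Spec (CommRingCat.of R'))} {W : Over (Spec (CommRingCat.of R))}
  {q : Red.bc (fmap R R') W ⟶ N'}

theorem mem_neutralSet_iff {A : Type u} [CommRing A] [IsLocalRing A]
    (G : Over (Spec (CommRingCat.of A))) [GrpObj G] (x : G.left) (hx : x ∈ fib G) :
    x ∈ SGA3x.neutralSet G ↔
      x ∈ connectedComponentIn (fib G) (η[G].left (IsLocalRing.closedPoint A)) := by
  constructor
  · intro h
    obtain ⟨p, hp⟩ := Set.mem_iUnion.1 h
    have hp' : G.hom x = p := connectedComponentIn_subset (G.hom ⁻¹' {(p : PrimeSpectrum A)}) _ hp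
    have he : IsLocalRing.closedPoint A = p := (hx : G.hom x = IsLocalRing.closedPoint A).symm.trans hp'
    subst he
    exact hp
  · intro h
    exact Set.mem_iUnion.2 ⟨IsLocalRing.closedPoint A, h⟩

variable (W R') in
/-- The closed fibre of `W` over the residue field of `R'`. -/
noncomputable def XP : Over (Spec (CommRingCat.of R')) :=
  Over.mk (pullback.snd W.hom ((Tκ R').hom ≫ fmap R R') ≫ (Tκ R').hom)

variable (W R') in
/-- The inclusion of the closed fibre. -/
noncomputable def univ : (Over.map (fmap R R')).obj (XP R' W) ⟶ W :=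
  Over.homMk (pullback.fst _ _) (by
    show _ = (pullback.snd W.hom ((Tκ R').hom ≫ fmap R R') ≫ (Tκ R').hom) ≫ fmap R R'
    rw [Category.assoc]
    exact pullback.condition)

/-- The point of the closed fibre defined by a residue-valued point. -/
noncomputable def fibPt (w : (Over.map (fmap R R')).obj (Tκ R') ⟶ W) : Tκ R' ⟶ XP R' W :=
  Over.homMk (pullback.lift w.left (𝟙 _) (by rw [Category.id_comp]; exact Over.w w)) (by
    show _ ≫ pullback.snd _ _ ≫ (Tκ R').hom = _
    rw [pullback.lift_snd_assoc]
    exact Category.id_comp _)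

theorem fibPt_univ (w : (Over.map (fmap R R')).obj (Tκ R') ⟶ W) :
    (Over.map (fmap R R')).map (fibPt w) ≫ univ R' W = w := by
  ext1
  exact pullback.lift_fst _ _ _

theorem range_univ (hS : Small R R') : Set.range (univ R' W).left = fib W := by
  show Set.range (pullback.fst W.hom ((Tκ R').hom ≫ fmap R R')) = _
  rw [Scheme.Pullback.range_fst]
  congr 1
  refine Set.eq_singleton_iff_unique_mem.2 ⟨⟨IsLocalRing.closedPoint _, ?_⟩, ?_⟩ <;>
  have h : ∀ P : PrimeSpectrum (IsLocalRing.ResidueField R'),
      ((Tκ R').hom ≫ fmap R R') P = IsLocalRing.closedPoint R := fun P => by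
    rw [Scheme.Hom.comp_apply]
    show PrimeSpectrum.comap (algebraMap R R') (PrimeSpectrum.comap (algebraMap R' _) P) = _
    rw [closed_of_kills (fun m hm => (IsLocalRing.residue_eq_zero_iff m).2 hm) P]
    exact PrimeSpectrum.ext ((IsLocalRing.maximalIdeal.isMaximal R).eq_of_le
      (Ideal.IsPrime.ne_top inferInstance) fun r hr => hS.local_hom r hr).symm
  · exact h _
  · rintro _ ⟨P, rfl⟩; exact h P

theorem isEmbedding_univ (hS : Small R R') : Topology.IsEmbedding (univ R' W).left := by
  haveI : IsClosedImmersion ((Tκ R').hom ≫ fmap R R') := by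
    show IsClosedImmersion (Spec.map _ ≫ Spec.map _)
    rw [← Spec.map_comp]
    exact IsClosedImmersion.spec_of_surjective _ hS.surjective_residue
  exact (pullback.fst W.hom ((Tκ R').hom ≫ fmap R R')).isEmbedding

/-- Morphisms out of the closed fibre respect components. -/
theorem image_sameComp (hS : Small R R') {Y : Type u} [TopologicalSpace Y]
    (ψ : (XP R' W).left → Y) (hψ : Continuous ψ) (F : Set Y) (hF : ∀ x, ψ x ∈ F)
    {w w' : (Over.map (fmap R R')).obj (Tκ R') ⟶ W} (h : SameComp w w') :
    ψ (img (fibPt w').left) ∈ connectedComponentIn F (ψ (img (fibPt w).left)) := by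
  have hi : ∀ v : (Over.map (fmap R R')).obj (Tκ R') ⟶ W,
      (univ R' W).left (img (fibPt v).left) = img v.left := fun v => by
    conv_rhs => rw [← fibPt_univ v]
    rfl
  have h' : img w'.left ∈ connectedComponentIn (fib W) (img w.left) := h
  rw [← range_univ hS, ← hi w, ← hi w',
    Groth.GrpschAbsch.NeutralSet.connectedComponentIn_range (isEmbedding_univ hS),
    (isEmbedding_univ hS).injective.mem_set_image] at h'
  exact (isPreconnected_connectedComponent.image ψ hψ.continuousOn).subset_connectedComponentIn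
    ⟨_, mem_connectedComponent, rfl⟩ (by rintro _ ⟨x, -, rfl⟩; exact hF x) ⟨_, h', rfl⟩

theorem SameComp.comp (hS : Small R R') (Φ : (Over.map (fmap R R')).obj (XP R' W) ⟶ W)
    {w w' : (Over.map (fmap R R')).obj (Tκ R') ⟶ W} (h : SameComp w w') :
    SameComp ((Over.map (fmap R R')).map (fibPt w) ≫ Φ)
      ((Over.map (fmap R R')).map (fibPt w') ≫ Φ) :=
  image_sameComp hS (fun x => Φ.left x) Φ.left.continuous (fib W) (fun x => by
    show W.hom (Φ.left x) = _
    rw [← Scheme.Hom.comp_apply, Over.w Φ]
    have : (univ R' W).left x ∈ fib W := range_univ hS ▸ Set.mem_range_self x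
    rw [← (this : W.hom ((univ R' W).left x) = _), ← Scheme.Hom.comp_apply, Over.w (univ R' W)]) h

theorem red_sameComp (hS : Small R R')
    {w w' : (Over.map (fmap R R')).obj (Tκ R') ⟶ W} (h : SameComp w w') :
    img (red q _ w').left ∈ connectedComponentIn (fib N') (img (red q _ w).left) := by
  have hp : ∀ v : (Over.map (fmap R R')).obj (Tκ R') ⟶ W,
      red q _ v = fibPt v ≫ red q _ (univ R' W) := fun v => by rw [← red_comp, fibPt_univ]
  rw [hp w, hp w']
  refine image_sameComp hS (fun x => (red q _ (univ R' W)).left x) (Scheme.Hom.continuous _) (fib N')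
    (fun x => ?_) h
  show N'.hom _ = _
  rw [← Scheme.Hom.comp_apply, Over.w (red q _ (univ R' W))]
  exact IsLocalRing.PrimeSpectrum.comap_residue R' _

variable [IsAlgClosed (IsLocalRing.ResidueField R')] [Smooth N'.hom]

/-- Reduction is injective on components. -/
theorem sameComp_iff (hS : Small R R') (hW : WeilRes.IsWeilRes (fmap R R') N' W q)
    (w w' : (Over.map (fmap R R')).obj (Tκ R') ⟶ W) :
    SameComp w w' ↔ img (red q _ w').left ∈ connectedComponentIn (fib N') (img (red q _ w).left) := by
  refine ⟨red_sameComp hS, fun h => by_contra fun hn => ?_⟩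
  have hself : SameComp w w := mem_connectedComponentIn (img_mem_fib hS w)
  let good (P : Prop → Prop) (O : Set N'.left) : Prop :=
    IsOpen O ∧ ∀ v, img (red q _ v).left ∈ O → P (SameComp w v)
  let Yes : Set N'.left := ⋃ (O : Set N'.left) (_ : good id O), O
  let No : Set N'.left := ⋃ (O : Set N'.left) (_ : good Not O), O
  have hYo : IsOpen Yes := isOpen_biUnion fun O hO => hO.1
  have hNo : IsOpen No := isOpen_biUnion fun O hO => hO.1
  have hcov : ∀ n ∈ fib N', n ∈ Yes ∪ No := by
    intro n hn'
    obtain ⟨O, hOo, hnO, -, hOsame, -⟩ := exists_nhd hS hW n hn'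
    by_cases hex : ∃ v, img (red q _ v).left ∈ O ∧ SameComp w v
    · obtain ⟨v, hv, hwv⟩ := hex
      refine Or.inl (Set.mem_biUnion (show good id O from ⟨hOo, fun v' hv' => ?_⟩) hnO)
      show img v'.left ∈ connectedComponentIn (fib W) (img w.left)
      rw [connectedComponentIn_eq hwv]
      exact hOsame v v' hv hv'
    · exact Or.inr (Set.mem_biUnion
        (show good Not O from ⟨hOo, fun v hv hwv => hex ⟨v, hv, hwv⟩⟩) hnO)
  have hin : ∀ v, SameComp w v → img (red q _ v).left ∈ Yes := fun v hv => by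
    rcases hcov _ (img_mem_fib' (red q _ v)) with h1 | h1
    · exact h1
    · obtain ⟨O, hO, hvO⟩ := Set.mem_iUnion₂.1 h1
      exact absurd hv (hO.2 v hvO)
  have hout : img (red q _ w').left ∈ No := by
    rcases hcov _ (img_mem_fib' (red q _ w')) with h1 | h1
    · obtain ⟨O, hO, hvO⟩ := Set.mem_iUnion₂.1 h1
      exact absurd (hO.2 w' hvO) hn
    · exact h1
  have hpre : _root_.IsPreconnected (connectedComponentIn (fib N') (img (red q _ w).left)) :=
    isPreconnected_connectedComponentIn
  obtain ⟨m, hmC, hmY, hmN⟩ := hpre Yes No hYo hNo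
    (fun n hn' => hcov n (connectedComponentIn_subset _ _ hn'))
    ⟨_, mem_connectedComponentIn (img_mem_fib' _), hin w hself⟩ ⟨_, h, hout⟩
  obtain ⟨O, hO, hmO⟩ := Set.mem_iUnion₂.1 hmY
  obtain ⟨O', hO', hmO'⟩ := Set.mem_iUnion₂.1 hmN
  obtain ⟨On, hOno, hmOn, -, -, hdense⟩ := exists_nhd hS hW m (connectedComponentIn_subset _ _ hmC)
  obtain ⟨p, -, hp1, hp2⟩ := hdense (O ∩ O') (hO.1.inter hO'.1)
    ⟨m, ⟨hmOn, hmO, hmO'⟩, connectedComponentIn_subset _ _ hmC⟩
  obtain ⟨v, rfl⟩ := exists_lift_point hS hW p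
  exact hO'.2 v hp2 (hO.2 v hp1)

/-- Reduction is surjective on components. -/
theorem exists_component (hS : Small R R') (hW : WeilRes.IsWeilRes (fmap R R') N' W q) (y : N'.left)
    (hy : y ∈ fib N') : ∃ w : (Over.map (fmap R R')).obj (Tκ R') ⟶ W,
      img (red q _ w).left ∈ connectedComponentIn (fib N') y := by
  obtain ⟨O, -, -, ⟨p, hp⟩, -, -⟩ := exists_nhd hS hW y hy
  obtain ⟨v, rfl⟩ := exists_lift_point hS hW p
  exact ⟨v, hp⟩

section Group

variable [GrpObj W]

theorem one_img (hS : Small R R') :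
    img (1 : (Over.map (fmap R R')).obj (Tκ R') ⟶ W).left = η[W].left (IsLocalRing.closedPoint R) := by
  show ((toUnit ((Over.map (fmap R R')).obj (Tκ R'))).left ≫ η[W].left) _ = _
  rw [Scheme.Hom.comp_apply, show (toUnit ((Over.map (fmap R R')).obj (Tκ R'))).left =
    (Tκ R').hom ≫ fmap R R' from (Category.comp_id _).symm.trans (Over.w (toUnit _))]
  congr 1
  rw [Scheme.Hom.comp_apply]
  show PrimeSpectrum.comap (algebraMap R R')
    (PrimeSpectrum.comap (algebraMap R' (IsLocalRing.ResidueField R')) _) = _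
  rw [closed_of_kills (D := IsLocalRing.ResidueField R')
    (fun m hm => (IsLocalRing.residue_eq_zero_iff m).2 hm)]
  exact PrimeSpectrum.ext ((IsLocalRing.maximalIdeal.isMaximal R).eq_of_le
    (Ideal.IsPrime.ne_top inferInstance) fun r hr => hS.local_hom r hr).symm

theorem mem_neutral_iff (hS : Small R R') (w : (Over.map (fmap R R')).obj (Tκ R') ⟶ W) :
    img w.left ∈ SGA3x.neutralSet W ↔ SameComp 1 w := by
  rw [mem_neutralSet_iff W _ (img_mem_fib hS w), SameComp, one_img hS]

theorem img_one' [GrpObj N'] :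
    img (1 : Tκ R' ⟶ N').left = η[N'].left (IsLocalRing.closedPoint R') := by
  show ((toUnit (Tκ R')).left ≫ η[N'].left) _ = _
  rw [Scheme.Hom.comp_apply, show (toUnit (Tκ R')).left = (Tκ R').hom from
    (Category.comp_id _).symm.trans (Over.w (toUnit _))]
  congr 1
  exact IsLocalRing.PrimeSpectrum.comap_residue R' _

theorem neutral_red_iff [GrpObj N'] [IsMonHom q] (hS : Small R R')
    (hW : WeilRes.IsWeilRes (fmap R R') N' W q)
    (w : (Over.map (fmap R R')).obj (Tκ R') ⟶ W) :
    img w.left ∈ SGA3x.neutralSet W ↔ img (red q _ w).left ∈ SGA3x.neutralSet N' := by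
  rw [mem_neutral_iff hS, sameComp_iff hS hW 1 w, red_one,
    mem_neutralSet_iff N' _ (img_mem_fib' _), img_one']

theorem sameComp_of_div (hS : Small R R') {x y : (Over.map (fmap R R')).obj (Tκ R') ⟶ W}
    (h : img (x * y⁻¹).left ∈ SGA3x.neutralSet W) : SameComp y x := by
  have h1 := ((mem_neutral_iff hS _).1 h).comp hS
    (univ R' W * ((Over.map (fmap R R')).map (Over.homMk (pullback.snd _ _) rfl : XP R' W ⟶ Tκ R') ≫ y))
  have h2 : ∀ v : (Over.map (fmap R R')).obj (Tκ R') ⟶ W,
      (Over.map (fmap R R')).map (fibPt v) ≫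
        (univ R' W * ((Over.map (fmap R R')).map
          (Over.homMk (pullback.snd _ _) rfl : XP R' W ⟶ Tκ R') ≫ y)) = v * y := fun v => by
    rw [MonObj.comp_mul, fibPt_univ, ← Category.assoc, ← Functor.map_comp,
      show fibPt v ≫ (Over.homMk (pullback.snd _ _) rfl : XP R' W ⟶ Tκ R') = 𝟙 _ by
        ext1; exact pullback.lift_snd _ _ _, CategoryTheory.Functor.map_id, Category.id_comp]
  rw [h2, h2, _root_.one_mul, inv_mul_cancel_right] at h1
  exact h1

theorem neutral_pow_iff (hS : Small R R') {x y : (Over.map (fmap R R')).obj (Tκ R') ⟶ W}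
    (h : img (x * y⁻¹).left ∈ SGA3x.neutralSet W) (n : ℕ) :
    img (x ^ n).left ∈ SGA3x.neutralSet W ↔ img (y ^ n).left ∈ SGA3x.neutralSet W := by
  have h1 := (sameComp_of_div hS h).comp hS (univ R' W ^ n)
  rw [MonObj.comp_pow, MonObj.comp_pow, fibPt_univ, fibPt_univ] at h1
  have h2 : connectedComponentIn (fib W) (img (y ^ n).left) =
      connectedComponentIn (fib W) (img (x ^ n).left) := connectedComponentIn_eq h1
  rw [mem_neutral_iff hS, mem_neutral_iff hS, SameComp, SameComp]
  constructor <;> intro h3 <;> rw [connectedComponentIn_eq h3]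
  · rw [← h2]; exact mem_connectedComponentIn (img_mem_fib hS _)
  · rw [h2]; exact mem_connectedComponentIn (img_mem_fib hS _)

end Group

section DVR

variable {R : Type u} [CommRing R] [IsDomain R] [IsDiscreteValuationRing R]
  [IsAlgClosed (IsLocalRing.ResidueField R)] {R' : Type u} [CommRing R'] [IsDomain R']
  [IsDiscreteValuationRing R'] [Algebra R R'] [Module.Finite R R'] [FaithfulSMul R R']

theorem small_of_dvr : Small R R' ∧ IsAlgClosed (IsLocalRing.ResidueField R') := by
  haveI : IsLocalHom (algebraMap R R') :=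
    (algebraMap_isIntegral_iff.2 (inferInstance : Algebra.IsIntegral R R')).isLocalHom
      (FaithfulSMul.algebraMap_injective R R')
  have hloc : ∀ r : R, r ∈ IsLocalRing.maximalIdeal R → algebraMap R R' r ∈ IsLocalRing.maximalIdeal R' :=
    fun r hr => map_nonunit (algebraMap R R') r hr
  let κ := IsLocalRing.ResidueField R
  let κ' := IsLocalRing.ResidueField R'
  have hb : Function.Bijective (algebraMap κ κ') := IsAlgClosed.algebraMap_bijective_of_isIntegral
  refine ⟨⟨hloc, fun x => ?_, ?_⟩,
    IsAlgClosed.of_ringEquiv κ κ' (RingEquiv.ofBijective _ hb)⟩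
  · obtain ⟨y, hy⟩ := hb.2 (IsLocalRing.residue R' x)
    obtain ⟨r, rfl⟩ := IsLocalRing.residue_surjective y
    refine ⟨r, ?_⟩
    rw [← IsLocalRing.residue_eq_zero_iff, map_sub, sub_eq_zero, ← hy]
    rfl
  · obtain ⟨ϖ, hϖ⟩ := IsDiscreteValuationRing.exists_irreducible R'
    have hne : (IsLocalRing.maximalIdeal R).map (algebraMap R R') ≠ ⊥ := fun h => by
      rw [Ideal.map_eq_bot_iff_of_injective (FaithfulSMul.algebraMap_injective R R')] at h
      exact IsDiscreteValuationRing.not_a_field R h
    obtain ⟨n, hn⟩ := IsDiscreteValuationRing.ideal_eq_span_pow_irreducible hne hϖ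
    exact ⟨n, by rw [hn, hϖ.maximalIdeal_eq, Ideal.span_singleton_pow]⟩

variable (R R') in
/-- The closed point of `R` seen through `R'`. -/
theorem exists_eps : ∃ ε : (Over.map (fmap R R')).obj (Tκ R') ≅
    Over.mk (Spec.map (CommRingCat.ofHom (IsLocalRing.residue R))), True := by
  haveI : IsLocalHom (algebraMap R R') :=
    (algebraMap_isIntegral_iff.2 (inferInstance : Algebra.IsIntegral R R')).isLocalHom
      (FaithfulSMul.algebraMap_injective R R')
  have hb : Function.Bijective
      (algebraMap (IsLocalRing.ResidueField R) (IsLocalRing.ResidueField R')) :=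
    IsAlgClosed.algebraMap_bijective_of_isIntegral
  refine ⟨Over.isoMk (Scheme.Spec.mapIso (RingEquiv.ofBijective _ hb).toCommRingCatIso.op) ?_, trivial⟩
  show Spec.map _ ≫ Spec.map _ = Spec.map _ ≫ Spec.map _
  rw [← Spec.map_comp, ← Spec.map_comp]
  rfl

theorem img_eps {X : Over (Spec (CommRingCat.of R))}
    (e : (Over.map (fmap R R')).obj (Tκ R') ⟶ Over.mk (Spec.map (CommRingCat.ofHom (IsLocalRing.residue R))))
    (x : Over.mk (Spec.map (CommRingCat.ofHom (IsLocalRing.residue R))) ⟶ X) :
    img (e ≫ x).left = x.left.base (IsLocalRing.closedPoint (IsLocalRing.ResidueField R)) :=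
  congrArg (fun P => x.left.base P)
    (Subsingleton.elim (α := PrimeSpectrum (IsLocalRing.ResidueField R)) _ _)

theorem neutral_div_red {N' : Over (Spec (CommRingCat.of R'))} [GrpObj N'] [Smooth N'.hom]
    {W : Over (Spec (CommRingCat.of R))} [GrpObj W] {q : Red.bc (fmap R R') W ⟶ N'} [IsMonHom q]
    (hW : WeilRes.IsWeilRes (fmap R R') N' W q)
    (w v : (Over.map (fmap R R')).obj (Tκ R') ⟶ W)
    (h : img (w * v⁻¹).left ∈ SGA3x.neutralSet W) :
    img (red q _ w * (red q _ v)⁻¹).left ∈ SGA3x.neutralSet N' := by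
  obtain ⟨hS, hac⟩ := small_of_dvr (R := R) (R' := R')
  rwa [← red_inv, ← red_mul, ← neutral_red_iff hS hW]

end DVR

end Groth.NeronArea.WeilReduction
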