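import Mathlib.RingTheory.Smooth.Basic
import Mathlib.RingTheory.TensorProduct.Maps
import Mathlib.RingTheory.LocalRing.ResidueField.Basic
import Mathlib.RingTheory.DiscreteValuationRing.Basic
import Mathlib.RingTheory.Jacobson.Ring
import Mathlib.FieldTheory.IsAlgClosed.Basic
import Mathlib.AlgebraicGeometry.Morphisms.Smooth
import Mathlib.AlgebraicGeometry.PullbackCarrier
import Mathlib.CategoryTheory.Comma.Over.Pullback
import Groth.Prelude.Def_WeilRes

/-! Weil restrictions along a finite extension of local rings with trivial residue extension: points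
with values in algebras killed by the maximal ideal. -/

set_option autoImplicit false
set_option linter.style.haveILetI false

universe u

open CategoryTheory CategoryTheory.Limits AlgebraicGeometry MonObj TensorProduct

namespace Groth.NeronArea.WeilReduction

variable (R R' : Type u) [CommRing R] [CommRing R'] [Algebra R R']

/-- The structure morphism of the base extension. -/
noncomputable abbrev fmap : Spec (CommRingCat.of R') ⟶ Spec (CommRingCat.of R) :=
  Spec.map (CommRingCat.ofHom (algebraMap R R'))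

/-- The affine test object of an `R'`-algebra. -/
noncomputable abbrev TS (D : Type u) [CommRing D] [Algebra R' D] : Over (Spec (CommRingCat.of R')) :=
  Over.mk (Spec.map (CommRingCat.ofHom (algebraMap R' D)))

variable {R R'} {N' : Over (Spec (CommRingCat.of R'))} {W : Over (Spec (CommRingCat.of R))}
  (q : Red.bc (fmap R R') W ⟶ N')

/-- Reduction of a point of the Weil restriction over an `R'`-scheme. -/
noncomputable def red (T' : Over (Spec (CommRingCat.of R')))
    (w : (Over.map (fmap R R')).obj T' ⟶ W) : T' ⟶ N' :=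
  (Over.mapPullbackAdj (fmap R R')).unit.app T' ≫ WeilRes.restr (fmap R R') q _ w

theorem red_comp {T₁ T₂ : Over (Spec (CommRingCat.of R'))} (g : T₁ ⟶ T₂)
    (w : (Over.map (fmap R R')).obj T₂ ⟶ W) :
    red q T₁ ((Over.map (fmap R R')).map g ≫ w) = g ≫ red q T₂ w := by
  rw [red, red, WeilRes.restr_comp, ← Category.assoc, ← Category.assoc]
  congr 1
  exact ((Over.mapPullbackAdj (fmap R R')).unit.naturality g).symm

section Group

variable [GrpObj N'] [GrpObj W] [IsMonHom q]

theorem red_mul (T' : Over (Spec (CommRingCat.of R')))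
    (w w' : (Over.map (fmap R R')).obj T' ⟶ W) : red q T' (w * w') = red q T' w * red q T' w' := by
  rw [red, WeilRes.restr_mul, MonObj.comp_mul]
  rfl

theorem red_one (T' : Over (Spec (CommRingCat.of R'))) : red q T' 1 = 1 := by
  rw [red, WeilRes.restr_one, MonObj.comp_one]

/-- Reduction as a monoid homomorphism. -/
noncomputable def redHom (T' : Over (Spec (CommRingCat.of R'))) :
    ((Over.map (fmap R R')).obj T' ⟶ W) →* (T' ⟶ N') where
  toFun := red q T'
  map_one' := red_one q T'
  map_mul' := red_mul q T'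

theorem red_pow (T' : Over (Spec (CommRingCat.of R')))
    (w : (Over.map (fmap R R')).obj T' ⟶ W) (n : ℕ) : red q T' (w ^ n) = red q T' w ^ n :=
  map_pow (redHom q T') w n

theorem red_inv (T' : Over (Spec (CommRingCat.of R')))
    (w : (Over.map (fmap R R')).obj T' ⟶ W) : red q T' w⁻¹ = (red q T' w)⁻¹ :=
  map_inv (redHom q T') w

end Group

section Algebra

variable (R R')
variable (D : Type u) [CommRing D] [Algebra R' D] [Algebra R D] [IsScalarTower R R' D]

theorem TS_map_hom : ((Over.map (fmap R R')).obj (TS R' D)).hom =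
    Spec.map (CommRingCat.ofHom (algebraMap R D)) := by
  show Spec.map _ ≫ Spec.map _ = _
  rw [← Spec.map_comp, ← CommRingCat.ofHom_comp, ← IsScalarTower.algebraMap_eq]

/-- The base change of an affine test object. -/
noncomputable def bcIso : (Red.bc (fmap R R') ((Over.map (fmap R R')).obj (TS R' D))).left ≅
    Spec (CommRingCat.of (R' ⊗[R] D)) :=
  pullback.congrHom (TS_map_hom R R' D) rfl ≪≫ pullbackSymmetry _ _ ≪≫ pullbackSpecIso R R' D

theorem bcIso_inv_fst : (bcIso R R' D).inv ≫ pullback.fst _ _ =
    Spec.map (CommRingCat.ofHom (Algebra.TensorProduct.includeRight (R := R) (A := R') (B := D)).toRingHom) := by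
  simp only [bcIso, Iso.trans_inv, Category.assoc, pullback.congrHom_inv, pullback.lift_fst,
    Category.comp_id, pullbackSymmetry_inv_comp_fst]
  exact pullbackSpecIso_inv_snd R R' D

theorem bcIso_inv_snd : (bcIso R R' D).inv ≫ pullback.snd _ _ =
    Spec.map (CommRingCat.ofHom (Algebra.TensorProduct.includeLeftRingHom (R := R) (A := R') (B := D))) := by
  simp only [bcIso, Iso.trans_inv, Category.assoc, pullback.congrHom_inv, pullback.lift_snd,
    Category.comp_id, pullbackSymmetry_inv_comp_snd]
  exact pullbackSpecIso_inv_fst R R' D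

/-- The multiplication `R' ⊗ D → D`. -/
noncomputable def mulMap : R' ⊗[R] D →ₐ[R'] D :=
  Algebra.TensorProduct.lift (Algebra.ofId R' D) (AlgHom.id R D) fun _ _ => Commute.all _ _

theorem mulMap_tmul (r : R') (d : D) : mulMap R R' D (r ⊗ₜ d) = algebraMap R' D r * d := by
  simp [mulMap]

theorem unit_eq : ((Over.mapPullbackAdj (fmap R R')).unit.app (TS R' D)).left =
    Spec.map (CommRingCat.ofHom (mulMap R R' D).toRingHom) ≫ (bcIso R R' D).inv := by
  apply pullback.hom_ext
  · rw [Category.assoc, bcIso_inv_fst, ← Spec.map_comp, ← CommRingCat.ofHom_comp,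
      show (mulMap R R' D).toRingHom.comp
        (Algebra.TensorProduct.includeRight (R := R) (A := R') (B := D)).toRingHom = RingHom.id D from
        RingHom.ext fun d => by
          show mulMap R R' D ((1 : R') ⊗ₜ d) = d
          rw [mulMap_tmul, map_one, _root_.one_mul],
      CommRingCat.ofHom_id, Spec.map_id, Over.mapPullbackAdj_unit_app]
    exact pullback.lift_fst _ _ _
  · rw [Category.assoc, bcIso_inv_snd, ← Spec.map_comp, ← CommRingCat.ofHom_comp,
      show (mulMap R R' D).toRingHom.comp
        (Algebra.TensorProduct.includeLeftRingHom (R := R) (A := R') (B := D)) = algebraMap R' D from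
        RingHom.ext fun r => by
          show mulMap R R' D (r ⊗ₜ (1 : D)) = _
          rw [mulMap_tmul, _root_.mul_one],
      Over.mapPullbackAdj_unit_app]
    exact pullback.lift_snd _ _ _

theorem mulMap_surjective : Function.Surjective (mulMap R R' D) := fun d =>
  ⟨(1 : R') ⊗ₜ d, by rw [mulMap_tmul, map_one, _root_.one_mul]⟩

end Algebra

section Local

variable [IsLocalRing R] [IsLocalRing R']

/-- The data making the residue extension trivial and bounding the ramification. -/
structure Small (R R' : Type u) [CommRing R] [CommRing R'] [Algebra R R'] [IsLocalRing R]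
    [IsLocalRing R'] : Prop where
  local_hom : ∀ r : R, r ∈ IsLocalRing.maximalIdeal R → algebraMap R R' r ∈ IsLocalRing.maximalIdeal R'
  residue : ∀ x : R', ∃ r : R, x - algebraMap R R' r ∈ IsLocalRing.maximalIdeal R'
  pow_le : ∃ e : ℕ, IsLocalRing.maximalIdeal R' ^ e ≤ (IsLocalRing.maximalIdeal R).map (algebraMap R R')

theorem Small.surjective_residue (hS : Small R R') :
    Function.Surjective ((IsLocalRing.residue R').comp (algebraMap R R')) := fun y => by
  obtain ⟨x, rfl⟩ := IsLocalRing.residue_surjective (R := R') y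
  obtain ⟨r, hr⟩ := hS.residue x
  refine ⟨r, ?_⟩
  rw [← IsLocalRing.residue_eq_zero_iff, map_sub, sub_eq_zero] at hr
  exact hr.symm

theorem isNilpotent_ker (hS : Small R R') (D : Type u) [CommRing D] [Algebra R' D] [Algebra R D]
    [IsScalarTower R R' D] (hD : ∀ m ∈ IsLocalRing.maximalIdeal R', algebraMap R' D m = 0) :
    IsNilpotent (RingHom.ker (mulMap R R' D)) := by
  let J : Ideal (R' ⊗[R] D) :=
    (IsLocalRing.maximalIdeal R').map (Algebra.TensorProduct.includeLeftRingHom (R := R) (A := R') (B := D))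
  have hJ : RingHom.ker (mulMap R R' D) ≤ J := by
    intro x hx
    have key : ∀ y : R' ⊗[R] D, y - (1 : R') ⊗ₜ mulMap R R' D y ∈ J := by
      intro y
      induction y using TensorProduct.induction_on with
      | zero => simp
      | add a b ha hb =>
        rw [map_add, TensorProduct.tmul_add, add_sub_add_comm]
        exact J.add_mem ha hb
      | tmul r d =>
        obtain ⟨r₀, hr₀⟩ := hS.residue r
        have h1 : algebraMap R' D r = algebraMap R D r₀ := by
          rw [IsScalarTower.algebraMap_apply R R' D, ← sub_eq_zero, ← map_sub]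
          exact hD _ hr₀
        rw [mulMap_tmul, h1, ← Algebra.smul_def, TensorProduct.tmul_smul, TensorProduct.smul_tmul',
          ← TensorProduct.sub_tmul, Algebra.smul_def, _root_.mul_one,
          show (r - algebraMap R R' r₀) ⊗ₜ[R] d = ((1 : R') ⊗ₜ[R] d) *
            Algebra.TensorProduct.includeLeftRingHom (r - algebraMap R R' r₀) by simp]
        exact J.mul_mem_left _ (Ideal.mem_map_of_mem _ hr₀)
    have := key x
    rwa [RingHom.mem_ker.1 hx, TensorProduct.tmul_zero, sub_zero] at this
  obtain ⟨e, he⟩ := hS.pow_le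
  refine ⟨e, eq_bot_iff.2 ?_⟩
  refine (Ideal.pow_right_mono hJ e).trans ?_
  rw [← Ideal.map_pow]
  refine (Ideal.map_mono he).trans ?_
  rw [Ideal.map_map, Ideal.map_le_iff_le_comap]
  intro r hr
  show (algebraMap R R' r) ⊗ₜ[R] (1 : D) ∈ (⊥ : Ideal (R' ⊗[R] D))
  rw [Ideal.mem_bot, Algebra.algebraMap_eq_smul_one, TensorProduct.smul_tmul,
    ← Algebra.algebraMap_eq_smul_one, IsScalarTower.algebraMap_apply R R' D,
    hD _ (hS.local_hom r hr), TensorProduct.tmul_zero]

theorem unit_surjective (hS : Small R R') (D : Type u) [CommRing D] [Algebra R' D] [Algebra R D]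
    [IsScalarTower R R' D] (hD : ∀ m ∈ IsLocalRing.maximalIdeal R', algebraMap R' D m = 0) :
    Function.Surjective ((Over.mapPullbackAdj (fmap R R')).unit.app (TS R' D)).left := by
  have h1 : Function.Surjective (PrimeSpectrum.comap (mulMap R R' D).toRingHom) := by
    intro p
    have hker : RingHom.ker (mulMap R R' D).toRingHom ≤ p.asIdeal := fun x hx => by
      obtain ⟨n, hn⟩ := isNilpotent_ker hS D hD
      refine p.2.mem_of_pow_mem n ?_
      have hmem := Ideal.pow_mem_pow (show x ∈ RingHom.ker (mulMap R R' D) from hx) n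
      rw [hn] at hmem
      rw [(Ideal.mem_bot.1 hmem)]
      exact p.asIdeal.zero_mem
    refine ⟨⟨p.asIdeal.map (mulMap R R' D).toRingHom,
      Ideal.map_isPrime_of_surjective (mulMap_surjective R R' D) hker⟩, PrimeSpectrum.ext ?_⟩
    show Ideal.comap _ (Ideal.map _ _) = _
    rw [Ideal.comap_map_of_surjective (mulMap R R' D).toRingHom (mulMap_surjective R R' D),
      sup_eq_left]
    exact hker
  rw [unit_eq]
  intro p
  obtain ⟨d, hd⟩ := h1 ((bcIso R R' D).hom p)
  refine ⟨d, ?_⟩
  rw [Scheme.Hom.comp_apply]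
  rw [show (Spec.map (CommRingCat.ofHom (mulMap R R' D).toRingHom)) d =
    PrimeSpectrum.comap (mulMap R R' D).toRingHom d from rfl, hd, ← Scheme.Hom.comp_apply,
    Iso.hom_inv_id]
  rfl

end Local

/-- A smooth affine chart. -/
structure Chart (N' : Over (Spec (CommRingCat.of R'))) where
  /-- The coordinate ring. -/
  B : Type u
  [commRing : CommRing B]
  [algebra : Algebra R' B]
  smooth : Algebra.Smooth R' B
  /-- The open immersion. -/
  j : Spec (CommRingCat.of B) ⟶ N'.left
  isOpenImmersion : IsOpenImmersion j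
  comp : j ≫ N'.hom = Spec.map (CommRingCat.ofHom (algebraMap R' B))

attribute [instance] Chart.commRing Chart.algebra

theorem exists_chart [Smooth N'.hom] (x : N'.left) : ∃ c : Chart N', x ∈ Set.range c.j := by
  obtain ⟨V, hV, hxV, -⟩ := exists_isAffineOpen_mem_and_subset (X := N'.left) (x := x) (U := ⊤) trivial
  let φ := Spec.preimage (hV.fromSpec ≫ N'.hom)
  letI : Algebra R' Γ(N'.left, V) := φ.hom.toAlgebra
  have hsm : Algebra.Smooth R' Γ(N'.left, V) := by
    have h : Smooth (Spec.map φ) := by
      rw [Spec.map_preimage]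
      infer_instance
    exact (HasRingHomProperty.Spec_iff (P := @Smooth)).1 h
  refine ⟨⟨Γ(N'.left, V), hsm, hV.fromSpec, inferInstance, (Spec.map_preimage _).symm⟩, ?_⟩
  show x ∈ Set.range hV.fromSpec
  rw [hV.range_fromSpec]
  exact hxV

namespace Chart

variable (c : Chart N') {D : Type u} [CommRing D] [Algebra R' D]

/-- The point given by an algebra map. -/
noncomputable def pt (a : c.B →ₐ[R'] D) : TS R' D ⟶ N' :=
  Over.homMk (Spec.map (CommRingCat.ofHom a.toRingHom) ≫ c.j) (by
    show _ = Spec.map (CommRingCat.ofHom (algebraMap R' D))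
    rw [Category.assoc, c.comp, ← Spec.map_comp, ← CommRingCat.ofHom_comp, AlgHom.toRingHom_eq_coe, a.comp_algebraMap])

theorem comp_pt {E : Type u} [CommRing E] [Algebra R' E] (ev : D →ₐ[R'] E) (a : c.B →ₐ[R'] D)
    (g : TS R' E ⟶ TS R' D) (hg : g.left = Spec.map (CommRingCat.ofHom ev.toRingHom)) :
    g ≫ c.pt a = c.pt (ev.comp a) := by
  ext1
  show g.left ≫ _ ≫ c.j = _ ≫ c.j
  rw [hg, ← Category.assoc, ← Spec.map_comp]
  rfl

theorem exists_pt (p : TS R' D ⟶ N') (h : Set.range p.left ⊆ Set.range c.j) :
    ∃ a, c.pt a = p := by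
  haveI := c.isOpenImmersion
  let l := IsOpenImmersion.lift c.j p.left h
  have hl : l ≫ c.j = p.left := IsOpenImmersion.lift_fac c.j p.left h
  have hw : l ≫ Spec.map (CommRingCat.ofHom (algebraMap R' c.B)) =
      Spec.map (CommRingCat.ofHom (algebraMap R' D)) := by
    rw [← c.comp, ← Category.assoc, hl]
    exact Over.w p
  rw [← Spec.map_preimage l, ← Spec.map_comp] at hw
  have hw' := congrArg CommRingCat.Hom.hom (Spec.map_injective hw)
  refine ⟨⟨(Spec.preimage l).hom, fun r => RingHom.congr_fun hw' r⟩, ?_⟩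
  ext1
  show Spec.map (CommRingCat.ofHom (Spec.preimage l).hom) ≫ c.j = p.left
  rw [show CommRingCat.ofHom (Spec.preimage l).hom = Spec.preimage l from rfl, Spec.map_preimage, hl]

end Chart

variable {q}

section Points

variable {D : Type u} [CommRing D] [Algebra R' D] [Algebra R D] [IsScalarTower R R' D]
  (hW : WeilRes.IsWeilRes (fmap R R') N' W q) (c : Chart N')

/-- The morphism from a base changed test object given by an algebra map. -/
noncomputable def bcPt (a : c.B →ₐ[R'] R' ⊗[R] D) :
    Red.bc (fmap R R') ((Over.map (fmap R R')).obj (TS R' D)) ⟶ N' :=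
  Over.homMk ((bcIso R R' D).hom ≫ Spec.map (CommRingCat.ofHom a.toRingHom) ≫ c.j) (by
    show _ = pullback.snd _ _
    rw [Category.assoc, Category.assoc, c.comp, ← Spec.map_comp, ← CommRingCat.ofHom_comp,
      AlgHom.toRingHom_eq_coe, a.comp_algebraMap, ← Iso.eq_inv_comp, bcIso_inv_snd])

/-- The point of the Weil restriction given by an algebra map. -/
noncomputable def wOf (a : c.B →ₐ[R'] R' ⊗[R] D) : (Over.map (fmap R R')).obj (TS R' D) ⟶ W :=
  hW.lift _ (bcPt c a)

theorem red_wOf (a : c.B →ₐ[R'] R' ⊗[R] D) :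
    red q _ (wOf hW c a) = c.pt ((mulMap R R' D).comp a) := by
  rw [red, wOf, hW.restr_lift]
  ext1
  show ((Over.mapPullbackAdj (fmap R R')).unit.app (TS R' D)).left ≫
    ((bcIso R R' D).hom ≫ _ ≫ c.j) = _
  rw [unit_eq, Category.assoc, Iso.inv_hom_id_assoc, ← Category.assoc, ← Spec.map_comp]
  rfl

theorem map_comp_wOf {E : Type u} [CommRing E] [Algebra R' E] [Algebra R E] [IsScalarTower R R' E]
    (ev : D →ₐ[R'] E) (a : c.B →ₐ[R'] R' ⊗[R] D) (g : TS R' E ⟶ TS R' D)
    (hg : g.left = Spec.map (CommRingCat.ofHom ev.toRingHom)) :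
    (Over.map (fmap R R')).map g ≫ wOf hW c a =
      wOf hW c ((Algebra.TensorProduct.map (AlgHom.id R' R') (ev.restrictScalars R)).comp a) := by
  have hinj := hW ((Over.map (fmap R R')).obj (TS R' E))
  apply hinj.1
  rw [WeilRes.restr_comp, wOf, wOf, hW.restr_lift, hW.restr_lift]
  ext1
  show ((Over.pullback (fmap R R')).map ((Over.map (fmap R R')).map g)).left ≫
      ((bcIso R R' D).hom ≫ _ ≫ c.j) = (bcIso R R' E).hom ≫ _ ≫ c.j
  rw [← Iso.inv_comp_eq]
  have h : (bcIso R R' E).inv ≫
      ((Over.pullback (fmap R R')).map ((Over.map (fmap R R')).map g)).left =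
      Spec.map (CommRingCat.ofHom
        (Algebra.TensorProduct.map (AlgHom.id R' R') (ev.restrictScalars R)).toRingHom) ≫
        (bcIso R R' D).inv := by
    apply pullback.hom_ext
    · rw [Category.assoc, Category.assoc, bcIso_inv_fst, ← Spec.map_comp, ← CommRingCat.ofHom_comp]
      show (bcIso R R' E).inv ≫ pullback.lift _ _ _ ≫ pullback.fst _ _ = _
      rw [pullback.lift_fst, ← Category.assoc, bcIso_inv_fst]
      show Spec.map _ ≫ g.left = _
      rw [hg, ← Spec.map_comp, ← CommRingCat.ofHom_comp]
      congr 2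
    · rw [Category.assoc, Category.assoc, bcIso_inv_snd, ← Spec.map_comp, ← CommRingCat.ofHom_comp]
      show (bcIso R R' E).inv ≫ pullback.lift _ _ _ ≫ pullback.snd _ _ = _
      rw [pullback.lift_snd, bcIso_inv_snd]
      congr 2
      ext r
      simp
  rw [← Category.assoc, h, Category.assoc, Iso.inv_hom_id_assoc, ← Category.assoc, ← Spec.map_comp]
  rfl

theorem exists_wOf (w : (Over.map (fmap R R')).obj (TS R' D) ⟶ W)
    (hsurj : Function.Surjective ((Over.mapPullbackAdj (fmap R R')).unit.app (TS R' D)).left)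
    (h : Set.range (red q _ w).left ⊆ Set.range c.j) : ∃ a, wOf hW c a = w := by
  let g := WeilRes.restr (fmap R R') q _ w
  let m : TS R' (R' ⊗[R] D) ⟶ Red.bc (fmap R R') ((Over.map (fmap R R')).obj (TS R' D)) :=
    Over.homMk (bcIso R R' D).inv (bcIso_inv_snd R R' D)
  have hr : Set.range (m ≫ g).left ⊆ Set.range c.j := by
    rintro _ ⟨x, rfl⟩
    obtain ⟨y, hy⟩ := hsurj (m.left x)
    refine h ⟨y, ?_⟩
    show (((Over.mapPullbackAdj (fmap R R')).unit.app (TS R' D)).left ≫ g.left) y = g.left (m.left x)
    rw [Scheme.Hom.comp_apply]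
    exact congrArg _ hy
  obtain ⟨a, ha⟩ := c.exists_pt (m ≫ g) hr
  refine ⟨a, (hW _).1 ?_⟩
  rw [wOf, hW.restr_lift]
  ext1
  show (bcIso R R' D).hom ≫ _ ≫ c.j = g.left
  rw [← Iso.eq_inv_comp]
  exact congrArg Over.Hom.left ha

theorem exists_lift [IsLocalRing R] [IsLocalRing R'] (hS : Small R R')
    (hD : ∀ m ∈ IsLocalRing.maximalIdeal R', algebraMap R' D m = 0) (a₀ : c.B →ₐ[R'] D) :
    ∃ a : c.B →ₐ[R'] R' ⊗[R] D, (mulMap R R' D).comp a = a₀ := by
  haveI := c.smooth
  exact ⟨Algebra.FormallySmooth.liftOfSurjective a₀ (mulMap R R' D) (mulMap_surjective R R' D)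
    (isNilpotent_ker hS D hD), Algebra.FormallySmooth.comp_liftOfSurjective _ _ _ _⟩

end Points

end Groth.NeronArea.WeilReduction
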