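import Mathlib.AlgebraicGeometry.Morphisms.ClosedImmersion
import Mathlib.RingTheory.LocalRing.ResidueField.Instances
import Mathlib.RingTheory.Henselian
import Groth.Agent.NeronArea.WeilReductionBasic
import Groth.Agent.NeronArea.DivisibleIdentity
import Groth.Agent.GrpschAbsch.NeutralSet

/-! Component groups of Weil restrictions along a finite extension with trivial residue extension:
reduction is a bijection on connected components of special fibres. -/

set_option autoImplicit false
set_option linter.style.haveILetI false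
set_option linter.unusedSectionVars false

universe u

open CategoryTheory CategoryTheory.Limits AlgebraicGeometry MonObj TensorProduct

namespace Groth.NeronArea.WeilReduction

variable {R : Type u} [CommRing R] [IsLocalRing R] {R' : Type u} [CommRing R'] [Algebra R R']
  [IsLocalRing R'] {N' : Over (Spec (CommRingCat.of R'))} {W : Over (Spec (CommRingCat.of R))}
  {q : Red.bc (fmap R R') W ⟶ N'}

/-- The closed fibre of a scheme over a local ring. -/
abbrev fib {A : Type u} [CommRing A] [IsLocalRing A] (X : Over (Spec (CommRingCat.of A))) : Set X.left :=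
  X.hom.base ⁻¹' {IsLocalRing.closedPoint A}

variable (R') in
/-- The test object of the residue field. -/
noncomputable abbrev Tκ : Over (Spec (CommRingCat.of R')) := TS R' (IsLocalRing.ResidueField R')

/-- The image of a point with values in the residue field. -/
noncomputable abbrev img {X : Scheme.{u}} (g : Spec (CommRingCat.of (IsLocalRing.ResidueField R')) ⟶ X) : X :=
  g (IsLocalRing.closedPoint (IsLocalRing.ResidueField R'))

/-- Two points lie in the same connected component of the closed fibre. -/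
def SameComp (w w' : (Over.map (fmap R R')).obj (Tκ R') ⟶ W) : Prop :=
  img w'.left ∈ connectedComponentIn (fib W) (img w.left)

theorem residue_map_eq_zero {D : Type u} [CommRing D] [Algebra R' D]
    [Algebra (IsLocalRing.ResidueField R') D] [IsScalarTower R' (IsLocalRing.ResidueField R') D]
    (m : R') (hm : m ∈ IsLocalRing.maximalIdeal R') : algebraMap R' D m = 0 := by
  rw [IsScalarTower.algebraMap_apply R' (IsLocalRing.ResidueField R') D,
    IsLocalRing.ResidueField.algebraMap_eq, (IsLocalRing.residue_eq_zero_iff m).2 hm, map_zero]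

theorem closed_of_kills {D : Type u} [CommRing D] [Algebra R' D]
    (hD : ∀ m ∈ IsLocalRing.maximalIdeal R', algebraMap R' D m = 0) (P : PrimeSpectrum D) :
    PrimeSpectrum.comap (algebraMap R' D) P = IsLocalRing.closedPoint R' :=
  PrimeSpectrum.ext ((IsLocalRing.maximalIdeal.isMaximal R').eq_of_le
    (P.comap (algebraMap R' D)).2.ne_top fun m hm => by
      show algebraMap R' D m ∈ P.asIdeal
      rw [hD m hm]; exact P.asIdeal.zero_mem).symm

theorem mem_fib (hS : Small R R') {D : Type u} [CommRing D] [Algebra R' D]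
    (hD : ∀ m ∈ IsLocalRing.maximalIdeal R', algebraMap R' D m = 0)
    (w : (Over.map (fmap R R')).obj (TS R' D) ⟶ W) (P : Spec (CommRingCat.of D)) :
    w.left P ∈ fib W := by
  show W.hom (w.left P) = IsLocalRing.closedPoint R
  rw [← Scheme.Hom.comp_apply, Over.w w]
  show (Spec.map _ ≫ fmap R R') P = _
  rw [Scheme.Hom.comp_apply]
  show PrimeSpectrum.comap (algebraMap R R') (PrimeSpectrum.comap (algebraMap R' D) P) = _
  rw [closed_of_kills hD P]
  exact PrimeSpectrum.ext ((IsLocalRing.maximalIdeal.isMaximal R).eq_of_le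
    (Ideal.IsPrime.ne_top inferInstance) fun r hr => hS.local_hom r hr).symm

theorem img_mem_fib (hS : Small R R') (w : (Over.map (fmap R R')).obj (Tκ R') ⟶ W) :
    img w.left ∈ fib W :=
  mem_fib hS (fun m hm => (IsLocalRing.residue_eq_zero_iff m).2 hm) w _

theorem img_mem_fib' (p : Tκ R' ⟶ N') : img p.left ∈ fib N' := by
  show N'.hom (p.left _) = _
  rw [← Scheme.Hom.comp_apply, Over.w p]
  exact IsLocalRing.PrimeSpectrum.comap_residue R' _

theorem SameComp.eq {w w' : (Over.map (fmap R R')).obj (Tκ R') ⟶ W} (h : SameComp w w') :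
    connectedComponentIn (fib W) (img w.left) = connectedComponentIn (fib W) (img w'.left) :=
  connectedComponentIn_eq h

variable (hS : Small R R')

include hS in
theorem range_subset_chart (p : Tκ R' ⟶ N') (c : Chart N') (h : img p.left ∈ Set.range c.j) :
    Set.range p.left ⊆ Set.range c.j := by
  rintro _ ⟨x, rfl⟩
  rwa [show x = IsLocalRing.closedPoint (IsLocalRing.ResidueField R') from
    Subsingleton.elim (α := PrimeSpectrum (IsLocalRing.ResidueField R')) _ _]

include hS in
theorem unit_surjective_κ : Function.Surjective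
    ((Over.mapPullbackAdj (fmap R R')).unit.app (Tκ R')).left :=
  unit_surjective hS _ (fun m hm => (IsLocalRing.residue_eq_zero_iff m).2 hm)

/-- Interpolation between two infinitesimally close points. -/
theorem exists_interpolation {S B A C : Type u} [CommRing S] [CommRing B] [CommRing A] [CommRing C]
    [Algebra S B] [Algebra S A] [Algebra S C] [Algebra.FormallySmooth S B]
    (inc : A →ₐ[S] C) (e₀ e₁ : C →ₐ[S] A) (t : C) (h₀ : ∀ y, e₀ (inc y) = y)
    (h₁ : ∀ y, e₁ (inc y) = y) (ht₀ : e₀ t = 0) (ht₁ : e₁ t = 1) (I : Ideal A) (hI : IsNilpotent I)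
    (a a' : B →ₐ[S] A) (hm : ∀ b, a' b - a b ∈ I) :
    ∃ L : B →ₐ[S] C, e₀.comp L = a ∧ e₁.comp L = a' := by
  let J : Ideal C := Ideal.span {t * t - t} * I.map inc.toRingHom
  have hJn : IsNilpotent J := by
    obtain ⟨e, he⟩ := hI
    refine ⟨e, eq_bot_iff.2 ((Ideal.pow_right_mono Ideal.mul_le_right e).trans ?_)⟩
    rw [← Ideal.map_pow, he]
    exact (Ideal.map_bot (f := inc.toRingHom)).le
  let g : B → C := fun b => inc (a b) + t * inc (a' b - a b)
  let ψ : B →ₐ[S] C ⧸ J :=
    { toFun := fun b => Ideal.Quotient.mk J (g b)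
      map_one' := by simp [g]
      map_mul' := fun b b' => by
        rw [← map_mul, Ideal.Quotient.eq]
        have : g (b * b') - g b * g b' =
            (t * t - t) * (-(inc (a' b - a b) * inc (a' b' - a b'))) := by
          simp only [g, map_mul, map_sub]
          ring
        rw [this]
        exact Ideal.mul_mem_mul (Ideal.mem_span_singleton_self _)
          (neg_mem (Ideal.mul_mem_left _ _ (Ideal.mem_map_of_mem _ (hm b'))))
      map_zero' := by simp [g]
      map_add' := fun b b' => by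
        rw [← map_add]
        congr 1
        simp only [g, map_add, map_sub]
        ring
      commutes' := fun r => by
        show Ideal.Quotient.mk J (inc (a (algebraMap S B r)) +
          t * inc (a' (algebraMap S B r) - a (algebraMap S B r))) = _
        rw [a.commutes, a'.commutes, sub_self, map_zero, mul_zero, add_zero, inc.commutes]
        rfl }
  have hJ : ∀ (e : C →ₐ[S] A), (e t = 0 ∨ e t = 1) → J ≤ RingHom.ker e := fun e he => by
    refine Ideal.mul_le_left.trans ((Ideal.span_singleton_le_iff_mem _).2 ?_)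
    rw [RingHom.mem_ker, map_sub, map_mul]
    rcases he with h | h <;> simp [h]
  let L : B →ₐ[S] C := Algebra.FormallySmooth.lift J hJn ψ
  have hev : ∀ (e : C →ₐ[S] A), (e t = 0 ∨ e t = 1) → ∀ b, e (L b) = e (g b) := fun e he b => by
    rw [← sub_eq_zero, ← map_sub]
    exact hJ e he (Ideal.Quotient.eq.1 (Algebra.FormallySmooth.mk_lift J hJn ψ b))
  refine ⟨L, AlgHom.ext fun b => ?_, AlgHom.ext fun b => ?_⟩
  · rw [AlgHom.comp_apply, hev e₀ (Or.inl ht₀)]
    simp [g, h₀, ht₀]
  · rw [AlgHom.comp_apply, hev e₁ (Or.inr ht₁)]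
    simp [g, h₁, ht₁]

include hS in
/-- Points with the same reduction are joined by an affine line. -/
theorem sameComp_of_red_eq [Smooth N'.hom] (hW : WeilRes.IsWeilRes (fmap R R') N' W q)
    (w w' : (Over.map (fmap R R')).obj (Tκ R') ⟶ W)
    (h : red q _ w = red q _ w') : SameComp w w' := by
  obtain ⟨c, hc⟩ := exists_chart (img (red q _ w).left)
  obtain ⟨a, rfl⟩ := exists_wOf hW c w (unit_surjective_κ hS) (range_subset_chart hS _ c hc)
  obtain ⟨a', rfl⟩ := exists_wOf hW c w' (unit_surjective_κ hS)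
    (range_subset_chart hS _ c (h ▸ hc))
  haveI := c.isOpenImmersion
  haveI := c.smooth
  let κ := IsLocalRing.ResidueField R'
  let A := R' ⊗[R] κ
  let P := Polynomial κ
  let C := R' ⊗[R] P
  let ev (x : κ) : P →ₐ[R'] κ := (Polynomial.aeval (R := κ) x).restrictScalars R'
  let evC (x : κ) : C →ₐ[R'] A := Algebra.TensorProduct.map (AlgHom.id R' R') ((ev x).restrictScalars R)
  let inc : A →ₐ[R'] C :=
    Algebra.TensorProduct.map (AlgHom.id R' R') (IsScalarTower.toAlgHom R κ P)
  let t : C := (1 : R') ⊗ₜ Polynomial.X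
  have hevt : ∀ x, evC x t = (1 : R') ⊗ₜ x := fun x => by
    show (1 : R') ⊗ₜ[R] (Polynomial.aeval (R := κ) x) Polynomial.X = _
    rw [Polynomial.aeval_X]
  have hinc : ∀ x y, evC x (inc y) = y := fun x y => by
    induction y using TensorProduct.induction_on with
    | zero => simp
    | add a b ha hb => rw [map_add, map_add, ha, hb]
    | tmul r d =>
      show r ⊗ₜ[R] (Polynomial.aeval (R := κ) x) (algebraMap κ P d) = _
      rw [AlgHom.commutes]
      rfl
  have hm : ∀ b, a' b - a b ∈ RingHom.ker (mulMap R R' κ) := fun b => by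
    have h1 : (mulMap R R' κ).comp a = (mulMap R R' κ).comp a' := by
      have h2 : c.pt ((mulMap R R' κ).comp a) = c.pt ((mulMap R R' κ).comp a') := by
        rw [← red_wOf hW c a, ← red_wOf hW c a', h]
      have h3 := (cancel_mono c.j).1 (congrArg Over.Hom.left h2)
      have h4 := congrArg CommRingCat.Hom.hom (Spec.map_injective h3)
      exact AlgHom.ext fun b => RingHom.congr_fun h4 b
    rw [RingHom.mem_ker, map_sub, sub_eq_zero]
    exact (AlgHom.congr_fun h1 b).symm
  obtain ⟨L, h0, h1⟩ := exists_interpolation inc (evC 0) (evC 1) t (hinc 0) (hinc 1)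
    ((hevt 0).trans (TensorProduct.tmul_zero _ _)) (hevt 1) _
    (isNilpotent_ker hS κ (fun m hm => (IsLocalRing.residue_eq_zero_iff m).2 hm)) a a' hm
  let gx (x : κ) : Tκ R' ⟶ TS R' P :=
    Over.homMk (Spec.map (CommRingCat.ofHom (ev x).toRingHom)) (by
      show _ ≫ Spec.map _ = Spec.map _
      rw [← Spec.map_comp, ← CommRingCat.ofHom_comp, AlgHom.toRingHom_eq_coe, (ev x).comp_algebraMap])
  have hx : ∀ x, (Over.map (fmap R R')).map (gx x) ≫ wOf hW c L = wOf hW c ((evC x).comp L) :=
    fun x => map_comp_wOf hW c (ev x) L (gx x) rfl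
  have hconn : _root_.IsPreconnected (Set.range (wOf hW c L).left) :=
    (PreirreducibleSpace.isPreirreducible_univ (X := Spec (CommRingCat.of P))).isPreconnected.image
      _ (wOf hW c L).left.continuous.continuousOn |> fun h => by rwa [Set.image_univ] at h
  have hsub : Set.range (wOf hW c L).left ⊆ fib W := by
    rintro _ ⟨P', rfl⟩
    exact mem_fib hS (fun m hm => residue_map_eq_zero m hm) _ P'
  refine hconn.subset_connectedComponentIn ?_ hsub ?_
  · rw [← h0, ← hx 0]
    exact ⟨_, rfl⟩
  · rw [← h1, ← hx 1]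
    exact ⟨_, rfl⟩

variable [IsAlgClosed (IsLocalRing.ResidueField R')]

/-- Rational points are determined by their image. -/
theorem pt_unique [Smooth N'.hom] (hS : Small R R') (p p' : Tκ R' ⟶ N')
    (h : img p.left = img p'.left) : p = p' := by
  obtain ⟨c, hc⟩ := exists_chart (img p.left)
  haveI := c.isOpenImmersion
  obtain ⟨a, rfl⟩ := c.exists_pt p (range_subset_chart hS _ c hc)
  obtain ⟨a', rfl⟩ := c.exists_pt p' (range_subset_chart hS _ c (h ▸ hc))
  congr 1
  have h2 := c.j.isOpenEmbedding.injective (show c.j _ = c.j _ from h)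
  refine AlgHom.ext fun b => ?_
  obtain ⟨r, hr⟩ := IsLocalRing.residue_surjective (a b)
  have hk : b - algebraMap R' c.B r ∈ RingHom.ker a := by
    rw [RingHom.mem_ker, map_sub, AlgHom.commutes, IsLocalRing.ResidueField.algebraMap_eq, hr, sub_self]
  have hk' : b - algebraMap R' c.B r ∈ RingHom.ker a' := by
    have h3 : (PrimeSpectrum.comap a.toRingHom (IsLocalRing.closedPoint _)).asIdeal =
      (PrimeSpectrum.comap a'.toRingHom (IsLocalRing.closedPoint _)).asIdeal :=
        congrArg PrimeSpectrum.asIdeal h2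
    have h4 : ∀ (f : c.B →ₐ[R'] IsLocalRing.ResidueField R') (y : c.B),
        y ∈ (PrimeSpectrum.comap f.toRingHom (IsLocalRing.closedPoint _)).asIdeal ↔ f y = 0 := by
      intro f y
      show f y ∈ IsLocalRing.maximalIdeal (IsLocalRing.ResidueField R') ↔ _
      rw [IsLocalRing.maximalIdeal_eq_bot]; rfl
    rw [RingHom.mem_ker]
    exact (h4 a' _).1 (h3 ▸ (h4 a _).2 hk)
  rw [RingHom.mem_ker, map_sub, AlgHom.commutes, IsLocalRing.ResidueField.algebraMap_eq,
    sub_eq_zero] at hk'
  rw [hk', hr]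

theorem exists_lift_point [Smooth N'.hom] (hS : Small R R')
    (hW : WeilRes.IsWeilRes (fmap R R') N' W q) (p : Tκ R' ⟶ N') :
    ∃ w, red q _ w = p := by
  obtain ⟨c, hc⟩ := exists_chart (img p.left)
  obtain ⟨a₀, rfl⟩ := c.exists_pt p (range_subset_chart hS _ c hc)
  obtain ⟨a, ha⟩ := exists_lift (R := R) c hS (fun m hm => (IsLocalRing.residue_eq_zero_iff m).2 hm) a₀
  exact ⟨wOf hW c a, by rw [red_wOf, ha]⟩

/-- A rational point in any nonempty open of an algebra of finite type. -/
theorem exists_rational {D : Type u} [CommRing D] [Algebra (IsLocalRing.ResidueField R') D]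
    [Algebra.FiniteType (IsLocalRing.ResidueField R') D] (U : Set (PrimeSpectrum D)) (hU : IsOpen U)
    (hne : U.Nonempty) : ∃ f : D →ₐ[IsLocalRing.ResidueField R'] IsLocalRing.ResidueField R',
      PrimeSpectrum.comap f.toRingHom (IsLocalRing.closedPoint _) ∈ U := by
  haveI : IsJacobsonRing D :=
    isJacobsonRing_of_finiteType (A := IsLocalRing.ResidueField R')
  obtain ⟨P, hPU, hP⟩ := nonempty_inter_closedPoints hne hU.isLocallyClosed
  haveI : P.asIdeal.IsMaximal := (PrimeSpectrum.isClosed_singleton_iff_isMaximal P).1 hP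
  letI := Ideal.Quotient.field P.asIdeal
  haveI : Module.Finite (IsLocalRing.ResidueField R') (D ⧸ P.asIdeal) :=
    finite_of_finite_type_of_isJacobsonRing _ _
  let e := AlgEquiv.ofBijective (Algebra.ofId (IsLocalRing.ResidueField R') (D ⧸ P.asIdeal))
    IsAlgClosed.algebraMap_bijective_of_isIntegral
  refine ⟨e.symm.toAlgHom.comp (Ideal.Quotient.mkₐ _ P.asIdeal), ?_⟩
  convert hPU
  refine PrimeSpectrum.ext ?_
  ext y
  show e.symm (Ideal.Quotient.mk P.asIdeal y) ∈ IsLocalRing.maximalIdeal _ ↔ _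
  rw [IsLocalRing.maximalIdeal_eq_bot, Ideal.mem_bot, EmbeddingLike.map_eq_zero_iff,
    Ideal.Quotient.eq_zero_iff_mem]

/-- Local structure of the closed fibre: connected pieces which lift. -/
theorem exists_nhd [Smooth N'.hom] (hS : Small R R') (hW : WeilRes.IsWeilRes (fmap R R') N' W q)
    (n : N'.left) (hn : n ∈ fib N') :
    ∃ O : Set N'.left, IsOpen O ∧ n ∈ O ∧
      (∃ p : Tκ R' ⟶ N', img p.left ∈ connectedComponentIn (fib N') n) ∧
      (∀ w w' : (Over.map (fmap R R')).obj (Tκ R') ⟶ W, img (red q _ w).left ∈ O →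
        img (red q _ w').left ∈ O → SameComp w w') ∧
      ∀ O' : Set N'.left, IsOpen O' → (O ∩ O' ∩ fib N').Nonempty →
        ∃ p : Tκ R' ⟶ N', img p.left ∈ O ∩ O' := by
  obtain ⟨c, hc⟩ := exists_chart n
  obtain ⟨nB, rfl⟩ := hc
  haveI := c.smooth
  haveI := c.isOpenImmersion
  let κ := IsLocalRing.ResidueField R'
  let D := κ ⊗[R'] c.B
  let incl : c.B →ₐ[R'] D := Algebra.TensorProduct.includeRight
  have hinclsurj : Function.Surjective incl :=
    Algebra.TensorProduct.includeRight_surjective c.B IsLocalRing.residue_surjective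
  have hD : ∀ m ∈ IsLocalRing.maximalIdeal R', algebraMap R' D m = 0 :=
    fun m hm => residue_map_eq_zero m hm
  have hnm : IsLocalRing.maximalIdeal R' ≤ (Ideal.comap (algebraMap R' c.B) nB.asIdeal) := by
    have h1 : N'.hom (c.j nB) = IsLocalRing.closedPoint R' := hn
    rw [← Scheme.Hom.comp_apply, c.comp] at h1
    exact (congrArg PrimeSpectrum.asIdeal h1).ge
  obtain ⟨nD, hnD⟩ : ∃ nD : PrimeSpectrum D, PrimeSpectrum.comap incl.toRingHom nD = nB := by
    let φ : c.B →ₐ[R'] c.B ⧸ nB.asIdeal := Ideal.Quotient.mkₐ R' _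
    let ψ : κ →ₐ[R'] c.B ⧸ nB.asIdeal :=
      Ideal.Quotient.liftₐ (IsLocalRing.maximalIdeal R') (Algebra.ofId R' _) fun m hm =>
        Ideal.Quotient.eq_zero_iff_mem.2 (hnm hm)
    let Φ : D →ₐ[R'] c.B ⧸ nB.asIdeal :=
      Algebra.TensorProduct.lift ψ φ fun _ _ => Commute.all _ _
    refine ⟨⟨RingHom.ker Φ.toRingHom, RingHom.ker_isPrime _⟩, PrimeSpectrum.ext ?_⟩
    ext b
    show Φ (incl b) = 0 ↔ _
    rw [show Φ (incl b) = Ideal.Quotient.mk nB.asIdeal b from by
      show Φ ((1 : κ) ⊗ₜ[R'] b) = _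
      rw [Algebra.TensorProduct.lift_tmul, map_one, _root_.one_mul]; rfl]
    exact Ideal.Quotient.eq_zero_iff_mem
  haveI : Algebra.Smooth κ D := inferInstance
  haveI : Smooth (Spec.map (CommRingCat.ofHom (algebraMap κ D))) :=
    (HasRingHomProperty.Spec_iff (P := @Smooth)).2 (RingHom.smooth_algebraMap.2 inferInstance)
  haveI : HenselianLocalRing κ := inferInstance
  haveI : IsSepClosed (IsLocalRing.ResidueField κ) :=
    have : IsAlgClosed (IsLocalRing.ResidueField κ) := IsAlgClosed.of_ringEquiv κ _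
      (RingEquiv.ofBijective (IsLocalRing.residue κ) ⟨RingHom.injective _, IsLocalRing.residue_surjective⟩)
    inferInstance
  obtain ⟨U₀, hU₀o, hU₀n, hU₀i⟩ := Groth.NeronArea.Divisible.exists_irreducible_nhd
    (Spec.map (CommRingCat.ofHom (algebraMap κ D))) ⟨nD, Subsingleton.elim _ _⟩
  have hemb : Topology.IsOpenEmbedding (Subtype.val :
      ((Spec.map (CommRingCat.ofHom (algebraMap κ D))) ⁻¹' {IsLocalRing.closedPoint κ} :
        Set (Spec (CommRingCat.of D))) → PrimeSpectrum D) :=
    (IsOpen.isOpenEmbedding_subtypeVal (by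
      rw [show (Spec.map (CommRingCat.ofHom (algebraMap κ D))) ⁻¹' {IsLocalRing.closedPoint κ} =
        Set.univ from Set.eq_univ_of_forall fun _ => Subsingleton.elim _ _]
      exact isOpen_univ))
  let U : Set (PrimeSpectrum D) := Subtype.val '' U₀
  have hUo : IsOpen U := hemb.isOpenMap _ hU₀o
  have hUn : nD ∈ U := ⟨_, hU₀n, rfl⟩
  have hUc : _root_.IsPreconnected U :=
    (hU₀i.image _ continuous_subtype_val.continuousOn).isPreconnected
  let s : PrimeSpectrum D → PrimeSpectrum c.B := PrimeSpectrum.comap incl.toRingHom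
  have hs : Topology.IsClosedEmbedding s :=
    PrimeSpectrum.isClosedEmbedding_comap_of_surjective _ _ hinclsurj
  obtain ⟨O₁, hO₁o, hO₁⟩ := hs.isInducing.isOpen_iff.1 hUo
  have hfib : ∀ (P : PrimeSpectrum D), c.j (s P) ∈ fib N' := fun P => by
    show N'.hom (c.j (s P)) = _
    rw [← Scheme.Hom.comp_apply, c.comp]
    show PrimeSpectrum.comap (algebraMap R' c.B) (PrimeSpectrum.comap incl.toRingHom P) = _
    rw [← PrimeSpectrum.comap_comp_apply, AlgHom.toRingHom_eq_coe, incl.comp_algebraMap]
    exact closed_of_kills hD P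
  obtain ⟨a, ha⟩ := exists_lift (R := R) (D := D) c hS hD incl
  -- rational points of the piece
  have hrat : ∀ f : D →ₐ[κ] κ, ∃ (p : Tκ R' ⟶ N') (w : (Over.map (fmap R R')).obj (Tκ R') ⟶ W),
      red q _ w = p ∧ p = c.pt ((f.restrictScalars R').comp incl) ∧
      img w.left = (wOf hW c a).left (PrimeSpectrum.comap f.toRingHom (IsLocalRing.closedPoint _)) := by
    intro f
    let g : Tκ R' ⟶ TS R' D := Over.homMk (Spec.map (CommRingCat.ofHom (f.restrictScalars R').toRingHom)) (by
      show _ ≫ Spec.map _ = Spec.map _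
      rw [← Spec.map_comp, ← CommRingCat.ofHom_comp, AlgHom.toRingHom_eq_coe,
        (f.restrictScalars R').comp_algebraMap])
    refine ⟨_, (Over.map (fmap R R')).map g ≫ wOf hW c a, ?_, rfl, rfl⟩
    rw [red_comp, red_wOf, ha, c.comp_pt (f.restrictScalars R') incl g rfl]
  -- every point over the piece is one of these
  have hall : ∀ p : Tκ R' ⟶ N', img p.left ∈ c.j '' O₁ →
      ∃ f : D →ₐ[κ] κ, PrimeSpectrum.comap f.toRingHom (IsLocalRing.closedPoint _) ∈ U ∧
        p = c.pt ((f.restrictScalars R').comp incl) := by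
    rintro p ⟨y, hy, hyp⟩
    obtain ⟨b, hb⟩ := c.exists_pt p (range_subset_chart hS _ c ⟨y, hyp⟩)
    let f : D →ₐ[κ] κ := Algebra.TensorProduct.lift (AlgHom.id κ κ) b fun _ _ => Commute.all _ _
    have hf : (f.restrictScalars R').comp incl = b := AlgHom.ext fun x => by
      show f ((1 : κ) ⊗ₜ[R'] x) = _
      rw [Algebra.TensorProduct.lift_tmul, map_one, _root_.one_mul]
    refine ⟨f, ?_, by rw [hf, hb]⟩
    rw [← hO₁]
    show s _ ∈ O₁
    have h1 : c.j (s (PrimeSpectrum.comap f.toRingHom (IsLocalRing.closedPoint _))) = c.j y := by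
      rw [hyp, ← hb, ← hf]
      rfl
    rwa [c.j.isOpenEmbedding.injective h1]
  refine ⟨c.j '' O₁, c.j.isOpenEmbedding.isOpenMap _ hO₁o, ⟨nB, ?_, rfl⟩, ?_, ?_, ?_⟩
  · rw [← hnD]; exact (Set.ext_iff.1 hO₁ nD).2 hUn
  · obtain ⟨f, hf⟩ := exists_rational (R' := R') U hUo ⟨nD, hUn⟩
    obtain ⟨p, w, -, hp, -⟩ := hrat f
    refine ⟨p, ?_⟩
    have hcont : Continuous fun P => c.j (s P) := c.j.continuous.comp hs.continuous
    refine (hUc.image _ hcont.continuousOn).subset_connectedComponentIn ⟨nD, hUn, by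
      show c.j (s nD) = _; exact congrArg c.j hnD⟩ ?_ ⟨_, hf, ?_⟩
    · rintro _ ⟨P, -, rfl⟩; exact hfib P
    · rw [hp]; rfl
  · intro w w' hw hw'
    obtain ⟨f, hfU, hf⟩ := hall _ hw
    obtain ⟨f', hfU', hf'⟩ := hall _ hw'
    obtain ⟨p, v, hv, hp, hvi⟩ := hrat f
    obtain ⟨p', v', hv', hp', hvi'⟩ := hrat f'
    have h1 : SameComp w v := sameComp_of_red_eq hS hW _ _ (by rw [hv, hp, hf])
    have h2 : SameComp v' w' := sameComp_of_red_eq hS hW _ _ (by rw [hv', hp', hf'])
    have h3 : SameComp v v' := by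
      refine (hUc.image _ (wOf hW c a).left.continuous.continuousOn).subset_connectedComponentIn
        ⟨_, hfU, hvi.symm⟩ ?_ ⟨_, hfU', hvi'.symm⟩
      rintro _ ⟨P, -, rfl⟩
      exact mem_fib hS hD _ P
    show img w'.left ∈ connectedComponentIn (fib W) (img w.left)
    rw [connectedComponentIn_eq h1, connectedComponentIn_eq h3]
    exact h2
  · intro O' hO' ⟨m, ⟨⟨mB, hmB, hmj⟩, hmO'⟩, hmfib⟩
    have hmm : IsLocalRing.maximalIdeal R' ≤ (Ideal.comap (algebraMap R' c.B) mB.asIdeal) := by
      have h1 : N'.hom (c.j mB) = IsLocalRing.closedPoint R' := by rw [hmj]; exact hmfib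
      rw [← Scheme.Hom.comp_apply, c.comp] at h1
      exact (congrArg PrimeSpectrum.asIdeal h1).ge
    obtain ⟨mD, hmD⟩ : ∃ mD : PrimeSpectrum D, s mD = mB := by
      let ψ : κ →ₐ[R'] c.B ⧸ mB.asIdeal :=
        Ideal.Quotient.liftₐ (IsLocalRing.maximalIdeal R') (Algebra.ofId R' _) fun x hx =>
          Ideal.Quotient.eq_zero_iff_mem.2 (hmm hx)
      let Φ : D →ₐ[R'] c.B ⧸ mB.asIdeal :=
        Algebra.TensorProduct.lift ψ (Ideal.Quotient.mkₐ R' _) fun _ _ => Commute.all _ _
      refine ⟨⟨RingHom.ker Φ.toRingHom, RingHom.ker_isPrime _⟩, PrimeSpectrum.ext ?_⟩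
      ext b
      show Φ (incl b) = 0 ↔ _
      rw [show Φ (incl b) = Ideal.Quotient.mk mB.asIdeal b from by
        show Φ ((1 : κ) ⊗ₜ[R'] b) = _
        rw [Algebra.TensorProduct.lift_tmul, map_one, _root_.one_mul]; rfl]
      exact Ideal.Quotient.eq_zero_iff_mem
    have hcont : Continuous fun P => c.j (s P) := c.j.continuous.comp hs.continuous
    obtain ⟨f, hfU, hfO⟩ := exists_rational (R' := R') (U ∩ (fun P => c.j (s P)) ⁻¹' O')
      (hUo.inter (hO'.preimage hcont)) ⟨mD, by rw [← hO₁]; show s mD ∈ O₁; rwa [hmD], by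
        show c.j (s mD) ∈ O'; rwa [hmD, hmj]⟩
    obtain ⟨p, w, -, hp, -⟩ := hrat f
    refine ⟨p, ⟨s (PrimeSpectrum.comap f.toRingHom (IsLocalRing.closedPoint _)), ?_, ?_⟩, ?_⟩
    · exact (Set.ext_iff.1 hO₁ _).2 hfU
    · rw [hp]; rfl
    · rw [hp]; exact hfO

end Groth.NeronArea.WeilReduction
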